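import Groth.Agent.Catenary.Equidim
import Groth.Agent.Catenary.CM
import Groth.Agent.ComodBasic.AffineHeight
import Groth.Agent.DimTrdeg.Basic

/-!
# The dimension formula for affine domains
-/

set_option autoImplicit false

universe u

namespace Groth.Agent.GeomUnib

open Catenary LocCoh

attribute [local instance] MvPolynomial.algebraMvPolynomial

/-- In a polynomial ring over a field height and coheight add up to the number of variables. -/
theorem le_height_add_dim (k : Type u) [Field k] (s : ℕ) (p : Ideal (MvPolynomial (Fin s) k)) [p.IsPrime] :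
    (s : WithBot ℕ∞) ≤ p.height + ringKrullDim (MvPolynomial (Fin s) k ⧸ p) := by
  obtain ⟨m, hm, hpm⟩ := Ideal.exists_le_maximal p Ideal.IsPrime.ne_top'
  haveI : IsRegularRing k := inferInstance
  haveI := isCohenMacaulayRing_of_isRegularRing k
  haveI := isCohenMacaulayRing_mvPolynomial k s
  let L := Localization.AtPrime m
  haveI : LocCoh.IsCohenMacaulayLocalRing L :=
    IsCohenMacaulayRing.isCohenMacaulayLocalRing_localization (R := MvPolynomial (Fin s) k) m
  have hd : Disjoint (m.primeCompl : Set (MvPolynomial (Fin s) k)) p :=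
    Set.disjoint_left.2 fun a ha hap => ha (hpm hap)
  haveI := IsLocalization.isPrime_of_isPrime_disjoint m.primeCompl L p inferInstance hd
  have h := (heightCat_of_cm_local L).height_add_dim (p.map (algebraMap (MvPolynomial (Fin s) k) L))
  rw [← IsLocalization.height_under m.primeCompl (p.map (algebraMap (MvPolynomial (Fin s) k) L)),
    IsLocalization.under_map_of_isPrime_disjoint m.primeCompl L ‹p.IsPrime› hd,
    IsLocalization.AtPrime.ringKrullDim_eq_height m L,
    ComodBasic.height_eq_of_isMaximal_mvPolynomial k s m hm] at h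
  refine h.ge.trans (add_le_add le_rfl ?_)
  rw [ringKrullDim_quotient (p.map (algebraMap _ L)), ringKrullDim_quotient p]
  refine Order.krullDim_le_of_strictMono
    (fun a => ⟨PrimeSpectrum.comap (algebraMap _ L) a.1, (PrimeSpectrum.mem_zeroLocus _ _).2
      fun y hy => (PrimeSpectrum.mem_zeroLocus _ _).1 a.2 (Ideal.mem_map_of_mem _ hy)⟩) fun a b hab => ?_
  have hlt : a.1.asIdeal < b.1.asIdeal := hab
  show a.1.asIdeal.comap (algebraMap _ L) < b.1.asIdeal.comap (algebraMap _ L)
  refine lt_of_le_of_ne (Ideal.comap_mono hlt.le) fun e => hlt.ne ?_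
  rw [← IsLocalization.map_under m.primeCompl L a.1.asIdeal,
    ← IsLocalization.map_under m.primeCompl L b.1.asIdeal]
  exact congrArg _ e

/-- Chains below a prime of an affine domain of length the codimension of its zero locus. -/
theorem exists_series_of_domain (k R : Type u) [Field k] [CommRing R] [IsDomain R] [Algebra k R]
    [Algebra.FiniteType k R] (q : Ideal R) [q.IsPrime] :
    ∃ s r : ℕ, ringKrullDim R = s ∧ ringKrullDim (R ⧸ q) = r ∧
      ∃ l : LTSeries (PrimeSpectrum R), l.last.asIdeal = q ∧ s ≤ l.length + r := by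
  obtain ⟨s, g, hg, hint⟩ := exists_integral_inj_algHom_of_fg k R
  obtain ⟨r, -, hr⟩ := DimTrdeg.exists_trdeg_eq_ringKrullDim k (R ⧸ q)
  algebraize [g.toRingHom]
  haveI : IsScalarTower k (MvPolynomial (Fin s) k) R := IsScalarTower.of_algebraMap_eq fun x => (g.commutes x).symm
  haveI : Algebra.IsIntegral (MvPolynomial (Fin s) k) R := ⟨hint⟩
  haveI : FaithfulSMul (MvPolynomial (Fin s) k) R := (faithfulSMul_iff_algebraMap_injective _ _).mpr hg
  refine ⟨s, r, ?_, hr, ?_⟩
  · rw [DimTrdeg.ringKrullDim_eq_of_isIntegral (MvPolynomial (Fin s) k) R hg]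
    simp [MvPolynomial.ringKrullDim_of_isNoetherianRing]
  · let p := q.under (MvPolynomial (Fin s) k)
    obtain ⟨l₀, hl₀, hlen⟩ := Ideal.exists_ltSeries_length_eq_height p
    haveI : q.LiesOver l₀.last.asIdeal := ⟨by rw [hl₀]⟩
    obtain ⟨l, hl, hlast, -⟩ := Ideal.exists_ltSeries_of_hasGoingDown l₀ q
    refine ⟨l, by rw [hlast], ?_⟩
    have h1 := le_height_add_dim k s p
    have h2 : ringKrullDim (MvPolynomial (Fin s) k ⧸ p) = (r : WithBot ℕ∞) := by
      haveI : Algebra.IsIntegral (MvPolynomial (Fin s) k ⧸ p) (R ⧸ q) := inferInstance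
      rw [← hr, DimTrdeg.ringKrullDim_eq_of_isIntegral (MvPolynomial (Fin s) k ⧸ p) (R ⧸ q)
        (Ideal.quotientMap_injective' le_rfl)]
    rw [h2, ← hlen] at h1
    rw [hl]
    exact_mod_cast h1

end Groth.Agent.GeomUnib
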