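import Groth.Agent.GeomUnib.CodimFibre

/-!
# The dimension inequality
-/

set_option autoImplicit false

universe u

open CategoryTheory CategoryTheory.Limits AlgebraicGeometry TopologicalSpace

namespace Groth.Agent.GeomUnib

open FibreDim

section algebra

theorem height_add_coheight_le {α : Type u} [Preorder α] (a : α) :
    ((Order.height a + Order.coheight a : ℕ∞) : WithBot ℕ∞) ≤ Order.krullDim α := by
  haveI : Nonempty α := ⟨a⟩
  rw [Order.krullDim_eq_iSup_height_add_coheight_of_nonempty, WithBot.coe_le_coe]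
  exact le_iSup (fun a : α => Order.height a + Order.coheight a) a

variable {R B : Type u} [CommRing R] [CommRing B] [Algebra R B] {n : ℕ}

/-- Over a field or domain, the height of a prime over zero plus its transcendence degree is at
most the number of variables. -/
theorem height_add_trdeg_le [IsDomain R] (P : Ideal (MvPolynomial (Fin n) R)) [P.IsPrime]
    (hP : P.comap MvPolynomial.C = ⊥) :
    ∃ h d : ℕ, P.height = h ∧ Algebra.trdeg R (MvPolynomial (Fin n) R ⧸ P) ≤ d ∧ h + d ≤ n := by
  let K := FractionRing R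
  letI := (MvPolynomial.map (σ := Fin n) (algebraMap R K)).toAlgebra
  haveI : IsScalarTower R (MvPolynomial (Fin n) R) (MvPolynomial (Fin n) K) :=
    IsScalarTower.of_algebraMap_eq fun a => by simp [RingHom.algebraMap_toAlgebra, MvPolynomial.algebraMap_eq]
  let M := (nonZeroDivisors R).map (MvPolynomial.C (σ := Fin n))
  haveI : IsLocalization M (MvPolynomial (Fin n) K) := MvPolynomial.isLocalization (nonZeroDivisors R) K
  have hd : Disjoint (M : Set (MvPolynomial (Fin n) R)) P := by
    refine Set.disjoint_left.2 ?_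
    rintro _ ⟨a, ha, rfl⟩ haP
    have h0 : a ∈ P.comap MvPolynomial.C := haP
    rw [hP, Ideal.mem_bot] at h0
    exact nonZeroDivisors.ne_zero ha h0
  let P' := P.map (algebraMap (MvPolynomial (Fin n) R) (MvPolynomial (Fin n) K))
  haveI : P'.IsPrime := IsLocalization.isPrime_of_isPrime_disjoint M (MvPolynomial (Fin n) K) P inferInstance hd
  obtain ⟨d, hd', hdim⟩ := DimTrdeg.exists_trdeg_eq_ringKrullDim K (MvPolynomial (Fin n) K ⧸ P')
  have hn : ringKrullDim (MvPolynomial (Fin n) K) = n := by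
    simp [MvPolynomial.ringKrullDim_of_isNoetherianRing]
  have hsum := height_add_coheight_le (⟨P', inferInstance⟩ : PrimeSpectrum (MvPolynomial (Fin n) K))
  rw [← Hironaka.coheight_eq_ringKrullDim_quotient ⟨P', inferInstance⟩] at hdim
  have hco : Order.coheight (⟨P', inferInstance⟩ : PrimeSpectrum (MvPolynomial (Fin n) K)) = d :=
    WithBot.coe_inj.1 hdim
  have hle : ((Order.height (⟨P', inferInstance⟩ : PrimeSpectrum (MvPolynomial (Fin n) K)) + d : ℕ∞) :
      WithBot ℕ∞) ≤ (n : ℕ∞) := by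
    rw [← hco]
    exact (hsum.trans hn.le)
  rw [← PrimeSpectrum.height_eq_orderHeight, WithBot.coe_le_coe,
    ← IsLocalization.height_under M P',
    IsLocalization.under_map_of_isPrime_disjoint M (MvPolynomial (Fin n) K) ‹P.IsPrime› hd] at hle
  obtain ⟨h, hh⟩ := ENat.ne_top_iff_exists.1 (ne_top_of_le_ne_top (ENat.coe_ne_top n) (le_self_add.trans hle))
  rw [← hh] at hle
  refine ⟨h, d, hh.symm, ?_, by exact_mod_cast hle⟩
  let ι : (MvPolynomial (Fin n) R ⧸ P) →ₐ[R] (MvPolynomial (Fin n) K ⧸ P') :=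
    Ideal.quotientMapₐ P' (IsScalarTower.toAlgHom R (MvPolynomial (Fin n) R) (MvPolynomial (Fin n) K))
      Ideal.le_comap_map
  have hι : Function.Injective ι := Ideal.quotientMap_injective' (H := Ideal.le_comap_map)
    (IsLocalization.under_map_of_isPrime_disjoint M (MvPolynomial (Fin n) K) ‹P.IsPrime› hd).le
  haveI : FaithfulSMul R (MvPolynomial (Fin n) K ⧸ P') := by
    refine (faithfulSMul_iff_algebraMap_injective R (MvPolynomial (Fin n) K ⧸ P')).2 ?_
    rw [IsScalarTower.algebraMap_eq R K (MvPolynomial (Fin n) K ⧸ P'), RingHom.coe_comp]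
    exact (RingHom.injective _).comp (IsFractionRing.injective R K)
  haveI : Algebra.IsAlgebraic R K := IsLocalization.isAlgebraic K (nonZeroDivisors R)
  calc Algebra.trdeg R (MvPolynomial (Fin n) R ⧸ P)
      ≤ Algebra.trdeg R (MvPolynomial (Fin n) K ⧸ P') := trdeg_le_of_injective ι hι
    _ = (d : Cardinal) := by
      rw [← trdeg_add_eq R K (A := MvPolynomial (Fin n) K ⧸ P'), trdeg_eq_zero (R := R) (A := K), zero_add, hd']

/-- A quasi-finite chart is algebraic over its image. -/
theorem trdeg_le_range [IsDomain R] [IsDomain B] [FaithfulSMul R B] [Algebra.FiniteType R B]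
    (φ : MvPolynomial (Fin n) R →ₐ[R] B) (q : Ideal B) [q.IsPrime] (h : IsQFAt φ q) :
    Algebra.trdeg R B ≤ Algebra.trdeg R φ.range := by
  letI : Algebra (MvPolynomial (Fin n) R) B := φ.toRingHom.toAlgebra
  haveI : IsScalarTower R (MvPolynomial (Fin n) R) B :=
    IsScalarTower.of_algebraMap_eq fun a => (φ.commutes a).symm
  haveI : Algebra.FiniteType (MvPolynomial (Fin n) R) B := Algebra.FiniteType.of_restrictScalars_finiteType R _ _
  haveI : Algebra.QuasiFiniteAt (MvPolynomial (Fin n) R) q := h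
  haveI : Algebra.IsAlgebraic φ.range B := by
    obtain ⟨r, hr, hrint, hall⟩ := Algebra.zariskisMainProperty_iff.1
      (Algebra.ZariskisMainProperty.of_finiteType (R := MvPolynomial (Fin n) R) q)
    have hr0 : r ≠ 0 := fun h0 => hr (h0 ▸ q.zero_mem)
    have hmap : ∀ z : B, IsIntegral (MvPolynomial (Fin n) R) z → IsAlgebraic φ.range z := fun z hz =>
      (hz.map_of_comp_eq φ.rangeRestrict.toRingHom (RingHom.id B) (RingHom.ext fun p => rfl)).isAlgebraic
    refine ⟨fun z => ?_⟩
    obtain ⟨m, hm⟩ := hall z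
    refine IsAlgebraic.of_mul ?_ (hmap _ (hrint.pow m)) (hmap _ hm)
    exact mem_nonZeroDivisors_of_ne_zero (pow_ne_zero _ hr0)
  exact (DimTrdeg.trdeg_eq_of_isAlgebraic R φ.range B).le

/-- Strict form of the dimension inequality for a non-dominant chart. -/
theorem height_add_one_le [IsDomain R] [IsNoetherianRing R] [IsDomain B] [FaithfulSMul R B]
    [Algebra.FiniteType R B] (φ : MvPolynomial (Fin n) R →ₐ[R] B) (hφ : ¬ Function.Injective φ)
    (q : Ideal B) [q.IsPrime] (hq : IsQFAt φ q) {b : ℕ}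
    (hb : Algebra.trdeg (R ⧸ q.under R) (B ⧸ q) = b) :
    q.height + 1 + b ≤ (q.under R).height + n := by
  classical
  haveI : IsNoetherianRing B := Algebra.FiniteType.isNoetherianRing R B
  letI : Algebra (MvPolynomial (Fin n) R) B := φ.toRingHom.toAlgebra
  haveI : IsScalarTower R (MvPolynomial (Fin n) R) B :=
    IsScalarTower.of_algebraMap_eq fun a => (φ.commutes a).symm
  haveI : Algebra.QuasiFiniteAt (MvPolynomial (Fin n) R) q := hq
  let p := q.under R
  let ξ := q.comap φ.toRingHom
  have h1 : q.height + 1 ≤ ξ.height := by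
    obtain ⟨l, hl, hlen⟩ := Ideal.exists_ltSeries_length_eq_height q
    have hlq : ∀ i, (l i).asIdeal ≤ q := fun i =>
      (show (l i).asIdeal ≤ l.last.asIdeal from l.monotone (Fin.le_last i)).trans
        (congrArg PrimeSpectrum.asIdeal hl).le
    let c : Fin (l.length + 1) → PrimeSpectrum (MvPolynomial (Fin n) R) := fun i =>
      PrimeSpectrum.comap φ.toRingHom (l i)
    have hc : StrictMono c := fun i j hij => by
      refine lt_of_le_of_ne (Ideal.comap_mono (l.monotone hij.le)) fun heq => ?_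
      haveI : Algebra.QuasiFiniteAt (MvPolynomial (Fin n) R) (l j).asIdeal := Algebra.QuasiFiniteAt.of_le (hlq j)
      exact (l.strictMono hij).ne (PrimeSpectrum.ext (Algebra.QuasiFiniteAt.eq_of_le_of_under_eq
        (R := MvPolynomial (Fin n) R) (l.monotone hij.le) (congrArg PrimeSpectrum.asIdeal heq)))
    let md : LTSeries (PrimeSpectrum (MvPolynomial (Fin n) R)) := LTSeries.mk l.length c hc
    have h0 : (⊥ : Ideal (MvPolynomial (Fin n) R)) < md.head.asIdeal := by
      refine bot_lt_iff_ne_bot.2 fun h => hφ ?_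
      refine (RingHom.injective_iff_ker_eq_bot φ.toRingHom).2 (eq_bot_iff.2 fun z hz => ?_)
      rw [← h]
      show φ.toRingHom z ∈ (l 0).asIdeal
      rw [RingHom.mem_ker.1 hz]
      exact zero_mem _
    have hlast : md.last ≤ (⟨ξ, inferInstance⟩ : PrimeSpectrum _) := Ideal.comap_mono (hlq (Fin.last _))
    have h2 := Order.length_le_height (p := md.cons ⟨⊥, Ideal.isPrime_bot⟩ h0)
      (x := (⟨ξ, inferInstance⟩ : PrimeSpectrum _)) (by rw [RelSeries.last_cons]; exact hlast)
    rw [← PrimeSpectrum.height_eq_orderHeight] at h2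
    rw [← hlen]
    refine le_trans ?_ h2
    simp [md]
  let μ : MvPolynomial (Fin n) R →+* MvPolynomial (Fin n) (R ⧸ p) := MvPolynomial.map (Ideal.Quotient.mk p)
  have hμ : Function.Surjective μ := MvPolynomial.map_surjective _ Ideal.Quotient.mk_surjective
  have hker : RingHom.ker μ = p.map (algebraMap R (MvPolynomial (Fin n) R)) := by
    rw [MvPolynomial.ker_map, Ideal.mk_ker, MvPolynomial.algebraMap_eq]
  haveI : ξ.LiesOver p := ⟨by
    show q.under R = (q.comap φ.toRingHom).comap (algebraMap R (MvPolynomial (Fin n) R))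
    rw [Ideal.comap_comap]
    exact congrArg (fun f => q.comap f) (AlgHom.comp_algebraMap φ).symm⟩
  have h3 := Ideal.height_le_height_add_of_liesOver p ξ
  let e : MvPolynomial (Fin n) R ⧸ p.map (algebraMap R (MvPolynomial (Fin n) R)) ≃+* MvPolynomial (Fin n) (R ⧸ p) :=
    (Ideal.quotEquivOfEq hker.symm).trans (RingHom.quotientKerEquivOfSurjective hμ)
  let Q := RingHom.ker (quotMap φ q).toRingHom
  haveI : Q.IsPrime := RingHom.ker_isPrime _
  have hQ : ξ = Q.comap μ := by
    rw [RingHom.comap_ker, quotMap_comp, ← RingHom.comap_ker, Ideal.mk_ker]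
  have hmapQ : (ξ.map (Ideal.Quotient.mk (p.map (algebraMap R (MvPolynomial (Fin n) R))))).map e.toRingHom = Q := by
    rw [Ideal.map_map, show e.toRingHom.comp (Ideal.Quotient.mk _) = μ from RingHom.ext fun z => rfl, hQ,
      Ideal.map_comap_of_surjective _ hμ]
  have hFT : Algebra.FiniteType R (B ⧸ q) :=
    Algebra.FiniteType.of_surjective (Ideal.Quotient.mkₐ R q) Ideal.Quotient.mk_surjective
  haveI : Algebra.FiniteType (R ⧸ p) (B ⧸ q) := Algebra.FiniteType.of_restrictScalars_finiteType R _ _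
  haveI : FaithfulSMul (R ⧸ p) (B ⧸ q) :=
    (faithfulSMul_iff_algebraMap_injective _ _).2 (Ideal.quotientMap_injective' le_rfl)
  have hQ0 : Q.comap MvPolynomial.C = ⊥ := by
    refine eq_bot_iff.2 fun a ha => FaithfulSMul.algebraMap_injective (R ⧸ p) (B ⧸ q) ?_
    have : quotMap φ q (MvPolynomial.C a) = 0 := ha
    rw [map_zero, ← (quotMap φ q).commutes, MvPolynomial.algebraMap_eq, this]
  obtain ⟨h, d, hh, hd, hle⟩ := height_add_trdeg_le Q hQ0
  haveI : (q.map (Ideal.Quotient.mk q)).IsPrime := by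
    rw [Ideal.map_quotient_self]; exact Ideal.isPrime_bot
  have hbd : b ≤ d := by
    have h4 := trdeg_le_range (quotMap φ q) _ (isQFAt_quotMap φ q q le_rfl hq)
    have h6 : Algebra.trdeg (R ⧸ p) (quotMap φ q).range ≤ Algebra.trdeg (R ⧸ p) (MvPolynomial (Fin n) (R ⧸ p) ⧸ Q) := by
      refine trdeg_le_of_surjective (Ideal.Quotient.liftₐ Q (quotMap φ q).rangeRestrict fun z hz => Subtype.ext hz) ?_
      rintro ⟨_, z, rfl⟩
      exact ⟨Ideal.Quotient.mk Q z, rfl⟩
    rw [hb] at h4
    exact_mod_cast (h4.trans h6).trans hd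
  have h5 : (ξ.map (Ideal.Quotient.mk (p.map (algebraMap R (MvPolynomial (Fin n) R))))).height = h := by
    rw [← hh, ← hmapQ]
    exact (e.height_map _).symm
  rw [h5] at h3
  calc q.height + 1 + b ≤ ξ.height + b := add_le_add h1 le_rfl
    _ ≤ p.height + h + b := add_le_add h3 le_rfl
    _ ≤ p.height + n := by
      rw [add_assoc]
      exact add_le_add le_rfl (by exact_mod_cast (by omega : h + b ≤ n))

end algebra

/-- Strict monotonicity of injective continuous maps. -/
theorem strictMono_of_injective {X Z : Scheme.{u}} (c : Z ⟶ X) (hc : Function.Injective c) :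
    StrictMono c := fun a b hab => by
  have hab' := lt_iff_le_not_ge.1 hab
  have h1 : c b ⤳ c a := (hab'.1 : b ⤳ a).map c.continuous
  exact lt_iff_le_not_ge.2 ⟨h1, fun h => hab.ne (hc (Specializes.antisymm (h : c a ⤳ c b) h1).eq)⟩

/-- Chains of generisations lying in the image of an embedding. -/
theorem length_le_coheight_of_range {X Z : Scheme.{u}} (c : Z ⟶ X)
    (hc : Topology.IsEmbedding c.base) (l : LTSeries X) (hl : ∀ i, l i ∈ Set.range c.base) (v : Z)
    (hv : l.head ⤳ c v) : (l.length : ℕ∞) ≤ Order.coheight v := by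
  choose d hd using hl
  have hmono : StrictMono d := fun i j hij => by
    have h := lt_iff_le_not_ge.1 (l.strictMono hij)
    refine lt_iff_le_not_ge.2 ⟨hc.toIsInducing.specializes_iff.1 ?_, fun h' => h.2 ?_⟩
    · show c.base (d j) ⤳ c.base (d i)
      rw [hd, hd]; exact h.1
    · have := (h' : d i ⤳ d j).map c.continuous
      rw [hd, hd] at this
      exact this
  refine Order.length_le_coheight (p := LTSeries.mk l.length d hmono) ?_
  refine hc.toIsInducing.specializes_iff.1 ?_
  show c.base (d 0) ⤳ c v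
  rw [hd]
  exact hv

/-- Dimensions of stalks of locally Noetherian schemes are finite. -/
theorem exists_coheight_eq {X : Scheme.{u}} [IsLocallyNoetherian X] (x : X) :
    ∃ n : ℕ, Order.coheight x = n ∧ ringKrullDim (X.presheaf.stalk x) = n := by
  have h := (ringKrullDim_stalk_eq_coheight x)
  have hne : Order.coheight x ≠ ⊤ := by
    intro htop
    have := ringKrullDim_ne_top (R := X.presheaf.stalk x)
    rw [h, htop] at this
    exact this rfl
  obtain ⟨n, hn⟩ := ENat.ne_top_iff_exists.1 hne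
  exact ⟨n, hn.symm, by rw [h, ← hn]; rfl⟩

variable {X Y : Scheme.{u}} [IsIntegral X] (g : X ⟶ Y)

/-- The generic point in a chart. -/
theorem fromSpec_bot {V : X.Opens} (hV : IsAffineOpen V) [Nonempty V.toScheme] :
    hV.fromSpec (⊥ : PrimeSpectrum Γ(X, V)) = genericPoint X := by
  have hne : (V : Set X).Nonempty := ⟨_, (Classical.arbitrary V.toScheme).2⟩
  obtain ⟨t, ht⟩ : genericPoint X ∈ Set.range hV.fromSpec :=
    hV.range_fromSpec.ge ((genericPoint_specializes _).mem_open V.2 hne.choose_spec)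
  refine ((genericPoint_specializes _).antisymm ?_).eq.symm
  rw [← ht]
  exact ((PrimeSpectrum.le_iff_specializes (⊥ : PrimeSpectrum Γ(X, V)) t).1 bot_le).map hV.fromSpec.continuous

omit [IsIntegral X] in
/-- A chart in formulas. -/
theorem apply_fromSpec {U : Y.Opens} (hU : IsAffineOpen U) {V : X.Opens} (hV : IsAffineOpen V)
    (hVU : V ≤ g ⁻¹ᵁ U) (q : PrimeSpectrum Γ(X, V)) :
    g (hV.fromSpec q) = hU.fromSpec (PrimeSpectrum.comap (g.appLE U V hVU).hom q) := by
  rw [← Scheme.Hom.comp_apply hV.fromSpec g, ← IsAffineOpen.SpecMap_appLE_fromSpec g hU hV hVU,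
    Scheme.Hom.comp_apply]
  rfl

/-- The height in the image is at most the codimension in the closed image. -/
theorem height_image_le [IsLocallyNoetherian Y] {Z : Scheme.{u}} (ι : Z ⟶ Y) (hι : Topology.IsEmbedding ι.base)
    (hZ : ∀ y : Y, g (genericPoint X) ⤳ y → y ∈ Set.range ι.base)
    {W : Y.Opens} (hW : IsAffineOpen W) {V : X.Opens} (hV : IsAffineOpen V) [Nonempty V.toScheme]
    (hVW : V ≤ g ⁻¹ᵁ W) (q : PrimeSpectrum Γ(X, V)) (v : Z) (hv : ι v = g (hV.fromSpec q))
    (p : Ideal (Γ(Y, W) ⧸ RingHom.ker (g.appLE W V hVW).hom)) [p.IsPrime]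
    (hp : p.comap (Ideal.Quotient.mk _) ≤ q.asIdeal.comap (g.appLE W V hVW).hom) :
    p.height ≤ Order.coheight v := by
  haveI : IsNoetherianRing Γ(Y, W) := IsLocallyNoetherian.component_noetherian ⟨W, hW⟩
  obtain ⟨l, hl, hlen⟩ := Ideal.exists_ltSeries_length_eq_height p
  let c : PrimeSpectrum (Γ(Y, W) ⧸ RingHom.ker (g.appLE W V hVW).hom) → Y := fun a =>
    hW.fromSpec (PrimeSpectrum.comap (Ideal.Quotient.mk _) a)
  have hcinj : Function.Injective c := fun a a' h => PrimeSpectrum.comap_injective_of_surjective _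
    Ideal.Quotient.mk_surjective (hW.fromSpec.isOpenEmbedding.injective h)
  have hc : ∀ a a', a < a' → c a' < c a := fun a a' hab => by
    have h1 : c a ⤳ c a' := (((PrimeSpectrum.le_iff_specializes a a').1 hab.le).map
      (PrimeSpectrum.continuous_comap _)).map hW.fromSpec.continuous
    exact lt_iff_le_not_ge.2 ⟨h1, fun h => hab.ne (hcinj (Specializes.antisymm h1 h).eq)⟩
  rw [← hlen]
  refine length_le_coheight_of_range ι hι
    (LTSeries.mk l.length (fun i => c (l i.rev)) fun i j hij =>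
      hc _ _ (l.strictMono (Fin.rev_lt_rev.2 hij))) (fun i => hZ _ ?_) v ?_
  · rw [← fromSpec_bot hV, apply_fromSpec g hW hV hVW]
    refine ((PrimeSpectrum.le_iff_specializes
      (PrimeSpectrum.comap (g.appLE W V hVW).hom ⊥)
      (PrimeSpectrum.comap (Ideal.Quotient.mk (RingHom.ker (g.appLE W V hVW).hom)) (l i.rev))).1 (fun z hz => ?_)).map hW.fromSpec.continuous
    show Ideal.Quotient.mk (RingHom.ker (g.appLE W V hVW).hom) z ∈ (l i.rev).asIdeal
    rw [Ideal.Quotient.eq_zero_iff_mem.2 (show z ∈ RingHom.ker (g.appLE W V hVW).hom from hz)]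
    exact zero_mem _
  · show c (l (Fin.rev 0)) ⤳ ι v
    rw [Fin.rev_zero, hv, apply_fromSpec g hW hV hVW]
    refine ((PrimeSpectrum.le_iff_specializes
      (PrimeSpectrum.comap (Ideal.Quotient.mk (RingHom.ker (g.appLE W V hVW).hom)) l.last)
      (PrimeSpectrum.comap (g.appLE W V hVW).hom q)).1 ?_).map hW.fromSpec.continuous
    show l.last.asIdeal.comap (Ideal.Quotient.mk (RingHom.ker (g.appLE W V hVW).hom)) ≤ q.asIdeal.comap (g.appLE W V hVW).hom
    rw [hl]
    exact hp

omit [IsIntegral X] in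
/-- The height in the fibre ring is at most the codimension in the fibre. -/
theorem height_fibre_le [IsLocallyNoetherian Y] [LocallyOfFiniteType g] {W : Y.Opens} (hW : IsAffineOpen W) {V : X.Opens} (hV : IsAffineOpen V)
    (hVW : V ≤ g ⁻¹ᵁ W) (q : PrimeSpectrum Γ(X, V)) (w : X) (hqw : hV.fromSpec q = w) (I : Ideal Γ(X, V))
    (hI : (q.asIdeal.comap (g.appLE W V hVW).hom).map (g.appLE W V hVW).hom ≤ I) (hIq : I ≤ q.asIdeal)
    [(q.asIdeal.map (Ideal.Quotient.mk I)).IsPrime] :
    (q.asIdeal.map (Ideal.Quotient.mk I)).height ≤ Order.coheight (g.asFiber w) := by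
  haveI : IsLocallyNoetherian X := LocallyOfFiniteType.isLocallyNoetherian g
  haveI : IsNoetherianRing Γ(X, V) := IsLocallyNoetherian.component_noetherian ⟨V, hV⟩
  obtain ⟨l, hl, hlen⟩ := Ideal.exists_ltSeries_length_eq_height (q.asIdeal.map (Ideal.Quotient.mk I))
  rw [← hlen]
  let c : PrimeSpectrum (Γ(X, V) ⧸ I) → X := fun a => hV.fromSpec (PrimeSpectrum.comap (Ideal.Quotient.mk _) a)
  have hcinj : Function.Injective c := fun a a' h => PrimeSpectrum.comap_injective_of_surjective _
    Ideal.Quotient.mk_surjective (hV.fromSpec.isOpenEmbedding.injective h)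
  have hc : ∀ a a', a < a' → c a' < c a := fun a a' hab => by
    have h1 : c a ⤳ c a' := (((PrimeSpectrum.le_iff_specializes a a').1 hab.le).map
      (PrimeSpectrum.continuous_comap _)).map hV.fromSpec.continuous
    exact lt_iff_le_not_ge.2 ⟨h1, fun h => hab.ne (hcinj (Specializes.antisymm h1 h).eq)⟩
  have hlast : l.last.asIdeal.comap (Ideal.Quotient.mk I) = q.asIdeal := by
    rw [hl, Ideal.comap_map_of_surjective _ Ideal.Quotient.mk_surjective, ← RingHom.ker_eq_comap_bot,
      Ideal.mk_ker, sup_eq_left.2 hIq]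
  refine length_le_coheight_of_range (g.fiberι (g w)) (g.fiberι _).isEmbedding
    (LTSeries.mk l.length (fun i => c (l i.rev)) fun i j hij =>
      hc _ _ (l.strictMono (Fin.rev_lt_rev.2 hij))) (fun i => ?_) (g.asFiber w) ?_
  · rw [g.range_fiberι]
    have hle : (l i.rev).asIdeal.comap (Ideal.Quotient.mk I) ≤ q.asIdeal := hlast ▸
      Ideal.comap_mono (show (l i.rev).asIdeal ≤ l.last.asIdeal from l.monotone (Fin.le_last _))
    show g (hV.fromSpec _) = g w
    rw [← hqw, apply_fromSpec g hW hV hVW, apply_fromSpec g hW hV hVW]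
    refine congrArg _ (PrimeSpectrum.ext (le_antisymm (Ideal.comap_mono hle) fun a ha => ?_))
    show Ideal.Quotient.mk I ((g.appLE W V hVW).hom a) ∈ (l i.rev).asIdeal
    rw [Ideal.Quotient.eq_zero_iff_mem.2 (hI (Ideal.mem_map_of_mem _ ha))]
    exact zero_mem _
  · show c (l (Fin.rev 0)) ⤳ (g.fiberι (g w)) (g.asFiber w)
    rw [Fin.rev_zero, g.fiberι_asFiber, ← hqw]
    exact ((PrimeSpectrum.le_iff_specializes (PrimeSpectrum.comap (Ideal.Quotient.mk I) l.last) q).1
      hlast.le).map hV.fromSpec.continuous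

/-- The dimension inequalities at a point of an integral scheme over `Y`. -/
theorem dim_inequalities {Z : Scheme.{u}} [IsLocallyNoetherian Y]
    [LocallyOfFiniteType g] (w : X) (ι : Z ⟶ Y) (hι : Topology.IsEmbedding ι.base)
    (hZ : ∀ y : Y, g (genericPoint X) ⤳ y → y ∈ Set.range ι.base) (v : Z) (hv : ι v = g w) :
    ∃ n b e : ℕ, FlatMor.fibreDimAt g w = n ∧ fdim g w = b ∧ fdim g (genericPoint X) = e ∧ e ≤ n ∧
      (n : ℕ∞) ≤ Order.coheight (g.asFiber w) + b ∧
      Order.coheight w ≤ Order.coheight v + Order.coheight (g.asFiber w) ∧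
      (e < n → Order.coheight w + 1 + b ≤ Order.coheight v + n) := by
  classical
  obtain ⟨W, hW, V, hV, hVW, hwV, -, n, φ, hn, hqf⟩ := exists_chart g w ⊤ trivial
  letI := (g.appLE W V hVW).hom.toAlgebra
  haveI : Nonempty V.toScheme := ⟨⟨w, hwV⟩⟩
  haveI : IsNoetherianRing Γ(Y, W) := IsLocallyNoetherian.component_noetherian ⟨W, hW⟩
  haveI : Algebra.FiniteType Γ(Y, W) Γ(X, V) :=
    RingHom.finiteType_algebraMap.1 (g.finiteType_appLE hW hV hVW)
  haveI : IsNoetherianRing Γ(X, V) := Algebra.FiniteType.isNoetherianRing Γ(Y, W) _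
  haveI : IsLocallyNoetherian X := LocallyOfFiniteType.isLocallyNoetherian g
  let q := hV.primeIdealOf ⟨w, hwV⟩
  have hqw : hV.fromSpec q = w := hV.fromSpec_primeIdealOf _
  have hw₀V : genericPoint X ∈ V := (genericPoint_specializes w).mem_open V.2 hwV
  obtain ⟨b, hb, hbO⟩ := exists_fdim g w
  obtain ⟨e, he, -⟩ := exists_fdim g (genericPoint X)
  have hen : e ≤ n := by
    have := fdim_le_fibreDimAt g (genericPoint_specializes w)
    rw [he, hn] at this
    exact_mod_cast this
  obtain ⟨b', hb', hbdim⟩ := exists_dim_chart g hW hV hVW w hwV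
  obtain rfl : b = b' := by exact_mod_cast (hbO V V.2 hwV).symm.trans hbdim
  refine ⟨n, b, e, hn, hb, he, hen, ?_, ?_, fun hlt => ?_⟩
  · obtain ⟨k, hk, ⟨u, hu, huw, huk⟩, -⟩ := exists_fibreDimAt_eq g w
    obtain ⟨a, b₁, ha, hb₁, l, hl, hlast, hlen⟩ := exists_series_fibre g huw hu
    obtain rfl : b₁ = b := by exact_mod_cast hb₁.symm.trans hb
    obtain rfl : k = n := by exact_mod_cast hk.symm.trans hn
    obtain rfl : a = k := by exact_mod_cast ha.symm.trans huk
    have hrange : ∀ i, l i ∈ Set.range (g.fiberι (g w)).base := fun i => by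
      rw [g.range_fiberι]
      have h1 : u ⤳ l i := hlast.trans (show l.last ⤳ l i from l.monotone (Fin.le_last i))
      have h2 : l i ⤳ w := hl ▸ (l.head_le i : l i ⤳ l.head)
      have h3 := h1.map g.continuous
      rw [hu] at h3
      exact ((h2.map g.continuous).antisymm h3).eq
    have hco := length_le_coheight_of_range (g.fiberι (g w)) (g.fiberι _).isEmbedding l hrange
      (g.asFiber w) (by rw [g.fiberι_asFiber, hl])
    refine le_trans ?_ (add_le_add hco le_rfl)
    exact_mod_cast hlen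
  all_goals
    let R₁ := Γ(Y, W) ⧸ RingHom.ker (algebraMap Γ(Y, W) Γ(X, V))
    letI : Algebra R₁ Γ(X, V) := (RingHom.kerLift (algebraMap Γ(Y, W) Γ(X, V))).toAlgebra
    haveI : IsScalarTower Γ(Y, W) R₁ Γ(X, V) := IsScalarTower.of_algebraMap_eq fun a => rfl
    haveI := RingHom.ker_isPrime (algebraMap Γ(Y, W) Γ(X, V))
    haveI : IsDomain R₁ := Ideal.Quotient.isDomain _
    haveI : FaithfulSMul R₁ Γ(X, V) :=
      (faithfulSMul_iff_algebraMap_injective _ _).2 (RingHom.kerLift_injective _)
    haveI : Algebra.FiniteType R₁ Γ(X, V) := Algebra.FiniteType.of_restrictScalars_finiteType Γ(Y, W) _ _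
    have hp₁ : q.asIdeal.under R₁ =
        (q.asIdeal.under Γ(Y, W)).map (Ideal.Quotient.mk (RingHom.ker (algebraMap Γ(Y, W) Γ(X, V)))) := by
      refine ((Ideal.map_comap_of_surjective _ Ideal.Quotient.mk_surjective _).symm.trans ?_)
      congr 1
    have hA : (q.asIdeal.under R₁).height ≤ Order.coheight v :=
      height_image_le g ι hι hZ hW hV hVW q v (hqw.symm ▸ hv) _ (Ideal.comap_comap _ _).le
    letI : Algebra Γ(X, V) (X.presheaf.stalk w) := (X.presheaf.germ V w hwV).hom.toAlgebra
    haveI : IsLocalization.AtPrime (X.presheaf.stalk w) q.asIdeal := hV.isLocalization_stalk ⟨w, hwV⟩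
    have hqh : Order.coheight w = q.asIdeal.height := by
      refine WithBot.coe_inj.1 ?_
      rw [← ringKrullDim_stalk_eq_coheight]
      exact IsLocalization.AtPrime.ringKrullDim_eq_height q.asIdeal _
    rw [hqh]
  · haveI : q.asIdeal.LiesOver (q.asIdeal.under R₁) := ⟨rfl⟩
    refine (Ideal.height_le_height_add_of_liesOver (q.asIdeal.under R₁) q.asIdeal).trans
      (add_le_add hA ?_)
    haveI : (q.asIdeal.map (Ideal.Quotient.mk ((q.asIdeal.under R₁).map (algebraMap R₁ Γ(X, V))))).IsPrime :=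
      Ideal.map_isPrime_of_surjective Ideal.Quotient.mk_surjective (by
        rw [Ideal.mk_ker]; exact Ideal.map_comap_le)
    refine height_fibre_le g hW hV hVW q w hqw _ ?_ Ideal.map_comap_le
    refine Ideal.map_le_iff_le_comap.2 fun a ha => ?_
    show algebraMap R₁ Γ(X, V) (Ideal.Quotient.mk _ a) ∈ (q.asIdeal.under R₁).map (algebraMap R₁ Γ(X, V))
    exact Ideal.mem_map_of_mem _ (show algebraMap R₁ Γ(X, V) (Ideal.Quotient.mk _ a) ∈ q.asIdeal from ha)
  · let φ₁ : MvPolynomial (Fin n) R₁ →ₐ[R₁] Γ(X, V) := MvPolynomial.aeval fun i => φ (MvPolynomial.X i)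
    let μ := MvPolynomial.map (σ := Fin n) (Ideal.Quotient.mk (RingHom.ker (algebraMap Γ(Y, W) Γ(X, V))))
    have hcomp : φ₁.toRingHom.comp μ = φ.toRingHom := by
      refine MvPolynomial.ringHom_ext (fun a => ?_) (fun i => ?_)
      · simp only [RingHom.comp_apply, μ, MvPolynomial.map_C, φ₁, AlgHom.toRingHom_eq_coe, RingHom.coe_coe,
          MvPolynomial.aeval_C]
        rw [← MvPolynomial.algebraMap_eq, φ.commutes]
        rfl
      · simp [φ₁, μ]
    have hqf₁ : IsQFAt φ₁ q.asIdeal := by
      letI : Algebra (MvPolynomial (Fin n) Γ(Y, W)) Γ(X, V) := φ.toRingHom.toAlgebra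
      letI : Algebra (MvPolynomial (Fin n) R₁) Γ(X, V) := φ₁.toRingHom.toAlgebra
      letI : Algebra (MvPolynomial (Fin n) Γ(Y, W)) (MvPolynomial (Fin n) R₁) := μ.toAlgebra
      haveI : IsScalarTower (MvPolynomial (Fin n) Γ(Y, W)) (MvPolynomial (Fin n) R₁) Γ(X, V) :=
        IsScalarTower.of_algebraMap_eq' hcomp.symm
      haveI : Algebra.QuasiFiniteAt (MvPolynomial (Fin n) Γ(Y, W)) q.asIdeal := hqf
      haveI : IsScalarTower (MvPolynomial (Fin n) Γ(Y, W)) (MvPolynomial (Fin n) R₁)
          (Localization.AtPrime q.asIdeal) := IsScalarTower.of_algebraMap_eq fun r => by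
        rw [IsScalarTower.algebraMap_apply (MvPolynomial (Fin n) Γ(Y, W)) Γ(X, V),
          IsScalarTower.algebraMap_apply (MvPolynomial (Fin n) Γ(Y, W)) (MvPolynomial (Fin n) R₁) Γ(X, V),
          ← IsScalarTower.algebraMap_apply (MvPolynomial (Fin n) R₁) Γ(X, V)]
      show Algebra.QuasiFinite (MvPolynomial (Fin n) R₁) _
      exact Algebra.QuasiFinite.of_restrictScalars (MvPolynomial (Fin n) Γ(Y, W)) _ _
    have hne : ¬ Function.Injective φ₁ := by
      intro hi
      have hw₀ := fdim_chart g hW hV hVW (genericPoint X) hw₀V φ (isQFAt_of_le φ _ q.asIdeal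
        ((PrimeSpectrum.le_iff_specializes _ q).2 (hV.fromSpec.isOpenEmbedding.toIsInducing.specializes_iff.1
          (by rw [hV.fromSpec_primeIdealOf, hqw]; exact genericPoint_specializes w))) hqf)
      refine hlt.ne ?_
      have h0 : hV.primeIdealOf ⟨genericPoint X, hw₀V⟩ = (⊥ : PrimeSpectrum Γ(X, V)) := by
        refine hV.fromSpec.isOpenEmbedding.injective ?_
        rw [hV.fromSpec_primeIdealOf]
        refine ((genericPoint_specializes _).antisymm ?_).eq
        obtain ⟨t, ht⟩ : genericPoint X ∈ Set.range hV.fromSpec := hV.range_fromSpec.ge hw₀V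
        rw [← ht]
        exact ((PrimeSpectrum.le_iff_specializes (⊥ : PrimeSpectrum Γ(X, V)) t).1 bot_le).map hV.fromSpec.continuous
      have := hw₀.2.2 ((injective_quotMap_iff φ _).2 (by
        rw [h0]
        show (⊥ : Ideal Γ(X, V)).comap φ.toRingHom = RingHom.ker (MvPolynomial.map
          (Ideal.Quotient.mk ((⊥ : Ideal Γ(X, V)).under Γ(Y, W))))
        rw [← RingHom.ker_eq_comap_bot, ← hcomp, ← RingHom.comap_ker,
          (RingHom.injective_iff_ker_eq_bot φ₁.toRingHom).1 hi, ← RingHom.ker_eq_comap_bot]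
        rfl))
      rw [he] at this
      exact_mod_cast this
    have hb₁ : Algebra.trdeg (R₁ ⧸ q.asIdeal.under R₁) (Γ(X, V) ⧸ q.asIdeal) = b := by
      rw [← hb']
      refine trdeg_eq_of_ringEquiv ?_ (RingEquiv.refl _) ?_
      · exact ((Ideal.quotEquivOfEq hp₁).trans (DoubleQuot.quotQuotEquivQuotOfLE
          (Ideal.comap_mono bot_le : RingHom.ker (algebraMap Γ(Y, W) Γ(X, V)) ≤ q.asIdeal.under Γ(Y, W))))
      · intro r
        obtain ⟨r, rfl⟩ := Ideal.Quotient.mk_surjective r
        obtain ⟨r, rfl⟩ := Ideal.Quotient.mk_surjective r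
        rfl
    exact (height_add_one_le φ₁ hne q.asIdeal hqf₁ hb₁).trans (add_le_add hA le_rfl)

end Groth.Agent.GeomUnib
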