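import Groth.Agent.Catenary.CM
import Groth.Agent.GeomUnib.DimFormula
import Groth.Agent.GeomUnib.DimIneq

/-!
# The dimension formula over universally catenary domains
-/

set_option autoImplicit false

universe u

namespace Groth.Agent.GeomUnib

open Catenary FibreDim

/-- Heights add up below a prime with catenary equidimensional localisation. -/
theorem height_eq_add {R L : Type u} [CommRing R] [IsNoetherianRing R] [CommRing L] [Algebra R L]
    (M : Submonoid R) [IsLocalization M L] (hL : HeightCat L) (P Q : Ideal R) [P.IsPrime] [Q.IsPrime]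
    [(Q.map (Ideal.Quotient.mk P)).IsPrime] (hPQ : P ≤ Q) (hd : Disjoint (M : Set R) Q) :
    Q.height = P.height + (Q.map (Ideal.Quotient.mk P)).height := by
  classical
  haveI : IsNoetherianRing L := IsLocalization.isNoetherianRing M L inferInstance
  have hdP : Disjoint (M : Set R) P := hd.mono_right hPQ
  have hcQ : (Q.map (Ideal.Quotient.mk P)).comap (Ideal.Quotient.mk P) = Q := by
    rw [Ideal.comap_map_of_surjective _ Ideal.Quotient.mk_surjective, ← RingHom.ker_eq_comap_bot, Ideal.mk_ker,
      sup_eq_left.2 hPQ]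
  refine le_antisymm ?_ ?_
  · let PL : PrimeSpectrum L :=
      ⟨P.map (algebraMap R L), IsLocalization.isPrime_of_isPrime_disjoint M L P inferInstance hdP⟩
    let QL : PrimeSpectrum L :=
      ⟨Q.map (algebraMap R L), IsLocalization.isPrime_of_isPrime_disjoint M L Q inferInstance hd⟩
    have hle : PL ≤ QL := Ideal.map_mono hPQ
    obtain ⟨s₀, hs₀, hs₀'⟩ : ∃ s : LTSeries (PrimeSpectrum L), s.head = PL ∧ s.last = QL := by
      rcases hle.eq_or_lt with e | hlt
      · exact ⟨RelSeries.singleton _ QL, e.symm, rfl⟩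
      · exact ⟨⟨1, ![PL, QL], fun i => by fin_cases i; exact hlt⟩, rfl, rfl⟩
    obtain ⟨N, hN⟩ := hL.isCatenary.1 PL QL hle
    obtain ⟨s, hsh, hsl, -, hsat⟩ := CompSections.exists_saturated_of_bounded hN s₀ hs₀ hs₀'
    have hlast := hL.height_last _ s rfl hsat
    rw [hsh, hsl] at hlast
    rw [show QL.asIdeal.height = Q.height by
        rw [← IsLocalization.height_under M QL.asIdeal, IsLocalization.under_map_of_isPrime_disjoint M L ‹Q.IsPrime› hd],
      show PL.asIdeal.height = P.height by
        rw [← IsLocalization.height_under M PL.asIdeal, IsLocalization.under_map_of_isPrime_disjoint M L ‹P.IsPrime› hdP]]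
      at hlast
    rw [hlast]
    refine add_le_add le_rfl ?_
    have hmem : ∀ i, RingHom.ker (Ideal.Quotient.mk P) ≤ (s i).asIdeal.under R := fun i => by
      rw [Ideal.mk_ker, ← IsLocalization.under_map_of_isPrime_disjoint M L ‹P.IsPrime› hdP]
      exact Ideal.comap_mono (show PL.asIdeal ≤ (s i).asIdeal from hsh ▸ s.monotone (Fin.zero_le i))
    haveI hprime : ∀ i, (((s i).asIdeal.under R).map (Ideal.Quotient.mk P)).IsPrime := fun i =>
      Ideal.map_isPrime_of_surjective Ideal.Quotient.mk_surjective (hmem i)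
    let c : Fin (s.length + 1) → PrimeSpectrum (R ⧸ P) := fun i => ⟨_, hprime i⟩
    have hc : StrictMono c := fun i j hij => by
      have h1 : (s i).asIdeal < (s j).asIdeal := s.strictMono hij
      refine lt_of_le_of_ne (Ideal.map_mono (Ideal.comap_mono h1.le)) fun e => h1.ne ?_
      have e' : (((s i).asIdeal.under R).map (Ideal.Quotient.mk P)).comap (Ideal.Quotient.mk P) =
          (((s j).asIdeal.under R).map (Ideal.Quotient.mk P)).comap (Ideal.Quotient.mk P) :=
        congrArg (fun a => a.asIdeal.comap (Ideal.Quotient.mk P)) e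
      rw [Ideal.comap_map_of_surjective _ Ideal.Quotient.mk_surjective,
        Ideal.comap_map_of_surjective _ Ideal.Quotient.mk_surjective, ← RingHom.ker_eq_comap_bot,
        sup_eq_left.2 (hmem i), sup_eq_left.2 (hmem j)] at e'
      rw [← IsLocalization.map_under M L (s i).asIdeal, ← IsLocalization.map_under M L (s j).asIdeal, e']
    have := Order.length_le_height (p := LTSeries.mk s.length c hc)
      (x := (⟨Q.map (Ideal.Quotient.mk P), inferInstance⟩ : PrimeSpectrum (R ⧸ P))) (by
        show ((s.last).asIdeal.under R).map (Ideal.Quotient.mk P) ≤ _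
        rw [hsl, IsLocalization.under_map_of_isPrime_disjoint M L ‹Q.IsPrime› hd])
    rwa [← PrimeSpectrum.height_eq_orderHeight] at this
  · obtain ⟨a, ha, halen⟩ := Ideal.exists_ltSeries_length_eq_height P
    obtain ⟨b, hb, hblen⟩ := Ideal.exists_ltSeries_length_eq_height (Q.map (Ideal.Quotient.mk P))
    have hcs : StrictMono (PrimeSpectrum.comap (Ideal.Quotient.mk P)) := fun x y hxy =>
      lt_of_le_of_ne (Ideal.comap_mono hxy.le) fun e =>
        hxy.ne (PrimeSpectrum.comap_injective_of_surjective _ Ideal.Quotient.mk_surjective e)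
    let b' := b.map _ hcs
    have hb'l : b'.last.asIdeal = Q := by
      rw [LTSeries.last_map]
      show b.last.asIdeal.comap _ = Q
      rw [hb]; exact hcQ
    have hhead : a.last ≤ b'.head := by
      rw [ha, LTSeries.head_map]
      show P ≤ b.head.asIdeal.comap _
      intro z hz
      rw [Ideal.mem_comap, Ideal.Quotient.eq_zero_iff_mem.2 hz]
      exact zero_mem _
    rw [← halen, ← hblen]
    rcases hhead.eq_or_lt with e | hlt
    · have := Order.length_le_height (p := a.smash b' e) (x := (⟨Q, inferInstance⟩ : PrimeSpectrum R))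
        (by rw [RelSeries.last_smash]; exact hb'l.le)
      rw [← PrimeSpectrum.height_eq_orderHeight] at this
      refine le_trans ?_ this
      simp [RelSeries.smash_length, b']
    · have := Order.length_le_height (p := a.append b' hlt) (x := (⟨Q, inferInstance⟩ : PrimeSpectrum R))
        (by rw [RelSeries.last_append]; exact hb'l.le)
      rw [← PrimeSpectrum.height_eq_orderHeight] at this
      refine le_trans ?_ this
      simp [RelSeries.append_length, b']

/-- Height and transcendence degree over the fraction field. -/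
theorem height_add_trdeg_eq {R : Type u} [CommRing R] [IsDomain R] {n : ℕ}
    (P : Ideal (MvPolynomial (Fin n) R)) [P.IsPrime] (hP : P.comap MvPolynomial.C = ⊥) :
    ∃ h d : ℕ, P.height = h ∧ Algebra.trdeg R (MvPolynomial (Fin n) R ⧸ P) = d ∧ h + d = n := by
  classical
  obtain ⟨h, d₀, hh, hd₀, hle⟩ := height_add_trdeg_le P hP
  obtain ⟨d, hd⟩ := Cardinal.lt_aleph0.1 (hd₀.trans_lt (Cardinal.natCast_lt_aleph0 (n := d₀)))
  refine ⟨h, d, hh, hd, le_antisymm ?_ ?_⟩
  · have : d ≤ d₀ := by exact_mod_cast hd ▸ hd₀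
    omega
  let K := FractionRing R
  let D := MvPolynomial (Fin n) R ⧸ P
  let F := FractionRing D
  haveI : IsDomain D := Ideal.Quotient.isDomain P
  haveI : FaithfulSMul R D := (faithfulSMul_iff_algebraMap_injective R D).2
    ((injective_iff_map_eq_zero _).2 fun a ha => by
      have h1 : MvPolynomial.C a ∈ P := Ideal.Quotient.eq_zero_iff_mem.1 ha
      have h2 : a ∈ P.comap MvPolynomial.C := h1
      rwa [hP, Ideal.mem_bot] at h2)
  haveI : FaithfulSMul D F := (faithfulSMul_iff_algebraMap_injective D F).2 (IsFractionRing.injective D F)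
  haveI : FaithfulSMul R F := FaithfulSMul.trans R D F
  letI : Algebra K F := FractionRing.liftAlgebra R F
  haveI : IsScalarTower R K F := inferInstance
  letI := (MvPolynomial.map (σ := Fin n) (algebraMap R K)).toAlgebra
  let M := (nonZeroDivisors R).map (MvPolynomial.C (σ := Fin n))
  haveI : IsLocalization M (MvPolynomial (Fin n) K) := MvPolynomial.isLocalization (nonZeroDivisors R) K
  let χ : MvPolynomial (Fin n) K →ₐ[K] F :=
    MvPolynomial.aeval fun i => algebraMap D F (Ideal.Quotient.mk P (MvPolynomial.X i))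
  have hχ : χ.toRingHom.comp (algebraMap (MvPolynomial (Fin n) R) (MvPolynomial (Fin n) K)) =
      (algebraMap D F).comp (Ideal.Quotient.mk P) := by
    refine MvPolynomial.ringHom_ext (fun a => ?_) (fun i => ?_)
    · show χ (MvPolynomial.map (algebraMap R K) (MvPolynomial.C a)) = algebraMap D F (algebraMap R D a)
      rw [MvPolynomial.map_C, MvPolynomial.aeval_C, ← IsScalarTower.algebraMap_apply R K F,
        IsScalarTower.algebraMap_apply R D F]
    · show χ (MvPolynomial.map (algebraMap R K) (MvPolynomial.X i)) = algebraMap D F (Ideal.Quotient.mk P (MvPolynomial.X i))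
      rw [MvPolynomial.map_X, MvPolynomial.aeval_X]
  let P' := RingHom.ker χ
  haveI : P'.IsPrime := RingHom.ker_isPrime _
  have hP' : P'.under (MvPolynomial (Fin n) R) = P := by
    show (RingHom.ker χ.toRingHom).comap _ = P
    rw [RingHom.comap_ker, hχ, ← RingHom.comap_ker,
      (RingHom.injective_iff_ker_eq_bot _).1 (IsFractionRing.injective D F), ← RingHom.ker_eq_comap_bot, Ideal.mk_ker]
  have h1 := le_height_add_dim K n P'
  rw [← IsLocalization.height_under M P', hP', hh] at h1
  obtain ⟨d', hd', hdim⟩ := DimTrdeg.exists_trdeg_eq_ringKrullDim K (MvPolynomial (Fin n) K ⧸ P')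
  rw [hdim] at h1
  have h2 : Algebra.trdeg K (MvPolynomial (Fin n) K ⧸ P') ≤ Algebra.trdeg K F :=
    trdeg_le_of_injective (Ideal.kerLiftAlg χ) (Ideal.kerLiftAlg_injective χ)
  haveI : Algebra.IsAlgebraic D F := IsLocalization.isAlgebraic F (nonZeroDivisors D)
  haveI : Algebra.IsAlgebraic R K := IsLocalization.isAlgebraic K (nonZeroDivisors R)
  have h3 : Algebra.trdeg K F = (d : Cardinal) := by
    have := trdeg_add_eq R K (A := F)
    rw [trdeg_eq_zero (R := R) (A := K), zero_add, DimTrdeg.trdeg_eq_of_isAlgebraic R D F, hd] at this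
    exact this
  rw [hd', h3] at h2
  have h4 : d' ≤ d := by exact_mod_cast h2
  have h5 : n ≤ h + d' := by exact_mod_cast h1
  omega

/-- Universal catenarity passes along surjections. -/
theorem isUniversallyCatenary_of_surjective' {O A : Type u} [CommRing O] [CommRing A] (φ : O →+* A)
    (hφ : Function.Surjective φ) (h : CAlg.IsUniversallyCatenary O) : CAlg.IsUniversallyCatenary A := by
  haveI := h.1
  refine ⟨isNoetherianRing_of_surjective O A φ hφ, fun T _ _ hT => ?_⟩
  letI := φ.toAlgebra
  letI : Algebra O T := ((algebraMap A T).comp φ).toAlgebra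
  haveI : IsScalarTower O A T := IsScalarTower.of_algebraMap_eq fun _ => rfl
  haveI : Algebra.FiniteType O A := Algebra.FiniteType.of_surjective (Algebra.ofId O A) hφ
  exact h.2 T (Algebra.FiniteType.trans (S := A) inferInstance hT)

/-- A universally catenary local domain is `HeightCat`. -/
theorem heightCat_of_isDomain {A : Type u} [CommRing A] [IsDomain A] [IsLocalRing A]
    (h : CAlg.IsUniversallyCatenary A) : HeightCat A := by
  haveI := h.1
  refine heightCat_of_equidim (h.2 A inferInstance) fun P hP => ?_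
  rw [IsDomain.minimalPrimes_eq_singleton_bot] at hP
  rw [Set.mem_singleton_iff.1 hP]
  exact ringKrullDim_eq_of_ringEquiv (RingEquiv.quotientBot A)

/-- The dimension formula. -/
theorem height_formula {R B : Type u} [CommRing R] [IsDomain R] [IsNoetherianRing R] [CommRing B] [IsDomain B]
    [Algebra R B] [FaithfulSMul R B] [Algebra.FiniteType R B] (q : Ideal B) [q.IsPrime]
    (hA : CAlg.IsUniversallyCatenary (Localization.AtPrime (q.under R))) :
    ∃ hq hp b e : ℕ, q.height = hq ∧ (q.under R).height = hp ∧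
      Algebra.trdeg (R ⧸ q.under R) (B ⧸ q) = b ∧ Algebra.trdeg R B = e ∧ hq + b = hp + e := by
  classical
  obtain ⟨n, ψ, hψ⟩ := Algebra.FiniteType.iff_quotient_mvPolynomial''.1 (inferInstance : Algebra.FiniteType R B)
  haveI : IsNoetherianRing B := Algebra.FiniteType.isNoetherianRing R B
  let p := q.under R
  let A := Localization.AtPrime p
  haveI : IsDomain A := IsLocalization.isDomain_localization (Ideal.primeCompl_le_nonZeroDivisors p)
  haveI := hA.1
  letI := (MvPolynomial.map (σ := Fin n) (algebraMap R A)).toAlgebra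
  let M := p.primeCompl.map (MvPolynomial.C (σ := Fin n))
  haveI : IsLocalization M (MvPolynomial (Fin n) A) := MvPolynomial.isLocalization p.primeCompl A
  have hL : HeightCat (MvPolynomial (Fin n) A) := (heightCat_of_isDomain hA).mvPolynomial hA n
  let P₀ := RingHom.ker ψ
  haveI : P₀.IsPrime := RingHom.ker_isPrime _
  let Q := q.comap ψ.toRingHom
  have hle : P₀ ≤ Q := fun z hz => by
    show ψ z ∈ q
    rw [RingHom.mem_ker.1 hz]; exact zero_mem _
  have hlies : p = Q.comap (algebraMap R (MvPolynomial (Fin n) R)) := by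
    rw [Ideal.comap_comap]
    exact congrArg (fun f => q.comap f) (AlgHom.comp_algebraMap ψ).symm
  have hd : Disjoint (M : Set (MvPolynomial (Fin n) R)) Q := by
    refine Set.disjoint_left.2 ?_
    rintro _ ⟨a, ha, rfl⟩ haQ
    exact ha (hlies.ge haQ)
  haveI : (Q.map (Ideal.Quotient.mk P₀)).IsPrime :=
    Ideal.map_isPrime_of_surjective Ideal.Quotient.mk_surjective (by rw [Ideal.mk_ker]; exact hle)
  have h1 := height_eq_add M hL P₀ Q hle hd
  let eB : (MvPolynomial (Fin n) R ⧸ P₀) ≃+* B := RingHom.quotientKerEquivOfSurjective (f := ψ.toRingHom) hψ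
  have h2 : (Q.map (Ideal.Quotient.mk P₀)).height = q.height := by
    have : (Q.map (Ideal.Quotient.mk P₀)).map eB.toRingHom = q := by
      rw [Ideal.map_map, show eB.toRingHom.comp (Ideal.Quotient.mk P₀) = ψ.toRingHom from RingHom.ext fun z => rfl,
        Ideal.map_comap_of_surjective ψ.toRingHom hψ]
    calc (Q.map (Ideal.Quotient.mk P₀)).height = ((Q.map (Ideal.Quotient.mk P₀)).map eB.toRingHom).height :=
          (eB.height_map _).symm
      _ = q.height := by rw [this]
  haveI : Q.LiesOver p := ⟨hlies⟩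
  have h3 := Ideal.height_eq_height_add_of_liesOver_of_hasGoingDown p (P := Q)
  let μ : MvPolynomial (Fin n) R →+* MvPolynomial (Fin n) (R ⧸ p) := MvPolynomial.map (Ideal.Quotient.mk p)
  have hμ : Function.Surjective μ := MvPolynomial.map_surjective _ Ideal.Quotient.mk_surjective
  have hker : RingHom.ker μ = p.map (algebraMap R (MvPolynomial (Fin n) R)) := by
    rw [MvPolynomial.ker_map, Ideal.mk_ker, MvPolynomial.algebraMap_eq]
  let e : MvPolynomial (Fin n) R ⧸ p.map (algebraMap R (MvPolynomial (Fin n) R)) ≃+* MvPolynomial (Fin n) (R ⧸ p) :=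
    (Ideal.quotEquivOfEq hker.symm).trans (RingHom.quotientKerEquivOfSurjective hμ)
  let Q' := RingHom.ker (quotMap ψ q).toRingHom
  haveI : Q'.IsPrime := RingHom.ker_isPrime _
  have hQ : Q = Q'.comap μ := by
    rw [RingHom.comap_ker, quotMap_comp, ← RingHom.comap_ker, Ideal.mk_ker]
  have hmapQ : (Q.map (Ideal.Quotient.mk (p.map (algebraMap R (MvPolynomial (Fin n) R))))).map e.toRingHom = Q' := by
    rw [Ideal.map_map, show e.toRingHom.comp (Ideal.Quotient.mk _) = μ from RingHom.ext fun z => rfl, hQ,
      Ideal.map_comap_of_surjective _ hμ]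
  have h4 : (Q.map (Ideal.Quotient.mk (p.map (algebraMap R (MvPolynomial (Fin n) R))))).height = Q'.height := by
    rw [← hmapQ]
    exact (e.height_map _).symm
  have hsurj : Function.Surjective (quotMap ψ q) := fun z => by
    obtain ⟨z, rfl⟩ := Ideal.Quotient.mk_surjective z
    obtain ⟨w, rfl⟩ := hψ z
    exact ⟨μ w, RingHom.congr_fun (quotMap_comp ψ q) w⟩
  haveI : FaithfulSMul (R ⧸ p) (B ⧸ q) :=
    (faithfulSMul_iff_algebraMap_injective _ _).2 (Ideal.quotientMap_injective' le_rfl)
  have hQ0 : Q'.comap MvPolynomial.C = ⊥ := by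
    refine eq_bot_iff.2 fun a ha => FaithfulSMul.algebraMap_injective (R ⧸ p) (B ⧸ q) ?_
    have : quotMap ψ q (MvPolynomial.C a) = 0 := ha
    rw [map_zero, ← (quotMap ψ q).commutes, MvPolynomial.algebraMap_eq, this]
  obtain ⟨hQh, b, hQ'h, hb, hb'⟩ := height_add_trdeg_eq Q' hQ0
  have hP0 : P₀.comap MvPolynomial.C = ⊥ := by
    refine eq_bot_iff.2 fun a ha => FaithfulSMul.algebraMap_injective R B ?_
    have : ψ (MvPolynomial.C a) = 0 := ha
    rw [map_zero, ← ψ.commutes, MvPolynomial.algebraMap_eq, this]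
  obtain ⟨hP, e', hPh, he, he'⟩ := height_add_trdeg_eq P₀ hP0
  obtain ⟨hq, hhq⟩ : ∃ m : ℕ, q.height = m := ⟨_, (ENat.natCast_toNat Ideal.height_ne_top_of_isPrime).symm⟩
  obtain ⟨hp, hhp⟩ : ∃ m : ℕ, p.height = m := ⟨_, (ENat.natCast_toNat Ideal.height_ne_top_of_isPrime).symm⟩
  refine ⟨hq, hp, b, e', hhq, hhp, ?_, ?_, ?_⟩
  · have hb1 : Algebra.trdeg (R ⧸ p) (MvPolynomial (Fin n) (R ⧸ p) ⧸ Q') = Algebra.trdeg (R ⧸ p) (B ⧸ q) :=
      trdeg_eq_of_ringEquiv (RingEquiv.refl _) (RingHom.quotientKerEquivOfSurjective (f := (quotMap ψ q).toRingHom) hsurj)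
        fun r => ((quotMap ψ q).commutes r).symm
    rw [← hb1, hb]
  · have he1 : Algebra.trdeg R (MvPolynomial (Fin n) R ⧸ P₀) = Algebra.trdeg R B :=
      trdeg_eq_of_ringEquiv (RingEquiv.refl _) eB fun r => (ψ.commutes r).symm
    rw [← he1, he]
  · rw [h1, h2, hPh, hhq, h4, hQ'h, hhp] at h3
    have : hP + hq = hp + hQh := by exact_mod_cast h3
    omega

end Groth.Agent.GeomUnib
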