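import Groth.Agent.GeomUnib.Scheme

/-!
# Locally irreducible neighbourhoods of unibranch points of locally Noetherian schemes
-/

set_option autoImplicit false

universe u

open CategoryTheory CategoryTheory.Limits AlgebraicGeometry

namespace Groth.Agent.GeomUnib

variable {Y : Scheme.{u}} [IsLocallyNoetherian Y]

/-- Near a point whose local ring has irreducible spectrum, the component through the point is a neighbourhood. -/
theorem exists_opens_subset_closure (y η : Y) (hsp : η ⤳ y)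
    (hgen : ∀ η' : Y, η' ⤳ η → η ⤳ η') (hy : IsDomain (CAlg2.red (Y.presheaf.stalk y))) :
    ∃ U₀ : Y.Opens, y ∈ U₀ ∧ (U₀ : Set Y) ⊆ closure {η} := by
  obtain ⟨_, ⟨U, hU, rfl⟩, hyU, -⟩ :=
    Y.isBasis_affineOpens.exists_subset_of_mem_open (Set.mem_univ y) isOpen_univ
  haveI : IsNoetherianRing Γ(Y, U) := IsLocallyNoetherian.component_noetherian ⟨U, hU⟩
  have hηU : η ∈ U := hsp.mem_open U.2 hyU
  let p := hU.primeIdealOf ⟨y, hyU⟩
  let p₀ := hU.primeIdealOf ⟨η, hηU⟩
  have hp : hU.fromSpec p = y := hU.fromSpec_primeIdealOf _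
  have hp₀ : hU.fromSpec p₀ = η := hU.fromSpec_primeIdealOf _
  have key : ∀ a b : PrimeSpectrum Γ(Y, U), a.asIdeal ≤ b.asIdeal ↔ hU.fromSpec a ⤳ hU.fromSpec b :=
    fun a b => ((PrimeSpectrum.le_iff_specializes a b).trans
      hU.fromSpec.isOpenEmbedding.toIsInducing.specializes_iff.symm)
  have hle : p₀.asIdeal ≤ p.asIdeal := (key _ _).2 (by rw [hp, hp₀]; exact hsp)
  have hmin : ∀ a : PrimeSpectrum Γ(Y, U), a.asIdeal ≤ p₀.asIdeal → a = p₀ := fun a ha => by
    refine PrimeSpectrum.ext (le_antisymm ha ((key _ _).2 ?_))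
    rw [hp₀]
    exact hgen _ (hp₀ ▸ (key _ _).1 ha)
  -- the minimal primes below `p` coincide
  have huniq : ∀ a : PrimeSpectrum Γ(Y, U), a.asIdeal ∈ minimalPrimes Γ(Y, U) → a.asIdeal ≤ p.asIdeal → a = p₀ := by
    intro a ha hap
    letI : Algebra Γ(Y, U) (Y.presheaf.stalk y) := (Y.presheaf.germ U y hyU).hom.toAlgebra
    haveI : IsLocalization.AtPrime (Y.presheaf.stalk y) p.asIdeal := hU.isLocalization_stalk ⟨y, hyU⟩
    haveI := hy
    have hN : (nilradical (Y.presheaf.stalk y)).IsPrime := (Ideal.Quotient.isDomain_iff_prime _).1 hy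
    let N₀ : PrimeSpectrum Γ(Y, U) :=
      ⟨(nilradical (Y.presheaf.stalk y)).comap (algebraMap Γ(Y, U) (Y.presheaf.stalk y)), inferInstance⟩
    have below : ∀ b : PrimeSpectrum Γ(Y, U), b.asIdeal ≤ p.asIdeal → N₀.asIdeal ≤ b.asIdeal := by
      intro b hb
      have hd : Disjoint (p.asIdeal.primeCompl : Set Γ(Y, U)) b.asIdeal :=
        Set.disjoint_left.2 fun z hz hz' => hz (hb hz')
      haveI := IsLocalization.isPrime_of_isPrime_disjoint p.asIdeal.primeCompl (Y.presheaf.stalk y) _ b.2 hd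
      change Ideal.comap _ _ ≤ b.asIdeal
      refine (Ideal.comap_mono (nilradical_le_prime
        (b.asIdeal.map (algebraMap Γ(Y, U) (Y.presheaf.stalk y))))).trans_eq ?_
      exact IsLocalization.comap_map_of_isPrime_disjoint p.asIdeal.primeCompl (Y.presheaf.stalk y) b.2 hd
    have e₁ : N₀ = p₀ := hmin N₀ (below p₀ hle)
    refine hmin a ?_
    refine ha.2 ⟨p₀.2, bot_le⟩ ?_
    exact (e₁ ▸ below a hap : p₀.asIdeal ≤ a.asIdeal)
  obtain ⟨s, hs, hs'⟩ : ∃ s, s ∉ p.asIdeal ∧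
      ∀ a ∈ minimalPrimes Γ(Y, U), ¬ a ≤ p.asIdeal → s ∈ a := by
    classical
    let T := (minimalPrimes.finite_of_isNoetherianRing Γ(Y, U)).toFinset.filter fun a => ¬ a ≤ p.asIdeal
    have : ∀ a : T, ∃ z ∈ (a : Ideal Γ(Y, U)), z ∉ p.asIdeal := fun a => by
      have := (Finset.mem_filter.1 a.2).2
      exact Set.not_subset.1 this
    choose z hz hz' using this
    refine ⟨∏ a, z a, fun h => ?_, fun a ha hap => ?_⟩
    · obtain ⟨a, -, ha⟩ := p.2.prod_mem_iff.1 h
      exact hz' a ha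
    · have hmem : a ∈ T := Finset.mem_filter.2 ⟨(Set.Finite.mem_toFinset _).2 ha, hap⟩
      exact Ideal.mem_of_dvd a (Finset.dvd_prod_of_mem z (Finset.mem_univ ⟨a, hmem⟩)) (hz ⟨a, hmem⟩)
  refine ⟨hU.fromSpec ''ᵁ PrimeSpectrum.basicOpen s, ⟨p, hs, hp⟩, ?_⟩
  rintro _ ⟨b, hb, rfl⟩
  rw [← specializes_iff_mem_closure]
  refine (hp₀.symm ▸ (key p₀ b).1 ?_ : η ⤳ hU.fromSpec b)
  obtain ⟨a, ha, hab⟩ := Ideal.exists_minimalPrimes_le (bot_le : (⊥ : Ideal Γ(Y, U)) ≤ b.asIdeal)
  haveI := ha.1.1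
  have hap : a ≤ p.asIdeal := by_contra fun h => hb (hab (hs' a ha h))
  rw [← huniq ⟨a, ha.1.1⟩ ha hap]
  exact hab

/-- The generic point of an irreducible component is maximal for generalisation. -/
theorem maximal_of_component {Y : Scheme.{u}} (η : Y) (W : Set Y) (hW : W ∈ irreducibleComponents Y)
    (hη : IsGenericPoint η W) (η' : Y) (h : η' ⤳ η) : η ⤳ η' := by
  refine hη.specializes ?_
  have hsub : W ⊆ closure {η'} := hη.symm.le.trans
    (closure_minimal (Set.singleton_subset_iff.2 h.mem_closure) isClosed_closure)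
  exact hW.2 isIrreducible_singleton.closure hsub (subset_closure rfl)

end Groth.Agent.GeomUnib
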