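import Groth.Agent.GeomUnib.Scheme
import Groth.Agent.GeomUnib.Irred
import Groth.Agent.FibreDim.Chart

/-!
# Universal openness where the fibre dimension equals that of a generic fibre
-/

set_option autoImplicit false

universe u

open CategoryTheory CategoryTheory.Limits AlgebraicGeometry

namespace Groth.Agent.GeomUnib

variable {X Y : Scheme.{u}} (f : X ⟶ Y) [LocallyOfFiniteType f]

/-- An affine model mapping quasi-finitely and dominantly to affine space. -/
theorem exists_model_affine (x : X) (x₀ : X) (hx₀ : x₀ ⤳ x) (U₀ : Y.Opens)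
    (hyU : f x ∈ U₀) (hU₀ : (U₀ : Set Y) ⊆ closure {f x₀})
    (hdim : FibreDim.fdim f x₀ = FlatMor.fibreDimAt f x) :
    ∃ (A B : Type u) (_ : CommRing A) (_ : IsDomain A) (_ : CommRing B) (_ : IsDomain B) (_ : Algebra A B)
      (_ : FaithfulSMul A B) (_ : Algebra.FiniteType A B) (q : PrimeSpectrum B)
      (n : ℕ) (φ : MvPolynomial (Fin n) A →ₐ[A] B)
      (ψ : Y.presheaf.stalk (f x) →+* Localization.AtPrime (q.asIdeal.comap (algebraMap A B)))
      (j : Spec (CommRingCat.of B) ⟶ X) (i : Spec (CommRingCat.of A) ⟶ Y),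
      Function.Injective φ ∧ FibreDim.IsQFAt φ q.asIdeal ∧
      Function.Surjective ψ ∧ RingHom.ker ψ ≤ nilradical _ ∧ UniversallyOpen i ∧ IsImmersion j ∧ IsImmersion i ∧
      j ≫ f = Spec.map (CommRingCat.ofHom (algebraMap A B)) ≫ i ∧ j (q : Spec (CommRingCat.of B)) = x := by
  obtain ⟨U, hU, V, hV, hVU, hxV, hUU₀, n, φ, hn', hqf⟩ := FibreDim.exists_chart f x U₀ hyU
  have hn : FibreDim.fdim f x₀ = n := hdim.trans hn'
  have hxU : f x ∈ U := hVU hxV
  have hx₀V : x₀ ∈ V := hx₀.mem_open V.2 hxV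
  let g := f.appLE U V hVU
  have hft : g.hom.FiniteType := f.finiteType_appLE hU hV hVU
  letI := g.hom.toAlgebra
  haveI : Algebra.FiniteType Γ(Y, U) Γ(X, V) := RingHom.finiteType_algebraMap.1 hft
  let q := hV.primeIdealOf ⟨x, hxV⟩
  let q₀ := hV.primeIdealOf ⟨x₀, hx₀V⟩
  have hsq : Spec.map g ≫ hU.fromSpec = hV.fromSpec ≫ f :=
    IsAffineOpen.SpecMap_appLE_fromSpec f hU hV hVU
  have hq : hV.fromSpec q = x := hV.fromSpec_primeIdealOf _
  have hq₀ : hV.fromSpec q₀ = x₀ := hV.fromSpec_primeIdealOf _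
  let p₀ : Spec Γ(Y, U) := Spec.map g q₀
  let p : Spec Γ(Y, U) := Spec.map g q
  have hp₀ : hU.fromSpec p₀ = f x₀ := by
    rw [← Scheme.Hom.comp_apply, hsq, Scheme.Hom.comp_apply, hq₀]
  have hp : hU.fromSpec p = f x := by
    rw [← Scheme.Hom.comp_apply, hsq, Scheme.Hom.comp_apply, hq]
  have hmin : ∀ z : PrimeSpectrum Γ(Y, U), p₀.asIdeal ≤ z.asIdeal := fun z => by
    have hz : hU.fromSpec z ∈ closure ({f x₀} : Set Y) :=
      hU₀ (hUU₀ (hU.range_fromSpec.le ⟨z, rfl⟩))
    rw [← specializes_iff_mem_closure, ← hp₀,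
      hU.fromSpec.isOpenEmbedding.toIsInducing.specializes_iff] at hz
    exact (PrimeSpectrum.le_iff_specializes p₀ z).2 hz
  have hle : q₀.asIdeal ≤ q.asIdeal := by
    refine (PrimeSpectrum.le_iff_specializes q₀ q).2 ?_
    refine hV.fromSpec.isOpenEmbedding.toIsInducing.specializes_iff.1 ?_
    rw [hq, hq₀]; exact hx₀
  let A := Γ(Y, U) ⧸ q₀.asIdeal.under Γ(Y, U)
  let B := Γ(X, V) ⧸ q₀.asIdeal
  haveI : IsScalarTower Γ(Y, U) A B := IsScalarTower.of_algebraMap_eq fun a => rfl
  haveI : FaithfulSMul A B := (faithfulSMul_iff_algebraMap_injective A B).2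
    (Ideal.quotientMap_injective' le_rfl)
  haveI : Algebra.FiniteType Γ(Y, U) B :=
    Algebra.FiniteType.of_surjective (Ideal.Quotient.mkₐ Γ(Y, U) q₀.asIdeal) Ideal.Quotient.mk_surjective
  haveI : Algebra.FiniteType A B := Algebra.FiniteType.of_restrictScalars_finiteType Γ(Y, U) A B
  have hqq : Ideal.comap (Ideal.Quotient.mk q₀.asIdeal) (q.asIdeal.map (Ideal.Quotient.mk q₀.asIdeal)) =
      q.asIdeal := by
    rw [Ideal.comap_map_of_surjective _ Ideal.Quotient.mk_surjective, ← RingHom.ker_eq_comap_bot,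
      Ideal.mk_ker, sup_eq_left.2 hle]
  haveI : (q.asIdeal.map (Ideal.Quotient.mk q₀.asIdeal)).IsPrime :=
    Ideal.map_isPrime_of_surjective Ideal.Quotient.mk_surjective (by rwa [Ideal.mk_ker])
  let qB : PrimeSpectrum B := ⟨q.asIdeal.map (Ideal.Quotient.mk q₀.asIdeal), inferInstance⟩
  let pA := qB.asIdeal.comap (algebraMap A B)
  have hpA : pA.comap (Ideal.Quotient.mk (q₀.asIdeal.under Γ(Y, U))) = p.asIdeal := by
    change (qB.asIdeal.comap _).comap _ = q.asIdeal.comap g.hom
    rw [← hqq, Ideal.comap_comap, Ideal.comap_comap]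
    rfl
  -- the comparison of local rings
  have hp' : p = hU.primeIdealOf ⟨f x, hxU⟩ := hU.fromSpec.isOpenEmbedding.injective
    (hp.trans (hU.fromSpec_primeIdealOf ⟨f x, hxU⟩).symm)
  letI : Algebra Γ(Y, U) (Y.presheaf.stalk (f x)) := (Y.presheaf.germ U (f x) hxU).hom.toAlgebra
  haveI : IsLocalization.AtPrime (Y.presheaf.stalk (f x)) p.asIdeal := by
    rw [hp']; exact hU.isLocalization_stalk ⟨f x, hxU⟩
  let toA : Γ(Y, U) →+* Localization.AtPrime pA :=
    (algebraMap A (Localization.AtPrime pA)).comp (Ideal.Quotient.mk (q₀.asIdeal.under Γ(Y, U)))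
  have hu : ∀ s : p.asIdeal.primeCompl, IsUnit (toA s) := fun s =>
    IsLocalization.map_units (M := pA.primeCompl) _
      ⟨_, fun h => s.2 (hpA.le h)⟩
  let ψ : Y.presheaf.stalk (f x) →+* Localization.AtPrime pA := IsLocalization.lift hu
  have hφs : Function.Surjective ψ := by
    intro z
    obtain ⟨a, ⟨s, hs⟩, rfl⟩ := IsLocalization.exists_mk'_eq pA.primeCompl z
    obtain ⟨a, rfl⟩ := Ideal.Quotient.mk_surjective a
    obtain ⟨s, rfl⟩ := Ideal.Quotient.mk_surjective s
    refine ⟨IsLocalization.mk' _ a (⟨s, fun h => hs (hpA.ge h)⟩ : p.asIdeal.primeCompl), ?_⟩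
    rw [IsLocalization.lift_mk'_spec]
    exact (IsLocalization.mk'_spec'_mk (Localization.AtPrime pA) (Ideal.Quotient.mk (q₀.asIdeal.under Γ(Y, U)) a)
      (Ideal.Quotient.mk (q₀.asIdeal.under Γ(Y, U)) s) hs).symm
  have hφk : RingHom.ker ψ ≤ nilradical _ := by
    intro z hz
    obtain ⟨a, s, rfl⟩ := IsLocalization.exists_mk'_eq p.asIdeal.primeCompl z
    rw [RingHom.mem_ker, IsLocalization.lift_mk'_spec, mul_zero] at hz
    have hinj : Function.Injective (algebraMap A (Localization.AtPrime pA)) :=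
      IsLocalization.injective _ pA.primeCompl_le_nonZeroDivisors
    have ha : Ideal.Quotient.mk (q₀.asIdeal.under Γ(Y, U)) a = 0 := hinj (hz.trans (map_zero _).symm)
    have han : IsNilpotent a := nilpotent_iff_mem_prime.2 fun J hJ =>
      hmin ⟨J, hJ⟩ (Ideal.Quotient.eq_zero_iff_mem.1 ha)
    rw [mem_nilradical, IsLocalization.mk'_eq_mul_mk'_one]
    exact Commute.isNilpotent_mul_right (Commute.all _ _) (han.map _)
  -- the comparison of schemes
  let cA : Spec (CommRingCat.of A) ⟶ Spec Γ(Y, U) :=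
    Spec.map (CommRingCat.ofHom (Ideal.Quotient.mk (q₀.asIdeal.under Γ(Y, U))))
  haveI : IsClosedImmersion cA := IsClosedImmersion.spec_of_surjective _ Ideal.Quotient.mk_surjective
  haveI : Surjective cA := ⟨fun z => by
    have : z ∈ Set.range (PrimeSpectrum.comap (Ideal.Quotient.mk (q₀.asIdeal.under Γ(Y, U)))) := by
      rw [range_comap_of_surjective _ _ Ideal.Quotient.mk_surjective, Ideal.mk_ker]
      exact hmin z
    exact this⟩
  haveI := universallyOpen_of_isClosedImmersion cA
  have hq₀' : hV.primeIdealOf ⟨x₀, hx₀V⟩ = q₀ := rfl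
  have hqf₀ := FibreDim.isQFAt_of_le φ q₀.asIdeal q.asIdeal hle hqf
  haveI : IsClosedImmersion (Spec.map (CommRingCat.ofHom (Ideal.Quotient.mk q₀.asIdeal))) :=
    IsClosedImmersion.spec_of_surjective _ Ideal.Quotient.mk_surjective
  refine ⟨A, B, inferInstance, inferInstance, inferInstance, inferInstance, inferInstance, inferInstance,
    inferInstance, qB, n, FibreDim.quotMap φ q₀.asIdeal, ψ,
    Spec.map (CommRingCat.ofHom (Ideal.Quotient.mk q₀.asIdeal)) ≫ hV.fromSpec, cA ≫ hU.fromSpec,
    ((FibreDim.fdim_chart f hU hV hVU x₀ hx₀V φ hqf₀).2.1 hn),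
    FibreDim.isQFAt_quotMap φ q₀.asIdeal q.asIdeal hle hqf, hφs, hφk, inferInstance, inferInstance, inferInstance, ?_, ?_⟩
  · rw [Category.assoc, ← hsq, ← Category.assoc, ← Category.assoc, ← Spec.map_comp, ← Spec.map_comp]
    rfl
  · rw [Scheme.Hom.comp_apply]
    exact (congrArg hV.fromSpec (PrimeSpectrum.ext hqq)).trans hq


section affineSpace

variable {A A' : Type u} [CommRing A] [CommRing A'] [Algebra A A'] {n : ℕ}

theorem radicialAt_mvPolynomial {p : Ideal A} (h : RadicialAt A' p)
    (P : Ideal (MvPolynomial (Fin n) A)) (hP : P.comap MvPolynomial.C = p) :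
    letI := (MvPolynomial.map (σ := Fin n) (algebraMap A A')).toAlgebra
    RadicialAt (MvPolynomial (Fin n) A') P := by
  letI := (MvPolynomial.map (σ := Fin n) (algebraMap A A')).toAlgebra
  intro L _ χ₁ χ₂ hχ hk
  refine MvPolynomial.ringHom_ext' (h L _ _ ?_ ?_) fun i => ?_
  · ext a
    simpa [RingHom.algebraMap_toAlgebra] using RingHom.congr_fun hχ (MvPolynomial.C a)
  · rw [← hP, ← hk, RingHom.comap_ker]
    congr 1
    ext a
    simp [RingHom.algebraMap_toAlgebra]
  · simpa [RingHom.algebraMap_toAlgebra] using RingHom.congr_fun hχ (MvPolynomial.X i)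

/-- A quasi-finite dominant map to affine space is universally open over geometrically unibranch points. -/
theorem isUnivOpenAt_toAffineSpace [IsDomain A] [IsDomain A'] [IsIntegrallyClosed A'] [FaithfulSMul A A']
    [Algebra.IsIntegral A A'] {B : Type u} [CommRing B] [IsDomain B] [Algebra A B] [Algebra.FiniteType A B]
    (φ : MvPolynomial (Fin n) A →ₐ[A] B) (hφ : Function.Injective φ) (q : PrimeSpectrum B)
    (hqf : FibreDim.IsQFAt φ q.asIdeal) (hr : RadicialAt A' (q.asIdeal.comap (algebraMap A B))) :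
    EGA43.IsUnivOpenAt (Spec.map (CommRingCat.ofHom φ.toRingHom)) (q : Spec (CommRingCat.of B)) := by
  letI : Algebra (MvPolynomial (Fin n) A) B := φ.toRingHom.toAlgebra
  haveI : IsScalarTower A (MvPolynomial (Fin n) A) B :=
    IsScalarTower.of_algebraMap_eq fun a => (φ.commutes a).symm
  haveI : Algebra.FiniteType (MvPolynomial (Fin n) A) B := Algebra.FiniteType.of_restrictScalars_finiteType A _ _
  haveI : FaithfulSMul (MvPolynomial (Fin n) A) B := (faithfulSMul_iff_algebraMap_injective _ B).2 hφ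
  haveI : Algebra.QuasiFiniteAt (MvPolynomial (Fin n) A) q.asIdeal := hqf
  letI := (MvPolynomial.map (σ := Fin n) (algebraMap A A')).toAlgebra
  haveI : IsScalarTower A (MvPolynomial (Fin n) A) (MvPolynomial (Fin n) A') :=
    IsScalarTower.of_algebraMap_eq fun a => by simp [RingHom.algebraMap_toAlgebra, MvPolynomial.algebraMap_eq]
  haveI : IsIntegrallyClosed (MvPolynomial (Fin n) A') := AICPoint.isIntegrallyClosed_mvPolynomial A' n
  haveI : FaithfulSMul (MvPolynomial (Fin n) A) (MvPolynomial (Fin n) A') :=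
    (faithfulSMul_iff_algebraMap_injective _ _).2
      (MvPolynomial.map_injective _ (FaithfulSMul.algebraMap_injective A A'))
  haveI : Algebra.IsIntegral (MvPolynomial (Fin n) A) (MvPolynomial (Fin n) A') := ⟨fun p => by
    induction p using MvPolynomial.induction_on with
    | C a =>
      have := (Algebra.IsIntegral.isIntegral (R := A) a).map (Algebra.ofId A' (MvPolynomial (Fin n) A') |>.restrictScalars A)
      exact this.tower_top
    | add p q hp hq => exact hp.add hq
    | mul_X p i hp =>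
      refine hp.mul ?_
      rw [← MvPolynomial.map_X (algebraMap A A')]
      exact isIntegral_algebraMap⟩
  exact isUnivOpenAt_of_quasiFiniteAt (MvPolynomial (Fin n) A') q (radicialAt_mvPolynomial hr _ (by
      rw [IsScalarTower.algebraMap_eq A (MvPolynomial (Fin n) A) B, ← Ideal.comap_comap]
      rfl))

/-- A quasi-finite dominant map to affine space over a geometrically unibranch point gives universal openness. -/
theorem isUnivOpenAt_of_affineSpace [IsDomain A] [IsDomain A'] [IsIntegrallyClosed A'] [FaithfulSMul A A']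
    [Algebra.IsIntegral A A'] {B : Type u} [CommRing B] [IsDomain B] [Algebra A B] [Algebra.FiniteType A B]
    (φ : MvPolynomial (Fin n) A →ₐ[A] B) (hφ : Function.Injective φ) (q : PrimeSpectrum B)
    (hqf : FibreDim.IsQFAt φ q.asIdeal) (hr : RadicialAt A' (q.asIdeal.comap (algebraMap A B))) :
    EGA43.IsUnivOpenAt (Spec.map (CommRingCat.ofHom (algebraMap A B))) (q : Spec (CommRingCat.of B)) := by
  letI : Algebra (MvPolynomial (Fin n) A) B := φ.toRingHom.toAlgebra
  haveI : IsScalarTower A (MvPolynomial (Fin n) A) B :=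
    IsScalarTower.of_algebraMap_eq fun a => (φ.commutes a).symm
  have h1 := isUnivOpenAt_toAffineSpace φ hφ q hqf hr
  haveI : Flat (Spec.map (CommRingCat.ofHom (algebraMap A (MvPolynomial (Fin n) A)))) :=
    (HasRingHomProperty.Spec_iff (P := @Flat)).2 (RingHom.flat_algebraMap_iff.2 inferInstance)
  haveI : LocallyOfFinitePresentation (Spec.map (CommRingCat.ofHom (algebraMap A (MvPolynomial (Fin n) A)))) :=
    (HasRingHomProperty.Spec_iff (P := @LocallyOfFinitePresentation)).2
      (RingHom.finitePresentation_algebraMap.2 inferInstance)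
  rw [IsScalarTower.algebraMap_eq A (MvPolynomial (Fin n) A) B, CommRingCat.ofHom_comp, Spec.map_comp]
  exact OpenAt.isUnivOpenAt_comp h1 (isUnivOpenAt_of_universallyOpen _ _)

end affineSpace

/-- Over a geometrically unibranch point `f x`, if a generisation of `x` lies over the generic point
of the component and has fibre dimension equal to that at `x`, then `f` is universally open at `x`. -/
theorem isUnivOpenAt_of_fdim (x x₀ : X) (hx₀ : x₀ ⤳ x) (U₀ : Y.Opens)
    (hyU : f x ∈ U₀) (hU₀ : (U₀ : Set Y) ⊆ closure {f x₀})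
    (hdim : FibreDim.fdim f x₀ = FlatMor.fibreDimAt f x)
    (hy : CAlg2.IsGeomUnibranch (Y.presheaf.stalk (f x))) : EGA43.IsUnivOpenAt f x := by
  obtain ⟨A, B, _, _, _, _, _, _, _, q, n, φ, ψ, j, i, hφ, hqf, hψ, hker, _, -, -, hsq, rfl⟩ :=
    exists_model_affine f x x₀ hx₀ U₀ hyU hU₀ hdim
  obtain ⟨_, _⟩ := exists_normalisation A
  refine OpenAt.isUnivOpenAt_of_comp (f := j) (x := (q : Spec (CommRingCat.of B))) ?_
  rw [hsq]
  exact OpenAt.isUnivOpenAt_comp
    (isUnivOpenAt_of_affineSpace (A' := integralClosure A (FractionRing A)) φ hφ q hqf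
      (radicialAt_of_localization (K := FractionRing A) _ hy ψ hψ hker))
    (isUnivOpenAt_of_universallyOpen _ _)

end Groth.Agent.GeomUnib
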