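import Groth.Agent.GeomUnib.Necessity
import Groth.Agent.GeomUnib.Affine

/-!
# Generisations in neighbouring fibres with large dimension
-/

set_option autoImplicit false

universe u

open CategoryTheory AlgebraicGeometry TopologicalSpace Topology

namespace Groth.Agent.GeomUnib

open FibreDim

variable {X Y : Scheme.{u}} (f : X ⟶ Y) [LocallyOfFiniteType f]

/-- Openness at a maximal point of a fibre gives, over each generisation of the image, a
generisation whose fibre dimension is at least that at the point. -/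
theorem exists_gen_of_isOpenAt [IsLocallyNoetherian Y] (x : X)
    (hmax : ∀ x' : X, f.base x' = f.base x → x ∈ closure {x'} → x' = x)
    (hopen : EGA43.IsOpenAt f.base x) (y' : Y) (hy' : y' ⤳ f.base x) :
    ∃ w, w ⤳ x ∧ f.base w = y' ∧ fdim f x ≤ fdim f w := by
  obtain ⟨U, hU, V, hV, hVU, hxV, -, n, φ, hn', hqf⟩ := exists_chart f x ⊤ trivial
  have hn : fdim f x = n := (fibreDimAt_of_maximal f x hmax).symm.trans hn'
  letI := (f.appLE U V hVU).hom.toAlgebra
  haveI : Algebra.FiniteType Γ(Y, U) Γ(X, V) :=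
    RingHom.finiteType_algebraMap.1 (f.finiteType_appLE hU hV hVU)
  haveI : IsNoetherianRing Γ(Y, U) := IsLocallyNoetherian.component_noetherian ⟨U, hU⟩
  let q := hV.primeIdealOf ⟨x, hxV⟩
  have hxU : f.base x ∈ U := hVU hxV
  have hy'U : y' ∈ U := hy'.mem_open U.2 hxU
  let p' := hU.primeIdealOf ⟨y', hy'U⟩
  have key : ∀ t : PrimeSpectrum Γ(X, V),
      hU.fromSpec (PrimeSpectrum.comap (algebraMap Γ(Y, U) Γ(X, V)) t) = f.base (hV.fromSpec t) := fun t => by
    rw [← Scheme.Hom.comp_apply, ← IsAffineOpen.SpecMap_appLE_fromSpec f hU hV hVU, Scheme.Hom.comp_apply]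
    rfl
  have hq : hV.fromSpec q = x := hV.fromSpec_primeIdealOf _
  have hp' : p'.asIdeal ≤ q.asIdeal.under Γ(Y, U) := by
    refine (PrimeSpectrum.le_iff_specializes p' (PrimeSpectrum.comap (algebraMap Γ(Y, U) Γ(X, V)) q)).2 ?_
    refine hU.fromSpec.isOpenEmbedding.toIsInducing.specializes_iff.1 ?_
    rw [key, hq, hU.fromSpec_primeIdealOf]
    exact hy'
  have hqinj := ((fdim_chart f hU hV hVU x hxV φ hqf).2.1 hn)
  obtain ⟨Q, hQ, hQq, hQp, hQφ⟩ := exists_le_comap_eq_generic φ q.asIdeal hqf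
    ((injective_quotMap_iff φ _).1 hqinj) p'.asIdeal hp' fun p hp _ hpq => by
    -- a prime below `q` over `p`, disjoint from the product monoid
    let S : Submonoid Γ(X, V) :=
      q.asIdeal.primeCompl ⊔ (Ideal.primeCompl p).map (algebraMap Γ(Y, U) Γ(X, V))
    have hdisj : Disjoint ((p.map (algebraMap Γ(Y, U) Γ(X, V)) : Ideal Γ(X, V)) : Set Γ(X, V)) S := by
      refine Set.disjoint_left.2 fun z hz hzS => ?_
      obtain ⟨h, hh, _, ⟨a, ha, rfl⟩, rfl⟩ := Submonoid.mem_sup.1 hzS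
      have hmem : hU.fromSpec ⟨p, hp⟩ ∈
          f.base '' (hV.fromSpec ''ᵁ PrimeSpectrum.basicOpen h : X.Opens) := by
        have hn := hopen (hV.fromSpec ''ᵁ PrimeSpectrum.basicOpen h : X.Opens)
          ((hV.fromSpec ''ᵁ PrimeSpectrum.basicOpen h).2.mem_nhds ⟨q, hh, hq⟩)
        have hsp : hU.fromSpec ⟨p, hp⟩ ⤳ f.base x := by
          rw [← hq, ← key]
          exact ((PrimeSpectrum.le_iff_specializes ⟨p, hp⟩
            (PrimeSpectrum.comap (algebraMap Γ(Y, U) Γ(X, V)) q)).1 hpq).map hU.fromSpec.continuous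
        exact mem_of_mem_nhds (hsp hn)
      obtain ⟨_, ⟨t, ht, rfl⟩, htp⟩ := hmem
      replace htp := (key t).trans htp
      have htp' : t.asIdeal.comap (algebraMap Γ(Y, U) Γ(X, V)) = p :=
        congrArg PrimeSpectrum.asIdeal (hU.fromSpec.isOpenEmbedding.injective htp)
      rcases t.2.mem_or_mem ((Ideal.map_le_iff_le_comap.2 htp'.ge) hz) with h' | h'
      · exact ht h'
      · exact ha (htp'.le h')
    obtain ⟨Q, hQ, hle, hQS⟩ := Ideal.exists_le_prime_disjoint _ _ hdisj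
    refine ⟨Q, hQ, fun b hb => ?_, le_antisymm (fun a ha => ?_) (Ideal.map_le_iff_le_comap.1 hle)⟩
    · by_contra hbq
      exact Set.disjoint_left.1 hQS hb (Submonoid.mem_sup_left (show b ∈ q.asIdeal.primeCompl from hbq))
    · by_contra hap
      exact Set.disjoint_left.1 hQS ha (Submonoid.mem_sup_right
        (Submonoid.mem_map_of_mem _ (show a ∈ Ideal.primeCompl p from hap)))
  haveI := hQ
  let Q' : PrimeSpectrum Γ(X, V) := ⟨Q, hQ⟩
  let w := hV.fromSpec Q'
  have hwV : w ∈ V := hV.range_fromSpec.le ⟨Q', rfl⟩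
  have hwQ : hV.primeIdealOf ⟨w, hwV⟩ = Q' :=
    hV.fromSpec.isOpenEmbedding.injective (hV.fromSpec_primeIdealOf _)
  refine ⟨w, ?_, ?_, ?_⟩
  · rw [← hq]
    exact ((PrimeSpectrum.le_iff_specializes Q' q).1 hQq).map hV.fromSpec.continuous
  · rw [← key, show PrimeSpectrum.comap (algebraMap Γ(Y, U) Γ(X, V)) Q' = p' from PrimeSpectrum.ext hQp]
    exact hU.fromSpec_primeIdealOf _
  · rw [hn]
    refine le_of_eq ((fdim_chart f hU hV hVU w hwV φ ?_).2.2 ?_).symm
    · rw [hwQ]; exact isQFAt_of_le φ Q q.asIdeal hQq hqf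
    · rw [hwQ, injective_quotMap_iff, hQφ, show Q'.asIdeal.under Γ(Y, U) = p'.asIdeal from hQp]

/-- If points over `y'` of large fibre dimension accumulate at `x`, one of them generises `x`. -/
theorem exists_gen_of_forall_nhds [IsLocallyNoetherian Y] (x : X) (y' : Y) (hy' : y' ⤳ f.base x)
    (c : WithBot ℕ∞) (h : ∀ O : X.Opens, x ∈ O → ∃ w ∈ O, f.base w = y' ∧ c ≤ fdim f w) :
    ∃ w, w ⤳ x ∧ f.base w = y' ∧ c ≤ fdim f w := by
  classical
  obtain ⟨_, ⟨U, hU, rfl⟩, hxU, -⟩ :=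
    Y.isBasis_affineOpens.exists_subset_of_mem_open (Set.mem_univ (f.base x)) isOpen_univ
  obtain ⟨_, ⟨V, hV, rfl⟩, hxV, hVU : V ≤ f ⁻¹ᵁ U⟩ :=
    X.isBasis_affineOpens.exists_subset_of_mem_open (show x ∈ f ⁻¹ᵁ U from hxU) (f ⁻¹ᵁ U).2
  letI := (f.appLE U V hVU).hom.toAlgebra
  haveI : Algebra.FiniteType Γ(Y, U) Γ(X, V) :=
    RingHom.finiteType_algebraMap.1 (f.finiteType_appLE hU hV hVU)
  haveI : IsNoetherianRing Γ(Y, U) := IsLocallyNoetherian.component_noetherian ⟨U, hU⟩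
  haveI : IsNoetherianRing Γ(X, V) := Algebra.FiniteType.isNoetherianRing Γ(Y, U) _
  have hy'U : y' ∈ U := hy'.mem_open U.2 hxU
  let p' := hU.primeIdealOf ⟨y', hy'U⟩
  let q := hV.primeIdealOf ⟨x, hxV⟩
  let J := p'.asIdeal.map (algebraMap Γ(Y, U) Γ(X, V))
  have key : ∀ t : PrimeSpectrum Γ(X, V),
      hU.fromSpec (PrimeSpectrum.comap (algebraMap Γ(Y, U) Γ(X, V)) t) = f.base (hV.fromSpec t) := fun t => by
    rw [← Scheme.Hom.comp_apply, ← IsAffineOpen.SpecMap_appLE_fromSpec f hU hV hVU, Scheme.Hom.comp_apply]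
    rfl
  obtain ⟨s, hs, hs'⟩ : ∃ s, s ∉ q.asIdeal ∧ ∀ g ∈ J.minimalPrimes, ¬ g ≤ q.asIdeal → s ∈ g := by
    have : ∀ g : {g // g ∈ J.minimalPrimes ∧ ¬ g ≤ q.asIdeal}, ∃ z ∈ g.1, z ∉ q.asIdeal := fun g =>
      Set.not_subset.1 g.2.2
    choose z hz hz' using this
    haveI : Fintype {g // g ∈ J.minimalPrimes ∧ ¬ g ≤ q.asIdeal} :=
      ((Ideal.finite_minimalPrimes_of_isNoetherianRing _ J).subset fun g hg => hg.1).fintype
    refine ⟨∏ g, z g, fun h => ?_, fun g hg hne => ?_⟩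
    · obtain ⟨g, -, hg⟩ := q.2.prod_mem_iff.1 h
      exact hz' g hg
    · exact Ideal.mem_of_dvd g (Finset.dvd_prod_of_mem z (Finset.mem_univ ⟨g, hg, hne⟩)) (hz ⟨g, hg, hne⟩)
  obtain ⟨_, ⟨t, ht, rfl⟩, hty, htc⟩ := h (hV.fromSpec ''ᵁ PrimeSpectrum.basicOpen s)
    ⟨q, hs, hV.fromSpec_primeIdealOf _⟩
  have htp : t.asIdeal.comap (algebraMap Γ(Y, U) Γ(X, V)) = p'.asIdeal :=
    congrArg PrimeSpectrum.asIdeal (hU.fromSpec.isOpenEmbedding.injective
      ((key t).trans (hty.trans (hU.fromSpec_primeIdealOf ⟨y', hy'U⟩).symm)))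
  obtain ⟨g, hg, hgt⟩ := Ideal.exists_minimalPrimes_le (show J ≤ t.asIdeal from Ideal.map_le_iff_le_comap.2 htp.ge)
  let g' : PrimeSpectrum Γ(X, V) := ⟨g, hg.1.1⟩
  have hgq : g ≤ q.asIdeal := by_contra fun hne => ht (hgt (hs' g hg hne))
  have hgp : PrimeSpectrum.comap (algebraMap Γ(Y, U) Γ(X, V)) g' = p' := PrimeSpectrum.ext
    (le_antisymm ((Ideal.comap_mono hgt).trans htp.le) (Ideal.map_le_iff_le_comap.1 hg.1.2))
  have hgy : f.base (hV.fromSpec g') = y' := by
    rw [← key, hgp]; exact hU.fromSpec_primeIdealOf _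
  refine ⟨hV.fromSpec g', ?_, hgy, htc.trans (fdim_mono f ?_ (hgy.trans hty.symm))⟩
  · have := ((PrimeSpectrum.le_iff_specializes g' q).1 hgq).map hV.fromSpec.continuous
    rwa [hV.fromSpec_primeIdealOf] at this
  · exact ((PrimeSpectrum.le_iff_specializes g' t).1 hgt).map hV.fromSpec.continuous

/-- A lower bound on the dimension of an open part of a fibre is attained at a point. -/
theorem exists_point_of_le_dim (O : X.Opens) (y' : Y) (n : ℕ)
    (h : (n : WithBot ℕ∞) ≤ topologicalKrullDim ↥((O : Set X) ∩ f.base ⁻¹' {y'})) :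
    ∃ w ∈ O, f.base w = y' ∧ (n : WithBot ℕ∞) ≤ fdim f w := by
  by_contra hcon
  push Not at hcon
  obtain _ | m := n
  · obtain hE | ⟨⟨w, hwO, hwy⟩⟩ := isEmpty_or_nonempty ↥((O : Set X) ∩ f.base ⁻¹' {y'})
    · haveI := hE
      haveI : IsEmpty (IrreducibleCloseds ↥((O : Set X) ∩ f.base ⁻¹' {y'})) :=
        ⟨fun C => hE.false C.isIrreducible.nonempty.some⟩
      rw [topologicalKrullDim, Order.krullDim_eq_bot] at h
      simp at h
    · obtain ⟨k, hk, -⟩ := exists_fdim f w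
      have := hcon w hwO hwy
      rw [hk] at this
      exact Nat.not_lt_zero k (by exact_mod_cast this)
  · have hle := dim_inter_le f (Z := Set.univ) isClosed_univ O.2 y' (c := (m : WithBot ℕ∞)) fun w _ hwO hwy => by
      obtain ⟨k, hk, -⟩ := exists_fdim f w
      have h1 := hcon w hwO hwy
      rw [hk] at h1 ⊢
      have h2 : k < m + 1 := by exact_mod_cast h1
      exact_mod_cast Nat.lt_succ_iff.1 h2
    rw [Set.univ_inter, Set.inter_comm] at hle
    have : (m + 1 : ℕ) ≤ m := by exact_mod_cast h.trans hle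
    omega

omit [LocallyOfFiniteType f] in
/-- A point over a generic point lies below the generic point of a component over it. -/
theorem exists_component_over (w : X) (hη : ∀ η' : Y, η' ⤳ f.base w → f.base w ⤳ η') :
    ∃ Z ∈ irreducibleComponents (X : Type u), ∃ z, IsGenericPoint z Z ∧ z ⤳ w ∧ f.base z = f.base w ∧
      fdim f w ≤ fdim f z := by
  obtain ⟨z, hz⟩ := QuasiSober.sober (isIrreducible_irreducibleComponent (x := w))
    isClosed_irreducibleComponent
  have hzw : z ⤳ w := hz.specializes mem_irreducibleComponent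
  have hfz : f.base z = f.base w :=
    ((hzw.map f.continuous).antisymm (hη _ (hzw.map f.continuous))).eq
  exact ⟨_, irreducibleComponent_mem_irreducibleComponents w, z, hz, hzw, hfz, fdim_mono f hzw hfz⟩

omit [LocallyOfFiniteType f] in
theorem fdim_comp_closedImmersion {W : Scheme.{u}} (ι : W ⟶ X) [IsClosedImmersion ι] (a : W) :
    fdim (ι ≫ f) a = fdim f (ι.base a) := by
  rw [fdim, fdim, ← dim_image ι.isClosedEmbedding.isEmbedding]
  congr 2
  all_goals first
    | (rw [show (ι ≫ f).base ⁻¹' {(ι ≫ f).base a} = ι.base ⁻¹' (f.base ⁻¹' {f.base (ι.base a)}) from rfl,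
        Set.image_inter_preimage, ← ι.isClosedEmbedding.closure_image_eq, Set.image_singleton])

/-- Semicontinuity inside a closed subset. -/
theorem fdim_le_localDim {Z : Set X} (hZ : IsClosed Z) {z x : X} (hz : z ∈ Z) (hzx : z ⤳ x) (y : Y)
    (hx : x ∈ Z ∩ f.base ⁻¹' {y}) : fdim f z ≤ FlatMor.localDim ↥(Z ∩ f.base ⁻¹' {y}) ⟨x, hx⟩ := by
  let I := Scheme.IdealSheafData.vanishingIdeal (⟨Z, hZ⟩ : Closeds X)
  have hr : Set.range I.subschemeι.base = Z := by
    rw [I.range_subschemeι]; rfl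
  obtain ⟨a, rfl⟩ : z ∈ Set.range I.subschemeι.base := hr.ge hz
  obtain ⟨b, rfl⟩ : x ∈ Set.range I.subschemeι.base := hr.ge hx.1
  have hab : a ⤳ b := I.subschemeι.isClosedEmbedding.isEmbedding.toIsInducing.specializes_iff.1 hzx
  obtain ⟨n, hn, -, hall⟩ := exists_localDim_eq f hZ y _ hx
  obtain ⟨m, hm, ⟨w, hw, hwb, hwm⟩, -⟩ := exists_fibreDimAt_eq (I.subschemeι ≫ f) b
  rw [← fdim_comp_closedImmersion f, hn]
  refine (fdim_le_fibreDimAt _ hab).trans ?_
  rw [hm, ← hwm, fdim_comp_closedImmersion f]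
  exact hall _ (hr.le ⟨w, rfl⟩) (hw.trans hx.2) (hwb.map I.subschemeι.continuous)

/-- The criterion for universal openness through a component. -/
theorem isUnivOpenAt_of_component {Z : Set X} (hZ : IsClosed Z) {z x : X} (hz : IsGenericPoint z Z)
    (hx : x ∈ Z) (U₀ : Y.Opens) (hyU : f.base x ∈ U₀) (hU₀ : (U₀ : Set Y) ⊆ closure {f.base z})
    (hdim : FlatMor.localDim ↥(Z ∩ f.base ⁻¹' {f.base x}) ⟨x, hx, rfl⟩ = fdim f z)
    (hy : CAlg2.IsGeomUnibranch (Y.presheaf.stalk (f.base x))) : EGA43.IsUnivOpenAt f x := by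
  let I := Scheme.IdealSheafData.vanishingIdeal (⟨Z, hZ⟩ : Closeds X)
  have hr : Set.range I.subschemeι.base = Z := by
    rw [I.range_subschemeι]; rfl
  obtain ⟨a, rfl⟩ : z ∈ Set.range I.subschemeι.base := hr.ge hz.mem
  obtain ⟨b, rfl⟩ : x ∈ Set.range I.subschemeι.base := hr.ge hx
  have hab : a ⤳ b :=
    I.subschemeι.isClosedEmbedding.isEmbedding.toIsInducing.specializes_iff.1 (hz.specializes hx)
  refine OpenAt.isUnivOpenAt_of_comp (f := I.subschemeι) (x := b) ?_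
  refine isUnivOpenAt_of_fdim (I.subschemeι ≫ f) b a hab U₀ hyU hU₀ ?_ hy
  obtain ⟨n, hn, -, hall⟩ := exists_localDim_eq f hZ _ (I.subschemeι.base b) ⟨hx, rfl⟩
  obtain ⟨m, hm, ⟨w, hw, hwb, hwm⟩, -⟩ := exists_fibreDimAt_eq (I.subschemeι ≫ f) b
  refine le_antisymm (fdim_le_fibreDimAt _ hab) ?_
  rw [hm, ← hwm, fdim_comp_closedImmersion f, fdim_comp_closedImmersion f, ← hdim, hn]
  exact hall _ (hr.le ⟨w, rfl⟩) hw (hwb.map I.subschemeι.continuous)

end Groth.Agent.GeomUnib
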