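import Groth.Agent.GeomUnib.Crit

/-!
# Universal openness of equidimensional morphisms
-/

set_option autoImplicit false

universe u

open CategoryTheory CategoryTheory.Limits AlgebraicGeometry TopologicalSpace

namespace Groth.Agent.GeomUnib

open FibreDim

variable {X Y : Scheme.{u}}

/-- The generisations of a point with irreducible local spectrum have a common generisation. -/
theorem exists_min_gen (y : Y) (hy : IsDomain (CAlg2.red (Y.presheaf.stalk y))) :
    ∃ γ : Y, γ ⤳ y ∧ ∀ η : Y, η ⤳ y → γ ⤳ η := by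
  have hN : (nilradical (Y.presheaf.stalk y)).IsPrime := (Ideal.Quotient.isDomain_iff_prime _).1 hy
  let N : PrimeSpectrum (Y.presheaf.stalk y) := ⟨_, hN⟩
  refine ⟨(Y.fromSpecStalk y).base N, Scheme.range_fromSpecStalk.le ⟨N, rfl⟩, fun η hη => ?_⟩
  obtain ⟨t, rfl⟩ := Scheme.range_fromSpecStalk.ge hη
  exact ((PrimeSpectrum.le_iff_specializes N t).1 (nilradical_le_prime t.asIdeal)).map
    (Y.fromSpecStalk y).continuous

/-- With finitely many components the component through a unibranch point is a neighbourhood. -/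
theorem exists_nhds_of_finite_components (hfin : (irreducibleComponents (Y : Type u)).Finite) (y : Y)
    (hy : IsDomain (CAlg2.red (Y.presheaf.stalk y))) {W : Set Y}
    (hW : W ∈ irreducibleComponents (Y : Type u)) (hyW : y ∈ W) {η : Y} (hη : IsGenericPoint η W) :
    ∃ U₀ : Y.Opens, y ∈ U₀ ∧ (U₀ : Set Y) ⊆ closure {η} := by
  have hC : IsClosed (⋃ C ∈ {C ∈ irreducibleComponents (Y : Type u) | C ≠ W}, C) :=
    (hfin.subset fun C hC => hC.1).isClosed_biUnion fun C hC => isClosed_of_mem_irreducibleComponents C hC.1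
  refine ⟨⟨_, hC.isOpen_compl⟩, fun h => ?_, fun s hs => ?_⟩
  · obtain ⟨C, ⟨hC', hne⟩, hyC⟩ := Set.mem_iUnion₂.1 h
    obtain ⟨η', hη'⟩ := QuasiSober.sober hC'.1 (isClosed_of_mem_irreducibleComponents _ hC')
    obtain ⟨γ, -, hγ⟩ := exists_min_gen y hy
    have h1 := hγ η (hη.specializes hyW)
    have h2 := hγ η' (hη'.specializes hyC)
    obtain rfl : η = η' := (((maximal_of_component η W hW hη γ h1).trans h2).antisymm
      ((maximal_of_component η' C hC' hη' γ h2).trans h1)).eq
    exact hne (hη'.def.symm.trans hη.def)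
  · rw [hη.def]
    by_contra hsW
    exact hs (Set.mem_biUnion ⟨irreducibleComponent_mem_irreducibleComponents s,
      fun e => hsW (e ▸ mem_irreducibleComponent)⟩ mem_irreducibleComponent)

variable (f : X ⟶ Y) [LocallyOfFiniteType f]

/-- Equidimensional morphisms are universally open over unibranch points with component neighbourhoods. -/
theorem isUnivOpenAt_of_isEquidimAt (x : X) (h : EGA43.IsEquidimAt f x)
    (hnhds : ∀ W ∈ irreducibleComponents (Y : Type u), f.base x ∈ W → ∀ η : Y, IsGenericPoint η W →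
      ∃ U₀ : Y.Opens, f.base x ∈ U₀ ∧ (U₀ : Set Y) ⊆ closure {η})
    (hy : CAlg2.IsGeomUnibranch (Y.presheaf.stalk (f.base x))) : EGA43.IsUnivOpenAt f x := by
  obtain ⟨e, U, hxU, hcomp, hdim⟩ := h
  let x' : ↥U.toScheme := ⟨x, hxU⟩
  refine OpenAt.isUnivOpenAt_of_comp (f := U.ι) (x := x') ?_
  obtain ⟨W, hW, hxW, hWeq⟩ := hcomp _ (irreducibleComponent_mem_irreducibleComponents x')
  obtain ⟨x₀, hx₀⟩ := QuasiSober.sober (isIrreducible_irreducibleComponent (x := x'))
    isClosed_irreducibleComponent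
  have hgen : IsGenericPoint ((U.ι ≫ f).base x₀) W := by
    have := hx₀.image (U.ι ≫ f).continuous
    rwa [hWeq] at this
  obtain ⟨U₀, hU₀, hU₀'⟩ := hnhds W hW hxW _ hgen
  refine isUnivOpenAt_of_fdim (U.ι ≫ f) x' x₀ (hx₀.specializes mem_irreducibleComponent) U₀ hU₀ hU₀' ?_ hy
  rw [← fibreDimAt_of_maximal (U.ι ≫ f) x₀ ?_,
    fibreDimAt_eq_of_components (U.ι ≫ f) (e : WithBot ℕ∞) x₀ (hdim x₀),
    fibreDimAt_eq_of_components (U.ι ≫ f) (e : WithBot ℕ∞) x' (hdim x')]
  intro z hz hzx
  have hsub : irreducibleComponent x' ⊆ closure {z} := hx₀.def.symm.le.trans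
    (closure_minimal (Set.singleton_subset_iff.2 hzx) isClosed_closure)
  have := (irreducibleComponent_mem_irreducibleComponents x').2 isIrreducible_singleton.closure hsub
  exact ((hx₀.specializes (this (subset_closure rfl))).antisymm
    (specializes_iff_mem_closure.2 hzx)).eq.symm

end Groth.Agent.GeomUnib
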