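import Groth.Agent.GeomUnib.LocalEquidim
import Groth.Agent.GeomUnib.EquidimOpen

/-!
# Equidimensionality at a point and of its local ring
-/

set_option autoImplicit false

universe u

open CategoryTheory CategoryTheory.Limits AlgebraicGeometry TopologicalSpace

namespace Groth.Agent.GeomUnib

open FibreDim

/-- Quasi-finiteness holds on a basic open neighbourhood. -/
theorem exists_basicOpen_quasiFiniteAt {R S : Type u} [CommRing R] [CommRing S] [Algebra R S]
    [Algebra.FiniteType R S] (p : Ideal S) [p.IsPrime] [Algebra.QuasiFiniteAt R p] :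
    ∃ r, r ∉ p ∧ ∀ (p' : Ideal S) [p'.IsPrime], r ∉ p' → Algebra.QuasiFiniteAt R p' := by
  obtain ⟨S', hS', r, hrp, H⟩ :=
    Algebra.QuasiFiniteAt.exists_fg_and_exists_notMem_and_awayMap_bijective (R := R) p
  have : Module.Finite R S' := ⟨(Submodule.fg_top _).mpr hS'⟩
  have : Algebra.QuasiFinite R (Localization.Away r) := .trans _ S' _
  have : Algebra.QuasiFinite R (Localization.Away r.1) :=
    .of_surjective_algHom (Localization.awayMapₐ S'.val r) H.2
  refine ⟨r.1, hrp, fun p' _ hr => ?_⟩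
  let f : Localization.Away r.1 →ₐ[S] Localization.AtPrime p' :=
    IsLocalization.Away.liftAlgHom r.1 (f := Algebra.ofId _ _) <|
      IsLocalization.map_units (M := p'.primeCompl) (Localization.AtPrime p') ⟨r, hr⟩
  refine .of_forall_exists_mul_mem_range (f.restrictScalars R) fun x ↦ ?_
  obtain ⟨x, ⟨s, hs⟩, rfl⟩ := IsLocalization.exists_mk'_eq p'.primeCompl x
  exact ⟨algebraMap _ _ s, by simpa using IsLocalization.map_units _ ⟨s, hs⟩,
    algebraMap _ _ x, by simp⟩

variable {X Y : Scheme.{u}} (f : X ⟶ Y) [LocallyOfFiniteType f] [IsLocallyNoetherian Y]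

omit [IsLocallyNoetherian Y] in
/-- Fibre dimensions are computed on any open subscheme. -/
theorem fdim_opens (U : X.Opens) (z : ↥U.toScheme) : fdim (U.ι ≫ f) z = fdim f (U.ι.base z) := by
  obtain ⟨k, hk, hkO⟩ := exists_fdim f (U.ι.base z)
  rw [hk, ← hkO U U.2 z.2, fdim, ← dim_image U.ι.isOpenEmbedding.isEmbedding, Set.image_inter U.ι.isOpenEmbedding.injective,
    U.ι.isOpenEmbedding.isEmbedding.closure_eq_preimage_closure_image, Set.image_preimage_eq_inter_range,
    Set.image_singleton]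
  have : U.ι.base '' ((U.ι ≫ f).base ⁻¹' {(U.ι ≫ f).base z}) =
      f.base ⁻¹' {f.base (U.ι.base z)} ∩ Set.range U.ι.base :=
    Set.image_preimage_eq_inter_range (f := U.ι.base) (t := f.base ⁻¹' {f.base (U.ι.base z)})
  rw [this, U.range_ι]
  congr 2
  all_goals exact Set.ext fun w => ⟨fun h => ⟨⟨h.1.1, h.2.1⟩, h.2.2⟩, fun h => ⟨⟨h.1.1, h.2⟩, h.1.2, h.2⟩⟩

/-- Near a point fibre dimensions do not go up and all components pass through the point. -/
theorem exists_nhds_fdim_le (x : X) :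
    ∃ U : X.Opens, x ∈ U ∧ (∀ z ∈ U, fdim f z ≤ FlatMor.fibreDimAt f x) ∧
      ∀ z ∈ U, (∀ z' : X, z' ⤳ z → z ⤳ z') → z ⤳ x := by
  classical
  obtain ⟨U, hU, V, hV, hVU, hxV, -, n, φ, hn, hqf⟩ := exists_chart f x ⊤ trivial
  letI := (f.appLE U V hVU).hom.toAlgebra
  haveI : Algebra.FiniteType Γ(Y, U) Γ(X, V) :=
    RingHom.finiteType_algebraMap.1 (f.finiteType_appLE hU hV hVU)
  haveI : IsNoetherianRing Γ(Y, U) := IsLocallyNoetherian.component_noetherian ⟨U, hU⟩
  haveI : IsNoetherianRing Γ(X, V) := Algebra.FiniteType.isNoetherianRing Γ(Y, U) _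
  letI : Algebra (MvPolynomial (Fin n) Γ(Y, U)) Γ(X, V) := φ.toRingHom.toAlgebra
  haveI : IsScalarTower Γ(Y, U) (MvPolynomial (Fin n) Γ(Y, U)) Γ(X, V) :=
    IsScalarTower.of_algebraMap_eq fun a => (φ.commutes a).symm
  haveI : Algebra.FiniteType (MvPolynomial (Fin n) Γ(Y, U)) Γ(X, V) :=
    Algebra.FiniteType.of_restrictScalars_finiteType Γ(Y, U) _ _
  let q := hV.primeIdealOf ⟨x, hxV⟩
  haveI : Algebra.QuasiFiniteAt (MvPolynomial (Fin n) Γ(Y, U)) q.asIdeal := hqf
  obtain ⟨r, hr, hrq⟩ := exists_basicOpen_quasiFiniteAt (R := MvPolynomial (Fin n) Γ(Y, U)) q.asIdeal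
  obtain ⟨s, hs, hs'⟩ : ∃ s, s ∉ q.asIdeal ∧ ∀ g ∈ minimalPrimes Γ(X, V), ¬ g ≤ q.asIdeal → s ∈ g := by
    have : ∀ g : {g // g ∈ minimalPrimes Γ(X, V) ∧ ¬ g ≤ q.asIdeal}, ∃ z ∈ g.1, z ∉ q.asIdeal := fun g =>
      Set.not_subset.1 g.2.2
    choose z hz hz' using this
    haveI : Fintype {g // g ∈ minimalPrimes Γ(X, V) ∧ ¬ g ≤ q.asIdeal} :=
      ((minimalPrimes.finite_of_isNoetherianRing Γ(X, V)).subset fun g hg => hg.1).fintype
    refine ⟨∏ g, z g, fun h => ?_, fun g hg hne => ?_⟩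
    · obtain ⟨g, -, hg⟩ := q.2.prod_mem_iff.1 h
      exact hz' g hg
    · exact Ideal.mem_of_dvd g (Finset.dvd_prod_of_mem z (Finset.mem_univ ⟨g, hg, hne⟩)) (hz ⟨g, hg, hne⟩)
  refine ⟨hV.fromSpec ''ᵁ PrimeSpectrum.basicOpen (r * s), ⟨q, fun h => (q.2.mem_or_mem h).elim hr hs,
    hV.fromSpec_primeIdealOf _⟩, ?_, ?_⟩
  · rintro _ ⟨t, ht, rfl⟩
    have htV : hV.fromSpec t ∈ V := hV.range_fromSpec.le ⟨t, rfl⟩
    have e : hV.primeIdealOf ⟨_, htV⟩ = t :=
      hV.fromSpec.isOpenEmbedding.injective (hV.fromSpec_primeIdealOf _)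
    rw [hn]
    refine (fdim_chart f hU hV hVU _ htV φ ?_).1
    rw [e]
    exact hrq t.asIdeal fun h => ht (Ideal.mul_mem_right _ _ h)
  · rintro _ ⟨t, ht, rfl⟩ hmax
    have htm : t.asIdeal ∈ minimalPrimes Γ(X, V) := by
      refine ⟨⟨t.2, bot_le⟩, fun g hg hgt => ?_⟩
      have h1 := ((PrimeSpectrum.le_iff_specializes (⟨g, hg.1⟩ : PrimeSpectrum _) t).1 hgt).map
        hV.fromSpec.continuous
      exact (PrimeSpectrum.le_iff_specializes t (⟨g, hg.1⟩ : PrimeSpectrum _)).2
        (hV.fromSpec.isOpenEmbedding.toIsInducing.specializes_iff.1 (hmax _ h1))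
    have hle : t.asIdeal ≤ q.asIdeal := by_contra fun h => ht (Ideal.mul_mem_left _ _ (hs' _ htm h))
    have := ((PrimeSpectrum.le_iff_specializes t q).1 hle).map hV.fromSpec.continuous
    rwa [hV.fromSpec_primeIdealOf] at this

/-- The dimension of a ring is that of a quotient by some minimal prime. -/
theorem ringKrullDim_eq_of_minimalPrimes {R : Type u} [CommRing R] [Nontrivial R] {D : WithBot ℕ∞}
    (h : ∀ P ∈ minimalPrimes R, ringKrullDim (R ⧸ P) = D) : ringKrullDim R = D := by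
  obtain ⟨P, hP, -⟩ := Ideal.exists_minimalPrimes_le (bot_le : (⊥ : Ideal R) ≤ (Classical.choice
    (inferInstance : Nonempty (PrimeSpectrum R))).asIdeal)
  refine le_antisymm (iSup_le fun l => ?_) ((h P hP).ge.trans (ringKrullDim_quotient_le P))
  obtain ⟨P', hP', hle⟩ := Ideal.exists_minimalPrimes_le (bot_le : (⊥ : Ideal R) ≤ l.head.asIdeal)
  rw [← h P' hP', ringKrullDim_quotient]
  let g : Fin (l.length + 1) → PrimeSpectrum.zeroLocus (R := R) (P' : Set R) := fun i =>
    ⟨l i, hle.trans (LTSeries.head_le l i)⟩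
  exact Order.LTSeries.length_le_krullDim (LTSeries.mk l.length g fun i j hij => l.strictMono hij)

variable (x : X) (hy : CAlg2.IsGeomUnibranch (Y.presheaf.stalk (f.base x)))

omit [LocallyOfFiniteType f] [IsLocallyNoetherian Y] in
/-- Components through a point are the minimal primes of its local ring. -/
theorem maximal_fromSpecStalk {P : PrimeSpectrum (X.presheaf.stalk x)}
    (hP : P.asIdeal ∈ minimalPrimes (X.presheaf.stalk x)) (z' : X) (h : z' ⤳ (X.fromSpecStalk x).base P) :
    (X.fromSpecStalk x).base P ⤳ z' := by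
  obtain ⟨t, rfl⟩ := Scheme.range_fromSpecStalk.ge
    (h.trans (Scheme.range_fromSpecStalk.le ⟨P, rfl⟩) : z' ⤳ x)
  have hle := (PrimeSpectrum.le_iff_specializes t P).2
    ((X.fromSpecStalk x).isEmbedding.toIsInducing.specializes_iff.1 h)
  exact ((PrimeSpectrum.le_iff_specializes P t).1 (hP.2 ⟨t.2, bot_le⟩ hle)).map (X.fromSpecStalk x).continuous

omit [LocallyOfFiniteType f] [IsLocallyNoetherian Y] in
theorem exists_minimalPrime_of_maximal {z : X} (hzx : z ⤳ x) (hmax : ∀ z' : X, z' ⤳ z → z ⤳ z') :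
    ∃ P : PrimeSpectrum (X.presheaf.stalk x),
      P.asIdeal ∈ minimalPrimes (X.presheaf.stalk x) ∧ (X.fromSpecStalk x).base P = z := by
  obtain ⟨P, rfl⟩ := Scheme.range_fromSpecStalk.ge hzx
  refine ⟨P, ⟨⟨P.2, bot_le⟩, fun J hJ hle => ?_⟩, rfl⟩
  exact (PrimeSpectrum.le_iff_specializes P (⟨J, hJ.1⟩ : PrimeSpectrum _)).2
    ((X.fromSpecStalk x).isEmbedding.toIsInducing.specializes_iff.1
      (hmax _ (((PrimeSpectrum.le_iff_specializes (⟨J, hJ.1⟩ : PrimeSpectrum _) P).1 hle).map
        (X.fromSpecStalk x).continuous)))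

include hy in
/-- Equidimensionality gives an equidimensional local ring. -/
theorem isEquidim_stalk (h : EGA43.IsEquidimAt f x) : EGA4.IsEquidim (X.presheaf.stalk x) := by
  obtain ⟨η, hη⟩ := QuasiSober.sober (isIrreducible_irreducibleComponent (x := f.base x))
    isClosed_irreducibleComponent
  obtain ⟨U₀, hyU, hU₀⟩ := exists_nhds_of_component hy
    (irreducibleComponent_mem_irreducibleComponents _) mem_irreducibleComponent hη.def
  obtain ⟨M, hM⟩ := exists_stalk_dim f x η U₀ hyU hU₀ (hη.specializes mem_irreducibleComponent) hy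
  obtain ⟨e, U, hxU, hcomp, hdim⟩ := h
  have hfd : ∀ z : ↥U.toScheme, fdim (U.ι ≫ f) z = fdim f (U.ι.base z) := fun z => by
    exact fdim_opens f U z
  have heq : ∀ P ∈ minimalPrimes (X.presheaf.stalk x), ringKrullDim (X.presheaf.stalk x ⧸ P) = M := by
    intro P hP
    haveI := hP.1.1
    refine (hM ⟨P, inferInstance⟩).1 ?_
    set z := (X.fromSpecStalk x).base ⟨P, inferInstance⟩
    have hzx : z ⤳ x := Scheme.range_fromSpecStalk.le ⟨_, rfl⟩
    let z' : ↥U.toScheme := ⟨z, hzx.mem_open U.2 hxU⟩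
    let x' : ↥U.toScheme := ⟨x, hxU⟩
    have hmax : ∀ w : ↥U.toScheme, w ⤳ z' → z' ⤳ w := fun w hw =>
      U.ι.isOpenEmbedding.toIsInducing.specializes_iff.1
        (maximal_fromSpecStalk x (P := ⟨P, inferInstance⟩) hP _ (hw.map U.ι.continuous))
    have hz : IsGenericPoint z' (irreducibleComponent z') := by
      obtain ⟨g, hg⟩ := QuasiSober.sober (isIrreducible_irreducibleComponent (x := z'))
        isClosed_irreducibleComponent
      obtain rfl : g = z' := ((hg.specializes mem_irreducibleComponent).antisymm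
        (hmax g (hg.specializes mem_irreducibleComponent))).eq
      exact hg
    obtain ⟨W, hW, hxW, hWeq⟩ := hcomp _ (irreducibleComponent_mem_irreducibleComponents z')
    have hgen : IsGenericPoint (f.base z) W := by
      have := hz.image (U.ι ≫ f).continuous
      rw [hWeq] at this
      exact this
    obtain ⟨γ, -, hγ⟩ := exists_min_gen (f.base x) hy.1.1
    have h1 := hγ _ (hgen.specializes hxW)
    have h2 := hγ _ (hη.specializes mem_irreducibleComponent)
    have hzη : f.base z = η := (((maximal_of_component _ W hW hgen γ h1).trans h2).antisymm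
      ((maximal_of_component η _ (irreducibleComponent_mem_irreducibleComponents _) hη γ h2).trans h1)).eq
    refine ⟨hzη, ?_⟩
    have e1 : fdim f z = (e : WithBot ℕ∞) := by
      rw [← show fdim (U.ι ≫ f) z' = fdim f z from hfd z',
        ← fibreDimAt_of_maximal (U.ι ≫ f) z' fun w _ hw =>
          ((hmax w (specializes_iff_mem_closure.2 hw)).antisymm (specializes_iff_mem_closure.2 hw)).eq.symm]
      exact fibreDimAt_eq_of_components (U.ι ≫ f) _ z' (hdim z')
    rw [e1]
    obtain ⟨N, hN, ⟨w, hw, hwx, hwN⟩, -⟩ := exists_fibreDimAt_eq f x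
    obtain ⟨N', hN', ⟨v, hv, hvx, hvN⟩, hall⟩ := exists_fibreDimAt_eq (U.ι ≫ f) x'
    have he := fibreDimAt_eq_of_components (U.ι ≫ f) (e : WithBot ℕ∞) x' (hdim x')
    refine le_antisymm ?_ ?_
    · rw [← he, hN', ← hvN, hfd]
      exact fdim_le_fibreDimAt f (hvx.map U.ι.continuous)
    · rw [← he, hN, ← hwN, hN']
      have := hall ⟨w, hwx.mem_open U.2 hxU⟩ hw (U.ι.isOpenEmbedding.toIsInducing.specializes_iff.1 hwx)
      rw [hfd] at this
      exact this
  intro P hP
  rw [ringKrullDim_eq_of_minimalPrimes heq, heq P hP]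

include hy in
/-- The converse, given one component of maximal relative dimension. -/
theorem isEquidimAt_of_isEquidim (hE : EGA4.IsEquidim (X.presheaf.stalk x)) {η : Y}
    (hη : closure ({η} : Set Y) = irreducibleComponent (f.base x))
    (hex : ∃ v, v ⤳ x ∧ f.base v = η ∧ FlatMor.fibreDimAt f x ≤ fdim f v) :
    EGA43.IsEquidimAt f x := by
  have hY₀ := irreducibleComponent_mem_irreducibleComponents (f.base x)
  obtain ⟨U₀, hyU, hU₀⟩ := exists_nhds_of_component hy hY₀ mem_irreducibleComponent hη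
  have hηy : η ⤳ f.base x := specializes_iff_mem_closure.2 (hη.ge mem_irreducibleComponent)
  obtain ⟨M, hM⟩ := exists_stalk_dim f x η U₀ hyU hU₀ hηy hy
  obtain ⟨v, hvx, hv, hd⟩ := hex
  obtain ⟨Z, hZ, z, hz, hzv, hfz, hzd⟩ := exists_component_over f v
    (fun η' h => hv ▸ maximal_of_component η _ hY₀ hη η' (hv ▸ h))
  obtain ⟨P₁, hP₁, hP₁z⟩ := exists_minimalPrime_of_maximal x (hzv.trans hvx)
    (fun z' h => maximal_of_component z Z hZ hz z' h)
  have hd1 : ringKrullDim (X.presheaf.stalk x ⧸ P₁.asIdeal) = M := (hM P₁).1 (by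
    rw [hP₁z]
    exact ⟨hfz.trans hv, le_antisymm (fdim_le_fibreDimAt f (hzv.trans hvx)) (hd.trans hzd)⟩)
  have hcomp : ∀ w : X, w ⤳ x → (∀ z' : X, z' ⤳ w → w ⤳ z') →
      f.base w = η ∧ fdim f w = FlatMor.fibreDimAt f x := by
    intro w hwx hmax
    obtain ⟨P, hP, rfl⟩ := exists_minimalPrime_of_maximal x hwx hmax
    exact (hM P).2 (by rw [hE _ hP, ← hE _ hP₁, hd1])
  obtain ⟨U, hxU, hUle, hUgen⟩ := exists_nhds_fdim_le f x
  obtain ⟨n, hn, -, -⟩ := exists_fibreDimAt_eq f x
  haveI : QuasiSober ↥(U : Set X) := U.2.isOpenEmbedding_subtypeVal.quasiSober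
  refine ⟨n, U, hxU, fun C hC => ?_, fun x' C hC => ?_⟩
  · obtain ⟨c, hc⟩ := QuasiSober.sober hC.1 (isClosed_of_mem_irreducibleComponents _ hC)
    have hmax : ∀ z' : X, z' ⤳ U.ι.base c → U.ι.base c ⤳ z' := fun z' h => by
      exact (maximal_of_component (Y := U.toScheme) c C hC hc ⟨z', h.mem_open U.2 c.2⟩
        (U.ι.isOpenEmbedding.toIsInducing.specializes_iff.1 h)).map U.ι.continuous
    obtain ⟨hcη, -⟩ := hcomp _ (hUgen _ c.2 hmax) hmax
    refine ⟨_, hY₀, mem_irreducibleComponent, ?_⟩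
    rw [← hη, ← hcη]
    exact (hc.image (U.ι ≫ f).continuous).def.symm
  · obtain ⟨m, hm⟩ := QuasiSober.sober hC.1 (isClosed_of_mem_irreducibleComponents _ hC)
    set u : ↥U.toScheme := ((U.ι ≫ f).fiberι _).base m
    have hu : (U.ι ≫ f).base u = (U.ι ≫ f).base x' := by
      have : u ∈ Set.range ((U.ι ≫ f).fiberι ((U.ι ≫ f).base x')) := ⟨m, rfl⟩
      rwa [(U.ι ≫ f).range_fiberι] at this
    have humax : ∀ w : X, f.base w = f.base (U.ι.base u) → U.ι.base u ∈ closure {w} → w = U.ι.base u := by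
      intro w hw hwu
      have hwu' := specializes_iff_mem_closure.2 hwu
      let w' : ↥U.toScheme := ⟨w, hwu'.mem_open U.2 u.2⟩
      obtain ⟨m', hm'⟩ : w' ∈ Set.range ((U.ι ≫ f).fiberι ((U.ι ≫ f).base x')) := by
        rw [(U.ι ≫ f).range_fiberι]; exact hw.trans hu
      have hm'm : m' ⤳ m := by
        refine ((U.ι ≫ f).fiberι _).isEmbedding.toIsInducing.specializes_iff.1 ?_
        rw [hm']
        exact U.ι.isOpenEmbedding.toIsInducing.specializes_iff.1 hwu'
      have hmm' : m ⤳ m' := by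
        refine hm.specializes ?_
        have hsub : C ⊆ closure {m'} := hm.def.symm.le.trans
          (closure_minimal (Set.singleton_subset_iff.2 hm'm.mem_closure) isClosed_closure)
        exact hC.2 isIrreducible_singleton.closure hsub (subset_closure rfl)
      have := (hmm'.antisymm hm'm).eq
      rw [← this] at hm'
      exact congrArg U.ι.base hm'.symm
    have h1 : fdim f (U.ι.base u) = n := by
      obtain ⟨g, hg⟩ := QuasiSober.sober (isIrreducible_irreducibleComponent (x := U.ι.base u))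
        isClosed_irreducibleComponent
      have hgu := hg.specializes mem_irreducibleComponent
      have hgmax := fun z' h => maximal_of_component g _ (irreducibleComponent_mem_irreducibleComponents _) hg z' h
      obtain ⟨-, hgd⟩ := hcomp g (hUgen g (hgu.mem_open U.2 u.2) hgmax) hgmax
      refine le_antisymm ((hUle _ u.2).trans_eq hn) ?_
      rw [← hn, ← hgd, ← fibreDimAt_of_maximal f _ humax]
      exact fdim_le_fibreDimAt f hgu
    rw [← hm.def, dim_closure_fibre (U.ι ≫ f) _ m]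
    refine Eq.trans ?_ h1
    exact fdim_opens f U u

end Groth.Agent.GeomUnib
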