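import Groth.Agent.GeomUnib.CatenaryFormula
import Groth.Agent.GeomUnib.EquidimLocal

/-!
# Dimension of irreducible schemes over a Jacobson universally catenary base
-/

set_option autoImplicit false

universe u

open CategoryTheory CategoryTheory.Limits AlgebraicGeometry TopologicalSpace

namespace Groth.Agent.GeomUnib

open FibreDim Catenary

variable {S : Scheme.{u}}

/-- The dimension of the generisations of `t` inside the closure of `g`. -/
noncomputable def genDim (g t : S) : WithBot ℕ∞ :=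
  topologicalKrullDim ↥{u : S | u ∈ closure ({g} : Set S) ∧ u ⤳ t}

theorem genDim_eq {U : S.Opens} (hU : IsAffineOpen U) (g t : PrimeSpectrum Γ(S, U))
    (hle : g.asIdeal ≤ t.asIdeal) [(t.asIdeal.map (Ideal.Quotient.mk g.asIdeal)).IsPrime] :
    genDim (hU.fromSpec g) (hU.fromSpec t) = (t.asIdeal.map (Ideal.Quotient.mk g.asIdeal)).height := by
  let P := t.asIdeal.map (Ideal.Quotient.mk g.asIdeal)
  let L := Localization.AtPrime P
  let c : PrimeSpectrum L → S := fun a => hU.fromSpec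
    (PrimeSpectrum.comap (Ideal.Quotient.mk g.asIdeal) (PrimeSpectrum.comap (algebraMap _ L) a))
  have hc : Topology.IsEmbedding c := hU.fromSpec.isEmbedding.comp
    ((PrimeSpectrum.isClosedEmbedding_comap_of_surjective _ _ Ideal.Quotient.mk_surjective).isEmbedding.comp
      (PrimeSpectrum.localization_comap_isEmbedding L P.primeCompl))
  have hP : P.comap (Ideal.Quotient.mk g.asIdeal) = t.asIdeal := by
    rw [Ideal.comap_map_of_surjective _ Ideal.Quotient.mk_surjective, ← RingHom.ker_eq_comap_bot, Ideal.mk_ker,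
      sup_eq_left.2 hle]
  have hr : Set.range c = {u : S | u ∈ closure ({hU.fromSpec g} : Set S) ∧ u ⤳ hU.fromSpec t} := by
    ext u
    constructor
    · rintro ⟨a, rfl⟩
      refine ⟨specializes_iff_mem_closure.1 (((PrimeSpectrum.le_iff_specializes g
        (PrimeSpectrum.comap (Ideal.Quotient.mk g.asIdeal) (PrimeSpectrum.comap (algebraMap _ L) a))).1
          (fun z hz => ?_)).map hU.fromSpec.continuous),
        ((PrimeSpectrum.le_iff_specializes (PrimeSpectrum.comap (Ideal.Quotient.mk g.asIdeal)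
          (PrimeSpectrum.comap (algebraMap _ L) a)) t).1 ?_).map hU.fromSpec.continuous⟩
      · show algebraMap _ L (Ideal.Quotient.mk g.asIdeal z) ∈ a.asIdeal
        rw [Ideal.Quotient.eq_zero_iff_mem.2 hz, map_zero]
        exact zero_mem _
      · refine (Ideal.comap_mono ?_).trans hP.le
        exact (Ideal.comap_mono (IsLocalRing.le_maximalIdeal a.2.ne_top)).trans
          (IsLocalization.AtPrime.under_maximalIdeal L P).le
    · rintro ⟨hgu, hut⟩
      obtain ⟨a, rfl⟩ : u ∈ Set.range hU.fromSpec :=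
        hut.mem_open hU.fromSpec.isOpenMap.isOpen_range ⟨t, rfl⟩
      have hga : g.asIdeal ≤ a.asIdeal := (PrimeSpectrum.le_iff_specializes g a).2
        (hU.fromSpec.isOpenEmbedding.toIsInducing.specializes_iff.1 (specializes_iff_mem_closure.2 hgu))
      have hat : a.asIdeal ≤ t.asIdeal := (PrimeSpectrum.le_iff_specializes a t).2
        (hU.fromSpec.isOpenEmbedding.toIsInducing.specializes_iff.1 hut)
      haveI : (a.asIdeal.map (Ideal.Quotient.mk g.asIdeal)).IsPrime :=
        Ideal.map_isPrime_of_surjective Ideal.Quotient.mk_surjective (by rwa [Ideal.mk_ker])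
      obtain ⟨b, hb⟩ : (⟨a.asIdeal.map (Ideal.Quotient.mk g.asIdeal), inferInstance⟩ : PrimeSpectrum _) ∈
          Set.range (PrimeSpectrum.comap (algebraMap (Γ(S, U) ⧸ g.asIdeal) L)) := by
        rw [PrimeSpectrum.localization_comap_range L P.primeCompl]
        exact Set.disjoint_left.2 fun z hz hza => hz (Ideal.map_mono hat hza)
      refine ⟨b, ?_⟩
      simp only [c]
      rw [hb]
      refine congrArg hU.fromSpec (PrimeSpectrum.ext ?_)
      show (a.asIdeal.map _).comap _ = a.asIdeal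
      rw [Ideal.comap_map_of_surjective _ Ideal.Quotient.mk_surjective, ← RingHom.ker_eq_comap_bot, Ideal.mk_ker,
        sup_eq_left.2 hga]
  rw [genDim, ← hr, ← Set.image_univ, dim_image hc, dim_homeo (Homeomorph.Set.univ _),
    PrimeSpectrum.topologicalKrullDim_eq_ringKrullDim, IsLocalization.AtPrime.ringKrullDim_eq_height P L]

/-- Universal catenarity of the local rings of closed subschemes. -/
theorem isUniversallyCatenary_localization {U : S.Opens} (hU : IsAffineOpen U) (t : PrimeSpectrum Γ(S, U))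
    (hcat : CAlg.IsUniversallyCatenary (S.presheaf.stalk (hU.fromSpec t)))
    (g : Ideal Γ(S, U)) (P : Ideal (Γ(S, U) ⧸ g)) [P.IsPrime] (hP : P.comap (Ideal.Quotient.mk g) = t.asIdeal) :
    CAlg.IsUniversallyCatenary (Localization.AtPrime P) := by
  have ht : hU.fromSpec t ∈ U := hU.range_fromSpec.le ⟨t, rfl⟩
  have he : hU.primeIdealOf ⟨_, ht⟩ = t := hU.fromSpec.isOpenEmbedding.injective (hU.fromSpec_primeIdealOf _)
  letI : Algebra Γ(S, U) (S.presheaf.stalk (hU.fromSpec t)) := (S.presheaf.germ U _ ht).hom.toAlgebra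
  haveI hloc : IsLocalization.AtPrime (S.presheaf.stalk (hU.fromSpec t)) (hU.primeIdealOf ⟨_, ht⟩).asIdeal :=
    hU.isLocalization_stalk ⟨_, ht⟩
  have hu : (hU.primeIdealOf ⟨_, ht⟩).asIdeal.primeCompl ≤
      P.primeCompl.comap (Ideal.Quotient.mk g) := fun z hz hzP => hz (by rw [he, ← hP]; exact hzP)
  let φ : S.presheaf.stalk (hU.fromSpec t) →+* Localization.AtPrime P :=
    IsLocalization.map (Localization.AtPrime P) (Ideal.Quotient.mk g) hu
  refine isUniversallyCatenary_of_surjective' φ (fun z => ?_) hcat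
  obtain ⟨a, ⟨s, hs⟩, rfl⟩ := IsLocalization.exists_mk'_eq P.primeCompl z
  obtain ⟨a, rfl⟩ := Ideal.Quotient.mk_surjective a
  obtain ⟨s, rfl⟩ := Ideal.Quotient.mk_surjective s
  have hs' : s ∈ (hU.primeIdealOf ⟨_, ht⟩).asIdeal.primeCompl := fun h => hs (by
    rw [he, ← hP] at h; exact h)
  refine ⟨IsLocalization.mk' _ a ⟨s, hs'⟩, ?_⟩
  rw [IsLocalization.map_mk']

/-- Additivity of the dimension of generisations. -/
theorem genDim_add [IsLocallyNoetherian S] {g t₀ t : S} (hcat : CAlg.IsUniversallyCatenary (S.presheaf.stalk t))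
    (h₀ : g ⤳ t₀) (h₁ : t₀ ⤳ t) :
    ∃ a b : ℕ, genDim g t₀ = a ∧ genDim t₀ t = b ∧ genDim g t = (a + b : ℕ) := by
  obtain ⟨U, hU, htU, -⟩ := exists_isAffineOpen_mem_and_subset (X := S) (x := t) (U := ⊤) trivial
  haveI : IsNoetherianRing Γ(S, U) := IsLocallyNoetherian.component_noetherian ⟨U, hU⟩
  obtain ⟨p, rfl⟩ : t ∈ Set.range hU.fromSpec := hU.range_fromSpec.ge htU
  obtain ⟨p₀, rfl⟩ : t₀ ∈ Set.range hU.fromSpec := h₁.mem_open hU.fromSpec.isOpenMap.isOpen_range ⟨p, rfl⟩
  obtain ⟨pg, rfl⟩ : g ∈ Set.range hU.fromSpec := h₀.mem_open hU.fromSpec.isOpenMap.isOpen_range ⟨p₀, rfl⟩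
  have hg : pg.asIdeal ≤ p₀.asIdeal := (PrimeSpectrum.le_iff_specializes pg p₀).2
    (hU.fromSpec.isOpenEmbedding.toIsInducing.specializes_iff.1 h₀)
  have hp : p₀.asIdeal ≤ p.asIdeal := (PrimeSpectrum.le_iff_specializes p₀ p).2
    (hU.fromSpec.isOpenEmbedding.toIsInducing.specializes_iff.1 h₁)
  haveI hP : (p₀.asIdeal.map (Ideal.Quotient.mk pg.asIdeal)).IsPrime :=
    Ideal.map_isPrime_of_surjective Ideal.Quotient.mk_surjective (by rwa [Ideal.mk_ker])
  haveI hQ : (p.asIdeal.map (Ideal.Quotient.mk pg.asIdeal)).IsPrime :=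
    Ideal.map_isPrime_of_surjective Ideal.Quotient.mk_surjective (by rw [Ideal.mk_ker]; exact hg.trans hp)
  haveI hR : (p.asIdeal.map (Ideal.Quotient.mk p₀.asIdeal)).IsPrime :=
    Ideal.map_isPrime_of_surjective Ideal.Quotient.mk_surjective (by rwa [Ideal.mk_ker])
  set P := p₀.asIdeal.map (Ideal.Quotient.mk pg.asIdeal)
  set Q := p.asIdeal.map (Ideal.Quotient.mk pg.asIdeal)
  haveI : (Q.map (Ideal.Quotient.mk P)).IsPrime :=
    Ideal.map_isPrime_of_surjective Ideal.Quotient.mk_surjective (by rw [Ideal.mk_ker]; exact Ideal.map_mono hp)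
  have hQc : Q.comap (Ideal.Quotient.mk pg.asIdeal) = p.asIdeal := by
    rw [Ideal.comap_map_of_surjective _ Ideal.Quotient.mk_surjective, ← RingHom.ker_eq_comap_bot, Ideal.mk_ker,
      sup_eq_left.2 (hg.trans hp)]
  have hA := isUniversallyCatenary_localization hU p hcat _ Q hQc
  haveI : IsDomain (Localization.AtPrime Q) := IsLocalization.isDomain_localization Q.primeCompl_le_nonZeroDivisors
  have hsum := height_eq_add (L := Localization.AtPrime Q) Q.primeCompl (heightCat_of_isDomain hA) P Q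
    (Ideal.map_mono hp) (Set.disjoint_left.2 fun z hz hzQ => hz hzQ)
  let e : ((Γ(S, U) ⧸ pg.asIdeal) ⧸ P) ≃+* Γ(S, U) ⧸ p₀.asIdeal := DoubleQuot.quotQuotEquivQuotOfLE hg
  have he : (Q.map (Ideal.Quotient.mk P)).height = (p.asIdeal.map (Ideal.Quotient.mk p₀.asIdeal)).height := by
    have : (Q.map (Ideal.Quotient.mk P)).map e.toRingHom = p.asIdeal.map (Ideal.Quotient.mk p₀.asIdeal) := by
      rw [Ideal.map_map, Ideal.map_map]
      congr 1
    calc (Q.map (Ideal.Quotient.mk P)).height = ((Q.map (Ideal.Quotient.mk P)).map e.toRingHom).height :=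
          (e.height_map _).symm
      _ = _ := by rw [this]
  rw [he] at hsum
  obtain ⟨a, ha⟩ : ∃ m : ℕ, P.height = m := ⟨_, (ENat.natCast_toNat Ideal.height_ne_top_of_isPrime).symm⟩
  obtain ⟨b, hb⟩ : ∃ m : ℕ, (p.asIdeal.map (Ideal.Quotient.mk p₀.asIdeal)).height = m :=
    ⟨_, (ENat.natCast_toNat Ideal.height_ne_top_of_isPrime).symm⟩
  rw [ha, hb] at hsum
  refine ⟨a, b, ?_, ?_, ?_⟩
  · rw [genDim_eq hU pg p₀ hg, ha]; rfl
  · rw [genDim_eq hU p₀ p hp, hb]; rfl
  · rw [genDim_eq hU pg p (hg.trans hp), hsum]; rfl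

/-- Closed points of affine charts are maximal ideals. -/
theorem isMaximal_of_isClosed {U : S.Opens} (hU : IsAffineOpen U) (p : PrimeSpectrum Γ(S, U))
    (h : IsClosed ({hU.fromSpec p} : Set S)) : p.asIdeal.IsMaximal := by
  refine (PrimeSpectrum.isClosed_singleton_iff_isMaximal p).1 ?_
  have h1 := h.preimage hU.fromSpec.continuous
  have e : hU.fromSpec.base ⁻¹' {hU.fromSpec p} = ({p} : Set (PrimeSpectrum Γ(S, U))) := Set.ext fun z =>
    ⟨fun hz => hU.fromSpec.isOpenEmbedding.injective hz, fun hz => congrArg hU.fromSpec hz⟩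
  exact e ▸ h1

/-- The dimension of an irreducible scheme locally of finite type over a Jacobson universally catenary
base. -/
theorem dim_eq_add {X : Scheme.{u}} [IrreducibleSpace X] [IsLocallyNoetherian S] [JacobsonSpace S]
    (hcat : ∀ s : S, CAlg.IsUniversallyCatenary (S.presheaf.stalk s)) (h : X ⟶ S) [LocallyOfFiniteType h]
    (D : ℕ) (hD : ∀ s : S, IsClosed ({s} : Set S) → h (genericPoint X) ⤳ s → genDim (h (genericPoint X)) s = D) :
    ∃ e : ℕ, fdim h (genericPoint X) = e ∧ topologicalKrullDim X = (D + e : ℕ) := by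
  classical
  obtain ⟨e, he, heO⟩ := exists_fdim h (genericPoint X)
  refine ⟨e, he, ?_⟩
  haveI : JacobsonSpace X := LocallyOfFiniteType.jacobsonSpace h
  haveI : IsLocallyNoetherian X := LocallyOfFiniteType.isLocallyNoetherian h
  have hpt : ∀ x : X, IsClosed ({x} : Set X) → genDim (genericPoint X) x = (D + e : ℕ) := by
    intro x hx
    have hs : IsClosed ({h x} : Set S) := h.closePoints_subset_preimage_closedPoints hx
    obtain ⟨U, hU, hxU, -⟩ := exists_isAffineOpen_mem_and_subset (X := S) (x := h x) (U := ⊤) trivial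
    obtain ⟨V, hV, hxV, hVU⟩ := exists_isAffineOpen_mem_and_subset (X := X) (x := x) (U := h ⁻¹ᵁ U) hxU
    have hηV : genericPoint X ∈ V := (genericPoint_specializes x).mem_open V.2 hxV
    obtain ⟨n, hn, hnO⟩ := exists_dim_chart h hU hV hVU (genericPoint X) hηV
    obtain rfl : e = n := by exact_mod_cast (heO V V.2 hηV).symm.trans hnO
    letI := (h.appLE U V hVU).hom.toAlgebra
    haveI : Algebra.FiniteType Γ(S, U) Γ(X, V) :=
      RingHom.finiteType_algebraMap.1 (h.finiteType_appLE hU hV hVU)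
    haveI : IsNoetherianRing Γ(S, U) := IsLocallyNoetherian.component_noetherian ⟨U, hU⟩
    set q₀ := hV.primeIdealOf ⟨genericPoint X, hηV⟩ with hq₀
    set q := hV.primeIdealOf ⟨x, hxV⟩ with hq
    have hqx : hV.fromSpec q = x := hV.fromSpec_primeIdealOf _
    have hq₀x : hV.fromSpec q₀ = genericPoint X := hV.fromSpec_primeIdealOf _
    have hle : q₀.asIdeal ≤ q.asIdeal := (PrimeSpectrum.le_iff_specializes q₀ q).2
      (hV.fromSpec.isOpenEmbedding.toIsInducing.specializes_iff.1 (by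
        rw [hq₀x, hqx]; exact genericPoint_specializes x))
    let p₀ : PrimeSpectrum Γ(S, U) := PrimeSpectrum.comap (algebraMap Γ(S, U) Γ(X, V)) q₀
    let p : PrimeSpectrum Γ(S, U) := PrimeSpectrum.comap (algebraMap Γ(S, U) Γ(X, V)) q
    have hp : hU.fromSpec p = h x := by
      rw [← hqx, ← Scheme.Hom.comp_apply hV.fromSpec h, ← IsAffineOpen.SpecMap_appLE_fromSpec h hU hV hVU,
        Scheme.Hom.comp_apply]
      rfl
    have hp₀ : hU.fromSpec p₀ = h (genericPoint X) := by
      rw [← hq₀x, ← Scheme.Hom.comp_apply hV.fromSpec h, ← IsAffineOpen.SpecMap_appLE_fromSpec h hU hV hVU,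
        Scheme.Hom.comp_apply]
      rfl
    have hple : p₀.asIdeal ≤ p.asIdeal := Ideal.comap_mono hle
    haveI hqmax : q.asIdeal.IsMaximal := isMaximal_of_isClosed hV q (hqx.symm ▸ hx)
    haveI hpmax : p.asIdeal.IsMaximal := isMaximal_of_isClosed hU p (hp.symm ▸ hs)
    haveI hpP : (p.asIdeal.map (Ideal.Quotient.mk p₀.asIdeal)).IsPrime :=
      Ideal.map_isPrime_of_surjective Ideal.Quotient.mk_surjective (by rwa [Ideal.mk_ker])
    haveI hqP : (q.asIdeal.map (Ideal.Quotient.mk q₀.asIdeal)).IsPrime :=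
      Ideal.map_isPrime_of_surjective Ideal.Quotient.mk_surjective (by rwa [Ideal.mk_ker])
    have hDp : (p.asIdeal.map (Ideal.Quotient.mk p₀.asIdeal)).height = D := by
      have h1 := hD (h x) hs ((genericPoint_specializes x).map h.continuous)
      rw [← hp₀, ← hp, genDim_eq hU p₀ p hple] at h1
      exact WithBot.coe_inj.1 h1
    rw [← hqx, ← hq₀x, genDim_eq hV q₀ q hle]
    haveI : Algebra.FiniteType Γ(S, U) (Γ(X, V) ⧸ q₀.asIdeal) :=
      Algebra.FiniteType.of_surjective (Ideal.Quotient.mkₐ Γ(S, U) q₀.asIdeal) Ideal.Quotient.mk_surjective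
    haveI : Algebra.FiniteType (Γ(S, U) ⧸ q₀.asIdeal.under Γ(S, U)) (Γ(X, V) ⧸ q₀.asIdeal) :=
      Algebra.FiniteType.of_restrictScalars_finiteType Γ(S, U) _ _
    haveI : FaithfulSMul (Γ(S, U) ⧸ q₀.asIdeal.under Γ(S, U)) (Γ(X, V) ⧸ q₀.asIdeal) :=
      (faithfulSMul_iff_algebraMap_injective _ _).2 (Ideal.quotientMap_injective' le_rfl)
    set q₁ := q.asIdeal.map (Ideal.Quotient.mk q₀.asIdeal) with hq₁
    have hq₁c : q₁.comap (Ideal.Quotient.mk q₀.asIdeal) = q.asIdeal := by
      rw [hq₁, Ideal.comap_map_of_surjective _ Ideal.Quotient.mk_surjective, ← RingHom.ker_eq_comap_bot,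
        Ideal.mk_ker, sup_eq_left.2 hle]
    have hp₁c : (q₁.under (Γ(S, U) ⧸ q₀.asIdeal.under Γ(S, U))).comap
        (Ideal.Quotient.mk (q₀.asIdeal.under Γ(S, U))) = p.asIdeal := by
      show _ = q.asIdeal.comap (algebraMap Γ(S, U) Γ(X, V))
      rw [← hq₁c, Ideal.comap_comap, Ideal.comap_comap]
      rfl
    obtain ⟨hq', hp', b, e', h1, h2, hb, he', hsum⟩ := height_formula q₁
      (isUniversallyCatenary_localization hU p (hcat _) _ _ hp₁c)
    have hp₁ : q₁.under (Γ(S, U) ⧸ q₀.asIdeal.under Γ(S, U)) = p.asIdeal.map (Ideal.Quotient.mk p₀.asIdeal) := by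
      rw [← hp₁c]
      exact (Ideal.map_comap_of_surjective _ Ideal.Quotient.mk_surjective _).symm
    have hh2 : hp' = D := by exact_mod_cast (h2.symm.trans (congrArg Ideal.height hp₁)).trans hDp
    haveI : q₁.IsMaximal := (Ideal.map_eq_top_or_isMaximal_of_surjective _ Ideal.Quotient.mk_surjective hqmax).resolve_left
      hqP.ne_top
    haveI : (q₁.under (Γ(S, U) ⧸ q₀.asIdeal.under Γ(S, U))).IsMaximal := by
      rw [hp₁]
      exact (Ideal.map_eq_top_or_isMaximal_of_surjective _ Ideal.Quotient.mk_surjective hpmax).resolve_left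
        hpP.ne_top
    letI := Ideal.Quotient.field (q₁.under (Γ(S, U) ⧸ q₀.asIdeal.under Γ(S, U)))
    letI := Ideal.Quotient.field q₁
    haveI : Algebra.FiniteType (Γ(S, U) ⧸ q₀.asIdeal.under Γ(S, U)) ((Γ(X, V) ⧸ q₀.asIdeal) ⧸ q₁) :=
      Algebra.FiniteType.of_surjective (Ideal.Quotient.mkₐ _ q₁) Ideal.Quotient.mk_surjective
    haveI : Algebra.FiniteType ((Γ(S, U) ⧸ q₀.asIdeal.under Γ(S, U)) ⧸ q₁.under (Γ(S, U) ⧸ q₀.asIdeal.under Γ(S, U)))
        ((Γ(X, V) ⧸ q₀.asIdeal) ⧸ q₁) :=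
      Algebra.FiniteType.of_restrictScalars_finiteType (Γ(S, U) ⧸ q₀.asIdeal.under Γ(S, U)) _ _
    haveI := finite_of_finite_type_of_isJacobsonRing
      ((Γ(S, U) ⧸ q₀.asIdeal.under Γ(S, U)) ⧸ q₁.under (Γ(S, U) ⧸ q₀.asIdeal.under Γ(S, U)))
      ((Γ(X, V) ⧸ q₀.asIdeal) ⧸ q₁)
    have hb0 : b = 0 := by
      have := hb.symm.trans trdeg_eq_zero
      exact_mod_cast this
    have hee : e' = e := by exact_mod_cast he'.symm.trans hn
    rw [h1]
    exact_mod_cast (by omega : hq' = D + e)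
  obtain ⟨x₀, hx₀u, hx₀⟩ := nonempty_inter_closedPoints (X := X) (Z := Set.univ) Set.univ_nonempty
    isOpen_univ.isLocallyClosed
  refine le_antisymm (iSup_le fun l => ?_) ((hpt x₀ hx₀).ge.trans
    ((dim_mono (Set.subset_univ _)).trans (dim_homeo (Homeomorph.Set.univ _)).le))
  obtain ⟨x, hxl, hx⟩ := nonempty_inter_closedPoints (X := X) l.head.isIrreducible.nonempty
    l.head.isClosed.isLocallyClosed
  refine le_trans ?_ (hpt x hx).le
  have hg : ∀ i, ∃ a : ↥{u : X | u ∈ closure ({genericPoint X} : Set X) ∧ u ⤳ x},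
      IsGenericPoint (a : X) (l i : Set X) := fun i => by
    obtain ⟨a, ha⟩ := QuasiSober.sober (l i).isIrreducible (l i).isClosed
    exact ⟨⟨a, (genericPoint_specializes a).mem_closure, ha.specializes (l.monotone (Fin.zero_le i) hxl)⟩, ha⟩
  choose a ha using hg
  let G : Fin (l.length + 1) → IrreducibleCloseds ↥{u : X | u ∈ closure ({genericPoint X} : Set X) ∧ u ⤳ x} :=
    fun i => ⟨closure {a i}, isIrreducible_singleton.closure, isClosed_closure⟩
  have hpre : ∀ i, (G i : Set ↥{u : X | u ∈ closure ({genericPoint X} : Set X) ∧ u ⤳ x}) = Subtype.val ⁻¹' (l i : Set X) := fun i => by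
    show closure ({a i} : Set ↥{u : X | u ∈ closure ({genericPoint X} : Set X) ∧ u ⤳ x}) = _
    rw [Topology.IsEmbedding.subtypeVal.closure_eq_preimage_closure_image, Set.image_singleton, (ha i).def]
  have hG : StrictMono G := fun i j hij => by
    refine lt_of_le_of_ne (fun z hz => ?_) fun he => ?_
    · have hz' : z ∈ (G i : Set ↥{u : X | u ∈ closure ({genericPoint X} : Set X) ∧ u ⤳ x}) := hz
      rw [hpre] at hz'
      show z ∈ (G j : Set ↥{u : X | u ∈ closure ({genericPoint X} : Set X) ∧ u ⤳ x})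
      rw [hpre]
      exact (l.strictMono hij).le hz'
    · refine (l.strictMono hij).not_ge fun z hz => ?_
      have h1 : a j ∈ (G j : Set ↥{u : X | u ∈ closure ({genericPoint X} : Set X) ∧ u ⤳ x}) := subset_closure rfl
      rw [← he, hpre] at h1
      exact ((ha j).specializes hz).mem_closed (l i).isClosed h1
  exact le_iSup_of_le (⟨l.length, G, fun i => hG (Fin.castSucc_lt_succ (i := i))⟩ :
    LTSeries (IrreducibleCloseds ↥{u : X | u ∈ closure ({genericPoint X} : Set X) ∧ u ⤳ x})) le_rfl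

/-- Additivity of generic fibre dimensions. -/
theorem fdim_comp_generic {X Y : Scheme.{u}} [IrreducibleSpace X] (f : X ⟶ Y) (g : Y ⟶ S)
    [LocallyOfFiniteType f] [LocallyOfFiniteType g] (x : X) :
    ∃ a b c : ℕ, fdim g (f x) = a ∧ fdim f x = b ∧ fdim (f ≫ g) x = c ∧ c = a + b := by
  obtain ⟨a, ha, haO⟩ := exists_fdim g (f x)
  obtain ⟨b, hb, hbO⟩ := exists_fdim f x
  obtain ⟨c, hc, hcO⟩ := exists_fdim (f ≫ g) x
  obtain ⟨U, hU, hsU, -⟩ := exists_isAffineOpen_mem_and_subset (X := S) (x := g (f x)) (U := ⊤) trivial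
  obtain ⟨W, hW, hyW, hWU⟩ := exists_isAffineOpen_mem_and_subset (X := Y) (x := f x) (U := g ⁻¹ᵁ U) hsU
  obtain ⟨V, hV, hxV, hVW⟩ := exists_isAffineOpen_mem_and_subset (X := X) (x := x) (U := f ⁻¹ᵁ W) hyW
  have hVU : V ≤ (f ≫ g) ⁻¹ᵁ U := fun z hz => hWU (hVW hz)
  obtain ⟨a', ha', ha'O⟩ := exists_dim_chart g hU hW hWU (f x) hyW
  obtain ⟨b', hb', hb'O⟩ := exists_dim_chart f hW hV hVW x hxV
  obtain ⟨c', hc', hc'O⟩ := exists_dim_chart (f ≫ g) hU hV hVU x hxV
  obtain rfl : a = a' := by exact_mod_cast (haO W W.2 hyW).symm.trans ha'O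
  obtain rfl : b = b' := by exact_mod_cast (hbO V V.2 hxV).symm.trans hb'O
  obtain rfl : c = c' := by exact_mod_cast (hcO V V.2 hxV).symm.trans hc'O
  refine ⟨a, b, c, ha, hb, hc, ?_⟩
  set φ₁ := (g.appLE U W hWU).hom
  set φ₂ := (f.appLE W V hVW).hom
  have hφ : ((f ≫ g).appLE U V hVU).hom = φ₂.comp φ₁ := by
    rw [← CommRingCat.hom_comp]
    congr 1
    exact (Scheme.Hom.appLE_comp_appLE f g U W V hWU hVW).symm
  set qX := hV.primeIdealOf ⟨x, hxV⟩
  set qY := hW.primeIdealOf ⟨f x, hyW⟩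
  have hqY : qY.asIdeal = qX.asIdeal.comap φ₂ := by
    refine congrArg PrimeSpectrum.asIdeal (hW.fromSpec.isOpenEmbedding.injective ?_ : qY = PrimeSpectrum.comap φ₂ qX)
    rw [hW.fromSpec_primeIdealOf]
    have h2 : f (hV.fromSpec qX) = hW.fromSpec (PrimeSpectrum.comap φ₂ qX) := by
      rw [← Scheme.Hom.comp_apply hV.fromSpec f, ← IsAffineOpen.SpecMap_appLE_fromSpec f hW hV hVW,
        Scheme.Hom.comp_apply]
      rfl
    rw [hV.fromSpec_primeIdealOf] at h2
    exact h2
  letI a1 := φ₁.toAlgebra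
  letI a2 := φ₂.toAlgebra
  letI a3 := ((f ≫ g).appLE U V hVU).hom.toAlgebra
  haveI : IsScalarTower Γ(S, U) Γ(Y, W) Γ(X, V) := IsScalarTower.of_algebraMap_eq' hφ
  let A := Γ(S, U) ⧸ qX.asIdeal.under Γ(S, U)
  let B := Γ(Y, W) ⧸ qX.asIdeal.under Γ(Y, W)
  let C := Γ(X, V) ⧸ qX.asIdeal
  letI : Algebra A B := (Ideal.quotientMap (qX.asIdeal.under Γ(Y, W)) (algebraMap Γ(S, U) Γ(Y, W))
    (by rw [Ideal.comap_comap, ← IsScalarTower.algebraMap_eq])).toAlgebra
  haveI : IsScalarTower A B C := IsScalarTower.of_algebraMap_eq fun z => by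
    obtain ⟨z, rfl⟩ := Ideal.Quotient.mk_surjective z
    exact congrArg (Ideal.Quotient.mk qX.asIdeal) (IsScalarTower.algebraMap_apply Γ(S, U) Γ(Y, W) Γ(X, V) z)
  haveI : FaithfulSMul A B := (faithfulSMul_iff_algebraMap_injective _ _).2 (Ideal.quotientMap_injective' (by
    rw [Ideal.comap_comap, ← IsScalarTower.algebraMap_eq]))
  haveI : FaithfulSMul B C := (faithfulSMul_iff_algebraMap_injective _ _).2 (Ideal.quotientMap_injective' le_rfl)
  have hsum := trdeg_add_eq A B (A := C)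
  have e2 : Algebra.trdeg B C = b := hb'
  have e3 : Algebra.trdeg A C = c := hc'
  have e1 : Algebra.trdeg A B = a := by
    rw [← ha']
    have hu : qY.asIdeal.under Γ(S, U) = qX.asIdeal.under Γ(S, U) := by
      rw [hqY]
      show (qX.asIdeal.comap φ₂).comap φ₁ = qX.asIdeal.comap ((f ≫ g).appLE U V hVU).hom
      rw [Ideal.comap_comap, hφ]
    refine trdeg_eq_of_ringEquiv (Ideal.quotEquivOfEq hu.symm) (Ideal.quotEquivOfEq hqY.symm) fun z => ?_
    obtain ⟨z, rfl⟩ := Ideal.Quotient.mk_surjective z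
    rfl
  rw [e1, e2, e3] at hsum
  exact_mod_cast hsum.symm

end Groth.Agent.GeomUnib
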