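import Groth.Agent.FibreDim.Local

/-!
# Fibre components and fibre dimensions
-/

set_option autoImplicit false

universe u

open CategoryTheory AlgebraicGeometry TopologicalSpace Topology

namespace Groth.Agent.FibreDim

variable {X Y : Scheme.{u}} (f : X ⟶ Y)

/-- The dimension of an irreducible closed subset of a fibre is `fdim` at its generic point. -/
theorem dim_closure_fibre (y : Y) (m : ↥(f.fiber y)) :
    topologicalKrullDim ↥(closure ({m} : Set ↥(f.fiber y))) = fdim f (f.fiberι y m) := by
  have hy : f.base (f.fiberι y m) = y := by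
    have : f.fiberι y m ∈ Set.range (f.fiberι y) := ⟨m, rfl⟩
    rwa [f.range_fiberι y] at this
  rw [fdim, hy, ← dim_image (f.fiberι y).isEmbedding,
    (f.fiberι y).isEmbedding.closure_eq_preimage_closure_image, Set.image_preimage_eq_inter_range,
    Set.image_singleton, f.range_fiberι y]

/-- A point of a fibre lies in the closure of the generic point of a component of the fibre. -/
theorem exists_component_gen (w : X) :
    ∃ C ∈ irreducibleComponents ↥(f.fiber (f.base w)), ∃ m : X, f.base m = f.base w ∧ m ⤳ w ∧
      fdim f m = topologicalKrullDim ↥C := by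
  let w' := f.asFiber w
  obtain ⟨m, hm⟩ := QuasiSober.sober (isIrreducible_irreducibleComponent (x := w'))
    isClosed_irreducibleComponent
  refine ⟨_, irreducibleComponent_mem_irreducibleComponents w', f.fiberι _ m, ?_, ?_, ?_⟩
  · have : f.fiberι _ m ∈ Set.range (f.fiberι (f.base w)) := ⟨m, rfl⟩
    rwa [f.range_fiberι] at this
  · have h := (hm.specializes mem_irreducibleComponent).map (f.fiberι _).continuous
    exact (f.fiberι_asFiber w).subst (motive := fun z => f.fiberι _ m ⤳ z) h
  · rw [← dim_closure_fibre f _ m, hm.def]

/-- If all components of all fibres have dimension `e`, so has the fibre at every point. -/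
theorem fibreDimAt_eq_of_components [LocallyOfFiniteType f] (e : WithBot ℕ∞) (x : X)
    (h : ∀ C ∈ irreducibleComponents ↥(f.fiber (f.base x)), topologicalKrullDim ↥C = e) :
    FlatMor.fibreDimAt f x = e := by
  obtain ⟨n, hn, ⟨w, hw, hwx, hwn⟩, hall⟩ := exists_fibreDimAt_eq f x
  obtain ⟨C, hC, m, hm, hmw, hmC⟩ := exists_component_gen f w
  have hC' : topologicalKrullDim ↥C = e := by
    have key : ∀ (y y' : Y) (_ : y = y') (C : Set ↥(f.fiber y)), C ∈ irreducibleComponents ↥(f.fiber y) →
        (∀ C' ∈ irreducibleComponents ↥(f.fiber y'), topologicalKrullDim ↥C' = e) → topologicalKrullDim ↥C = e := by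
      rintro y _ rfl C hC h'
      exact h' C hC
    exact key _ _ hw C hC h
  refine hn.trans (le_antisymm ?_ ?_)
  · rw [← hwn, ← hC', ← hmC]
    exact fdim_mono f hmw hm
  · have := hall m (hm.trans hw) (hmw.trans hwx)
    rw [hmC, hC'] at this
    exact this

end Groth.Agent.FibreDim
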