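import Groth.Agent.GeomUnib.EquidimLocal
import Groth.Agent.GeomUnib.Equidim

/-!
# Semicontinuity of the fibre dimension over an arbitrary base
-/

set_option linter.unusedSectionVars false

universe u

namespace Groth.Agent.GeomUnib

open CategoryTheory AlgebraicGeometry TopologicalSpace
open FibreDim

variable {X Y : Scheme.{u}} (f : X ⟶ Y) [LocallyOfFiniteType f]

/-- The fibre dimension is upper semicontinuous. -/
theorem exists_nhds_fibreDimAt_le (x : X) :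
    ∃ O : X.Opens, x ∈ O ∧ ∀ z ∈ O, FlatMor.fibreDimAt f z ≤ FlatMor.fibreDimAt f x := by
  obtain ⟨U, hU, V, hV, hVU, hxV, -, n, φ, hn, hqf⟩ := exists_chart f x ⊤ trivial
  letI := (f.appLE U V hVU).hom.toAlgebra
  haveI : Algebra.FiniteType Γ(Y, U) Γ(X, V) :=
    RingHom.finiteType_algebraMap.1 (f.finiteType_appLE hU hV hVU)
  letI : Algebra (MvPolynomial (Fin n) Γ(Y, U)) Γ(X, V) := φ.toRingHom.toAlgebra
  haveI : IsScalarTower Γ(Y, U) (MvPolynomial (Fin n) Γ(Y, U)) Γ(X, V) :=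
    IsScalarTower.of_algebraMap_eq fun a => (φ.commutes a).symm
  haveI : Algebra.FiniteType (MvPolynomial (Fin n) Γ(Y, U)) Γ(X, V) :=
    Algebra.FiniteType.of_restrictScalars_finiteType Γ(Y, U) _ _
  let q := hV.primeIdealOf ⟨x, hxV⟩
  haveI : Algebra.QuasiFiniteAt (MvPolynomial (Fin n) Γ(Y, U)) q.asIdeal := hqf
  obtain ⟨r, hr, hrq⟩ := exists_basicOpen_quasiFiniteAt (R := MvPolynomial (Fin n) Γ(Y, U)) q.asIdeal
  refine ⟨hV.fromSpec ''ᵁ PrimeSpectrum.basicOpen r, ⟨q, hr, hV.fromSpec_primeIdealOf _⟩, fun z hz => ?_⟩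
  obtain ⟨k, hk, ⟨w, -, hwz, hwk⟩, -⟩ := exists_fibreDimAt_eq f z
  obtain ⟨t, ht, rfl⟩ := hwz.mem_open (hV.fromSpec ''ᵁ PrimeSpectrum.basicOpen r).2 hz
  have htV : hV.fromSpec t ∈ V := hV.range_fromSpec.le ⟨t, rfl⟩
  have e : hV.primeIdealOf ⟨_, htV⟩ = t :=
    hV.fromSpec.isOpenEmbedding.injective (hV.fromSpec_primeIdealOf _)
  rw [hk, ← hwk, hn]
  refine (fdim_chart f hU hV hVU _ htV φ ?_).1
  rw [e]
  exact hrq t.asIdeal ht

/-- The dimension of an irreducible connected component of a fibre is the fibre dimension at any of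
its points. -/
theorem dim_component_eq (y : Y) (x : X) (hx : f x = y)
    (hirr : IsIrreducible (connectedComponentIn (f ⁻¹' {y}) x)) :
    topologicalKrullDim ↥(connectedComponentIn (f ⁻¹' {y}) x) = FlatMor.fibreDimAt f x := by
  let C := connectedComponentIn (f ⁻¹' {y}) x
  have hsub : C ⊆ f ⁻¹' {y} := connectedComponentIn_subset _ _
  have hxC : x ∈ C := mem_connectedComponentIn hx
  obtain ⟨m, hm⟩ := QuasiSober.sober hirr.closure isClosed_closure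
  have hmem : ∀ w, f w = y → w ⤳ x → w ∈ C := fun w hw hwx => by
    have hpre : _root_.IsPreconnected (closure ({w} : Set X) ∩ f ⁻¹' {y}) := by
      refine IsPreirreducible.isPreconnected fun O₁ O₂ hO₁ hO₂ h₁ h₂ => ⟨w, ⟨subset_closure rfl, hw⟩, ?_, ?_⟩
      · obtain ⟨v, hv, hv'⟩ := h₁
        exact (specializes_iff_mem_closure.2 hv.1).mem_open hO₁ hv'
      · obtain ⟨v, hv, hv'⟩ := h₂
        exact (specializes_iff_mem_closure.2 hv.1).mem_open hO₂ hv'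
    exact hpre.subset_connectedComponentIn ⟨hwx.mem_closure, hx⟩ Set.inter_subset_right ⟨subset_closure rfl, hw⟩
  -- the generic point lies in the fibre
  haveI := FibreDim.quasiSober_fibre f y
  have hcl : IsClosed (Subtype.val ⁻¹' C : Set ↥(f ⁻¹' {y})) := by
    rw [show (Subtype.val ⁻¹' C : Set ↥(f ⁻¹' {y})) = connectedComponent ⟨x, hx⟩ by
      show Subtype.val ⁻¹' connectedComponentIn (f ⁻¹' {y}) x = _
      rw [connectedComponentIn_eq_image (F := f ⁻¹' {y}) hx]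
      exact Set.preimage_image_eq _ Subtype.val_injective]
    exact isClosed_connectedComponent
  have hirr' : IsIrreducible (Subtype.val ⁻¹' C : Set ↥(f ⁻¹' {y})) := by
    refine ⟨⟨⟨x, hx⟩, hxC⟩, fun O₁ O₂ hO₁ hO₂ h₁ h₂ => ?_⟩
    obtain ⟨W₁, hW₁, rfl⟩ := isOpen_induced_iff.1 hO₁
    obtain ⟨W₂, hW₂, rfl⟩ := isOpen_induced_iff.1 hO₂
    obtain ⟨a, ha, ha'⟩ := h₁
    obtain ⟨b, hb, hb'⟩ := h₂
    obtain ⟨c, hc, hc'⟩ := hirr.2 W₁ W₂ hW₁ hW₂ ⟨a.1, ha, ha'⟩ ⟨b.1, hb, hb'⟩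
    exact ⟨⟨c, hsub hc⟩, hc, hc'⟩
  obtain ⟨⟨m₀, hm₀y⟩, hm₀⟩ := QuasiSober.sober hirr' hcl
  have hgenC : ∀ w ∈ C, m₀ ⤳ w := fun w hw =>
    (hm₀.specializes (show (⟨w, hsub hw⟩ : ↥(f ⁻¹' {y})) ∈ Subtype.val ⁻¹' C from hw)).map continuous_subtype_val
  have hm₀C : m₀ ∈ C := hm₀.mem
  have hC : C = closure ({m₀} : Set X) ∩ f ⁻¹' {f m₀} := by
    refine Set.Subset.antisymm (fun w hw => ⟨(hgenC w hw).mem_closure, (hsub hw).trans hm₀y.symm⟩) fun w hw => ?_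
    have h1 : (⟨m₀, hm₀y⟩ : ↥(f ⁻¹' {y})) ⤳ ⟨w, hw.2.trans hm₀y⟩ :=
      Topology.IsInducing.subtypeVal.specializes_iff.1 (specializes_iff_mem_closure.2 hw.1)
    exact h1.mem_closed hcl hm₀.mem
  obtain ⟨N, hN, ⟨w, hw, hwx, hwN⟩, hall⟩ := exists_fibreDimAt_eq f x
  have hle : fdim f w ≤ fdim f m₀ :=
    fdim_mono f (hgenC w (hmem w (hw.trans hx) hwx)) (hm₀y.trans (hw.trans hx).symm)
  have hge := hall m₀ (hm₀y.trans hx.symm) (hgenC x hxC)
  show topologicalKrullDim ↥C = _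
  rw [hC, hN]
  exact le_antisymm hge (hwN ▸ hle)

end Groth.Agent.GeomUnib
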