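import Groth.Agent.GeomUnib.FibreDimSemi
import Groth.Agent.GeomUnib.FibreGen
import Groth.Agent.GeomUnib.Equidim

/-!
# Dimensions of fibres near a point of the base
-/

set_option autoImplicit false
set_option linter.unusedSectionVars false
set_option backward.isDefEq.respectTransparency false

universe u

open CategoryTheory AlgebraicGeometry TopologicalSpace

namespace Groth.Agent.GeomUnib.FibreDimNhds

open FibreDim

variable {X Y : Scheme.{u}} (f : X ⟶ Y)

theorem dim_fibre_eq (y : Y) :
    topologicalKrullDim ↥(f.fiber y) = topologicalKrullDim ↥(f.base ⁻¹' {y}) :=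
  dim_homeo (f.fiberHomeo y)

theorem fdim_le_dim_fibre {y : Y} (w : X) (hw : f.base w = y) :
    fdim f w ≤ topologicalKrullDim ↥(f.fiber y) := by
  subst hw
  rw [dim_fibre_eq]
  exact dim_mono fun z hz => hz.2

variable [LocallyOfFiniteType f]

theorem exists_le_fdim {y : Y} {n : ℕ} (h : (n : WithBot ℕ∞) ≤ topologicalKrullDim ↥(f.fiber y)) :
    ∃ w : X, f.base w = y ∧ (n : WithBot ℕ∞) ≤ fdim f w := by
  rw [dim_fibre_eq] at h
  obtain ⟨w, -, hw⟩ := exists_point_of_le_dim f ⊤ y n (by
    rwa [show (((⊤ : X.Opens) : Set X) ∩ f.base ⁻¹' {y}) = f.base ⁻¹' {y} from Set.univ_inter _])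
  exact ⟨w, hw⟩

theorem dim_fibre_le {y : Y} {c : ℕ} (h : ∀ w : X, f.base w = y → fdim f w ≤ (c : WithBot ℕ∞)) :
    topologicalKrullDim ↥(f.fiber y) ≤ (c : WithBot ℕ∞) := by
  have := dim_inter_le f (Z := Set.univ) isClosed_univ isOpen_univ y fun w _ _ hw => h w hw
  rw [Set.univ_inter, Set.inter_univ] at this
  rwa [dim_fibre_eq]

/-- Every point lies below a maximal point of its fibre. -/
theorem exists_maximal (w : X) :
    ∃ m : X, f.base m = f.base w ∧ m ⤳ w ∧
      ∀ m' : X, f.base m' = f.base m → m ∈ closure {m'} → m' = m := by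
  obtain ⟨m, hm⟩ := QuasiSober.sober (isIrreducible_irreducibleComponent (x := f.asFiber w))
    isClosed_irreducibleComponent
  have hfib : f.base (f.fiberι _ m) = f.base w := (f.range_fiberι (f.base w)).le ⟨m, rfl⟩
  refine ⟨f.fiberι _ m, hfib, ?_, fun m' hm' hcl => ?_⟩
  · have h := (hm.specializes mem_irreducibleComponent).map (f.fiberι (f.base w)).continuous
    exact (f.fiberι_asFiber w).subst (motive := fun z => f.fiberι _ m ⤳ z) h
  · obtain ⟨t, rfl⟩ : m' ∈ Set.range (f.fiberι (f.base w)) := by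
      rw [f.range_fiberι]; exact hm'.trans hfib
    have htm : t ⤳ m := (f.fiberι _).isEmbedding.toIsInducing.specializes_iff.1 (specializes_iff_mem_closure.2 hcl)
    have hle : closure ({m} : Set ↥(f.fiber (f.base w))) ⊆ closure {t} :=
      closure_minimal (Set.singleton_subset_iff.2 htm.mem_closure) isClosed_closure
    rw [hm.def] at hle
    have hge : closure ({t} : Set ↥(f.fiber (f.base w))) ⊆ irreducibleComponent (f.asFiber w) :=
      (irreducibleComponent_mem_irreducibleComponents (f.asFiber w)).2 isIrreducible_singleton.closure hle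
    exact congrArg _ (htm.antisymm (hm.specializes (hge (subset_closure rfl)))).eq

/-- Openness along a fibre: the dimension does not drop along generisations. -/
theorem le_dim_fibre_of_specializes [IsLocallyNoetherian Y] {y y' : Y} (hy : y' ⤳ y)
    (hopen : ∀ x : X, f.base x = y → EGA43.IsOpenAt f.base x) {n : ℕ}
    (h : (n : WithBot ℕ∞) ≤ topologicalKrullDim ↥(f.fiber y)) :
    (n : WithBot ℕ∞) ≤ topologicalKrullDim ↥(f.fiber y') := by
  obtain ⟨w, hw, hn⟩ := exists_le_fdim f h
  obtain ⟨m, hm, hmw, hmax⟩ := exists_maximal f w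
  obtain ⟨w', -, hw', hle⟩ := exists_gen_of_isOpenAt f m hmax (hopen m (hm.trans hw)) y' (by rwa [hm, hw])
  exact (hn.trans (fdim_mono f hmw hm)).trans (hle.trans (fdim_le_dim_fibre f w' hw'))

/-- The fibre dimensions at the points of a quasi-compact set are bounded. -/
theorem exists_bound_fdim {K : Set X} (hK : IsCompact K) : ∃ n : ℕ, ∀ w ∈ K, fdim f w ≤ (n : WithBot ℕ∞) := by
  choose k hk hk' using fun x : X => exists_fibreDimAt_eq f x
  choose O hxO hO using fun x : X => exists_nhds_fibreDimAt_le f x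
  obtain ⟨t, ht⟩ := hK.elim_finite_subcover (fun x => (O x : Set X)) (fun x => (O x).2)
    fun x _ => Set.mem_iUnion.2 ⟨x, hxO x⟩
  refine ⟨t.sup k, fun w hw => ?_⟩
  obtain ⟨x, hx⟩ := Set.mem_iUnion.1 (ht hw)
  obtain ⟨hxt, hw⟩ := Set.mem_iUnion.1 hx
  refine (fdim_le_fibreDimAt f (specializes_refl w)).trans ((hO x w hw).trans ?_)
  rw [hk x]
  exact_mod_cast Finset.le_sup hxt

/-- Fibre dimensions of a quasi-compact morphism over a quasi-compact base are bounded. -/
theorem exists_bound [CompactSpace Y] [QuasiCompact f] :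
    ∃ n : ℕ, ∀ y : Y, topologicalKrullDim ↥(f.fiber y) ≤ n := by
  haveI : CompactSpace X := QuasiCompact.compactSpace_of_compactSpace f
  obtain ⟨n, hn⟩ := exists_bound_fdim f (isCompact_univ (X := X))
  exact ⟨n, fun y => dim_fibre_le f fun w _ => hn w trivial⟩

omit [LocallyOfFiniteType f] in
/-- A closed set containing all generisations of a point is a neighbourhood. -/
theorem mem_nhds_of_isClosed [IsLocallyNoetherian Y] {T : Set Y} (hT : IsClosed T) {y : Y}
    (h : ∀ η : Y, η ⤳ y → η ∈ T) : T ∈ nhds y := by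
  classical
  obtain ⟨U, hU, hyU, -⟩ := exists_isAffineOpen_mem_and_subset (U := (⊤ : Y.Opens)) (x := y) trivial
  haveI : IsNoetherianRing Γ(Y, U) := IsLocallyNoetherian.component_noetherian ⟨U, hU⟩
  let q := hU.primeIdealOf ⟨y, hyU⟩
  let F := (minimalPrimes.finite_of_isNoetherianRing (R := Γ(Y, U))).toFinset.filter fun p => ¬p ≤ q.asIdeal
  choose! s hs hsq using fun p (hp : p ∈ F) => Set.not_subset.1 (Finset.mem_filter.1 hp).2
  let a := ∏ p ∈ F, s p
  refine Filter.mem_of_superset ((hU.fromSpec.isOpenEmbedding.isOpenMap _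
    (PrimeSpectrum.isOpen_basicOpen (a := a))).mem_nhds ⟨q, (fun ha => ?_ : a ∉ q.asIdeal), hU.fromSpec_primeIdealOf _⟩) ?_
  · obtain ⟨p, hp, hp'⟩ := (Ideal.IsPrime.prod_mem_iff (p := q.asIdeal)).1 ha
    exact hsq p hp hp'
  · rintro _ ⟨P, hP, rfl⟩
    obtain ⟨p, hp, hpP⟩ := Ideal.exists_minimalPrimes_le (I := (⊥ : Ideal Γ(Y, U))) (J := P.asIdeal) bot_le
    haveI : p.IsPrime := hp.1.1
    have hpq : p ≤ q.asIdeal := by
      by_contra hne
      have hpF : p ∈ F := Finset.mem_filter.2 ⟨(Set.Finite.mem_toFinset _).2 hp, hne⟩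
      exact hP (Ideal.prod_mem P.asIdeal hpF (hpP (hs p hpF)))
    have h1 : hU.fromSpec ⟨p, inferInstance⟩ ⤳ y := by
      have := ((PrimeSpectrum.le_iff_specializes (⟨p, inferInstance⟩ : PrimeSpectrum Γ(Y, U)) q).1 hpq).map
        hU.fromSpec.continuous
      rwa [hU.fromSpec_primeIdealOf] at this
    exact (((PrimeSpectrum.le_iff_specializes (⟨p, inferInstance⟩ : PrimeSpectrum Γ(Y, U)) P).1 hpP).map
      hU.fromSpec.continuous).mem_closed hT (h _ h1)

/-- Elements of `WithBot ℕ∞` are determined by the natural numbers below them. -/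
theorem eq_of_forall_nat_le_iff {a b : WithBot ℕ∞} {n : ℕ} (hb : b ≤ (n : WithBot ℕ∞))
    (h : ∀ m : ℕ, m ≤ n + 1 → ((m : WithBot ℕ∞) ≤ a ↔ (m : WithBot ℕ∞) ≤ b)) : a = b := by
  induction b with
  | bot =>
    induction a with
    | bot => rfl
    | coe a => exact absurd ((h 0 (by omega)).1 (WithBot.coe_le_coe.2 zero_le)) (by simp)
  | coe b =>
    induction b using ENat.recTopCoe with
    | top =>
      exact absurd (WithBot.coe_le_coe.1 hb) (not_le.2 (ENat.coe_lt_top n))
    | coe b =>
      have hbn : b ≤ n := Nat.cast_le.1 (WithBot.coe_le_coe.1 hb)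
      have h1 : ((b : ℕ∞) : WithBot ℕ∞) ≤ a := (h b (by omega)).2 le_rfl
      have h2 : ¬(((b + 1 : ℕ) : ℕ∞) : WithBot ℕ∞) ≤ a := fun hc => by
        have := Nat.cast_le.1 (WithBot.coe_le_coe.1 ((h (b + 1) (by omega)).1 hc))
        omega
      induction a with
      | bot => exact absurd h1 (by simp)
      | coe a =>
        induction a using ENat.recTopCoe with
        | top => exact absurd (WithBot.coe_le_coe.2 le_top) h2
        | coe a =>
          have h3 : b ≤ a := Nat.cast_le.1 (WithBot.coe_le_coe.1 h1)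
          have h4 : ¬ b + 1 ≤ a := fun hc => h2 (WithBot.coe_le_coe.2 (Nat.cast_le.2 hc))
          obtain rfl : a = b := by omega
          rfl

/-- An element of `WithBot ℕ∞` is at most another if all natural numbers below it are. -/
theorem le_of_forall_nat_le {a b : WithBot ℕ∞} (h : ∀ n : ℕ, (n : WithBot ℕ∞) ≤ a → (n : WithBot ℕ∞) ≤ b) : a ≤ b := by
  induction a with
  | bot => exact bot_le
  | coe a =>
    induction a using ENat.recTopCoe with
    | coe k => exact h k le_rfl
    | top =>
      have h' : ∀ n : ℕ, ((n : ℕ∞) : WithBot ℕ∞) ≤ b := fun n => h n (WithBot.coe_le_coe.2 le_top)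
      induction b with
      | bot => exact absurd (h' 0) (by simp)
      | coe b =>
        induction b using ENat.recTopCoe with
        | top => exact le_rfl
        | coe k =>
          exfalso
          have := Nat.cast_le.1 (WithBot.coe_le_coe.1 (h' (k + 1)))
          omega

theorem isClosed_le_fibreDimAt (m : ℕ) : IsClosed {x : X | (m : WithBot ℕ∞) ≤ FlatMor.fibreDimAt f x} := by
  refine isClosed_iff_nhds.2 fun x hx => ?_
  obtain ⟨O, hxO, hO⟩ := exists_nhds_fibreDimAt_le f x
  obtain ⟨z, hzO, hz⟩ := hx _ (O.2.mem_nhds hxO)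
  exact le_trans hz (hO z hzO)

theorem setOf_le_dim_eq_image (m : ℕ) :
    {z : Y | (m : WithBot ℕ∞) ≤ topologicalKrullDim ↥(f.fiber z)} =
      f.base '' {x | (m : WithBot ℕ∞) ≤ FlatMor.fibreDimAt f x} := by
  ext z
  refine ⟨fun h => ?_, ?_⟩
  · obtain ⟨w, hw, hmw⟩ := exists_le_fdim f h
    exact ⟨w, le_trans hmw (fdim_le_fibreDimAt f (specializes_refl w)), hw⟩
  · rintro ⟨x, hx, rfl⟩
    obtain ⟨k, hk, ⟨w, hw, -, hwk⟩, -⟩ := exists_fibreDimAt_eq f x
    rw [Set.mem_setOf, hk, ← hwk] at hx
    exact le_trans hx (fdim_le_dim_fibre f w hw)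

omit [LocallyOfFiniteType f] in
/-- Closed sets of a locally Noetherian scheme are locally constructible. -/
theorem isLocallyConstructible_of_isClosed [IsLocallyNoetherian X] {s : Set X} (hs : IsClosed s) :
    Topology.IsLocallyConstructible s := by
  intro x
  obtain ⟨V, hV, hxV, -⟩ := exists_isAffineOpen_mem_and_subset (U := (⊤ : X.Opens)) (x := x) trivial
  haveI : IsNoetherianRing Γ(X, V) := IsLocallyNoetherian.component_noetherian ⟨V, hV⟩
  haveI : NoetherianSpace ↥(V : Set X) := noetherianSpace_of_isAffineOpen V hV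
  exact ⟨V, V.2.mem_nhds hxV, V.2, ((NoetherianSpace.isCompact _).isConstructible
    (hs.preimage continuous_subtype_val).isOpen_compl).of_compl⟩

end Groth.Agent.GeomUnib.FibreDimNhds
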