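import Groth.Agent.GeomUnib.SectionComp
import Groth.Agent.GeomUnib.FibreDimNhds
import Groth.Agent.FieldExtConn.Conn
import Groth.Agent.TrivSec.Local

/-!
# Base change of section components, geometric reducedness and fibre dimensions
-/

set_option autoImplicit false
set_option linter.style.haveILetI false
set_option linter.unusedSectionVars false
set_option backward.isDefEq.respectTransparency false

universe u

open CategoryTheory CategoryTheory.Limits AlgebraicGeometry

namespace Groth.Agent.GeomUnib.SectionBC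

open FibreDim SectionComp

variable {X Y : Scheme.{u}}

/-- A morphism from the spectrum of a field factors through the residue field of its point. -/
lemma exists_factor {K : Type u} [Field K] (k : Spec (CommRingCat.of K) ⟶ Y) {y : Y}
    (h : k.base (IsLocalRing.closedPoint K) = y) :
    ∃ φ : Y.residueField y ⟶ CommRingCat.of K, k = Spec.map φ ≫ Y.fromSpecResidueField y := by
  subst h
  exact ⟨_, (Scheme.descResidueField_stalkClosedPointTo_fromSpecResidueField K Y k).symm⟩

lemma spec_map_apply {K : Type u} [Field K] {y : Y} (φ : Y.residueField y ⟶ CommRingCat.of K)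
    (p : Spec (CommRingCat.of K)) : (Spec.map φ ≫ Y.fromSpecResidueField y).base p = y := by
  rw [Scheme.Hom.comp_apply]
  exact Scheme.fromSpecResidueField_apply _ _

/-- A morphism to the spectrum of a field is flat. -/
lemma flat_to_field {K : Type u} [Field K] {L : CommRingCat.{u}}
    (b : Spec L ⟶ Spec (CommRingCat.of K)) : Flat b := by
  obtain ⟨ψ, rfl⟩ := Spec.map_surjective b
  letI := ψ.hom.toAlgebra
  rw [HasRingHomProperty.Spec_iff (P := @Flat)]
  exact RingHom.flat_algebraMap_iff.2 inferInstance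

lemma isReduced_stalk_of_iso {P Q : Scheme.{u}} (e : P ⟶ Q) [IsIso e] (p : P)
    (h : _root_.IsReduced (Q.presheaf.stalk (e.base p))) : _root_.IsReduced (P.presheaf.stalk p) :=
  haveI := h
  isReduced_of_injective
    (asIso (e.stalkMap p)).commRingCatIsoToRingEquiv.symm
    (asIso (e.stalkMap p)).commRingCatIsoToRingEquiv.symm.injective

lemma geometricallyConnected_id (Z : Scheme.{u}) : GeometricallyConnected (𝟙 Z) :=
  ⟨geometrically_iff_of_isClosedUnderIsomorphisms.mpr fun E _ y =>
    ((asIso (pullback.snd (𝟙 Z) y)).hom.homeomorph.connectedSpace_iff).2 inferInstance⟩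

lemma connectedComponentIn_range {α β : Type*} [TopologicalSpace α] [TopologicalSpace β] {e : α → β}
    (he : Topology.IsEmbedding e) (a : α) :
    connectedComponentIn (Set.range e) (e a) = e '' connectedComponent a := by
  refine subset_antisymm (fun b hb => ?_) ((isPreconnected_connectedComponent.image e
    he.continuous.continuousOn).subset_connectedComponentIn ⟨a, mem_connectedComponent, rfl⟩
      (Set.image_subset_range _ _))
  obtain ⟨c, rfl⟩ := connectedComponentIn_subset _ _ hb
  refine ⟨c, ?_, rfl⟩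
  have hS : _root_.IsPreconnected (e ⁻¹' connectedComponentIn (Set.range e) (e a)) :=
    he.isInducing.isPreconnected_image.1
      (by rw [Set.image_preimage_eq_of_subset (connectedComponentIn_subset _ _)]
          exact isPreconnected_connectedComponentIn)
  exact hS.subset_connectedComponent (mem_connectedComponentIn ⟨a, rfl⟩) hb

/-- Geometric reducedness at a point through arbitrary field-valued points of the base. -/
def GRK (f : X ⟶ Y) (x : X) : Prop :=
  ∀ (K : Type u) [Field K] (k : Spec (CommRingCat.of K) ⟶ Y) (w : ↥(pullback f k)),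
    (pullback.fst f k).base w = x → _root_.IsReduced ((pullback f k).presheaf.stalk w)

theorem grk_iff (f : X ⟶ Y) (x : X) :
    GRK f x ↔ FBase.IsGeomReducedAt (f.fiberToSpecResidueField (f.base x)) (f.asFiber x) := by
  constructor
  · intro h K _ _ w hw
    let φ : Y.residueField (f.base x) ⟶ CommRingCat.of K :=
      CommRingCat.ofHom (algebraMap (IsLocalRing.ResidueField (Y.presheaf.stalk (f.base x))) K)
    let e := pullbackLeftPullbackSndIso f (Y.fromSpecResidueField (f.base x)) (Spec.map φ)
    refine isReduced_stalk_of_iso e.hom w (h K _ _ ?_)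
    have he : e.hom ≫ pullback.fst f (Spec.map φ ≫ Y.fromSpecResidueField (f.base x)) =
      FBase.bcπ (f.fiberToSpecResidueField (f.base x)) K ≫ f.fiberι (f.base x) := by
      simp [e, φ, FBase.bcπ, Scheme.Hom.fiberι]
      rfl
    exact (congr($he w) : _).trans ((congrArg (f.fiberι (f.base x)).base hw).trans (f.fiberι_asFiber x))
  · intro h K _ k w hw
    have hk : k.base (IsLocalRing.closedPoint K) = f.base x := by
      have : (pullback.snd f k).base w = IsLocalRing.closedPoint K := Subsingleton.elim _ _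
      rw [← hw, ← this, ← Scheme.Hom.comp_apply, ← Scheme.Hom.comp_apply, pullback.condition]
    obtain ⟨φ, rfl⟩ := exists_factor k hk
    letI : Algebra (IsLocalRing.ResidueField (Y.presheaf.stalk (f.base x))) K := φ.hom.toAlgebra
    let e := pullbackLeftPullbackSndIso f (Y.fromSpecResidueField (f.base x)) (Spec.map φ)
    have he : e.inv ≫ FBase.bcπ (f.fiberToSpecResidueField (f.base x)) K ≫ f.fiberι (f.base x) =
        pullback.fst f (Spec.map φ ≫ Y.fromSpecResidueField (f.base x)) := by
      refine (Iso.inv_comp_eq e).2 ?_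
      simp [e, FBase.bcπ, Scheme.Hom.fiberι]
      rfl
    refine isReduced_stalk_of_iso e.inv w (h K (e.inv.base w) ?_)
    refine (f.fiberι (f.base x)).isEmbedding.injective ?_
    show (f.fiberι (f.base x)).base ((FBase.bcπ (f.fiberToSpecResidueField (f.base x)) K).base (e.inv.base w)) =
      (f.fiberι (f.base x)).base (f.asFiber x)
    exact ((congr($he w) : _).trans hw).trans (f.fiberι_asFiber x).symm

/-- Geometric irreducibility of the component of a section through field-valued points of the base. -/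
def GIK (f : X ⟶ Y) (g : Y ⟶ X) (y : Y) : Prop :=
  ∀ (K : Type u) [Field K] (k : Spec (CommRingCat.of K) ⟶ Y), k.base (IsLocalRing.closedPoint K) = y →
    IsIrreducible ((pullback.fst f k).base ⁻¹' X0 f g y)

theorem gik_iff (f : X ⟶ Y) (g : Y ⟶ X) (y : Y) : GIK f g y ↔ GeomIrredAt f g y := by
  constructor
  · intro h K _ _
    let φ : Y.residueField y ⟶ CommRingCat.of K :=
      CommRingCat.ofHom (algebraMap (IsLocalRing.ResidueField (Y.presheaf.stalk y)) K)
    let e := pullbackLeftPullbackSndIso f (Y.fromSpecResidueField y) (Spec.map φ)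
    have he : e.hom ≫ pullback.fst f (Spec.map φ ≫ Y.fromSpecResidueField y) =
        FBase.bcπ (f.fiberToSpecResidueField y) K ≫ f.fiberι y := by
      simp [e, φ, FBase.bcπ, Scheme.Hom.fiberι]
      rfl
    have h1 := (h K _ (spec_map_apply φ _)).image e.inv.base e.inv.continuous.continuousOn
    convert! h1 using 1
    refine Set.ext fun w => ⟨fun hw => ⟨e.hom.base w, ?_, ?_⟩, ?_⟩
    · exact (congr($he w) : _).symm.subst (motive := fun z => z ∈ X0 f g y) hw
    · exact congr($(e.hom_inv_id) w)
    · rintro ⟨w, hw, rfl⟩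
      have h2 : e.inv ≫ FBase.bcπ (f.fiberToSpecResidueField y) K ≫ f.fiberι y =
          pullback.fst f (Spec.map φ ≫ Y.fromSpecResidueField y) := (Iso.inv_comp_eq e).2 he.symm
      exact (congr($h2 w) : _).symm.subst (motive := fun z => z ∈ X0 f g y) hw
  · intro h K _ k hk
    obtain ⟨φ, rfl⟩ := exists_factor k hk
    letI : Algebra (IsLocalRing.ResidueField (Y.presheaf.stalk y)) K := φ.hom.toAlgebra
    let e := pullbackLeftPullbackSndIso f (Y.fromSpecResidueField y) (Spec.map φ)
    have he : e.inv ≫ FBase.bcπ (f.fiberToSpecResidueField y) K ≫ f.fiberι y =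
        pullback.fst f (Spec.map φ ≫ Y.fromSpecResidueField y) := by
      refine (Iso.inv_comp_eq e).2 ?_
      simp [e, FBase.bcπ, Scheme.Hom.fiberι]
      rfl
    have h1 := (h K).image e.hom.base e.hom.continuous.continuousOn
    convert! h1 using 1
    refine Set.ext fun w => ⟨fun hw => ⟨e.inv.base w, ?_, ?_⟩, ?_⟩
    · exact (congr($he w) : _).symm.subst (motive := fun z => z ∈ X0 f g y) hw
    · exact congr($(e.inv_hom_id) w)
    · rintro ⟨w, hw, rfl⟩
      have h2 : e.hom ≫ pullback.fst f (Spec.map φ ≫ Y.fromSpecResidueField y) =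
          FBase.bcπ (f.fiberToSpecResidueField y) K ≫ f.fiberι y := ((Iso.inv_comp_eq e).1 he).symm
      exact (congr($h2 w) : _).symm.subst (motive := fun z => z ∈ X0 f g y) hw

section

variable {X₁ Y₁ : Scheme.{u}} {f : X ⟶ Y} {g : Y ⟶ X} {f₁ : X₁ ⟶ Y₁} {g₁ : Y₁ ⟶ X₁}
  {ρ : X ⟶ X₁} {π : Y ⟶ Y₁}

/-- A field-valued point of the base over given points of the two bases. -/
lemma exists_common (h : IsPullback ρ f f₁ π) {K : Type u} [Field K] (k₁ : Spec (CommRingCat.of K) ⟶ Y₁)
    {S : Scheme.{u}} (s : S ⟶ Y) {T : Scheme.{u}} (τ : T ⟶ S) (τ' : T ⟶ Spec (CommRingCat.of K))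
    (w : τ ≫ s ≫ π = τ' ≫ k₁) (t : T) :
    ∃ (L : Type u) (_ : Field L) (c : Spec (CommRingCat.of L) ⟶ T) (a : Spec (CommRingCat.of L) ⟶ Y)
      (b : Spec (CommRingCat.of L) ⟶ Spec (CommRingCat.of K))
      (m : pullback f a ⟶ pullback f₁ k₁), a ≫ π = b ≫ k₁ ∧ (∀ p, c.base p = t) ∧ a = c ≫ τ ≫ s ∧ b = c ≫ τ' ∧
      m ≫ pullback.fst f₁ k₁ = pullback.fst f a ≫ ρ ∧ m ≫ pullback.snd f₁ k₁ = pullback.snd f a ≫ b ∧
      Flat m ∧ Surjective m := by
  let L := IsLocalRing.ResidueField (T.presheaf.stalk t)
  let c : Spec (CommRingCat.of L) ⟶ T := T.fromSpecResidueField t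
  let a : Spec (CommRingCat.of L) ⟶ Y := c ≫ τ ≫ s
  let b : Spec (CommRingCat.of L) ⟶ Spec (CommRingCat.of K) := c ≫ τ'
  have hab : a ≫ π = b ≫ k₁ := by
    show (c ≫ τ ≫ s) ≫ π = (c ≫ τ') ≫ k₁
    rw [Category.assoc, Category.assoc, Category.assoc, w]
  let m : pullback f a ⟶ pullback f₁ k₁ := pullback.lift (pullback.fst f a ≫ ρ) (pullback.snd f a ≫ b)
    (by rw [Category.assoc, h.w, ← Category.assoc, pullback.condition, Category.assoc, hab, ← Category.assoc])
  have hm1 : m ≫ pullback.fst f₁ k₁ = pullback.fst f a ≫ ρ := pullback.lift_fst _ _ _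
  have hm2 : m ≫ pullback.snd f₁ k₁ = pullback.snd f a ≫ b := pullback.lift_snd _ _ _
  have sq : IsPullback m (pullback.snd f a) (pullback.snd f₁ k₁) b := by
    refine IsPullback.of_right ?_ hm2 (IsPullback.of_hasPullback f₁ k₁)
    rw [hm1, ← hab]
    exact (IsPullback.of_hasPullback f a).paste_horiz h
  haveI : Flat b := flat_to_field b
  haveI : Surjective b :=
    ⟨fun p => ⟨IsLocalRing.closedPoint _, Subsingleton.elim (α := Spec (CommRingCat.of K)) _ _⟩⟩
  exact ⟨L, inferInstance, c, a, b, m, hab, fun p => Scheme.fromSpecResidueField_apply _ _, rfl, rfl, hm1, hm2, MorphismProperty.of_isPullback sq.flip ‹Flat b›,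
    MorphismProperty.of_isPullback sq.flip ‹Surjective b›⟩

/-- Geometric reducedness is invariant under base change. -/
theorem grk_iff_of_isPullback (h : IsPullback ρ f f₁ π) (x : X) : GRK f x ↔ GRK f₁ (ρ.base x) := by
  constructor
  · intro hgr K _ k₁ w hw
    obtain ⟨t, ht1, ht2⟩ := Scheme.Pullback.exists_preimage_pullback (f := ρ) (g := pullback.fst f₁ k₁) x w hw.symm
    obtain ⟨L, _, c, a, b, m, hab, hc, ha, hb, hm1, hm2, hmf, -⟩ := exists_common h k₁ f
      (pullback.fst ρ (pullback.fst f₁ k₁)) (pullback.snd ρ (pullback.fst f₁ k₁) ≫ pullback.snd f₁ k₁)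
      (by
        rw [← h.w, pullback.condition_assoc, Category.assoc, pullback.condition])
      t
    let τ := pullback.fst ρ (pullback.fst f₁ k₁)
    let l : Spec (CommRingCat.of L) ⟶ pullback f a := pullback.lift (c ≫ τ) (𝟙 _)
      (by rw [Category.id_comp, ha, Category.assoc])
    have hl : l ≫ m = c ≫ pullback.snd ρ (pullback.fst f₁ k₁) := by
      refine pullback.hom_ext ?_ ?_
      · rw [Category.assoc, hm1, pullback.lift_fst_assoc, Category.assoc, Category.assoc, pullback.condition]
      · rw [Category.assoc, hm2, pullback.lift_snd_assoc, Category.id_comp, hb, Category.assoc]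
    have hlw : m.base (l.base (IsLocalRing.closedPoint L)) = w := by
      rw [← Scheme.Hom.comp_apply, hl, Scheme.Hom.comp_apply, hc, ht2]
    have hred := hgr L a (l.base (IsLocalRing.closedPoint L)) (by
      rw [← Scheme.Hom.comp_apply, pullback.lift_fst, Scheme.Hom.comp_apply, hc, ht1])
    subst hlw
    haveI := hred
    exact isReduced_of_injective (m.stalkMap _).hom (TrivSec.stalkMap_injective_of_flat m _)
  · intro hgr K _ k w hw
    let e := ((IsPullback.of_hasPullback f k).paste_horiz h).isoPullback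
    refine isReduced_stalk_of_iso e.hom w (hgr K (k ≫ π) _ ?_)
    rw [← Scheme.Hom.comp_apply, IsPullback.isoPullback_hom_fst, Scheme.Hom.comp_apply, hw]

/-- Components of sections map into components of sections. -/
theorem mem_X0_map (h : IsPullback ρ f f₁ π) (hs : g ≫ ρ = π ≫ g₁) (hg : g ≫ f = 𝟙 Y) {y : Y} {x : X}
    (hx : x ∈ X0 f g y) : ρ.base x ∈ X0 f₁ g₁ (π.base y) := by
  have hsub : ρ.base '' X0 f g y ⊆ f₁.base ⁻¹' {π.base y} := by
    rintro _ ⟨z, hz, rfl⟩
    rw [Set.mem_preimage, ← Scheme.Hom.comp_apply, h.w, Scheme.Hom.comp_apply, apply_of_mem_X0 hz]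
    rfl
  refine ((isPreconnected_connectedComponentIn (F := f.base ⁻¹' {y}) (x := g.base y)).image ρ.base
    ρ.continuous.continuousOn).subset_connectedComponentIn ⟨g.base y, mem_X0 hg y, ?_⟩ hsub ⟨x, hx, rfl⟩
  rw [← Scheme.Hom.comp_apply, hs, Scheme.Hom.comp_apply]

/-- Points of the base change over a component of the section lie on the component. -/
theorem mem_X0_of_map (h : IsPullback ρ f f₁ π) (hs : g ≫ ρ = π ≫ g₁) (hg : g ≫ f = 𝟙 Y)
    (hg₁ : g₁ ≫ f₁ = 𝟙 Y₁) {y : Y} {x : X} (hxy : f.base x = y)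
    (hx : ρ.base x ∈ X0 f₁ g₁ (π.base y)) : x ∈ X0 f g y := by
  let k := IsLocalRing.ResidueField (Y₁.presheaf.stalk (π.base y))
  let K := IsLocalRing.ResidueField (Y.presheaf.stalk y)
  let F := f₁.fiber (π.base y)
  let s : Spec (CommRingCat.of k) ⟶ F := pullback.lift (Y₁.fromSpecResidueField (π.base y) ≫ g₁) (𝟙 _)
    (by rw [Category.assoc, hg₁, Category.comp_id, Category.id_comp])
  letI : Algebra k K := (π.residueFieldMap y).hom.toAlgebra
  haveI := geometricallyConnected_id (Spec (CommRingCat.of k))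
  have hconn := FieldExtConn.isConnected_preimage_component (f₁.fiberToSpecResidueField (π.base y)) s
    (pullback.lift_snd _ _ _) (IsLocalRing.closedPoint k) K
  have hs0 : (f₁.fiberι (π.base y)).base (s.base (IsLocalRing.closedPoint k)) = g₁.base (π.base y) := by
    have e1 : s ≫ f₁.fiberι (π.base y) = Y₁.fromSpecResidueField (π.base y) ≫ g₁ := pullback.lift_fst _ _ _
    exact (congr($e1 _) : _).trans (congrArg g₁.base (Scheme.fromSpecResidueField_apply _ _))
  have hC : X0 f₁ g₁ (π.base y) = (f₁.fiberι (π.base y)).base ''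
      connectedComponent (s.base (IsLocalRing.closedPoint k)) := by
    show connectedComponentIn _ _ = _
    rw [← hs0, ← f₁.range_fiberι (π.base y)]
    exact connectedComponentIn_range (f₁.fiberι (π.base y)).isEmbedding _
  have hsq : Spec.map (π.residueFieldMap y) ≫ Y₁.fromSpecResidueField (π.base y) =
      Y.fromSpecResidueField y ≫ π := Scheme.Hom.SpecMap_residueFieldMap_fromSpecResidueField _ _
  let Ψ := pullbackLeftPullbackSndIso f₁ (Y₁.fromSpecResidueField (π.base y)) (Spec.map (π.residueFieldMap y)) ≪≫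
    pullback.congrHom rfl hsq ≪≫
    ((IsPullback.of_hasPullback f (Y.fromSpecResidueField y)).paste_horiz h).isoPullback.symm
  let P := pullback (f₁.fiberToSpecResidueField (π.base y)) (FieldExtConn.ext k K)
  let q : P ⟶ X := Ψ.hom ≫ f.fiberι y
  have hq : q ≫ ρ = pullback.fst (f₁.fiberToSpecResidueField (π.base y)) (FieldExtConn.ext k K) ≫
      f₁.fiberι (π.base y) := by
    simp [q, Ψ, Scheme.Hom.fiberι]
    rfl
  let S := q.base '' ((pullback.fst (f₁.fiberToSpecResidueField (π.base y)) (FieldExtConn.ext k K)).base ⁻¹'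
    connectedComponent (s.base (IsLocalRing.closedPoint k)))
  have hmem : ∀ z : X, f.base z = y → ρ.base z ∈ X0 f₁ g₁ (π.base y) → z ∈ S := by
    intro z hz hz₁
    obtain ⟨a, ha⟩ : z ∈ Set.range (f.fiberι y) := (f.range_fiberι y).ge hz
    obtain ⟨b, hb⟩ := Ψ.hom.surjective a
    have hqb : q.base b = z := (congrArg (f.fiberι y).base hb).trans ha
    refine ⟨b, ?_, hqb⟩
    rw [hC] at hz₁
    obtain ⟨c, hc, hcz⟩ := hz₁
    rw [Set.mem_preimage]
    convert hc using 1
    refine (f₁.fiberι (π.base y)).isEmbedding.injective ?_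
    rw [hcz, ← hqb, ← Scheme.Hom.comp_apply q ρ, hq]
    rfl
  have hSsub : S ⊆ f.base ⁻¹' {y} := by
    rintro _ ⟨b, -, rfl⟩
    exact (f.range_fiberι y).le ⟨Ψ.hom.base b, rfl⟩
  refine (hconn.isPreconnected.image q.base q.continuous.continuousOn).subset_connectedComponentIn
    (hmem _ (section_apply hg y) ?_) hSsub (hmem x hxy hx)
  rw [← Scheme.Hom.comp_apply, hs, Scheme.Hom.comp_apply]
  exact mem_X0 hg₁ _

/-- Geometric irreducibility is invariant under base change. -/
theorem gik_iff_of_isPullback (h : IsPullback ρ f f₁ π) (hs : g ≫ ρ = π ≫ g₁) (hg : g ≫ f = 𝟙 Y)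
    (hg₁ : g₁ ≫ f₁ = 𝟙 Y₁) (y : Y) : GIK f g y ↔ GIK f₁ g₁ (π.base y) := by
  have key : ∀ x : X, f.base x = y → (x ∈ X0 f g y ↔ ρ.base x ∈ X0 f₁ g₁ (π.base y)) :=
    fun x hx => ⟨mem_X0_map h hs hg, mem_X0_of_map h hs hg hg₁ hx⟩
  constructor
  · intro hgi K _ k₁ hk₁
    obtain ⟨t, ht1, ht2⟩ := Scheme.Pullback.exists_preimage_pullback (f := π) (g := k₁) y
      (IsLocalRing.closedPoint K) hk₁.symm
    obtain ⟨L, _, c, a, b, m, hab, hc, ha, -, hm1, hm2, -, hmsurj⟩ := exists_common h k₁ (𝟙 Y)
      (pullback.fst π k₁) (pullback.snd π k₁) (by rw [Category.id_comp, pullback.condition]) t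
    have hay : a.base (IsLocalRing.closedPoint L) = y := by
      rw [ha, Category.comp_id, Scheme.Hom.comp_apply]
      rw [hc]; exact ht1
    have h1 := (hgi L a hay).image m.base m.continuous.continuousOn
    convert! h1 using 1
    refine Set.ext fun w => ⟨fun hw => ?_, ?_⟩
    · obtain ⟨v, rfl⟩ := m.surjective w
      refine ⟨v, ?_, rfl⟩
      rw [Set.mem_preimage] at hw ⊢
      rw [key _ ?_, ← Scheme.Hom.comp_apply, ← hm1, Scheme.Hom.comp_apply]
      · exact hw
      · rw [← hay, ← show (pullback.snd f a).base v = IsLocalRing.closedPoint L from Subsingleton.elim _ _,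
          ← Scheme.Hom.comp_apply, ← Scheme.Hom.comp_apply, pullback.condition]
    · rintro ⟨v, hv, rfl⟩
      rw [Set.mem_preimage, ← Scheme.Hom.comp_apply, hm1, Scheme.Hom.comp_apply]
      exact mem_X0_map h hs hg hv
  · intro hgi K _ k hk
    let e := ((IsPullback.of_hasPullback f k).paste_horiz h).isoPullback
    have h1 := (hgi K (k ≫ π) (by rw [Scheme.Hom.comp_apply, hk])).image e.inv.base e.inv.continuous.continuousOn
    have hfy : ∀ v : ↥(pullback f k), f.base ((pullback.fst f k).base v) = y := fun v => by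
      rw [← hk, ← show (pullback.snd f k).base v = IsLocalRing.closedPoint K from Subsingleton.elim _ _,
        ← Scheme.Hom.comp_apply, ← Scheme.Hom.comp_apply, pullback.condition]
    convert! h1 using 1
    refine Set.ext fun w => ⟨fun hw => ⟨e.hom.base w, ?_, ?_⟩, ?_⟩
    · rw [Set.mem_preimage, ← Scheme.Hom.comp_apply, IsPullback.isoPullback_hom_fst, Scheme.Hom.comp_apply]
      exact mem_X0_map h hs hg hw
    · rw [← Scheme.Hom.comp_apply, e.hom_inv_id]; rfl
    · rintro ⟨w, hw, rfl⟩
      rw [Set.mem_preimage, key _ (hfy _), ← Scheme.Hom.comp_apply, ← Scheme.Hom.comp_apply,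
        IsPullback.isoPullback_inv_fst]
      exact hw

end

/-- Base change of a fibre is generalising. -/
theorem exists_gen_bc {Y' : Scheme.{u}} (f : X ⟶ Y) (π : Y' ⟶ Y) (s : ↥(pullback f π)) {m : X}
    (hm : f.base m = π.base ((pullback.snd f π).base s)) (hms : m ⤳ (pullback.fst f π).base s) :
    ∃ b, b ⤳ s ∧ (pullback.snd f π).base b = (pullback.snd f π).base s ∧ (pullback.fst f π).base b = m := by
  set y' := (pullback.snd f π).base s
  have hp := isPullback_fiberToSpecResidueField_of_isPullback (IsPullback.of_hasPullback f π) y'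
  haveI : Flat (Spec.map (π.residueFieldMap y')) := flat_to_field (K := IsLocalRing.ResidueField (Y.presheaf.stalk (π.base y'))) _
  let h' := pullback.map (pullback.snd f π) (Y'.fromSpecResidueField y') f (Y.fromSpecResidueField (π.base y'))
    (pullback.fst f π) (Spec.map (π.residueFieldMap y')) π pullback.condition.symm (by simp)
  haveI : Flat h' := MorphismProperty.of_isPullback hp.flip ‹_›
  have hc : h' ≫ f.fiberι (π.base y') = (pullback.snd f π).fiberι y' ≫ pullback.fst f π := pullback.lift_fst _ _ _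
  obtain ⟨a, ha⟩ : s ∈ Set.range ((pullback.snd f π).fiberι y') := ((pullback.snd f π).range_fiberι y').ge rfl
  obtain ⟨c, hc'⟩ : m ∈ Set.range (f.fiberι (π.base y')) := (f.range_fiberι _).ge hm
  have hca : c ⤳ h'.base a := by
    rw [← (f.fiberι (π.base y')).isEmbedding.isInducing.specializes_iff]
    have e1 : (f.fiberι (π.base y')).base (h'.base a) = (pullback.fst f π).base s :=
      (congr($hc a) : _).trans (congrArg (pullback.fst f π).base ha)
    exact hc'.symm.subst (motive := fun z => z ⤳ (f.fiberι (π.base y')).base (h'.base a))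
      (e1.symm.subst (motive := fun z => m ⤳ z) hms)
  obtain ⟨d, hd, hdc⟩ := Flat.generalizingMap h' hca
  refine ⟨((pullback.snd f π).fiberι y').base d, ha ▸ hd.map ((pullback.snd f π).fiberι y').continuous,
    ((pullback.snd f π).range_fiberι y').le ⟨d, rfl⟩, ?_⟩
  exact (congr($hc d) : _).symm.trans ((congrArg (f.fiberι (π.base y')).base hdc).trans hc')

/-- The fibre dimension is invariant under base change. -/
theorem fibreDimAt_bc {Y' : Scheme.{u}} (f : X ⟶ Y) [LocallyOfFiniteType f] (π : Y' ⟶ Y) (s : ↥(pullback f π)) :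
    FlatMor.fibreDimAt (pullback.snd f π) s = FlatMor.fibreDimAt f ((pullback.fst f π).base s) := by
  have hfs : f.base ((pullback.fst f π).base s) = π.base ((pullback.snd f π).base s) := by
    rw [← Scheme.Hom.comp_apply, ← Scheme.Hom.comp_apply, pullback.condition]
  refine le_antisymm ?_ ?_
  · obtain ⟨n, hn, ⟨w, hw, hws, hwn⟩, -⟩ := exists_fibreDimAt_eq (pullback.snd f π) s
    obtain ⟨b, hb, hbw, hmax⟩ := FibreDimNhds.exists_maximal (pullback.snd f π) w
    have hle := fdim_mono (pullback.snd f π) hbw hb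
    rw [hn, ← hwn]
    refine hle.trans ?_
    rw [(fdim_fst_of_maximal f π b (fun c hc hcb => hmax c hc hcb.mem_closure)).2]
    exact fdim_le_fibreDimAt f ((hbw.trans hws).map (pullback.fst f π).continuous)
  · obtain ⟨n, hn, ⟨w, hw, hws, hwn⟩, -⟩ := exists_fibreDimAt_eq f ((pullback.fst f π).base s)
    obtain ⟨m, hm, hmw, hmax⟩ := FibreDimNhds.exists_maximal f w
    have hle := fdim_mono f hmw hm
    obtain ⟨b, hbs, hb, hbm⟩ := exists_gen_bc f π s ((hm.trans hw).trans hfs) (hmw.trans hws)
    obtain ⟨c, hc, hcb, hmax'⟩ := FibreDimNhds.exists_maximal (pullback.snd f π) b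
    have hcm : (pullback.fst f π).base c = m := by
      refine hmax _ ?_ (hbm ▸ hcb.map (pullback.fst f π).continuous).mem_closure
      rw [← Scheme.Hom.comp_apply, pullback.condition, Scheme.Hom.comp_apply, hc, hb, ← hfs, hm, hw]
    rw [hn, ← hwn]
    refine hle.trans ?_
    rw [← hcm, ← (fdim_fst_of_maximal f π c (fun d hd hdc => hmax' d hd hdc.mem_closure)).2]
    exact fdim_le_fibreDimAt _ (hcb.trans hbs)

end Groth.Agent.GeomUnib.SectionBC
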