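import Groth.Agent.GeomUnib.ValuationLift
import Groth.Agent.GeomUnib.FibreGen
import Groth.Agent.UnivOpenAt.Scheme

/-!
# Generisations with large fibre dimension, arbitrary base
-/

set_option autoImplicit false

universe u

open CategoryTheory AlgebraicGeometry TopologicalSpace Topology

namespace Groth.Agent.GeomUnib

open FibreDim

variable {X Y : Scheme.{u}} (f : X ⟶ Y) [LocallyOfFiniteType f]

/-- Universal openness gives, over each generisation of the image, a generisation of no smaller fibre dimension. -/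
theorem exists_gen_of_isUnivOpenAt (x : X) (hopen : EGA43.IsUnivOpenAt f x) (y' : Y) (hy' : y' ⤳ f.base x) :
    ∃ w, w ⤳ x ∧ f.base w = y' ∧ fdim f x ≤ fdim f w := by
  obtain ⟨_, ⟨U, hU, rfl⟩, hxU, -⟩ :=
    Y.isBasis_affineOpens.exists_subset_of_mem_open (Set.mem_univ (f.base x)) isOpen_univ
  obtain ⟨_, ⟨V, hV, rfl⟩, hxV, hVU : V ≤ f ⁻¹ᵁ U⟩ :=
    X.isBasis_affineOpens.exists_subset_of_mem_open (show x ∈ f ⁻¹ᵁ U from hxU) (f ⁻¹ᵁ U).2
  letI := (f.appLE U V hVU).hom.toAlgebra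
  have hy'U : y' ∈ U := hy'.mem_open U.2 hxU
  let p' := hU.primeIdealOf ⟨y', hy'U⟩
  let q := hV.primeIdealOf ⟨x, hxV⟩
  have key : ∀ t : PrimeSpectrum Γ(X, V),
      hU.fromSpec (PrimeSpectrum.comap (algebraMap Γ(Y, U) Γ(X, V)) t) = f.base (hV.fromSpec t) := fun t => by
    rw [← Scheme.Hom.comp_apply, ← IsAffineOpen.SpecMap_appLE_fromSpec f hU hV hVU, Scheme.Hom.comp_apply]
    rfl
  have hp' : p'.asIdeal ≤ q.asIdeal.under Γ(Y, U) := by
    refine (PrimeSpectrum.le_iff_specializes p' (PrimeSpectrum.comap (algebraMap Γ(Y, U) Γ(X, V)) q)).2 ?_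
    refine hU.fromSpec.isOpenEmbedding.toIsInducing.specializes_iff.1 ?_
    rw [key, hV.fromSpec_primeIdealOf, hU.fromSpec_primeIdealOf]
    exact hy'
  obtain ⟨n, hn, hdn⟩ := exists_dim_chart f hU hV hVU x hxV
  haveI : FaithfulSMul (Γ(Y, U) ⧸ q.asIdeal.under Γ(Y, U)) (Γ(X, V) ⧸ q.asIdeal) :=
    (faithfulSMul_iff_algebraMap_injective _ _).2 (Ideal.quotientMap_injective' le_rfl)
  obtain ⟨ι, xb, hxb⟩ := exists_isTranscendenceBasis' (Γ(Y, U) ⧸ q.asIdeal.under Γ(Y, U)) (Γ(X, V) ⧸ q.asIdeal)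
  choose z hz using fun i => Ideal.Quotient.mk_surjective (xb i)
  obtain ⟨Q, hQ, hQq, hQp, hind⟩ := exists_gen_algebraicIndependent q.asIdeal p'.asIdeal hp'
    (fun C _ _ _ => UnivOpenAt.torAt_of_isUnivOpenAt f hU hV hVU hxV hopen C) z
    (by simpa only [hz] using hxb)
  let Q' : PrimeSpectrum Γ(X, V) := ⟨Q, hQ⟩
  let w := hV.fromSpec Q'
  have hwV : w ∈ V := hV.range_fromSpec.le ⟨Q', rfl⟩
  have hwQ : hV.primeIdealOf ⟨w, hwV⟩ = Q' :=
    hV.fromSpec.isOpenEmbedding.injective (hV.fromSpec_primeIdealOf _)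
  refine ⟨w, ?_, ?_, ?_⟩
  · have := ((PrimeSpectrum.le_iff_specializes Q' q).1 hQq).map hV.fromSpec.continuous
    rwa [hV.fromSpec_primeIdealOf] at this
  · rw [← key, show PrimeSpectrum.comap (algebraMap Γ(Y, U) Γ(X, V)) Q' = p' from PrimeSpectrum.ext hQp]
    exact hU.fromSpec_primeIdealOf _
  · obtain ⟨m, hm, hdm⟩ := exists_dim_chart f hU hV hVU w hwV
    obtain ⟨k, hk, hkO⟩ := exists_fdim f x
    obtain ⟨l, hl, hlO⟩ := exists_fdim f w
    rw [hk, hl, ← hkO V V.2 hxV, ← hlO V V.2 hwV, hdn, hdm]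
    rw [hwQ] at hm
    have hindQ : AlgebraicIndependent (Γ(Y, U) ⧸ Q.under Γ(Y, U)) fun i => Ideal.Quotient.mk Q (z i) := by
      refine algebraicIndependent_iff.2 fun G hG => ?_
      obtain ⟨G, rfl⟩ := MvPolynomial.map_surjective (Ideal.Quotient.mk (Q.under Γ(Y, U)))
        Ideal.Quotient.mk_surjective G
      have hmem : MvPolynomial.aeval z G ∈ Q := by
        rw [← Ideal.Quotient.eq_zero_iff_mem]
        refine Eq.trans ?_ hG
        refine RingHom.congr_fun (f := (Ideal.Quotient.mk Q).comp (MvPolynomial.aeval z).toRingHom)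
          (g := (MvPolynomial.aeval fun i => Ideal.Quotient.mk Q (z i)).toRingHom.comp
            (MvPolynomial.map (Ideal.Quotient.mk (Q.under Γ(Y, U))))) ?_ G
        refine MvPolynomial.ringHom_ext (fun a => ?_) (fun i => ?_)
        · simp
        · simp
      ext k
      rw [MvPolynomial.coeff_map, MvPolynomial.coeff_zero, Ideal.Quotient.eq_zero_iff_mem, hQp]
      exact hind G hmem k
    have h1 : (n : Cardinal) ≤ m := by
      rw [← hn, ← hxb.cardinalMk_eq_trdeg]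
      exact le_of_le_of_eq hindQ.cardinalMk_le_trdeg hm
    exact_mod_cast h1

/-- If points over `y'` of large fibre dimension accumulate at `x`, one of them generises `x`. -/
theorem exists_gen_of_forall_nhds' (x : X) (y' : Y) (hy' : y' ⤳ f.base x)
    (c : WithBot ℕ∞) (h : ∀ O : X.Opens, x ∈ O → ∃ w ∈ O, f.base w = y' ∧ c ≤ fdim f w) :
    ∃ w, w ⤳ x ∧ f.base w = y' ∧ c ≤ fdim f w := by
  classical
  obtain ⟨_, ⟨U, hU, rfl⟩, hxU, -⟩ :=
    Y.isBasis_affineOpens.exists_subset_of_mem_open (Set.mem_univ (f.base x)) isOpen_univ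
  obtain ⟨_, ⟨V, hV, rfl⟩, hxV, hVU : V ≤ f ⁻¹ᵁ U⟩ :=
    X.isBasis_affineOpens.exists_subset_of_mem_open (show x ∈ f ⁻¹ᵁ U from hxU) (f ⁻¹ᵁ U).2
  letI := (f.appLE U V hVU).hom.toAlgebra
  haveI : Algebra.FiniteType Γ(Y, U) Γ(X, V) :=
    RingHom.finiteType_algebraMap.1 (f.finiteType_appLE hU hV hVU)
  have hy'U : y' ∈ U := hy'.mem_open U.2 hxU
  let p' := hU.primeIdealOf ⟨y', hy'U⟩
  let q := hV.primeIdealOf ⟨x, hxV⟩
  haveI : IsNoetherianRing (p'.asIdeal.Fiber Γ(X, V)) :=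
    Algebra.FiniteType.isNoetherianRing p'.asIdeal.ResidueField _
  let e := PrimeSpectrum.preimageHomeomorphFiber Γ(Y, U) Γ(X, V) p'
  have key : ∀ t : PrimeSpectrum Γ(X, V),
      hU.fromSpec (PrimeSpectrum.comap (algebraMap Γ(Y, U) Γ(X, V)) t) = f.base (hV.fromSpec t) := fun t => by
    rw [← Scheme.Hom.comp_apply, ← IsAffineOpen.SpecMap_appLE_fromSpec f hU hV hVU, Scheme.Hom.comp_apply]
    rfl
  -- the generic points of the components of the fibre in the chart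
  let gens : Set (PrimeSpectrum Γ(X, V)) :=
    (fun g => (e.symm g).1) '' {g : PrimeSpectrum (p'.asIdeal.Fiber Γ(X, V)) |
      g.asIdeal ∈ minimalPrimes (p'.asIdeal.Fiber Γ(X, V))}
  have hgens : gens.Finite := (Set.Finite.of_finite_image (f := PrimeSpectrum.asIdeal)
    ((minimalPrimes.finite_of_isNoetherianRing _).subset (by rintro _ ⟨a, ha, rfl⟩; exact ha))
    (fun a _ b _ h => PrimeSpectrum.ext h)).image _
  have hC : IsClosed (⋃ g ∈ {g ∈ gens | ¬ g ⤳ q}, closure ({g} : Set (PrimeSpectrum Γ(X, V)))) :=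
    (hgens.subset fun g hg => hg.1).isClosed_biUnion fun g _ => isClosed_closure
  obtain ⟨_, ⟨t, ht, rfl⟩, hty, htc⟩ := h (hV.fromSpec ''ᵁ ⟨_, hC.isOpen_compl⟩)
    ⟨q, fun hq => by
      obtain ⟨g, hg, hgq⟩ := Set.mem_iUnion₂.1 hq
      exact hg.2 (specializes_iff_mem_closure.2 hgq), hV.fromSpec_primeIdealOf _⟩
  have htp : PrimeSpectrum.comap (algebraMap Γ(Y, U) Γ(X, V)) t = p' :=
    hU.fromSpec.isOpenEmbedding.injective ((key t).trans (hty.trans (hU.fromSpec_primeIdealOf ⟨y', hy'U⟩).symm))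
  obtain ⟨g, hg, hgt⟩ := Ideal.exists_minimalPrimes_le (bot_le : (⊥ : Ideal _) ≤ (e ⟨t, htp⟩).asIdeal)
  let g' : PrimeSpectrum (p'.asIdeal.Fiber Γ(X, V)) := ⟨g, hg.1.1⟩
  have hgg : (e.symm g').1 ⤳ t := by
    have h1 : e.symm g' ⤳ e.symm (e ⟨t, htp⟩) :=
      ((PrimeSpectrum.le_iff_specializes g' _).1 hgt).map e.symm.continuous
    rw [e.symm_apply_apply] at h1
    exact h1.map continuous_subtype_val
  have hgq : (e.symm g').1 ⤳ q := by_contra fun hne =>
    ht (Set.mem_biUnion ⟨⟨g', hg, rfl⟩, hne⟩ hgg.mem_closure)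
  have hgy : f.base (hV.fromSpec (e.symm g').1) = y' := by
    rw [← key, show PrimeSpectrum.comap (algebraMap Γ(Y, U) Γ(X, V)) (e.symm g').1 = p' from (e.symm g').2]
    exact hU.fromSpec_primeIdealOf _
  refine ⟨hV.fromSpec (e.symm g').1, ?_, hgy,
    htc.trans (fdim_mono f (hgg.map hV.fromSpec.continuous) (hgy.trans hty.symm))⟩
  have := hgq.map hV.fromSpec.continuous
  rwa [hV.fromSpec_primeIdealOf] at this

end Groth.Agent.GeomUnib
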