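import Groth.Agent.GeomUnib.SectionKey
import Groth.Agent.GeomUnib.FibreGenGeneral
import Groth.Agent.SectExt.Basic

/-!
# Semicontinuity of the dimension of the component of a section
-/

set_option autoImplicit false
set_option linter.style.haveILetI false
set_option linter.unusedSectionVars false
set_option backward.isDefEq.respectTransparency false

universe u

open CategoryTheory CategoryTheory.Limits AlgebraicGeometry

namespace Groth.Agent.GeomUnib.SectionComp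

open FibreDim

variable {X Y : Scheme.{u}} {f : X ⟶ Y} {g : Y ⟶ X}

/-- A discrete valuation ring through a proper specialisation. -/
theorem exists_dvr_pt [IsLocallyNoetherian Y] {η y : Y} (h : η ⤳ y) (hne : η ≠ y) :
    ∃ (A : Type u) (_ : CommRing A) (_ : IsDomain A) (_ : IsDiscreteValuationRing A)
      (u : Spec (CommRingCat.of A) ⟶ Y), u.base (IsLocalRing.closedPoint A) = y ∧ u.base (genPt A) = η := by
  obtain ⟨A, _, _, _, u, g', hu, hg', ht⟩ := SectExt.exists_dvr_of_specializes (𝟙 Y) η y h fun e => hne e.symm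
  refine ⟨A, inferInstance, inferInstance, inferInstance, u, hu, ?_⟩
  have h1 : (genMap A (FractionRing A)).base (IsLocalRing.closedPoint (FractionRing A)) = genPt A := by
    rw [genMap_apply, genericPoint_eq_bot_of_affine]
    rfl
  rw [← h1, ← Scheme.Hom.comp_apply, show genMap A (FractionRing A) ≫ u = g' ≫ 𝟙 Y from hg'.symm,
    Category.comp_id]
  exact ht

variable [LocallyOfFiniteType f]

/-- Universal openness follows from constancy of the dimension along generisations. -/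
theorem isUnivOpenAt_of_d0_const [IsLocallyNoetherian Y] (hg : g ≫ f = 𝟙 Y) (hirr : GeomIrred f g) {x : X}
    (hx : x ∈ X0 f g (f.base x)) (h : ∀ η : Y, η ⤳ f.base x → d0 f g η = d0 f g (f.base x)) :
    EGA43.IsUnivOpenAt f x := by
  refine (UnivOpenAt.isUnivOpenAt_iff_dvr f).2 fun A _ _ _ g₀ hg₀ x' hx' hxc => ?_
  have hd : d0 f g (g₀.base (genPt A)) = d0 f g (g₀.base (IsLocalRing.closedPoint A)) := by
    rw [h _ (hg₀ ▸ (genPt_specializes _).map g₀.continuous), hg₀]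
  exact exists_gen_of_key g₀ (key_of_d0_eq hg hirr g₀ hd) hxc (by rw [hg₀, hx']; exact hx)

/-- Along generisations the dimension does not drop, under universal openness and geometric
reducedness. -/
theorem d0_le_of_geomReduced [IsLocallyNoetherian Y] (hg : g ≫ f = 𝟙 Y) (hirr : GeomIrred f g) {y₀ : Y}
    (hopen : ∀ ξ ∈ X0 f g y₀, X0 f g y₀ ⊆ closure {ξ} → EGA43.IsUnivOpenAt f ξ)
    (hred : FBase.IsGeomReducedAt (f.fiberToSpecResidueField (f.base (g.base y₀))) (f.asFiber (g.base y₀)))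
    {η : Y} (h : η ⤳ y₀) : d0 f g y₀ ≤ d0 f g η := by
  rcases eq_or_ne η y₀ with rfl | hne
  · rfl
  obtain ⟨A, _, _, _, u, hc, hu⟩ := exists_dvr_pt h hne
  subst hc hu
  exact d0_le_of_key hg hirr u (key_of_geomReduced hg hirr u hopen hred)

/-- Along generisations the dimension does not drop, under universal openness and irreducibility. -/
theorem d0_le_of_dim_eq (hg : g ≫ f = 𝟙 Y) (hirr : GeomIrred f g) {y₀ : Y}
    (hopen : ∀ ξ ∈ X0 f g y₀, X0 f g y₀ ⊆ closure {ξ} → EGA43.IsUnivOpenAt f ξ)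
    {η : Y} (h : η ⤳ y₀) (hdim : topologicalKrullDim ↥(f.fiber η) = d0 f g η) :
    d0 f g y₀ ≤ d0 f g η := by
  obtain ⟨ξ, hξy, hξ, hspec, hd, -⟩ := exists_generic hg hirr y₀
  obtain ⟨w, -, hw, hle⟩ := exists_gen_of_isUnivOpenAt f ξ
    (hopen ξ hξ fun x hx => (hspec x hx).mem_closure) η (hξy.symm ▸ h)
  rw [hd]
  refine hle.trans ?_
  rw [← hdim, fdim, hw, dim_homeo (f.fiberHomeo η)]
  exact dim_mono fun x hx => hx.2

/-- The dimension is constant near a point if it does not drop at the generic points. -/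
theorem exists_nhds_d0_eq [IsLocallyNoetherian Y] (hg : g ≫ f = 𝟙 Y) (hirr : GeomIrred f g) (y₀ : Y)
    (h : ∀ η : Y, η ⤳ y₀ → closure {η} ∈ irreducibleComponents (Y : Type u) → d0 f g y₀ ≤ d0 f g η) :
    ∃ V ∈ nhds y₀, ∀ z ∈ V, d0 f g z = d0 f g y₀ := by
  classical
  obtain ⟨V₁, hy₁, hV₁⟩ := exists_nhds_d0_le hg hirr y₀
  obtain ⟨U, hU, hyU, -⟩ := exists_isAffineOpen_mem_and_subset (U := (⊤ : Y.Opens)) (x := y₀) trivial
  haveI : IsNoetherianRing Γ(Y, U) := IsLocallyNoetherian.component_noetherian (X := Y) ⟨U, hU⟩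
  let p₀ := hU.primeIdealOf ⟨y₀, hyU⟩
  have hfin := minimalPrimes.finite_of_isNoetherianRing Γ(Y, U)
  obtain ⟨t, ht₀, ht⟩ : ∃ t, t ∉ p₀.asIdeal ∧ ∀ q ∈ minimalPrimes Γ(Y, U), ¬ q ≤ p₀.asIdeal → t ∈ q := by
    have : ∀ q : {q // q ∈ hfin.toFinset.filter (fun q => ¬ q ≤ p₀.asIdeal)}, ∃ a, a ∈ q.1 ∧ a ∉ p₀.asIdeal :=
      fun q => SetLike.not_le_iff_exists.1 (Finset.mem_filter.1 q.2).2
    choose a ha ha' using this
    refine ⟨∏ q, a q, fun hm => ?_, fun q hq hqp => ?_⟩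
    · obtain ⟨q, -, hq⟩ := (Ideal.IsPrime.prod_mem_iff).1 hm
      exact ha' q hq
    · exact Ideal.mem_of_dvd q
        (Finset.dvd_prod_of_mem a (Finset.mem_univ ⟨q, Finset.mem_filter.2 ⟨hfin.mem_toFinset.2 hq, hqp⟩⟩))
        (ha ⟨q, _⟩)
  let O : Set Y := hU.fromSpec '' (PrimeSpectrum.basicOpen t : Set (PrimeSpectrum Γ(Y, U)))
  have hO : IsOpen O := hU.fromSpec.isOpenEmbedding.isOpenMap _ (PrimeSpectrum.basicOpen t).isOpen
  refine ⟨(V₁ : Set Y) ∩ O, Filter.inter_mem (V₁.isOpen.mem_nhds hy₁)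
    (hO.mem_nhds ⟨p₀, ht₀, hU.fromSpec_primeIdealOf _⟩), ?_⟩
  rintro _ ⟨hz₁, pz, hpz, rfl⟩
  refine le_antisymm (hV₁ _ hz₁) ?_
  obtain ⟨Vz, hzV, hVz⟩ := exists_nhds_d0_le hg hirr (hU.fromSpec pz)
  obtain ⟨q, hq, hqz⟩ := Ideal.exists_minimalPrimes_le (I := (⊥ : Ideal Γ(Y, U))) (J := pz.asIdeal) bot_le
  have hqp : q ≤ p₀.asIdeal := by
    by_contra hqp
    exact hpz (hqz (ht q hq hqp))
  let Q : PrimeSpectrum Γ(Y, U) := ⟨q, hq.1.1⟩
  have hηz : hU.fromSpec Q ⤳ hU.fromSpec pz :=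
    ((PrimeSpectrum.le_iff_specializes Q pz).1 hqz).map hU.fromSpec.continuous
  have hηy : hU.fromSpec Q ⤳ y₀ := by
    have h1 := ((PrimeSpectrum.le_iff_specializes Q p₀).1 hqp).map hU.fromSpec.continuous
    rwa [hU.fromSpec_primeIdealOf] at h1
  refine (h _ hηy ?_).trans (hVz _ (hηz.mem_open Vz.isOpen hzV))
  refine ⟨isIrreducible_singleton.closure, fun T hT hsub => ?_⟩
  obtain ⟨τ, hτ⟩ := QuasiSober.sober hT.closure isClosed_closure
  have hτη : τ ⤳ hU.fromSpec Q := hτ.specializes (subset_closure (hsub (subset_closure rfl)))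
  obtain ⟨R, hR⟩ : ∃ R : PrimeSpectrum Γ(Y, U), hU.fromSpec R = τ := by
    show τ ∈ Set.range hU.fromSpec
    rw [hU.range_fromSpec]
    exact hτη.mem_open U.2 (hU.range_fromSpec.le ⟨Q, rfl⟩)
  have hRQ : R = Q := by
    have h1 : R ≤ Q := (PrimeSpectrum.le_iff_specializes R Q).2
      (hU.fromSpec.isOpenEmbedding.isInducing.specializes_iff.1 (hR ▸ hτη :))
    exact le_antisymm h1 (hq.2 ⟨R.2, bot_le⟩ h1)
  rw [← hRQ, hR, hτ.def]
  exact subset_closure

end Groth.Agent.GeomUnib.SectionComp
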