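import Groth.Agent.GeomUnib.SectionBaseChange
import Groth.Agent.NoethApprox.Basic
import Groth.Agent.ProConsLib.Basic
import Groth.Agent.GeomUnib.SectionSemi

/-!
# Restriction of sections to opens, and constructibility of the dimension along a section
-/

set_option autoImplicit false
set_option linter.style.haveILetI false
set_option linter.unusedSectionVars false
set_option backward.isDefEq.respectTransparency false

universe u

open CategoryTheory CategoryTheory.Limits AlgebraicGeometry TopologicalSpace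

namespace Groth.Agent.GeomUnib.SectionBC

open FibreDim SectionComp

variable {X Y X' Y' : Scheme.{u}} {f : X ⟶ Y} {g : Y ⟶ X} {f' : X' ⟶ Y'} {g' : Y' ⟶ X'}
  {j : X' ⟶ X} {i : Y' ⟶ Y} [IsOpenImmersion j] [IsOpenImmersion i]

lemma open_fibre_iff (w : f' ≫ i = j ≫ f) {y : Y'} (a : X') :
    f'.base a = y ↔ f.base (j.base a) = i.base y := by
  rw [← Scheme.Hom.comp_apply, ← w, Scheme.Hom.comp_apply]
  exact i.isOpenEmbedding.injective.eq_iff.symm

/-- The fibre dimension is local. -/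
theorem fibreDimAt_restrict [LocallyOfFiniteType f] [LocallyOfFiniteType f'] (w : f' ≫ i = j ≫ f) (a : X') :
    FlatMor.fibreDimAt f' a = FlatMor.fibreDimAt f (j.base a) := by
  have hd : ∀ b : X', fdim f' b = fdim f (j.base b) := by
    intro b
    obtain ⟨n, hn, hO⟩ := exists_fdim f (j.base b)
    rw [hn, ← hO _ j.isOpenEmbedding.isOpen_range ⟨b, rfl⟩, fdim, ← dim_image j.isOpenEmbedding.isEmbedding]
    congr 2
    all_goals first
      | (ext c
         constructor
         · rintro ⟨d, ⟨hd, hdf⟩, rfl⟩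
           exact ⟨⟨((specializes_iff_mem_closure.2 hd : b ⤳ d).map j.continuous).mem_closure,
             ((open_fibre_iff w d).1 hdf).trans ((open_fibre_iff w b).1 rfl).symm⟩, d, rfl⟩
         · rintro ⟨⟨hc, hcf⟩, d, rfl⟩
           exact ⟨d, ⟨(j.isOpenEmbedding.isInducing.specializes_iff.1 (specializes_iff_mem_closure.2 hc)).mem_closure,
             (open_fibre_iff w d).2 (Eq.trans hcf ((open_fibre_iff w b).1 rfl))⟩, rfl⟩)
  obtain ⟨n, hn, ⟨v, hv, hva, hvn⟩, hall⟩ := exists_fibreDimAt_eq f' a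
  obtain ⟨m, hm, ⟨u, hu, hua, hum⟩, hall'⟩ := exists_fibreDimAt_eq f (j.base a)
  rw [hn, hm]
  refine le_antisymm ?_ ?_
  · rw [← hvn, hd]
    exact hall' _ (((open_fibre_iff w v).1 hv).trans ((open_fibre_iff w a).1 rfl).symm) (hva.map j.continuous)
  · obtain ⟨b, rfl⟩ := hua.mem_open j.isOpenEmbedding.isOpen_range ⟨a, rfl⟩
    rw [← hum, ← hd]
    exact hall b ((open_fibre_iff w b).2 (hu.trans ((open_fibre_iff w a).1 rfl)))
      (j.isOpenEmbedding.isInducing.specializes_iff.1 hua)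

/-- Geometric reducedness restricts to opens. -/
theorem grk_restrict (w : f' ≫ i = j ≫ f) {a : X'} (h : GRK f (j.base a)) : GRK f' a := by
  intro K _ k v hv
  let m : pullback f' k ⟶ pullback f (k ≫ i) :=
    pullback.map f' k f (k ≫ i) j (𝟙 _) i w (by rw [Category.id_comp])
  have hm : m ≫ pullback.fst f (k ≫ i) = pullback.fst f' k ≫ j := pullback.lift_fst _ _ _
  haveI := h K (k ≫ i) (m.base v) (by rw [← Scheme.Hom.comp_apply, hm, Scheme.Hom.comp_apply, hv])
  exact isReduced_of_injective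
    (asIso (m.stalkMap v)).commRingCatIsoToRingEquiv.symm
    (asIso (m.stalkMap v)).commRingCatIsoToRingEquiv.symm.injective

/-- The component of the section in an open containing the section. -/
theorem mem_X0_restrict_iff (w : f' ≫ i = j ≫ f) (hs : g' ≫ j = i ≫ g) (hg : g ≫ f = 𝟙 Y)
    (hg' : g' ≫ f' = 𝟙 Y') {y : Y'} (hirr : GeomIrredAt f g (i.base y)) {a : X'} :
    a ∈ X0 f' g' y ↔ f'.base a = y ∧ j.base a ∈ X0 f g (i.base y) := by
  have hgy : j.base (g'.base y) = g.base (i.base y) := by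
    rw [← Scheme.Hom.comp_apply, hs, Scheme.Hom.comp_apply]
  constructor
  · intro ha
    refine ⟨apply_of_mem_X0 ha, (isPreconnected_connectedComponentIn (F := f'.base ⁻¹' {y}) (x := g'.base y)).image
      j.base j.continuous.continuousOn |>.subset_connectedComponentIn ⟨_, mem_X0 hg' y, hgy⟩ ?_ ⟨a, ha, rfl⟩⟩
    rintro _ ⟨b, hb, rfl⟩
    exact (open_fibre_iff w b).1 (apply_of_mem_X0 hb)
  · rintro ⟨-, ha⟩
    have h1 : _root_.IsPreconnected (j.base ⁻¹' X0 f g (i.base y)) :=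
      ((isIrreducible_X0_at hirr).2.preimage j.isOpenEmbedding).isPreconnected
    refine h1.subset_connectedComponentIn ?_ (fun b hb => (open_fibre_iff w b).2 (apply_of_mem_X0 hb)) ha
    rw [Set.mem_preimage, hgy]
    exact mem_X0 hg _

/-- Geometric irreducibility of the component of the section restricts to opens. -/
theorem gik_restrict (w : f' ≫ i = j ≫ f) (hs : g' ≫ j = i ≫ g) (hg : g ≫ f = 𝟙 Y) (hg' : g' ≫ f' = 𝟙 Y')
    {y : Y'} (hirr : GeomIrredAt f g (i.base y)) : GeomIrredAt f' g' y := by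
  rw [← gik_iff]
  intro K _ k hk
  let m : pullback f' k ⟶ pullback f (k ≫ i) :=
    pullback.map f' k f (k ≫ i) j (𝟙 _) i w (by rw [Category.id_comp])
  have hm : m ≫ pullback.fst f (k ≫ i) = pullback.fst f' k ≫ j := pullback.lift_fst _ _ _
  have hS := (gik_iff f g (i.base y)).2 hirr K (k ≫ i) (by rw [Scheme.Hom.comp_apply, hk])
  have he : (pullback.fst f' k).base ⁻¹' X0 f' g' y =
      m.base ⁻¹' ((pullback.fst f (k ≫ i)).base ⁻¹' X0 f g (i.base y)) := by
    ext v
    have hv : f'.base ((pullback.fst f' k).base v) = y := by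
      rw [← hk, ← show (pullback.snd f' k).base v = IsLocalRing.closedPoint K from Subsingleton.elim _ _,
        ← Scheme.Hom.comp_apply, ← Scheme.Hom.comp_apply, pullback.condition]
    rw [Set.mem_preimage, Set.mem_preimage, Set.mem_preimage, mem_X0_restrict_iff w hs hg hg' hirr,
      ← Scheme.Hom.comp_apply m, hm, Scheme.Hom.comp_apply]
    exact ⟨fun h => h.2, fun h => ⟨hv, h⟩⟩
  refine ⟨?_, he ▸ hS.2.preimage m.isOpenEmbedding⟩
  obtain ⟨v, hv, -⟩ := Scheme.Pullback.exists_preimage_pullback (f := f') (g := k) (g'.base y)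
    (IsLocalRing.closedPoint K) ((section_apply hg' y).trans hk.symm)
  exact ⟨v, by rw [Set.mem_preimage, hv]; exact mem_X0 hg' y⟩

omit [IsOpenImmersion j] [IsOpenImmersion i] in
/-- A Noetherian base of an affine piece. -/
theorem exists_noetherian_approx [IsAffine X] [IsAffine Y] (f : X ⟶ Y) [LocallyOfFinitePresentation f] :
    ∃ (X₀ Y₀ : Scheme.{u}) (f₀ : X₀ ⟶ Y₀) (π : Y ⟶ Y₀) (ρ : X ⟶ X₀),
      IsPullback ρ f f₀ π ∧ IsLocallyNoetherian Y₀ ∧ IsLocallyNoetherian X₀ ∧ LocallyOfFiniteType f₀ := by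
  obtain ⟨X₀, Y₀, f₀, π, ρ, _, _, hpb, hft, hf₀, -⟩ := NoethApprox.exists_approx f
  haveI : IsNoetherianRing Γ(Y₀, ⊤) := Algebra.FiniteType.isNoetherianRing ℤ _
  haveI : IsLocallyNoetherian Y₀ := isLocallyNoetherian_of_affine_cover (S := fun _ : PUnit.{1} =>
    (⟨⊤, isAffineOpen_top Y₀⟩ : Y₀.affineOpens)) (by simp)
    (fun _ => (inferInstance : IsNoetherianRing Γ(Y₀, ⊤)))
  haveI := hf₀
  exact ⟨X₀, Y₀, f₀, π, ρ, hpb, inferInstance, LocallyOfFiniteType.isLocallyNoetherian f₀, hf₀⟩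

omit [IsOpenImmersion j] [IsOpenImmersion i] in
/-- Where the fibre dimension along a section is at least `n` on all generisations it is so nearby. -/
theorem mem_nhds_le_fibreDimAt [LocallyOfFinitePresentation f] (hg : g ≫ f = 𝟙 Y) {y₀ : Y} (n : ℕ)
    (h : ∀ η : Y, η ⤳ y₀ → (n : WithBot ℕ∞) ≤ FlatMor.fibreDimAt f (g.base η)) :
    ∃ O : Y.Opens, y₀ ∈ O ∧ ∀ z ∈ O, (n : WithBot ℕ∞) ≤ FlatMor.fibreDimAt f (g.base z) := by
  obtain ⟨U₀, hU₀, hyU₀, -⟩ := exists_isAffineOpen_mem_and_subset (U := (⊤ : Y.Opens)) (x := y₀) trivial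
  obtain ⟨V, hV, hgV, hVU⟩ := exists_isAffineOpen_mem_and_subset (U := f ⁻¹ᵁ U₀) (x := g.base y₀)
    (by show f.base (g.base y₀) ∈ U₀; rw [section_apply hg]; exact hyU₀)
  haveI : IsAffine U₀.toScheme := hU₀
  haveI : IsAffine V.toScheme := hV
  let f' := f.resLE U₀ V hVU
  have w : f' ≫ U₀.ι = V.ι ≫ f := Scheme.Hom.resLE_comp_ι f hVU
  obtain ⟨X₁, Y₁, f₁, π, ρ, hpb, _, _, _⟩ := exists_noetherian_approx f'
  let C : Set X₁ := {p | (n : WithBot ℕ∞) ≤ FlatMor.fibreDimAt f₁ p}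
  have hC : ProCons.IsIndConstructible C :=
    (ProConsLib.isLocallyConstructible_iff_ind_pro.1
      (FibreDimNhds.isLocallyConstructible_of_isClosed (FibreDimNhds.isClosed_le_fibreDimAt f₁ n))).1
  have key : ∀ a : V.toScheme, FlatMor.fibreDimAt f (V.ι.base a) = FlatMor.fibreDimAt f₁ (ρ.base a) := by
    intro a
    have e1 := fibreDimAt_restrict (f := f) (f' := f') w a
    have e2 := fibreDimAt_restrict (f := pullback.snd f₁ π) (f' := f') (j := hpb.isoPullback.hom) (i := 𝟙 _)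
      (by rw [Category.comp_id, IsPullback.isoPullback_hom_snd]) a
    rw [fibreDimAt_bc, ← Scheme.Hom.comp_apply, IsPullback.isoPullback_hom_fst] at e2
    exact e1.symm.trans e2
  let O₀ : Y.Opens := g ⁻¹ᵁ V ⊓ U₀
  let s : O₀.toScheme ⟶ V.toScheme :=
    IsOpenImmersion.lift V.ι (O₀.ι ≫ g) (by
      rintro _ ⟨b, rfl⟩
      rw [Scheme.Opens.range_ι]
      exact b.2.1)
  have hs : s ≫ V.ι = O₀.ι ≫ g := IsOpenImmersion.lift_fac _ _ _
  have hkey : ∀ b : O₀.toScheme, FlatMor.fibreDimAt f (g.base (O₀.ι.base b)) =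
      FlatMor.fibreDimAt f₁ ((s ≫ ρ).base b) := by
    intro b
    rw [← Scheme.Hom.comp_apply, ← hs, Scheme.Hom.comp_apply, key]
    rfl
  have hy : y₀ ∈ O₀ := ⟨hgV, hyU₀⟩
  have hint : (⟨y₀, hy⟩ : O₀.toScheme) ∈ interior ((s ≫ ρ).base ⁻¹' C) := by
    rw [ProConsLib.mem_interior_iff_generizations (ProConsLib.isInd_preimage (s ≫ ρ) hC)]
    intro b hb
    show (n : WithBot ℕ∞) ≤ _
    rw [← hkey]
    exact h _ (hb.map O₀.ι.continuous)
  refine ⟨⟨O₀.ι.base '' interior ((s ≫ ρ).base ⁻¹' C), O₀.ι.isOpenEmbedding.isOpenMap _ isOpen_interior⟩,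
    ⟨⟨y₀, hy⟩, hint, rfl⟩, ?_⟩
  rintro _ ⟨b, hb, rfl⟩
  rw [hkey]
  exact interior_subset (s := (s ≫ ρ).base ⁻¹' C) hb

end Groth.Agent.GeomUnib.SectionBC
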