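import Groth.Agent.GeomUnib.Crit
import Groth.Agent.GeomUnib.FibreGen

/-!
# Fibre dimensions over valuation rings
-/

set_option autoImplicit false

universe u

open CategoryTheory AlgebraicGeometry TopologicalSpace

namespace Groth.Agent.GeomUnib

open FibreDim

/-- Over a valuation ring transcendence degrees of residue extensions do not exceed the generic one. -/
theorem trdeg_quotient_le_of_valuationRing {A B : Type u} [CommRing A] [IsDomain A] [ValuationRing A]
    [CommRing B] [Algebra A B] (g q : Ideal B) [g.IsPrime] [q.IsPrime] (hg : g.under A = ⊥) (hgq : g ≤ q)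
    (hq : q.under A = IsLocalRing.maximalIdeal A) :
    Algebra.trdeg (A ⧸ q.under A) (B ⧸ q) ≤ Algebra.trdeg (A ⧸ g.under A) (B ⧸ g) := by
  classical
  refine ciSup_le' fun s => ?_
  choose z hz using fun i : s.1 => Ideal.Quotient.mk_surjective (i : B ⧸ q)
  have hind : AlgebraicIndependent (A ⧸ g.under A) fun i => Ideal.Quotient.mk g (z i) := by
    refine algebraicIndependent_iff.2 fun G hG => ?_
    obtain ⟨G, rfl⟩ := MvPolynomial.map_surjective (Ideal.Quotient.mk (g.under A)) Ideal.Quotient.mk_surjective G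
    have hev : ∀ (J : Ideal B) (G : MvPolynomial s.1 A),
        (MvPolynomial.aeval fun i => Ideal.Quotient.mk J (z i))
          (MvPolynomial.map (Ideal.Quotient.mk (J.under A)) G) = Ideal.Quotient.mk J (MvPolynomial.aeval z G) := by
      intro J G
      refine RingHom.congr_fun (f := (MvPolynomial.aeval fun i => Ideal.Quotient.mk J (z i)).toRingHom.comp
          (MvPolynomial.map (Ideal.Quotient.mk (J.under A))))
        (g := (Ideal.Quotient.mk J).comp (MvPolynomial.aeval z).toRingHom) ?_ G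
      refine MvPolynomial.ringHom_ext (fun a => ?_) (fun i => ?_)
      · simp
      · simp
    rw [hev, Ideal.Quotient.eq_zero_iff_mem] at hG
    by_contra hne
    have hG0 : G ≠ 0 := fun h => hne (by rw [h, map_zero])
    obtain ⟨k₀, hk₀, hdvd⟩ : ∃ k₀ ∈ G.support, ∀ k ∈ G.support, MvPolynomial.coeff k₀ G ∣ MvPolynomial.coeff k G := by
      have : ∀ S : Finset (s.1 →₀ ℕ), S.Nonempty →
          ∃ k₀ ∈ S, ∀ k ∈ S, MvPolynomial.coeff k₀ G ∣ MvPolynomial.coeff k G := by
        intro S hS
        induction hS using Finset.Nonempty.cons_induction with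
        | singleton a => exact ⟨a, Finset.mem_singleton_self a, fun k hk => by rw [Finset.mem_singleton.1 hk]⟩
        | cons a S ha hS ih =>
          obtain ⟨k₀, hk₀, hd⟩ := ih
          rcases ValuationRing.dvd_total (MvPolynomial.coeff a G) (MvPolynomial.coeff k₀ G) with h | h
          · exact ⟨a, Finset.mem_cons_self a S, fun k hk => (Finset.mem_cons.1 hk).elim
              (fun e => e ▸ dvd_rfl) fun hk => h.trans (hd k hk)⟩
          · exact ⟨k₀, Finset.mem_cons.2 (Or.inr hk₀), fun k hk => (Finset.mem_cons.1 hk).elim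
              (fun e => e ▸ h) fun hk => hd k hk⟩
      exact this _ (MvPolynomial.support_nonempty.2 hG0)
    obtain ⟨G₁, hG₁⟩ : ∃ G₁, G = MvPolynomial.C (MvPolynomial.coeff k₀ G) * G₁ := by
      refine (MvPolynomial.C_dvd_iff_dvd_coeff _ _).2 fun k => ?_
      by_cases hk : k ∈ G.support
      · exact hdvd k hk
      · rw [MvPolynomial.notMem_support_iff.1 hk]; exact dvd_zero _
    have hc : MvPolynomial.coeff k₀ G ≠ 0 := MvPolynomial.mem_support_iff.1 hk₀
    rw [hG₁, map_mul, MvPolynomial.aeval_C] at hG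
    have h1 : MvPolynomial.aeval z G₁ ∈ g := ((inferInstance : g.IsPrime).mem_or_mem hG).resolve_left
      fun h => hc (by
        have : MvPolynomial.coeff k₀ G ∈ g.under A := h
        rwa [hg, Ideal.mem_bot] at this)
    have h2 : MvPolynomial.map (Ideal.Quotient.mk (q.under A)) G₁ = 0 := by
      refine algebraicIndependent_iff.1 s.2 _ ?_
      have := hev q G₁
      simp only [hz] at this
      simp only [id_eq]
      rw [this, Ideal.Quotient.eq_zero_iff_mem]
      exact hgq h1
    have h3 := congrArg (MvPolynomial.coeff k₀) hG₁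
    rw [MvPolynomial.coeff_C_mul] at h3
    have h4 : MvPolynomial.coeff k₀ G₁ = 1 := (mul_eq_left₀ hc).1 h3.symm
    have h5 := congrArg (MvPolynomial.coeff k₀) h2
    rw [MvPolynomial.coeff_map, h4, map_one, MvPolynomial.coeff_zero] at h5
    haveI : Nontrivial (A ⧸ q.under A) := Ideal.Quotient.nontrivial_iff.2 (Ideal.IsPrime.ne_top inferInstance)
    exact one_ne_zero h5
  exact hind.cardinalMk_le_trdeg

variable {A : Type u} [CommRing A] [IsDomain A] [ValuationRing A] {X : Scheme.{u}}
  (f : X ⟶ Spec (CommRingCat.of A)) [LocallyOfFiniteType f]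

/-- Over a valuation ring the special fibre is no bigger than the generic fibre at a generisation. -/
theorem fdim_le_of_valuationRing {z w : X} (h : z ⤳ w)
    (hw : f.base w = IsLocalRing.closedPoint A) (hz : f.base z = (⟨⊥, Ideal.isPrime_bot⟩ : PrimeSpectrum A)) :
    fdim f w ≤ fdim f z := by
  obtain ⟨_, ⟨V, hV, rfl⟩, hwV, -⟩ :=
    X.isBasis_affineOpens.exists_subset_of_mem_open (Set.mem_univ w) isOpen_univ
  have hU : IsAffineOpen (⊤ : (Spec (CommRingCat.of A)).Opens) := isAffineOpen_top _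
  have hVU : V ≤ f ⁻¹ᵁ ⊤ := le_top
  letI := (f.appLE ⊤ V hVU).hom.toAlgebra
  haveI : IsDomain Γ(Spec (CommRingCat.of A), ⊤) := (Scheme.ΓSpecIso _).commRingCatIsoToRingEquiv.toMulEquiv.isDomain_iff.2 inferInstance
  haveI : ValuationRing Γ(Spec (CommRingCat.of A), ⊤) :=
    Function.Surjective.valuationRing (Scheme.ΓSpecIso (CommRingCat.of A)).inv.hom
      (Scheme.ΓSpecIso (CommRingCat.of A)).commRingCatIsoToRingEquiv.symm.surjective
  have hzV : z ∈ V := h.mem_open V.2 hwV
  let g := hV.primeIdealOf ⟨z, hzV⟩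
  let q := hV.primeIdealOf ⟨w, hwV⟩
  have key : ∀ t : PrimeSpectrum Γ(X, V),
      hU.fromSpec (PrimeSpectrum.comap (algebraMap Γ(Spec (CommRingCat.of A), ⊤) Γ(X, V)) t) =
        f.base (hV.fromSpec t) := fun t => by
    rw [← Scheme.Hom.comp_apply, ← IsAffineOpen.SpecMap_appLE_fromSpec f hU hV hVU, Scheme.Hom.comp_apply]
    rfl
  have hgq : g.asIdeal ≤ q.asIdeal := by
    refine (PrimeSpectrum.le_iff_specializes g q).2 (hV.fromSpec.isOpenEmbedding.toIsInducing.specializes_iff.1 ?_)
    rw [hV.fromSpec_primeIdealOf, hV.fromSpec_primeIdealOf]; exact h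
  have hg : g.asIdeal.under Γ(Spec (CommRingCat.of A), ⊤) = ⊥ := by
    refine le_antisymm ?_ bot_le
    let b : PrimeSpectrum Γ(Spec (CommRingCat.of A), ⊤) := ⟨⊥, Ideal.isPrime_bot⟩
    refine (PrimeSpectrum.le_iff_specializes (PrimeSpectrum.comap _ g) b).2
      (hU.fromSpec.isOpenEmbedding.toIsInducing.specializes_iff.1 ?_)
    rw [key, hV.fromSpec_primeIdealOf, hz]
    exact (PrimeSpectrum.le_iff_specializes (⟨⊥, Ideal.isPrime_bot⟩ : PrimeSpectrum A) _).1 bot_le
  have hq : q.asIdeal.under Γ(Spec (CommRingCat.of A), ⊤) = IsLocalRing.maximalIdeal _ := by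
    refine le_antisymm (IsLocalRing.le_maximalIdeal (Ideal.IsPrime.ne_top inferInstance)) ?_
    let c : PrimeSpectrum Γ(Spec (CommRingCat.of A), ⊤) := IsLocalRing.closedPoint _
    refine (PrimeSpectrum.le_iff_specializes c (PrimeSpectrum.comap _ q)).2
      (hU.fromSpec.isOpenEmbedding.toIsInducing.specializes_iff.1 ?_)
    rw [key, hV.fromSpec_primeIdealOf, hw]
    exact IsLocalRing.specializes_closedPoint _
  obtain ⟨m, hm, hdm⟩ := exists_dim_chart f hU hV hVU w hwV
  obtain ⟨m', hm', hdm'⟩ := exists_dim_chart f hU hV hVU z hzV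
  obtain ⟨k, hk, hkO⟩ := exists_fdim f w
  obtain ⟨l, hl, hlO⟩ := exists_fdim f z
  rw [hk, hl, ← hkO V V.2 hwV, ← hlO V V.2 hzV, hdm, hdm']
  have h1 : (m : Cardinal) ≤ m' := by
    rw [← hm, ← hm']
    exact trdeg_quotient_le_of_valuationRing g.asIdeal q.asIdeal hg hgq hq
  exact_mod_cast h1

end Groth.Agent.GeomUnib
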