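import Groth.Agent.GeomUnib.LengthLocal
import Groth.Agent.ModGroth.PullStalk
import Groth.Agent.QCohLib.StalkLoc
import Groth.Agent.MeroBasic.Reg
import Groth.Agent.FlatDescent.Scheme

/-!
# Stalks of modules at generisations and on fibres
-/

set_option linter.unusedSectionVars false
set_option linter.style.haveILetI false

universe u

namespace Groth.Agent.GeomUnib

open CategoryTheory AlgebraicGeometry IsLocalRing TopologicalSpace
open MeroBasic (pr exists_germ_mul_eq isUnit_germ_iff)
open Groth.Agent.QCohLib (germ_smul exists_smul_eq_germ mem_basicOpen_iff_notMem_primeIdealOf)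

variable {X : Scheme.{u}}

/-- The prime of the local ring at `z` given by a generisation. -/
noncomputable def genPrime {x' z : X} (h : x' ⤳ z) : PrimeSpectrum (X.presheaf.stalk z) :=
  Spec.map (X.presheaf.stalkSpecializes h) (closedPoint (X.presheaf.stalk x'))

lemma fromSpecStalk_genPrime {x' z : X} (h : x' ⤳ z) : X.fromSpecStalk z (genPrime h) = x' := by
  show X.fromSpecStalk z (Spec.map (X.presheaf.stalkSpecializes h) (closedPoint (X.presheaf.stalk x'))) = x'
  rw [← Scheme.Hom.comp_apply, Scheme.SpecMap_stalkSpecializes_fromSpecStalk, Scheme.fromSpecStalk_closedPoint]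

lemma fromSpecStalk_specializes {z : X} (q : PrimeSpectrum (X.presheaf.stalk z)) : X.fromSpecStalk z q ⤳ z := by
  have h : (show ↥(Spec (X.presheaf.stalk z)) from q) ⤳ closedPoint (X.presheaf.stalk z) :=
    IsLocalRing.specializes_closedPoint q
  simpa only [Scheme.fromSpecStalk_closedPoint] using h.map (X.fromSpecStalk z).continuous

lemma genPrime_fromSpecStalk {z : X} (q : PrimeSpectrum (X.presheaf.stalk z)) :
    genPrime (fromSpecStalk_specializes q) = q :=
  (X.fromSpecStalk z).isEmbedding.injective (fromSpecStalk_genPrime _)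

lemma specializes_of_prime_le {z : X} {q q' : PrimeSpectrum (X.presheaf.stalk z)} (h : q ≤ q') :
    X.fromSpecStalk z q ⤳ X.fromSpecStalk z q' :=
  ((PrimeSpectrum.le_iff_specializes q q').1 h).map (X.fromSpecStalk z).continuous

lemma prime_le_of_specializes {x' w z : X} (h : x' ⤳ z) (h' : w ⤳ z) (hw : x' ⤳ w) :
    genPrime h ≤ genPrime h' := by
  rw [PrimeSpectrum.le_iff_specializes]
  refine (X.fromSpecStalk z).isEmbedding.isInducing.specializes_iff.1 ?_
  erw [fromSpecStalk_genPrime h, fromSpecStalk_genPrime h']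
  exact hw

lemma mem_genPrime {x' z : X} (h : x' ⤳ z) (a : X.presheaf.stalk z) :
    a ∈ (genPrime h).asIdeal ↔ ¬ IsUnit (X.presheaf.stalkSpecializes h a) :=
  Iff.rfl

variable (M : X.Modules)

lemma modStalkSpecializes_smul {x' z : X} (h : x' ⤳ z) (a : X.presheaf.stalk z) (m : M.presheaf.stalk z) :
    M.presheaf.stalkSpecializes h (a • m) =
      X.presheaf.stalkSpecializes h a • (M.presheaf.stalkSpecializes h m : M.presheaf.stalk x') := by
  obtain ⟨U, hU, a, rfl⟩ := X.presheaf.exists_germ_eq a
  obtain ⟨V, hV, m, rfl⟩ := M.presheaf.exists_germ_eq m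
  have e1 : X.presheaf.germ U z hU a = X.presheaf.germ (U ⊓ V) z ⟨hU, hV⟩ (X.presheaf.map (homOfLE inf_le_left).op a) :=
    (TopCat.Presheaf.germ_res_apply _ _ _ _ _).symm
  have e2 : M.presheaf.germ V z hV m = M.presheaf.germ (U ⊓ V) z ⟨hU, hV⟩ (M.presheaf.map (homOfLE inf_le_right).op m) :=
    (TopCat.Presheaf.germ_res_apply _ _ _ _ _).symm
  rw [e1, e2, ← germ_smul, TopCat.Presheaf.germ_stalkSpecializes_apply, TopCat.Presheaf.germ_stalkSpecializes_apply,
    TopCat.Presheaf.germ_stalkSpecializes_apply, germ_smul]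

/-- The stalk at a generisation is a localisation, in lengths and triviality. -/
theorem lenAt_genPrime [M.IsQuasicoherent] {x' z : X} (h : x' ⤳ z) :
    lenAt (genPrime h).asIdeal (M.presheaf.stalk z) = Module.length (X.presheaf.stalk x') (M.presheaf.stalk x') ∧
    (genPrime h ∈ Module.support (X.presheaf.stalk z) (M.presheaf.stalk z) ↔ Nontrivial (M.presheaf.stalk x')) := by
  obtain ⟨U, hU, hzU, -⟩ := exists_isAffineOpen_mem_and_subset (U := ⊤) (Opens.mem_top z)
  have hxU : x' ∈ U := h.mem_open U.isOpen hzU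
  letI := (X.presheaf.stalkSpecializes h).hom.toAlgebra
  letI : Module (X.presheaf.stalk z) (M.presheaf.stalk x') :=
    Module.compHom _ (X.presheaf.stalkSpecializes h).hom
  haveI : IsScalarTower (X.presheaf.stalk z) (X.presheaf.stalk x') (M.presheaf.stalk x') :=
    IsScalarTower.of_algebraMap_smul fun _ _ => rfl
  let f : M.presheaf.stalk z →ₗ[X.presheaf.stalk z] M.presheaf.stalk x' :=
    { toFun := M.presheaf.stalkSpecializes h
      map_add' := map_add _
      map_smul' := fun a m => modStalkSpecializes_smul M h a m }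
  let S := (genPrime h).asIdeal.primeCompl
  have hunit : ∀ a : S, IsUnit (X.presheaf.stalkSpecializes h (a : X.presheaf.stalk z)) := fun a =>
    not_not.1 fun hn => a.2 ((mem_genPrime h _).2 hn)
  have hgerm : ∀ t, t ∉ pr hU x' hxU → X.presheaf.germ U z hzU t ∈ S := fun t ht hn =>
    (mem_genPrime h _).1 hn (by
      rw [TopCat.Presheaf.germ_stalkSpecializes_apply]; exact (isUnit_germ_iff hU t).2 ht)
  haveI : IsLocalization S (X.presheaf.stalk x') := by
    refine ⟨⟨fun a => hunit a, fun c => ?_, fun {a b} hab => ?_⟩⟩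
    · obtain ⟨a, s, hs, hcs⟩ := exists_germ_mul_eq hU (hx := hxU) c
      refine ⟨⟨X.presheaf.germ U z hzU a, ⟨X.presheaf.germ U z hzU s, hgerm s hs⟩⟩, ?_⟩
      show c * X.presheaf.stalkSpecializes h (X.presheaf.germ U z hzU s) =
        X.presheaf.stalkSpecializes h (X.presheaf.germ U z hzU a)
      rw [TopCat.Presheaf.germ_stalkSpecializes_apply, TopCat.Presheaf.germ_stalkSpecializes_apply, hcs]
    · obtain ⟨n, w, hw, hnw⟩ := exists_germ_mul_eq hU (hx := hzU) (a - b)
      have h0 : X.presheaf.germ U x' hxU n = 0 := by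
        rw [← TopCat.Presheaf.germ_stalkSpecializes_apply _ hzU h, ← hnw, map_mul, map_sub,
          show X.presheaf.stalkSpecializes h a = X.presheaf.stalkSpecializes h b from hab, sub_self, zero_mul]
      obtain ⟨t, ht, htn⟩ := (MeroBasic.germ_eq_zero_iff hU n).1 h0
      refine ⟨⟨X.presheaf.germ U z hzU t, hgerm t ht⟩, ?_⟩
      rw [← sub_eq_zero, ← mul_sub]
      refine ((isUnit_germ_iff hU w).2 hw).mul_left_cancel (a := X.presheaf.germ U z hzU w) ?_
      rw [mul_zero, mul_left_comm, mul_comm _ (a - b), hnw, ← map_mul, htn, map_zero]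
  haveI : IsLocalizedModule S f := by
    refine ⟨fun a => ?_, fun n => ?_, fun {m₁ m₂} hm => ?_⟩
    · rw [Module.End.isUnit_iff]
      obtain ⟨v, hv⟩ := hunit a
      refine ⟨fun p q hpq => ?_, fun q => ⟨(↑v⁻¹ : X.presheaf.stalk x') • q, ?_⟩⟩
      · change X.presheaf.stalkSpecializes h (a : X.presheaf.stalk z) • p =
          X.presheaf.stalkSpecializes h (a : X.presheaf.stalk z) • q at hpq
        exact (hunit a).smul_left_cancel.1 hpq
      · change X.presheaf.stalkSpecializes h (a : X.presheaf.stalk z) • ((↑v⁻¹ : X.presheaf.stalk x') • q) = q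
        rw [smul_smul, ← hv, Units.mul_inv, one_smul]
    · obtain ⟨t, s, hxt, hts⟩ := exists_smul_eq_germ hU x' hxU n
      refine ⟨⟨M.presheaf.germ U z hzU s, ⟨X.presheaf.germ U z hzU t,
        hgerm t ((mem_basicOpen_iff_notMem_primeIdealOf hU hxU t).1 hxt)⟩⟩, ?_⟩
      change X.presheaf.stalkSpecializes h (X.presheaf.germ U z hzU t) • n =
        M.presheaf.stalkSpecializes h (M.presheaf.germ U z hzU s)
      rw [TopCat.Presheaf.germ_stalkSpecializes_apply, TopCat.Presheaf.germ_stalkSpecializes_apply, hts]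
    · obtain ⟨w, s, hzw, hws⟩ := exists_smul_eq_germ hU z hzU (m₁ - m₂)
      have h0 : M.presheaf.germ U x' hxU s = 0 := by
        rw [← TopCat.Presheaf.germ_stalkSpecializes_apply _ hzU h, ← hws, modStalkSpecializes_smul, map_sub,
          show M.presheaf.stalkSpecializes h m₁ = M.presheaf.stalkSpecializes h m₂ from hm, sub_self, smul_zero]
      obtain ⟨t, hxt, hts⟩ := (Groth.Agent.QCohLib.germ_eq_zero_iff hU x' hxU s).1 h0
      refine ⟨⟨X.presheaf.germ U z hzU t, hgerm t ((mem_basicOpen_iff_notMem_primeIdealOf hU hxU t).1 hxt)⟩, ?_⟩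
      rw [← sub_eq_zero, ← smul_sub]
      refine ((X.mem_basicOpen w z hzU).1 hzw).smul_eq_zero.1 ?_
      change X.presheaf.germ U z hzU w • X.presheaf.germ U z hzU t • (m₁ - m₂) = 0
      rw [smul_comm, hws, ← germ_smul, hts, map_zero]
  refine ⟨lenAt_eq _ (X.presheaf.stalk x') f, ?_⟩
  rw [Module.mem_support_iff]
  exact (IsLocalizedModule.iso S f).toEquiv.nontrivial_congr

section Fibre

/-- Extension of scalars along a surjection is reduction modulo the kernel. -/
theorem extend_addEquiv {R S : Type u} [CommRing R] [CommRing S] (φ : R →+* S) (hs : Function.Surjective φ)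
    (I : Ideal R) (hI : RingHom.ker φ = I) (Mo : ModuleCat.{u} R) (N : ModuleCat.{u} S)
    (i : N ≅ (ModuleCat.extendScalars.{u, u, u} φ).obj Mo) :
    ∃ e : (Mo ⧸ (I • (⊤ : Submodule R Mo))) ≃+ N, ∀ a m, e (a • m) = φ a • e m := by
  letI := φ.toAlgebra
  let eR : (R ⧸ I) ≃ₐ[R] S :=
    (Ideal.quotientEquivAlgOfEq _ hI.symm).trans (Ideal.quotientKerAlgEquivOfSurjective (f := Algebra.ofId R S) hs)
  let e₁ : (Mo ⧸ (I • (⊤ : Submodule R Mo))) ≃ₗ[R] TensorProduct R S Mo :=
    (TensorProduct.quotTensorEquivQuotSMul Mo I).symm.trans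
      (TensorProduct.congr eR.toLinearEquiv (LinearEquiv.refl _ _))
  let e₂ : TensorProduct R S Mo ≃ₗ[S] N := i.toLinearEquiv.symm
  refine ⟨e₁.toAddEquiv.trans e₂.toAddEquiv, fun a m => ?_⟩
  show e₂ (e₁ (a • m)) = φ a • e₂ (e₁ m)
  rw [map_smul, ← IsScalarTower.algebraMap_smul S a (e₁ m), map_smul]
  rfl

variable {Y : Scheme.{u}} (g : X ⟶ Y) (s : Y) (v : g.fiber s)

/-- The stalks of the restriction to a fibre are the reductions of the stalks. -/
theorem fibre_stalk_addEquiv :
    ∃ e : (M.presheaf.stalk (g.fiberι s v) ⧸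
        (FlatDescent.maxExt g (g.fiberι s v) • (⊤ : Submodule (X.presheaf.stalk (g.fiberι s v)) (M.presheaf.stalk (g.fiberι s v))))) ≃+
        ((Scheme.Modules.pullback (g.fiberι s)).obj M).presheaf.stalk v,
      ∀ a m, e (a • m) = (g.fiberι s).stalkMap v a • e m := by
  exact extend_addEquiv ((g.fiberι s).stalkMap v).hom ((g.fiberι s).stalkMap_surjective v) _
    (FlatDescent.ker_stalkMap_fiberι g s v) _ _ ((ModGroth.Stalk.pullStalkIso (g.fiberι s) v).app M)

lemma maxExt_le : FlatDescent.maxExt g (g.fiberι s v) ≤ maximalIdeal (X.presheaf.stalk (g.fiberι s v)) :=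
  Ideal.map_le_iff_le_comap.2 fun c hc => map_nonunit (g.stalkMap (g.fiberι s v)).hom c hc

/-- The length of a stalk of the restriction to a fibre. -/
theorem fibre_length :
    Module.length ((g.fiber s).presheaf.stalk v) (((Scheme.Modules.pullback (g.fiberι s)).obj M).presheaf.stalk v) =
      Module.length (X.presheaf.stalk (g.fiberι s v)) (M.presheaf.stalk (g.fiberι s v) ⧸
        (FlatDescent.maxExt g (g.fiberι s v) • (⊤ : Submodule (X.presheaf.stalk (g.fiberι s v)) (M.presheaf.stalk (g.fiberι s v))))) := by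
  obtain ⟨e, he⟩ := fibre_stalk_addEquiv M g s v
  let φ := ((g.fiberι s).stalkMap v).hom
  letI := φ.toAlgebra
  letI : Module (X.presheaf.stalk (g.fiberι s v)) (((Scheme.Modules.pullback (g.fiberι s)).obj M).presheaf.stalk v) :=
    Module.compHom _ φ
  haveI : IsScalarTower (X.presheaf.stalk (g.fiberι s v)) ((g.fiber s).presheaf.stalk v)
      (((Scheme.Modules.pullback (g.fiberι s)).obj M).presheaf.stalk v) :=
    IsScalarTower.of_algebraMap_smul fun _ _ => rfl
  rw [← Module.length_eq_of_surjective (R := (g.fiber s).presheaf.stalk v) (S := X.presheaf.stalk (g.fiberι s v))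
    ((g.fiberι s).stalkMap_surjective v)]
  exact (LinearEquiv.length_eq { e with map_smul' := fun a m => he a m }).symm

/-- Nontriviality of the stalks of the restriction to a fibre. -/
theorem fibre_nontrivial [Module.Finite (X.presheaf.stalk (g.fiberι s v)) (M.presheaf.stalk (g.fiberι s v))] :
    Nontrivial (((Scheme.Modules.pullback (g.fiberι s)).obj M).presheaf.stalk v) ↔
      Nontrivial (M.presheaf.stalk (g.fiberι s v)) := by
  obtain ⟨e, -⟩ := fibre_stalk_addEquiv M g s v
  rw [← e.toEquiv.nontrivial_congr]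
  refine ⟨fun h => @Function.Surjective.nontrivial _ _ h _ (Submodule.mkQ_surjective _), fun h => ?_⟩
  by_contra hn
  rw [not_nontrivial_iff_subsingleton, Submodule.Quotient.subsingleton_iff] at hn
  exact Submodule.top_ne_ideal_smul_of_le_jacobson_annihilator
    ((maxExt_le g s v).trans (IsLocalRing.maximalIdeal_le_jacobson _)) hn.symm

/-- Associated points of the restriction to a fibre. -/
theorem fibre_isAssPoint (h : IsAssociatedPrime (maximalIdeal (X.presheaf.stalk (g.fiberι s v)))
      (M.presheaf.stalk (g.fiberι s v) ⧸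
        (FlatDescent.maxExt g (g.fiberι s v) • (⊤ : Submodule (X.presheaf.stalk (g.fiberι s v)) (M.presheaf.stalk (g.fiberι s v)))))) :
    Curv2.IsAssPoint ((Scheme.Modules.pullback (g.fiberι s)).obj M) v := by
  obtain ⟨e, he⟩ := fibre_stalk_addEquiv M g s v
  obtain ⟨-, m, hm⟩ := h
  refine ⟨(IsLocalRing.maximalIdeal.isMaximal _).isPrime, e m, ?_⟩
  let φ := ((g.fiberι s).stalkMap v).hom
  have hφ : Function.Surjective φ := (g.fiberι s).stalkMap_surjective v
  apply Ideal.comap_injective_of_surjective φ hφ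
  rw [show (maximalIdeal ((g.fiber s).presheaf.stalk v)).comap φ = _ from IsLocalRing.maximalIdeal_comap φ, hm,
    Ideal.comap_radical]
  congr 1
  ext a
  rw [Ideal.mem_comap, Submodule.mem_colon_singleton, Submodule.mem_colon_singleton, Submodule.mem_bot,
    Submodule.mem_bot, ← map_eq_zero_iff e e.injective, he]

end Fibre

end Groth.Agent.GeomUnib
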