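import Groth.Agent.GeomUnib.CodimFibre
import Groth.Agent.GeomUnib.EquidimLocal
import Groth.Agent.GeomUnib.StalkLength

/-!
# Cutting fibres by one function
-/

set_option linter.unusedSectionVars false
set_option linter.style.haveILetI false

universe u

namespace Groth.Agent.GeomUnib

open CategoryTheory AlgebraicGeometry TopologicalSpace IsLocalRing
open FibreDim

/-- A proper closed part of an irreducible space has smaller dimension. -/
theorem dim_add_one_le {α : Type u} [TopologicalSpace α] {s t : Set α} (hst : s ⊆ t) (hs : IsClosed s)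
    (ht : IsIrreducible t) (hne : s ≠ t) {a b : ℕ} (ha : topologicalKrullDim ↥s = a)
    (hb : topologicalKrullDim ↥t = b) : a + 1 ≤ b := by
  have hA : ((a : ℕ) : WithBot ℕ∞) ≤ Order.krullDim (IrreducibleCloseds ↥s) := le_of_eq ha.symm
  obtain ⟨l, hl⟩ := Order.le_krullDim_iff.1 hA
  have hi : Topology.IsInducing (Set.inclusion hst) := (Topology.IsEmbedding.inclusion hst).isInducing
  haveI : IrreducibleSpace ↥t := Subtype.irreducibleSpace ht
  let T : IrreducibleCloseds ↥t := ⟨Set.univ, IrreducibleSpace.isIrreducible_univ _, isClosed_univ⟩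
  let l' := l.map _ (IrreducibleCloseds.map_strictMono_of_isInducing hi)
  have hlast : l'.last < T := by
    refine lt_of_le_of_ne (fun _ _ => trivial) fun h => hne (hst.antisymm fun x hx => ?_)
    have h1 : (⟨x, hx⟩ : ↥t) ∈ (l'.last : Set ↥t) := by rw [h]; trivial
    have hcl : IsClosed (Subtype.val ⁻¹' s : Set ↥t) := hs.preimage continuous_subtype_val
    rw [LTSeries.last_map] at h1
    have h2 : closure (Set.inclusion hst '' ((RelSeries.last l : IrreducibleCloseds ↥s) : Set ↥s)) ⊆ Subtype.val ⁻¹' s :=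
      closure_minimal (by rintro _ ⟨y, -, rfl⟩; exact y.2) hcl
    exact h2 h1
  have h3 : ((l'.snoc T hlast).length : WithBot ℕ∞) ≤ topologicalKrullDim ↥t := Order.LTSeries.length_le_krullDim _
  rw [hb] at h3
  have h4 : (l'.snoc T hlast).length ≤ b := by exact_mod_cast h3
  simp only [RelSeries.snoc_length, l', LTSeries.map_length] at h4
  omega

variable {X Y : Scheme.{u}} (f : X ⟶ Y)

/-- Strict decrease of fibre dimensions along specialisations in a fibre. -/
theorem fdim_add_one_le [LocallyOfFiniteType f] {m z : X} (h : m ⤳ z) (hf : f m = f z) (hne : z ≠ m)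
    {a b : ℕ} (ha : fdim f z = a) (hb : fdim f m = b) : a + 1 ≤ b := by
  let F : Set X := f ⁻¹' {f m}
  -- pass to the fibre as a subspace
  let s' : Set ↥F := Subtype.val ⁻¹' closure {z}
  let t' : Set ↥F := Subtype.val ⁻¹' closure {m}
  have es : Subtype.val '' s' = closure ({z} : Set X) ∩ f ⁻¹' {f z} := by
    rw [Subtype.image_preimage_coe, Set.inter_comm]
    show closure {z} ∩ f ⁻¹' {f m} = _
    rw [hf]
  have et : Subtype.val '' t' = closure ({m} : Set X) ∩ f ⁻¹' {f m} := by
    rw [Subtype.image_preimage_coe, Set.inter_comm]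
  have hs : topologicalKrullDim ↥s' = a := by
    rw [← FibreDim.dim_image Topology.IsEmbedding.subtypeVal s', es]; exact ha
  have ht : topologicalKrullDim ↥t' = b := by
    rw [← FibreDim.dim_image Topology.IsEmbedding.subtypeVal t', et]; exact hb
  refine dim_add_one_le (s := s') (t := t') (fun w hw => closure_minimal (Set.singleton_subset_iff.2 h.mem_closure) isClosed_closure hw)
    (isClosed_closure.preimage continuous_subtype_val) ?_ ?_ hs ht
  · refine ⟨⟨⟨m, rfl⟩, subset_closure rfl⟩, fun O₁ O₂ hO₁ hO₂ h₁ h₂ => ⟨⟨m, rfl⟩, subset_closure rfl, ?_, ?_⟩⟩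
    · obtain ⟨w, hw, hw'⟩ := h₁
      exact (Topology.IsInducing.subtypeVal.specializes_iff.1
        (specializes_iff_mem_closure.2 hw : m ⤳ w.1) : (⟨m, rfl⟩ : ↥F) ⤳ w).mem_open hO₁ hw'
    · obtain ⟨w, hw, hw'⟩ := h₂
      exact (Topology.IsInducing.subtypeVal.specializes_iff.1
        (specializes_iff_mem_closure.2 hw : m ⤳ w.1) : (⟨m, rfl⟩ : ↥F) ⤳ w).mem_open hO₂ hw'
  · intro h'
    have h1 : (⟨m, rfl⟩ : ↥F) ∈ s' := by rw [h']; exact subset_closure rfl
    exact hne ((specializes_iff_mem_closure.2 h1).antisymm h).eq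

variable (g : Γ(X, ⊤))

/-- The germ of a function vanishing at a point, in the primes of the local ring. -/
lemma germ_mem_genPrime {w z : X} (h : w ⤳ z) :
    X.presheaf.germ ⊤ z trivial g ∈ (genPrime h).asIdeal ↔ w ∈ X.zeroLocus ({g} : Set Γ(X, ⊤)) := by
  rw [mem_genPrime, TopCat.Presheaf.germ_stalkSpecializes_apply, Scheme.zeroLocus_singleton, Set.mem_compl_iff]
  exact (not_congr (X.mem_basicOpen g w trivial)).symm

/-- Krull's principal ideal theorem: no point strictly between a point and a minimal zero of a function. -/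
theorem no_point_between [IsLocallyNoetherian X] {m a z : X} (hma : m ⤳ a) (haz : a ⤳ z)
    (hz : z ∈ X.zeroLocus ({g} : Set Γ(X, ⊤)))
    (hmin : ∀ w ∈ X.zeroLocus ({g} : Set Γ(X, ⊤)), m ⤳ w → w ⤳ z → w = z) : a = m ∨ a = z := by
  classical
  by_contra hcon
  push Not at hcon
  obtain ⟨ham, haz'⟩ := hcon
  let R := X.presheaf.stalk z
  let t : R := X.presheaf.germ ⊤ z trivial g
  have hmz := hma.trans haz
  let P := (genPrime hmz).asIdeal
  let π := Ideal.Quotient.mk P
  haveI : IsLocalRing (R ⧸ P) := IsLocalRing.of_surjective' π Ideal.Quotient.mk_surjective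
  haveI : IsLocalHom π := IsLocalHom.of_surjective π Ideal.Quotient.mk_surjective
  have hrefl : genPrime (specializes_refl z) = closedPoint R :=
    (X.fromSpecStalk z).isEmbedding.injective ((fromSpecStalk_genPrime _).trans Scheme.fromSpecStalk_closedPoint.symm)
  have hmemmin : maximalIdeal (R ⧸ P) ∈ (Ideal.span {π t}).minimalPrimes := by
    refine ⟨⟨(maximalIdeal.isMaximal _).isPrime, ?_⟩, fun Q hQ _ => ?_⟩
    · rw [Ideal.span_singleton_le_iff_mem]
      have ht : t ∈ maximalIdeal R := by
        have := (germ_mem_genPrime g (specializes_refl z)).2 hz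
        rwa [hrefl] at this
      intro hu
      exact ht ((isUnit_map_iff π t).1 hu)
    · haveI := hQ.1
      let Q' : PrimeSpectrum R := ⟨Q.comap π, inferInstance⟩
      have hPQ : genPrime hmz ≤ Q' := fun c hc => by
        show π c ∈ Q
        rw [Ideal.Quotient.eq_zero_iff_mem.2 hc]; exact zero_mem _
      have hw : X.fromSpecStalk z Q' ∈ X.zeroLocus ({g} : Set Γ(X, ⊤)) := by
        rw [← germ_mem_genPrime g (fromSpecStalk_specializes Q'), genPrime_fromSpecStalk]
        exact hQ.2 (Ideal.mem_span_singleton_self _)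
      have h1 := hmin _ hw (fromSpecStalk_genPrime hmz ▸ specializes_of_prime_le hPQ) (fromSpecStalk_specializes Q')
      have h2 : Q' = closedPoint R :=
        (X.fromSpecStalk z).isEmbedding.injective (h1.trans Scheme.fromSpecStalk_closedPoint.symm)
      intro c hc
      obtain ⟨c, rfl⟩ := Ideal.Quotient.mk_surjective c
      have hc' : c ∈ maximalIdeal R := fun hu => hc (hu.map π)
      have h3 : c ∈ Q'.asIdeal := by rw [h2]; exact hc'
      exact h3
  have hh := Ideal.height_le_one_of_isPrincipal_of_mem_minimalPrimes (Ideal.span {π t}) _ hmemmin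
  let A := (genPrime haz).asIdeal.map π
  have hPA : P ≤ (genPrime haz).asIdeal := prime_le_of_specializes hmz haz hma
  haveI : A.IsPrime := Ideal.map_isPrime_of_surjective Ideal.Quotient.mk_surjective (by rwa [Ideal.mk_ker])
  have hcomap : A.comap π = (genPrime haz).asIdeal := by
    rw [Ideal.comap_map_of_surjective π Ideal.Quotient.mk_surjective]
    exact sup_eq_left.2 (le_of_eq_of_le Ideal.mk_ker hPA)
  have hA1 : ⊥ < A := by
    refine bot_lt_iff_ne_bot.2 fun hA => ham ?_
    have h1 : genPrime haz = genPrime hmz := PrimeSpectrum.ext (by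
      rw [← hcomap, hA]; exact Ideal.mk_ker)
    rw [← fromSpecStalk_genPrime haz, h1, fromSpecStalk_genPrime]
  have hA2 : A < maximalIdeal (R ⧸ P) := by
    refine lt_of_le_of_ne (le_maximalIdeal (Ideal.IsPrime.ne_top ‹_›)) fun hA => haz' ?_
    have h1 : genPrime haz = closedPoint R := PrimeSpectrum.ext (by
      rw [← hcomap, hA]
      exact maximalIdeal_comap π)
    rw [← fromSpecStalk_genPrime haz, h1]
    exact Scheme.fromSpecStalk_closedPoint
  haveI : IsDomain (R ⧸ P) := inferInstance
  haveI : (⊥ : Ideal (R ⧸ P)).IsPrime := Ideal.isPrime_bot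
  have h1 := Ideal.height_strict_mono_of_isPrime hA2
  have h2 := Ideal.height_strict_mono_of_isPrime hA1
  have h3 : A.height < 1 := lt_of_lt_of_le h1 hh
  rw [Order.lt_one_iff] at h3
  rw [h3] at h2
  exact not_lt_bot h2

/-- A minimal zero of a function inside a fibre drops the dimension by exactly one. -/
theorem fdim_minimal_zero [LocallyOfFiniteType f] [IsLocallyNoetherian X] {m z : X} (h : m ⤳ z) (hf : f m = f z)
    (hm : m ∉ X.zeroLocus ({g} : Set Γ(X, ⊤))) (hz : z ∈ X.zeroLocus ({g} : Set Γ(X, ⊤)))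
    (hmin : ∀ w ∈ X.zeroLocus ({g} : Set Γ(X, ⊤)), f w = f z → m ⤳ w → w ⤳ z → w = z) {b : ℕ}
    (hb : fdim f m = b) : ∃ a : ℕ, fdim f z = a ∧ a + 1 = b := by
  obtain ⟨b', a, hb', ha, l, hl0, hml, hlen⟩ := exists_series_fibre f h hf
  obtain rfl : b' = b := by exact_mod_cast hb'.symm.trans hb
  refine ⟨a, ha, le_antisymm (fdim_add_one_le f h hf (fun e => hm (e ▸ hz)) ha hb) ?_⟩
  by_contra hcon
  have h2 : 2 ≤ l.length := by omega
  have hle : ∀ i j : Fin (l.length + 1), i ≤ j → l j ⤳ l i := fun i j hij =>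
    l.monotone hij
  let i₁ : Fin (l.length + 1) := ⟨1, by omega⟩
  have hz1 : l i₁ ⤳ z := by
    rw [← hl0]
    exact hle 0 i₁ (Fin.zero_le _)
  have hm1 : m ⤳ l i₁ := hml.trans (hle i₁ (Fin.last _) (Fin.le_last _))
  have hmin' : ∀ w ∈ X.zeroLocus ({g} : Set Γ(X, ⊤)), m ⤳ w → w ⤳ z → w = z := fun w hw h1 h2 => by
    refine hmin w hw ?_ h1 h2
    have e1 : f m ⤳ f w := h1.map f.continuous
    rw [hf] at e1
    exact ((h2.map f.continuous).antisymm e1).eq
  rcases no_point_between g hm1 hz1 hz hmin' with h3 | h3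
  · have h4 : l i₁ < l (Fin.last _) := l.strictMono (show (1 : ℕ) < l.length by omega)
    rw [h3] at h4
    exact h4.not_ge hml
  · have h4 : l 0 < l i₁ := l.strictMono (show (0 : ℕ) < 1 by omega)
    rw [show l 0 = z from hl0, h3] at h4
    exact lt_irrefl _ h4

end Groth.Agent.GeomUnib
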