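import Groth.Agent.GeomUnib.Converse
import Groth.Agent.GeomUnib.Affine

/-!
# Affine space over a geometrically unibranch point
-/

set_option autoImplicit false

universe u

open CategoryTheory CategoryTheory.Limits AlgebraicGeometry

namespace Groth.Agent.GeomUnib

/-- Geometric unibranchness is inherited along surjections with nilpotent kernel onto domains. -/
theorem isGeomUnibranch_of_surjective {R R₁ : Type u} [CommRing R] [IsLocalRing R] [CommRing R₁] [IsLocalRing R₁]
    [IsDomain R₁] (φ : R →+* R₁) (hφ : Function.Surjective φ) (hker : RingHom.ker φ ≤ nilradical R)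
    (h : CAlg2.IsGeomUnibranch R₁) : CAlg2.IsGeomUnibranch R := by
  let K := FractionRing R₁
  let A'' := integralClosure R₁ K
  have hid : RingHom.ker (RingHom.id R₁) ≤ nilradical R₁ := by
    rw [(RingHom.injective_iff_ker_eq_bot _).1 Function.injective_id]; exact bot_le
  obtain ⟨ψ, hψ, hψc⟩ := exists_surjective_normRed φ hφ hker A'' (K := K)
  obtain ⟨ψ₁, hψ₁, hψ₁c⟩ := exists_surjective_normRed (RingHom.id R₁) Function.surjective_id hid A'' (K := K)
  let e : CAlg2.normRed R ≃+* CAlg2.normRed R₁ :=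
    (RingEquiv.ofBijective ψ hψ).trans (RingEquiv.ofBijective ψ₁ hψ₁).symm
  let a₀ : R →+* CAlg2.normRed R :=
    (algebraMap (CAlg2.red R) (CAlg2.normRed R)).comp (Ideal.Quotient.mk (nilradical R))
  let a₁ : R₁ →+* CAlg2.normRed R₁ :=
    (algebraMap (CAlg2.red R₁) (CAlg2.normRed R₁)).comp (Ideal.Quotient.mk (nilradical R₁))
  have hc : ∀ a, e (a₀ a) = a₁ (φ a) := fun a => by
    refine hψ₁.1 ?_
    change ψ₁ ((RingEquiv.ofBijective ψ₁ hψ₁).symm (ψ (a₀ a))) = _
    change (RingEquiv.ofBijective ψ₁ hψ₁) ((RingEquiv.ofBijective ψ₁ hψ₁).symm (ψ (a₀ a))) = _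
    rw [RingEquiv.apply_symm_apply]
    exact (RingHom.congr_fun hψc a).trans (RingHom.congr_fun hψ₁c (φ a)).symm
  have hnil : nilradical R = RingHom.ker φ := by
    refine le_antisymm (fun a ha => ?_) hker
    exact RingHom.mem_ker.2 ((mem_nilradical.1 ha).map φ).eq_zero
  haveI := h.1.2
  refine ⟨⟨?_, e.symm.isLocalRing⟩, fun m' hm' x => ?_⟩
  · refine (Ideal.Quotient.isDomain_iff_prime _).2 ?_
    rw [hnil]
    exact RingHom.ker_isPrime φ
  let m₁ : Ideal (CAlg2.normRed R₁) := m'.comap e.symm.toRingHom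
  haveI : m₁.IsMaximal := Ideal.comap_isMaximal_of_surjective _ e.symm.surjective
  have hm₁ : m'.map e.toRingHom = m₁ := Ideal.map_comap_of_equiv e
  let E : CAlg2.normRed R ⧸ m' ≃+* CAlg2.normRed R₁ ⧸ m₁ := Ideal.quotientEquiv m' m₁ e hm₁.symm
  obtain ⟨n, a, ha⟩ := h.2 m₁ (E x)
  obtain ⟨a, rfl⟩ := hφ a
  letI := Ideal.Quotient.field m'
  letI := Ideal.Quotient.field m₁
  haveI : ExpChar (CAlg2.normRed R₁ ⧸ m₁) (ringExpChar (CAlg2.normRed R ⧸ m')) :=
    expChar_of_injective_ringHom E.injective _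
  rw [ringExpChar.eq (CAlg2.normRed R₁ ⧸ m₁) (ringExpChar (CAlg2.normRed R ⧸ m'))] at ha
  refine ⟨n, a, E.injective ?_⟩
  rw [map_pow]
  refine Eq.trans ?_ ha
  change E (Ideal.Quotient.mk m' (a₀ a)) = Ideal.Quotient.mk m₁ (a₁ (φ a))
  rw [← hc]
  rfl

/-- Polynomial rings over a local domain with radicial normalisation. -/
theorem isGeomUnibranch_mvPolynomial_aux {A A' F K : Type u} [CommRing A] [IsLocalRing A] [IsDomain A]
    [CommRing A'] [IsDomain A'] [Algebra A A'] [FaithfulSMul A A'] [Algebra.IsIntegral A A'] [IsIntegrallyClosed A']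
    [Field F] [Algebra A F] [IsFractionRing A F] [Algebra A' F] [IsScalarTower A A' F] [FaithfulSMul A' F]
    {n : ℕ} [Field K] [Algebra (MvPolynomial (Fin n) A') K] [IsFractionRing (MvPolynomial (Fin n) A') K]
    [Algebra (MvPolynomial (Fin n) A) (MvPolynomial (Fin n) A')]
    (halg : algebraMap (MvPolynomial (Fin n) A) (MvPolynomial (Fin n) A') = MvPolynomial.map (algebraMap A A'))
    [Algebra (MvPolynomial (Fin n) A) K] [IsScalarTower (MvPolynomial (Fin n) A) (MvPolynomial (Fin n) A') K]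
    (hr : RadicialAt A' (IsLocalRing.maximalIdeal A)) (P : Ideal (MvPolynomial (Fin n) A)) [P.IsPrime]
    (hP : P.comap MvPolynomial.C = IsLocalRing.maximalIdeal A) :
    CAlg2.IsGeomUnibranch (Localization.AtPrime P) := by
  classical
  haveI : IsScalarTower A (MvPolynomial (Fin n) A) (MvPolynomial (Fin n) A') :=
    IsScalarTower.of_algebraMap_eq fun a => by simp [halg, MvPolynomial.algebraMap_eq]
  haveI : IsIntegrallyClosed (MvPolynomial (Fin n) A') := AICPoint.isIntegrallyClosed_mvPolynomial A' n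
  haveI : Algebra.IsIntegral (MvPolynomial (Fin n) A) (MvPolynomial (Fin n) A') := ⟨fun p => by
    induction p using MvPolynomial.induction_on with
    | C a =>
      have := (Algebra.IsIntegral.isIntegral (R := A) a).map
        (Algebra.ofId A' (MvPolynomial (Fin n) A') |>.restrictScalars A)
      exact this.tower_top
    | add p q hp hq => exact hp.add hq
    | mul_X p i hp =>
      refine hp.mul ?_
      rw [← MvPolynomial.map_X (algebraMap A A'), ← halg]
      exact isIntegral_algebraMap⟩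
  have hinj : Function.Injective (algebraMap (MvPolynomial (Fin n) A) (MvPolynomial (Fin n) A')) :=
    halg ▸ MvPolynomial.map_injective _ (FaithfulSMul.algebraMap_injective A A')
  haveI : FaithfulSMul (MvPolynomial (Fin n) A) K := (faithfulSMul_iff_algebraMap_injective _ _).2
    (by rw [IsScalarTower.algebraMap_eq (MvPolynomial (Fin n) A) (MvPolynomial (Fin n) A') K]
        exact (IsFractionRing.injective (MvPolynomial (Fin n) A') K).comp hinj)
  -- denominators in `A`
  have hden : ∀ p : MvPolynomial (Fin n) A', ∃ d : A, d ≠ 0 ∧ ∃ p₀ : MvPolynomial (Fin n) A,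
      algebraMap (MvPolynomial (Fin n) A) (MvPolynomial (Fin n) A') p₀ =
        MvPolynomial.C (algebraMap A A' d) * p := fun p => by
    induction p using MvPolynomial.induction_on with
    | C a =>
      obtain ⟨x, y, hy, hxy⟩ := IsFractionRing.div_surjective (A := A) (algebraMap A' F a)
      refine ⟨y, nonZeroDivisors.ne_zero hy, MvPolynomial.C x, ?_⟩
      rw [halg, MvPolynomial.map_C, ← map_mul]
      congr 1
      refine FaithfulSMul.algebraMap_injective A' F ?_
      rw [map_mul, ← IsScalarTower.algebraMap_apply, ← IsScalarTower.algebraMap_apply]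
      have hy0 : algebraMap A F y ≠ 0 :=
        IsFractionRing.to_map_ne_zero_of_mem_nonZeroDivisors hy
      change algebraMap A F x = algebraMap A F y * (algebraMap A' F a)
      rw [← hxy, mul_div_cancel₀ _ hy0]
    | add p q hp hq =>
      obtain ⟨d, hd, p₀, hp₀⟩ := hp
      obtain ⟨d', hd', q₀, hq₀⟩ := hq
      refine ⟨d * d', mul_ne_zero hd hd', MvPolynomial.C d' * p₀ + MvPolynomial.C d * q₀, ?_⟩
      rw [map_add, map_mul, map_mul, hp₀, hq₀, halg, MvPolynomial.map_C,
        MvPolynomial.map_C, map_mul, map_mul]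
      ring
    | mul_X p i hp =>
      obtain ⟨d, hd, p₀, hp₀⟩ := hp
      refine ⟨d, hd, p₀ * MvPolynomial.X i, ?_⟩
      rw [map_mul, hp₀, halg, MvPolynomial.map_X, mul_assoc]
  haveI : IsFractionRing (MvPolynomial (Fin n) A) K := IsFractionRing.of_field _ _ fun z => by
    obtain ⟨a, b, hb, rfl⟩ := IsFractionRing.div_surjective (A := MvPolynomial (Fin n) A') z
    obtain ⟨d, hd, a₀, ha⟩ := hden a
    obtain ⟨d', hd', b₀, hb'⟩ := hden b
    refine ⟨MvPolynomial.C d' * a₀, MvPolynomial.C d * b₀, ?_⟩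
    rw [map_mul, map_mul, IsScalarTower.algebraMap_eq (MvPolynomial (Fin n) A) (MvPolynomial (Fin n) A') K]
    change _ = (algebraMap (MvPolynomial (Fin n) A') K) _ * (algebraMap (MvPolynomial (Fin n) A') K) _ /
      ((algebraMap (MvPolynomial (Fin n) A') K) _ * (algebraMap (MvPolynomial (Fin n) A') K) _)
    rw [ha, hb', halg, MvPolynomial.map_C, MvPolynomial.map_C, ← map_mul, ← map_mul,
      ← mul_assoc, ← mul_assoc, mul_comm (MvPolynomial.C (algebraMap A A' d')), map_mul _ (_ * _) a,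
      map_mul _ (_ * _) b, mul_div_mul_left]
    refine (map_ne_zero_iff _ (IsFractionRing.injective (MvPolynomial (Fin n) A') K)).2 (mul_ne_zero ?_ ?_) <;>
    · rw [ne_eq, map_eq_zero_iff _ (MvPolynomial.C_injective _ _),
        map_eq_zero_iff _ (FaithfulSMul.algebraMap_injective A A')]
      assumption
  exact isGeomUnibranch_localization (K := K) (A' := MvPolynomial (Fin n) A') P (by
    intro L _ χ₁ χ₂ hχ hk
    rw [halg] at hχ hk
    exact radicialAt_mvPolynomial hr P hP L χ₁ χ₂ hχ hk)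

/-- Polynomial rings over a geometrically unibranch local domain. -/
theorem isGeomUnibranch_mvPolynomial {R A : Type u} [CommRing R] [IsLocalRing R] [CommRing A] [IsLocalRing A]
    [IsDomain A] (hR : CAlg2.IsGeomUnibranch R) (φ : R →+* A) (hφ : Function.Surjective φ)
    (hker : RingHom.ker φ ≤ nilradical R) {n : ℕ} (P : Ideal (MvPolynomial (Fin n) A)) [P.IsPrime]
    (hP : P.comap MvPolynomial.C = IsLocalRing.maximalIdeal A) :
    CAlg2.IsGeomUnibranch (Localization.AtPrime P) := by
  obtain ⟨_, _⟩ := exists_normalisation A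
  let A' := integralClosure A (FractionRing A)
  letI := (MvPolynomial.map (σ := Fin n) (algebraMap A A')).toAlgebra
  exact isGeomUnibranch_mvPolynomial_aux (F := FractionRing A) (A' := A')
    (K := FractionRing (MvPolynomial (Fin n) A')) rfl
    (radicialAt_of_isGeomUnibranch (K := FractionRing A) hR φ hφ hker A') P hP

/-- Localisations of polynomial rings over a geometrically unibranch point of a chart. -/
theorem isGeomUnibranch_localization_mvPolynomial {A₀ R : Type u} [CommRing A₀] [CommRing R] [IsLocalRing R]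
    [Algebra A₀ R] {n : ℕ} (Q : Ideal (MvPolynomial (Fin n) A₀)) [Q.IsPrime] {p₀ : Ideal A₀} [p₀.IsPrime]
    (hp₀ : Q.comap MvPolynomial.C = p₀)
    [IsLocalization.AtPrime R p₀] (hR : CAlg2.IsGeomUnibranch R) :
    CAlg2.IsGeomUnibranch (Localization.AtPrime Q) := by
  classical
  subst hp₀
  let A := CAlg2.red R
  haveI : IsDomain A := hR.1.1
  haveI : IsLocalRing A := IsLocalRing.of_surjective' (Ideal.Quotient.mk (nilradical R)) Ideal.Quotient.mk_surjective
  let p := Q.comap MvPolynomial.C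
  let g₀ : A₀ →+* A := (Ideal.Quotient.mk (nilradical R)).comp (algebraMap A₀ R)
  let g := MvPolynomial.map (σ := Fin n) g₀
  -- the point of `A[T]` over `Q`
  let χ₀ : A₀ →+* Q.ResidueField := (algebraMap (MvPolynomial (Fin n) A₀) Q.ResidueField).comp MvPolynomial.C
  have hχ₀ : RingHom.ker χ₀ = p := by
    rw [← RingHom.comap_ker, Ideal.ker_algebraMap_residueField]
  have hu : ∀ s : p.primeCompl, IsUnit (χ₀ s) := fun s =>
    isUnit_iff_ne_zero.2 fun h => s.2 (hχ₀.le h)
  let χR : R →+* Q.ResidueField := IsLocalization.lift hu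
  let χA : A →+* Q.ResidueField := Ideal.Quotient.lift (nilradical R) χR fun a ha =>
    ((mem_nilradical.1 ha).map χR).eq_zero
  let χ : MvPolynomial (Fin n) A →+* Q.ResidueField :=
    MvPolynomial.eval₂Hom χA fun i => algebraMap (MvPolynomial (Fin n) A₀) Q.ResidueField (MvPolynomial.X i)
  have hχg : χ.comp g = algebraMap _ Q.ResidueField := by
    refine MvPolynomial.ringHom_ext (fun a => ?_) (fun i => ?_)
    · rw [RingHom.comp_apply, MvPolynomial.map_C]
      change MvPolynomial.eval₂Hom χA _ (MvPolynomial.C (g₀ a)) = _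
      rw [MvPolynomial.eval₂Hom_C]
      change χR (algebraMap A₀ R a) = _
      rw [IsLocalization.lift_eq]
      rfl
    · rw [RingHom.comp_apply, MvPolynomial.map_X]
      exact MvPolynomial.eval₂Hom_X' _ _ i
  let P := RingHom.ker χ
  haveI : P.IsPrime := RingHom.ker_isPrime _
  have hgP : Q = P.comap g := by
    rw [RingHom.comap_ker, hχg, Ideal.ker_algebraMap_residueField]
  have hP : P.comap MvPolynomial.C = IsLocalRing.maximalIdeal A := by
    have hsurj : Function.Surjective (Ideal.Quotient.mk (nilradical R)) := Ideal.Quotient.mk_surjective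
    refine Ideal.comap_injective_of_surjective _ hsurj ?_
    rw [IsLocalRing.eq_maximalIdeal (Ideal.comap_isMaximal_of_surjective _ hsurj (K := IsLocalRing.maximalIdeal A))]
    have e : (P.comap MvPolynomial.C).comap (Ideal.Quotient.mk (nilradical R)) = RingHom.ker χR := by
      rw [RingHom.comap_ker, RingHom.comap_ker]
      congr 1
      ext r
      simp only [RingHom.comp_apply, χ, χA, MvPolynomial.eval₂Hom_C]
      exact Ideal.Quotient.lift_mk _ _ _
    rw [e]
    haveI : (RingHom.ker χR).IsPrime := RingHom.ker_isPrime _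
    have he : RingHom.ker χR = IsLocalRing.maximalIdeal R := by
      refine le_antisymm (IsLocalRing.le_maximalIdeal (Ideal.IsPrime.ne_top inferInstance)) fun r hr => ?_
      obtain ⟨a, s, rfl⟩ := IsLocalization.exists_mk'_eq p.primeCompl r
      rw [RingHom.mem_ker, IsLocalization.lift_mk'_spec, mul_zero]
      exact hχ₀.ge ((IsLocalization.AtPrime.mk'_mem_maximal_iff R p a s).1 hr)
    exact he
  let φ : Localization.AtPrime Q →+* Localization.AtPrime P := Localization.localRingHom Q P g hgP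
  have hclear : ∀ z : MvPolynomial (Fin n) A, ∃ d : A₀, d ∉ p ∧ ∃ z₀, g z₀ = g (MvPolynomial.C d) * z := fun z => by
    induction z using MvPolynomial.induction_on with
    | C a =>
      obtain ⟨r, rfl⟩ := Ideal.Quotient.mk_surjective a
      obtain ⟨x, s, rfl⟩ := IsLocalization.exists_mk'_eq p.primeCompl r
      refine ⟨s, s.2, MvPolynomial.C x, ?_⟩
      rw [MvPolynomial.map_C, MvPolynomial.map_C, ← map_mul]
      congr 1
      change Ideal.Quotient.mk _ (algebraMap A₀ R x) = Ideal.Quotient.mk _ (algebraMap A₀ R s) * Ideal.Quotient.mk _ _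
      rw [← map_mul, IsLocalization.mk'_spec']
    | add z w hz hw =>
      obtain ⟨d, hd, z₀, hz₀⟩ := hz
      obtain ⟨d', hd', w₀, hw₀⟩ := hw
      refine ⟨d * d', Submonoid.mul_mem p.primeCompl hd hd', MvPolynomial.C d' * z₀ + MvPolynomial.C d * w₀, ?_⟩
      rw [map_add, map_mul, map_mul, hz₀, hw₀, map_mul, map_mul]
      ring
    | mul_X z i hz =>
      obtain ⟨d, hd, z₀, hz₀⟩ := hz
      refine ⟨d, hd, z₀ * MvPolynomial.X i, ?_⟩
      rw [map_mul, hz₀, MvPolynomial.map_X, mul_assoc]
  have hdQ : ∀ d : A₀, d ∉ p → MvPolynomial.C d ∉ Q := fun d hd => hd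
  have hφs : Function.Surjective φ := by
    intro z
    obtain ⟨a, ⟨s, hs⟩, rfl⟩ := IsLocalization.exists_mk'_eq P.primeCompl z
    obtain ⟨d, hd, a₀, ha⟩ := hclear a
    obtain ⟨d', hd', s₀, hs₀⟩ := hclear s
    have hs₀Q : MvPolynomial.C d * s₀ ∉ Q := by
      intro h
      rw [hgP, Ideal.mem_comap, map_mul, hs₀] at h
      have h1 : g (MvPolynomial.C d) ∉ P := fun h' => hdQ d hd (hgP.ge h')
      have h2 : g (MvPolynomial.C d') ∉ P := fun h' => hdQ d' hd' (hgP.ge h')
      rcases (inferInstance : P.IsPrime).mem_or_mem h with h' | h'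
      · exact h1 h'
      · rcases (inferInstance : P.IsPrime).mem_or_mem h' with h' | h'
        · exact h2 h'
        · exact hs h'
    refine ⟨IsLocalization.mk' _ (MvPolynomial.C d' * a₀) (⟨_, hs₀Q⟩ : Q.primeCompl), ?_⟩
    rw [Localization.localRingHom_mk', IsLocalization.mk'_eq_iff_eq]
    congr 1
    simp only [map_mul, ha, hs₀]
    ring
  have hφk : RingHom.ker φ ≤ nilradical _ := by
    intro z hz
    obtain ⟨a, s, rfl⟩ := IsLocalization.exists_mk'_eq Q.primeCompl z
    rw [RingHom.mem_ker, Localization.localRingHom_mk', IsLocalization.mk'_eq_zero_iff] at hz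
    obtain ⟨t, ht⟩ := hz
    have hga : g a = 0 := (mul_eq_zero.1 ht).resolve_left fun h => t.2 (by rw [h]; exact zero_mem _)
    rw [mem_nilradical, IsLocalization.mk'_eq_mul_mk'_one]
    refine Commute.isNilpotent_mul_right (Commute.all _ _) ?_
    rw [← mem_nilradical, MvPolynomial.as_sum a, map_sum]
    refine Ideal.sum_mem _ fun k _ => ?_
    rw [← mul_one (MvPolynomial.coeff k a), ← MvPolynomial.C_mul_monomial, map_mul]
    refine Ideal.mul_mem_right _ _ ?_
    have hk : g₀ (MvPolynomial.coeff k a) = 0 := by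
      rw [← MvPolynomial.coeff_map, hga, MvPolynomial.coeff_zero]
    obtain ⟨e, he⟩ := mem_nilradical.1 (Ideal.Quotient.eq_zero_iff_mem.1 hk)
    rw [← map_pow, IsLocalization.map_eq_zero_iff p.primeCompl] at he
    obtain ⟨d, hd⟩ := he
    refine mem_nilradical.2 ⟨e, ?_⟩
    rw [← map_pow, ← map_pow, IsLocalization.map_eq_zero_iff Q.primeCompl]
    exact ⟨⟨MvPolynomial.C d, hdQ d d.2⟩, by rw [← map_mul, hd, map_zero]⟩
  exact isGeomUnibranch_of_surjective φ hφs hφk
    (isGeomUnibranch_mvPolynomial hR (Ideal.Quotient.mk _) Ideal.Quotient.mk_surjective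
      (by rw [Ideal.mk_ker]) P hP)

theorem isGeomUnibranch_of_ringEquiv {R S : Type u} [CommRing R] [CommRing S] [IsLocalRing R] [IsLocalRing S]
    (e : R ≃+* S) (h : CAlg2.IsGeomUnibranch S) : CAlg2.IsGeomUnibranch R := by
  haveI : IsDomain (CAlg2.red S) := h.1.1
  haveI : IsLocalRing (CAlg2.red S) :=
    IsLocalRing.of_surjective' (Ideal.Quotient.mk (nilradical S)) Ideal.Quotient.mk_surjective
  have hred : CAlg2.IsGeomUnibranch (CAlg2.red S) := by
    refine isGeomUnibranch_of_radicialAt (K := FractionRing (CAlg2.red S))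
      (integralClosure (CAlg2.red S) (FractionRing (CAlg2.red S)))
      (radicialAt_of_isGeomUnibranch (K := FractionRing (CAlg2.red S)) h (Ideal.Quotient.mk _)
        Ideal.Quotient.mk_surjective (by rw [Ideal.mk_ker]) _)
  refine isGeomUnibranch_of_surjective ((Ideal.Quotient.mk _).comp e.toRingHom)
    (Ideal.Quotient.mk_surjective.comp e.surjective) (fun a ha => ?_) hred
  rw [RingHom.mem_ker, RingHom.comp_apply, Ideal.Quotient.eq_zero_iff_mem] at ha
  have := (mem_nilradical.1 ha).map e.symm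
  simpa [mem_nilradical] using this

/-- Affine space over a geometrically unibranch point is geometrically unibranch. -/
theorem isGeomUnibranch_affineSpace {Y : Scheme.{u}} (n : ℕ) (y' : ↥𝔸(ULift.{u} (Fin n); Y))
    (hy : CAlg2.IsGeomUnibranch (Y.presheaf.stalk ((𝔸(ULift.{u} (Fin n); Y) ↘ Y).base y'))) :
    CAlg2.IsGeomUnibranch ((𝔸(ULift.{u} (Fin n); Y)).presheaf.stalk y') := by
  obtain ⟨_, ⟨(U : Y.Opens), hU, rfl⟩, hyU, -⟩ :=
    Y.isBasis_affineOpens.exists_subset_of_mem_open (Set.mem_univ ((𝔸(ULift.{u} (Fin n); Y) ↘ Y).base y'))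
      isOpen_univ
  let m := AffineSpace.map (ULift.{u} (Fin n)) hU.fromSpec
  have sq := AffineSpace.isPullback_map (n := ULift.{u} (Fin n)) hU.fromSpec
  haveI : IsOpenImmersion m := MorphismProperty.of_isPullback sq.flip (inferInstanceAs (IsOpenImmersion hU.fromSpec))
  obtain ⟨w₀, hw₀, -⟩ := Scheme.Pullback.exists_preimage_pullback (f := (𝔸(ULift.{u} (Fin n); Y) ↘ Y)) (g := hU.fromSpec)
    y' (hU.primeIdealOf ⟨_, hyU⟩) (hU.fromSpec_primeIdealOf ⟨_, hyU⟩).symm
  obtain ⟨w, hw⟩ : ∃ w, m.base w = y' := ⟨sq.isoPullback.inv.base w₀, by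
    rw [← Scheme.Hom.comp_apply, IsPullback.isoPullback_inv_fst]; exact hw₀⟩
  let σ : MvPolynomial (Fin n) Γ(Y, U) ≃+* MvPolynomial (ULift.{u} (Fin n)) Γ(Y, U) :=
    (MvPolynomial.renameEquiv Γ(Y, U) Equiv.ulift.{u, 0}.symm).toRingEquiv
  let ρ : Spec (CommRingCat.of (MvPolynomial (Fin n) Γ(Y, U))) ⟶ Spec (CommRingCat.of (MvPolynomial (ULift.{u} (Fin n)) Γ(Y, U))) :=
    Spec.map σ.symm.toCommRingCatIso.hom
  let j : Spec (CommRingCat.of (MvPolynomial (Fin n) Γ(Y, U))) ⟶ 𝔸(ULift.{u} (Fin n); Y) :=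
    ρ ≫ (AffineSpace.SpecIso (ULift.{u} (Fin n)) Γ(Y, U)).inv ≫ m
  obtain ⟨Q, rfl⟩ : ∃ Q, j.base Q = y' := by
    haveI : IsIso ρ := inferInstanceAs (IsIso (Spec.map σ.symm.toCommRingCatIso.hom))
    refine ⟨(inv ρ).base ((AffineSpace.SpecIso (ULift.{u} (Fin n)) Γ(Y, U)).hom.base w), ?_⟩
    rw [← hw, ← Scheme.Hom.comp_apply, ← Scheme.Hom.comp_apply]
    simp [j]
  have hj : j ≫ (𝔸(ULift.{u} (Fin n); Y) ↘ Y) =
      Spec.map (CommRingCat.ofHom (MvPolynomial.C : Γ(Y, U) →+* MvPolynomial (Fin n) Γ(Y, U))) ≫ hU.fromSpec := by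
    simp only [j, m, Category.assoc, AffineSpace.map_over, AffineSpace.SpecIso_inv_over_assoc]
    rw [← Category.assoc]
    congr 1
    rw [← Spec.map_comp]
    congr 1
    ext a
    simp [σ]
  have hpt : hU.fromSpec (PrimeSpectrum.comap (MvPolynomial.C (σ := Fin n) (R := Γ(Y, U))) Q) =
      (𝔸(ULift.{u} (Fin n); Y) ↘ Y).base (j.base Q) := by
    rw [← Scheme.Hom.comp_apply, hj, Scheme.Hom.comp_apply]
    rfl
  have hp : (Q : PrimeSpectrum (MvPolynomial (Fin n) Γ(Y, U))).asIdeal.comap MvPolynomial.C =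
      (hU.primeIdealOf ⟨_, hyU⟩).asIdeal :=
    congrArg PrimeSpectrum.asIdeal (hU.fromSpec.isOpenEmbedding.injective
      (hpt.trans (hU.fromSpec_primeIdealOf ⟨_, hyU⟩).symm))
  letI : Algebra Γ(Y, U) (Y.presheaf.stalk ((𝔸(ULift.{u} (Fin n); Y) ↘ Y).base (j.base Q))) :=
    (Y.presheaf.germ U _ hyU).hom.toAlgebra
  haveI : IsLocalization.AtPrime (Y.presheaf.stalk ((𝔸(ULift.{u} (Fin n); Y) ↘ Y).base (j.base Q)))
      (hU.primeIdealOf ⟨_, hyU⟩).asIdeal := hU.isLocalization_stalk ⟨_, hyU⟩
  have h := isGeomUnibranch_localization_mvPolynomial (Q : PrimeSpectrum (MvPolynomial (Fin n) Γ(Y, U))).asIdeal hp hy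
  haveI : IsOpenImmersion j := by
    haveI : IsIso ρ := inferInstanceAs (IsIso (Spec.map σ.symm.toCommRingCatIso.hom))
    infer_instance
  exact isGeomUnibranch_of_ringEquiv
    ((asIso (j.stalkMap Q)).commRingCatIsoToRingEquiv.trans
      (StructureSheaf.stalkIso _ Q).symm.toRingEquiv) h

end Groth.Agent.GeomUnib
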