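import Groth.Agent.AICPoint.Root
import Mathlib

/-!
# Integral extensions of normal domains are universally open
-/

set_option autoImplicit false

universe u

open CategoryTheory CategoryTheory.Limits AlgebraicGeometry TensorProduct

namespace Groth.Agent.GeomUnib

theorem exists_comap_eq {R S : Type*} [CommRing R] [CommRing S] [Algebra R S]
    (h : Function.Injective (algebraMap R S)) [Algebra.IsIntegral R S] (p : PrimeSpectrum R) :
    ∃ q : PrimeSpectrum S, PrimeSpectrum.comap (algebraMap R S) q = p := by
  obtain ⟨Q, -, hQ, hQp⟩ := Ideal.exists_ideal_over_prime_of_isIntegral p.asIdeal (⊥ : Ideal S)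
    (by rw [← RingHom.ker_eq_comap_bot, (RingHom.injective_iff_ker_eq_bot _).mp h]; exact bot_le)
  exact ⟨⟨Q, hQ⟩, PrimeSpectrum.ext hQp⟩

/-- An integral extension of a normal domain induces an open map of spectra. -/
theorem isOpenMap_comap {A E : Type*} [CommRing A] [IsDomain A] [IsIntegrallyClosed A] [CommRing E]
    [IsDomain E] [Algebra A E] [FaithfulSMul A E] [Algebra.IsIntegral A E] :
    IsOpenMap (PrimeSpectrum.comap (algebraMap A E)) := by
  rw [PrimeSpectrum.isBasis_basic_opens.isOpenMap_iff]
  rintro _ ⟨_, ⟨b, rfl⟩, rfl⟩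
  let B := Algebra.adjoin A ({b} : Set E)
  have hb : IsIntegral A b := Algebra.IsIntegral.isIntegral b
  let e : AdjoinRoot (minpoly A b) ≃ₐ[A] B := minpoly.equivAdjoin hb
  haveI : Module.Free A (AdjoinRoot (minpoly A b)) :=
    Module.Free.of_basis (AdjoinRoot.powerBasis' (minpoly.monic hb)).basis
  haveI : Module.Free A B := Module.Free.of_equiv e.toLinearEquiv
  haveI : Algebra.FinitePresentation A B := Algebra.FinitePresentation.equiv e
  haveI : Algebra.IsIntegral B E := Algebra.IsIntegral.tower_top (R := A)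
  let b' : B := ⟨b, Algebra.self_mem_adjoin_singleton A b⟩
  have hopen : IsOpenMap (PrimeSpectrum.comap (algebraMap A B)) :=
    PrimeSpectrum.isOpenMap_comap_of_hasGoingDown_of_finitePresentation
  have : PrimeSpectrum.comap (algebraMap A E) '' (PrimeSpectrum.basicOpen b : Set (PrimeSpectrum E)) =
      PrimeSpectrum.comap (algebraMap A B) '' (PrimeSpectrum.basicOpen b' : Set (PrimeSpectrum B)) := by
    ext p
    constructor
    · rintro ⟨q, hq, rfl⟩
      exact ⟨PrimeSpectrum.comap (algebraMap B E) q, hq, rfl⟩
    · rintro ⟨q, hq, rfl⟩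
      obtain ⟨q', hq'⟩ := exists_comap_eq (R := B) (S := E) Subtype.val_injective q
      refine ⟨q', fun hb' => hq ?_, ?_⟩
      · rw [← hq']; exact hb'
      · rw [← hq']; rfl
  rw [this]
  exact hopen _ (PrimeSpectrum.basicOpen b').2

/-- Two field extensions of a field embed in a common one. -/
theorem exists_amalgam {k K₁ K₂ : Type u} [Field k] [Field K₁] [Field K₂] (a : k →+* K₁) (b : k →+* K₂) :
    ∃ (L : Type u) (_ : Field L) (σ : K₁ →+* L) (τ : K₂ →+* L), σ.comp a = τ.comp b := by
  letI := a.toAlgebra
  letI := b.toAlgebra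
  haveI : Nontrivial (K₁ ⊗[k] K₂) :=
    (Algebra.TensorProduct.includeLeft_injective (R := k) (S := k) (A := K₁) (B := K₂) b.injective).nontrivial
  obtain ⟨N, hN⟩ := Ideal.exists_maximal (K₁ ⊗[k] K₂)
  refine ⟨(K₁ ⊗[k] K₂) ⧸ N, Ideal.Quotient.field N,
    (Ideal.Quotient.mk N).comp Algebra.TensorProduct.includeLeftRingHom,
    (Ideal.Quotient.mk N).comp (Algebra.TensorProduct.includeRight (R := k) (A := K₁)).toRingHom, ?_⟩
  rw [RingHom.comp_assoc, RingHom.comp_assoc]
  exact congrArg _ Algebra.TensorProduct.includeLeftRingHom_comp_algebraMap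

set_option backward.isDefEq.respectTransparency false in
/-- Integral extensions of normal domains stay open after any base change. -/
theorem isOpenMap_comap_includeLeft {A E C : Type u} [CommRing A] [IsDomain A] [IsIntegrallyClosed A]
    [CommRing E] [IsDomain E] [Algebra A E] [FaithfulSMul A E] [Algebra.IsIntegral A E]
    [CommRing C] [Algebra A C] :
    IsOpenMap (PrimeSpectrum.comap (algebraMap C (C ⊗[A] E))) := by
  rw [PrimeSpectrum.isBasis_basic_opens.isOpenMap_iff]
  rintro _ ⟨_, ⟨b, rfl⟩, rfl⟩
  obtain ⟨n, c, e, hb⟩ : ∃ (n : ℕ) (c : Fin n → C) (e : Fin n → E), b = ∑ i, c i ⊗ₜ[A] e i := by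
    obtain ⟨t, ht⟩ := TensorProduct.exists_finset (R := A) b
    exact ⟨t.card, fun i => (t.equivFin.symm i).1.1, fun i => (t.equivFin.symm i).1.2,
      by rw [ht, ← Finset.sum_coe_sort t, ← t.equivFin.symm.sum_comp]⟩
  letI : Algebra (MvPolynomial (Fin n) A) (MvPolynomial (Fin n) E) := (MvPolynomial.map (algebraMap A E)).toAlgebra
  haveI : IsScalarTower A (MvPolynomial (Fin n) A) (MvPolynomial (Fin n) E) := IsScalarTower.of_algebraMap_eq fun a => by
    simp [RingHom.algebraMap_toAlgebra, MvPolynomial.algebraMap_eq]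
  haveI : IsIntegrallyClosed (MvPolynomial (Fin n) A) := AICPoint.isIntegrallyClosed_mvPolynomial A n
  haveI : FaithfulSMul (MvPolynomial (Fin n) A) (MvPolynomial (Fin n) E) := (faithfulSMul_iff_algebraMap_injective (MvPolynomial (Fin n) A) (MvPolynomial (Fin n) E)).2
    (MvPolynomial.map_injective _ (FaithfulSMul.algebraMap_injective A E))
  haveI : Algebra.IsIntegral (MvPolynomial (Fin n) A) (MvPolynomial (Fin n) E) := ⟨fun p => by
    induction p using MvPolynomial.induction_on with
    | C a =>
      have := (Algebra.IsIntegral.isIntegral (R := A) a).map (Algebra.ofId E (MvPolynomial (Fin n) E) |>.restrictScalars A)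
      exact this.tower_top
    | add p q hp hq => exact hp.add hq
    | mul_X p i hp =>
      refine hp.mul ?_
      rw [← MvPolynomial.map_X (algebraMap A E)]
      exact isIntegral_algebraMap⟩
  let B₀ : (MvPolynomial (Fin n) E) := ∑ i, MvPolynomial.X i * MvPolynomial.C (e i)
  let U₀ := PrimeSpectrum.comap (algebraMap (MvPolynomial (Fin n) A) (MvPolynomial (Fin n) E)) '' (PrimeSpectrum.basicOpen B₀ : Set (PrimeSpectrum (MvPolynomial (Fin n) E)))
  have hU₀ : IsOpen U₀ := isOpenMap_comap _ (PrimeSpectrum.basicOpen B₀).2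
  let φ : (MvPolynomial (Fin n) A) →+* C := (MvPolynomial.aeval c).toRingHom
  have key : PrimeSpectrum.comap (algebraMap C (C ⊗[A] E)) ''
      (PrimeSpectrum.basicOpen b : Set (PrimeSpectrum (C ⊗[A] E))) = PrimeSpectrum.comap φ ⁻¹' U₀ := by
    ext z
    constructor
    · rintro ⟨P, hP, rfl⟩
      let ι : C ⊗[A] E →+* P.asIdeal.ResidueField := algebraMap _ _
      let ψ : (MvPolynomial (Fin n) E) →+* P.asIdeal.ResidueField := MvPolynomial.eval₂Hom
        (ι.comp (Algebra.TensorProduct.includeRight (R := A) (A := C) (B := E)).toRingHom)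
        (fun i => ι (c i ⊗ₜ 1))
      have hψ : ψ B₀ = ι b := by
        simp only [hb, B₀, map_sum, map_mul, ψ, MvPolynomial.eval₂Hom_X', MvPolynomial.eval₂Hom_C]
        refine Finset.sum_congr rfl fun i _ => ?_
        simp [← map_mul, Algebra.TensorProduct.tmul_mul_tmul]
      refine ⟨⟨RingHom.ker ψ, RingHom.ker_isPrime ψ⟩, fun h => hP ?_, PrimeSpectrum.ext ?_⟩
      · rw [← Ideal.algebraMap_residueField_eq_zero (I := P.asIdeal)]
        exact hψ.symm.trans (RingHom.mem_ker.1 h)
      · have hcomp : ψ.comp (algebraMap (MvPolynomial (Fin n) A) (MvPolynomial (Fin n) E)) =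
            (ι.comp (algebraMap C (C ⊗[A] E))).comp φ := by
          refine MvPolynomial.ringHom_ext (fun a => ?_) (fun i => ?_)
          · simp only [RingHom.comp_apply, RingHom.algebraMap_toAlgebra, MvPolynomial.map_C, ψ,
              MvPolynomial.eval₂Hom_C, φ, AlgHom.toRingHom_eq_coe, RingHom.coe_coe,
              MvPolynomial.aeval_C, Algebra.TensorProduct.includeRight_apply]
            rw [← Algebra.TensorProduct.algebraMap_apply', Algebra.TensorProduct.algebraMap_apply]
            rfl
          · simp [RingHom.algebraMap_toAlgebra, ψ, φ]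
        change (RingHom.ker ψ).comap (algebraMap (MvPolynomial (Fin n) A) (MvPolynomial (Fin n) E)) = (P.asIdeal.comap _).comap φ
        rw [RingHom.comap_ker, hcomp, ← RingHom.comap_ker, ← RingHom.comap_ker,
          Ideal.ker_algebraMap_residueField]
    · rintro ⟨q, hq, hqz⟩
      have hq' : q.asIdeal.comap (algebraMap (MvPolynomial (Fin n) A) (MvPolynomial (Fin n) E)) = z.asIdeal.comap φ :=
        congrArg PrimeSpectrum.asIdeal hqz
      obtain ⟨L, _, σ, τ, hστ⟩ := exists_amalgam
        (Ideal.ResidueField.map (z.asIdeal.comap φ) z.asIdeal φ rfl)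
        (Ideal.ResidueField.map (z.asIdeal.comap φ) q.asIdeal (algebraMap (MvPolynomial (Fin n) A) (MvPolynomial (Fin n) E)) hq'.symm)
      let σC : C →+* L := σ.comp (algebraMap C z.asIdeal.ResidueField)
      let τS : (MvPolynomial (Fin n) E) →+* L := τ.comp (algebraMap (MvPolynomial (Fin n) E) q.asIdeal.ResidueField)
      have hagree : σC.comp φ = τS.comp (algebraMap (MvPolynomial (Fin n) A) (MvPolynomial (Fin n) E)) := by
        refine RingHom.ext fun r => ?_
        have := RingHom.congr_fun hστ (algebraMap (MvPolynomial (Fin n) A) _ r)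
        simp only [RingHom.comp_apply, Ideal.ResidueField.map_algebraMap] at this
        exact this
      letI : Algebra A L := (σC.comp (algebraMap A C)).toAlgebra
      let σ' : C →ₐ[A] L := ⟨σC, fun _ => rfl⟩
      let τ' : E →ₐ[A] L := ⟨τS.comp MvPolynomial.C, fun a => by
        have := RingHom.congr_fun hagree (MvPolynomial.C a)
        simpa [φ, RingHom.algebraMap_toAlgebra] using this.symm⟩
      let χ : C ⊗[A] E →ₐ[A] L := Algebra.TensorProduct.lift σ' τ' fun _ _ => .all _ _
      have hX : ∀ i, σC (c i) = τS (MvPolynomial.X i) := fun i => by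
        have := RingHom.congr_fun hagree (MvPolynomial.X i)
        simpa [φ, RingHom.algebraMap_toAlgebra] using this
      have hχb : χ b = τS B₀ := by
        simp [hb, B₀, χ, σ', τ', hX]
      refine ⟨⟨RingHom.ker χ.toRingHom, RingHom.ker_isPrime _⟩, fun h => hq ?_, PrimeSpectrum.ext ?_⟩
      · have h0 : χ b = 0 := h
        rw [hχb] at h0
        exact Ideal.algebraMap_residueField_eq_zero.1 ((map_eq_zero τ).1 h0)
      · change (RingHom.ker χ.toRingHom).comap (algebraMap C (C ⊗[A] E)) = z.asIdeal
        have hχC : χ.toRingHom.comp (algebraMap C (C ⊗[A] E)) = σC := by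
          ext x; simp [χ, σ', Algebra.TensorProduct.algebraMap_apply]
        rw [RingHom.comap_ker, hχC, ← RingHom.comap_ker,
          (RingHom.injective_iff_ker_eq_bot σ).1 σ.injective, ← RingHom.ker_eq_comap_bot,
          Ideal.ker_algebraMap_residueField]
  rw [key]
  exact hU₀.preimage (PrimeSpectrum.continuous_comap φ)

/-- An integral extension of a normal domain gives a universally open morphism. -/
theorem universallyOpen_specMap {A E : Type u} [CommRing A] [IsDomain A] [IsIntegrallyClosed A]
    [CommRing E] [IsDomain E] [Algebra A E] [FaithfulSMul A E] [Algebra.IsIntegral A E] :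
    UniversallyOpen (Spec.map (CommRingCat.ofHom (algebraMap A E))) := by
  refine ⟨MorphismProperty.universally_mk' _ _ fun {T} g _ => ?_⟩
  wlog hT : ∃ C, T = Spec C generalizing T
  · rw [IsZariskiLocalAtTarget.iff_of_openCover (P := topologically @IsOpenMap) T.affineCover]
    intro i
    dsimp only [Scheme.Cover.pullbackHom]
    have e : pullback.snd (pullback.fst g (Spec.map (CommRingCat.ofHom (algebraMap A E))))
        (T.affineCover.f i) = (pullbackSymmetry _ _).hom ≫
          (pullbackRightPullbackFstIso g (Spec.map (CommRingCat.ofHom (algebraMap A E)))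
            (T.affineCover.f i)).hom ≫ pullback.fst _ _ := by simp
    rw [e]
    exact (MorphismProperty.cancel_left_of_respectsIso (topologically @IsOpenMap) _ _).2
      ((MorphismProperty.cancel_left_of_respectsIso (topologically @IsOpenMap) _ _).2
        (this (T.affineCover.f i ≫ g) inferInstance ⟨_, rfl⟩))
  obtain ⟨C, rfl⟩ := hT
  obtain ⟨φ, rfl⟩ := Spec.map_surjective g
  letI : Algebra A C := φ.hom.toAlgebra
  rw [← MorphismProperty.cancel_left_of_respectsIso (topologically @IsOpenMap)
    (pullbackSpecIso A C E).inv]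
  have : (pullbackSpecIso A C E).inv ≫ pullback.fst _ _ =
      Spec.map (CommRingCat.ofHom Algebra.TensorProduct.includeLeftRingHom) := pullbackSpecIso_inv_fst ..
  exact this ▸ isOpenMap_comap_includeLeft

end Groth.Agent.GeomUnib
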