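import Groth.Agent.GeomUnib.Normal
import Groth.Prelude.Def_CAlg2
import Groth.Prelude.Def_EGA43
import Groth.Agent.OpenAt.Basic

/-!
# Primes with a unique, radicial point over them in an integral extension
-/

set_option autoImplicit false

universe u

open CategoryTheory CategoryTheory.Limits AlgebraicGeometry

namespace Groth.Agent.GeomUnib

variable {A A' : Type u} [CommRing A] [CommRing A'] [Algebra A A']

variable (A') in
/-- Over `p` there is at most one prime of `A'`. -/
def UniqueAt (p : Ideal A) : Prop :=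
  ∀ q₁ q₂ : Ideal A', q₁.IsPrime → q₂.IsPrime →
    q₁.comap (algebraMap A A') = p → q₂.comap (algebraMap A A') = p → q₁ = q₂

variable (A') in
/-- Over `p` there is at most one field valued point of `A'` extending a given one. -/
def RadicialAt (p : Ideal A) : Prop :=
  ∀ (L : Type u) [Field L] (χ₁ χ₂ : A' →+* L), χ₁.comp (algebraMap A A') = χ₂.comp (algebraMap A A') →
    RingHom.ker (χ₁.comp (algebraMap A A')) = p → χ₁ = χ₂

theorem ker_comp_algebraMap_residueField (q : Ideal A') [q.IsPrime] :
    RingHom.ker ((algebraMap A' q.ResidueField).comp (algebraMap A A')) = q.comap (algebraMap A A') := by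
  rw [← RingHom.comap_ker, Ideal.ker_algebraMap_residueField]

theorem RadicialAt.uniqueAt {p : Ideal A} (h : RadicialAt A' p) : UniqueAt A' p := by
  intro q₁ q₂ _ _ h₁ h₂
  have hpp : p.IsPrime := h₁ ▸ Ideal.IsPrime.comap _
  obtain ⟨L, _, σ, τ, hστ⟩ := exists_amalgam
    (Ideal.ResidueField.map p q₁ (algebraMap A A') h₁.symm)
    (Ideal.ResidueField.map p q₂ (algebraMap A A') h₂.symm)
  have e := h L (σ.comp (algebraMap A' q₁.ResidueField)) (τ.comp (algebraMap A' q₂.ResidueField))
    (RingHom.ext fun a => by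
      simpa using RingHom.congr_fun hστ (algebraMap A p.ResidueField a))
    (by rw [RingHom.comp_assoc, RingHom.ker_comp_of_injective _ σ.injective,
      ker_comp_algebraMap_residueField, h₁])
  have := congrArg RingHom.ker e
  rwa [RingHom.ker_comp_of_injective _ σ.injective, RingHom.ker_comp_of_injective _ τ.injective,
    Ideal.ker_algebraMap_residueField, Ideal.ker_algebraMap_residueField] at this

section transfer

variable {A₁ K : Type u} [CommRing A₁] [IsDomain A₁] [Field K] [Algebra A₁ K] [IsFractionRing A₁ K]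

/-- Transport of integral elements along an isomorphism of the base and of the ambient ring. -/
theorem isIntegral_of_equiv {R S R' S' : Type*} [CommRing R] [CommRing S] [CommRing R'] [CommRing S']
    [Algebra R S] [Algebra R' S'] (e : R ≃+* R') (E : S ≃+* S')
    (h : ∀ r, E (algebraMap R S r) = algebraMap R' S' (e r)) {x : S} (hx : IsIntegral R x) :
    IsIntegral R' (E x) :=
  hx.map_of_comp_eq e.toRingHom E.toRingHom (RingHom.ext fun r => (h r).symm)

/-- The normalized reduction of a local ring computes the integral closure of a reduced quotient. -/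
theorem exists_surjective_normRed (φ : A →+* A₁) (hφ : Function.Surjective φ)
    (hker : RingHom.ker φ ≤ nilradical A) (A'' : Type u) [CommRing A''] [Algebra A₁ A''] [Algebra A'' K]
    [IsScalarTower A₁ A'' K] [IsIntegralClosure A'' A₁ K] :
    ∃ ψ : CAlg2.normRed A →+* A'', Function.Bijective ψ ∧
      ψ.comp ((algebraMap (CAlg2.red A) (CAlg2.normRed A)).comp (Ideal.Quotient.mk (nilradical A))) =
        (algebraMap A₁ A'').comp φ := by
  have hnil : nilradical A = RingHom.ker φ := by
    refine le_antisymm (fun a ha => ?_) hker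
    exact RingHom.mem_ker.2 ((mem_nilradical.1 ha).map φ).eq_zero
  let eR : CAlg2.red A ≃+* A₁ :=
    (Ideal.quotEquivOfEq hnil).trans (RingHom.quotientKerEquivOfSurjective hφ)
  haveI : IsDomain (CAlg2.red A) := eR.toMulEquiv.isDomain_iff.2 inferInstance
  let eK : FractionRing (CAlg2.red A) ≃+* K := IsFractionRing.ringEquivOfRingEquiv eR
  have he : ∀ r, eK (algebraMap _ _ r) = algebraMap A₁ K (eR r) :=
    IsFractionRing.ringEquivOfRingEquiv_algebraMap eR
  have hint : ∀ x : CAlg2.normRed A, IsIntegral A₁ (eK x.1) := fun x =>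
    isIntegral_of_equiv eR eK he x.2
  have hinj : Function.Injective (algebraMap A'' K) := IsIntegralClosure.algebraMap_injective A'' A₁ K
  let f : CAlg2.normRed A → A'' := fun x => IsIntegralClosure.mk' A'' (eK x.1) (hint x)
  have hf : ∀ x, algebraMap A'' K (f x) = eK x.1 := fun x => IsIntegralClosure.algebraMap_mk' A'' _ _
  let ψ : CAlg2.normRed A →+* A'' :=
    { toFun := f
      map_one' := hinj (by rw [hf]; simp)
      map_mul' := fun x y => hinj (by rw [map_mul, hf, hf, hf]; simp)
      map_zero' := hinj (by rw [hf]; simp)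
      map_add' := fun x y => hinj (by rw [map_add, hf, hf, hf]; simp) }
  refine ⟨ψ, ⟨fun x y h => Subtype.ext (eK.injective (by rw [← hf, ← hf]; exact congrArg (algebraMap A'' K) h)), fun y => ?_⟩,
    RingHom.ext fun a => hinj ?_⟩
  · have hy : IsIntegral A₁ (algebraMap A'' K y) :=
      ((IsIntegralClosure.isIntegral_algebra A₁ K).isIntegral y).map (IsScalarTower.toAlgHom A₁ A'' K)
    refine ⟨⟨eK.symm (algebraMap A'' K y), isIntegral_of_equiv eR.symm eK.symm (fun r => ?_) hy⟩,
      hinj ?_⟩
    · rw [RingEquiv.symm_apply_eq, he, RingEquiv.apply_symm_apply]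
    · exact (hf _).trans (eK.apply_symm_apply _)
  · change algebraMap A'' K (f _) = _
    rw [hf]
    refine (he _).trans ?_
    rw [RingHom.comp_apply, ← IsScalarTower.algebraMap_apply]
    rfl

/-- Unibranch local rings: one point of the normalisation over the closed point. -/
theorem uniqueAt_of_isUnibranch [IsLocalRing A] [IsLocalRing A₁] (hA : CAlg2.IsUnibranch A)
    (φ : A →+* A₁) (hφ : Function.Surjective φ)
    (hker : RingHom.ker φ ≤ nilradical A) (A'' : Type u) [CommRing A''] [Algebra A₁ A''] [Algebra A'' K]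
    [IsScalarTower A₁ A'' K] [IsIntegralClosure A'' A₁ K] :
    UniqueAt A'' (IsLocalRing.maximalIdeal A₁) := by
  haveI := IsIntegralClosure.isIntegral_algebra (A := A'') A₁ K
  obtain ⟨ψ, hψb, -⟩ := exists_surjective_normRed φ hφ hker A'' (K := K)
  have hψ := hψb.2
  haveI := hA.2
  intro q₁ q₂ _ _ h₁ h₂
  have m₁ : q₁.IsMaximal := Ideal.isMaximal_of_isIntegral_of_isMaximal_comap (R := A₁) _
    (by rw [h₁]; infer_instance)
  have m₂ : q₂.IsMaximal := Ideal.isMaximal_of_isIntegral_of_isMaximal_comap (R := A₁) _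
    (by rw [h₂]; infer_instance)
  exact Ideal.comap_injective_of_surjective ψ hψ
    ((IsLocalRing.eq_maximalIdeal (Ideal.comap_isMaximal_of_surjective ψ hψ)).trans
      (IsLocalRing.eq_maximalIdeal (Ideal.comap_isMaximal_of_surjective ψ hψ)).symm)

/-- Geometrically unibranch local rings: the normalisation is radicial over the closed point. -/
theorem radicialAt_of_isGeomUnibranch [IsLocalRing A] [IsLocalRing A₁] (hA : CAlg2.IsGeomUnibranch A)
    (φ : A →+* A₁) (hφ : Function.Surjective φ)
    (hker : RingHom.ker φ ≤ nilradical A) (A'' : Type u) [CommRing A''] [Algebra A₁ A''] [Algebra A'' K]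
    [IsScalarTower A₁ A'' K] [IsIntegralClosure A'' A₁ K] :
    RadicialAt A'' (IsLocalRing.maximalIdeal A₁) := by
  haveI := IsIntegralClosure.isIntegral_algebra (A := A'') A₁ K
  obtain ⟨ψ, hψb, hψc⟩ := exists_surjective_normRed φ hφ hker A'' (K := K)
  have hψ := hψb.2
  intro L _ χ₁ χ₂ hχ hk
  have hu := uniqueAt_of_isUnibranch (K := K) hA.1 φ hφ hker A''
  have hk₂ : RingHom.ker χ₂ = RingHom.ker χ₁ := hu _ _ (RingHom.ker_isPrime _) (RingHom.ker_isPrime _)
    (by rw [RingHom.comap_ker, ← hχ, hk]) (by rw [RingHom.comap_ker, hk])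
  haveI hm : (RingHom.ker χ₁).IsMaximal := by
    haveI : (RingHom.ker χ₁).IsPrime := RingHom.ker_isPrime _
    refine Ideal.isMaximal_of_isIntegral_of_isMaximal_comap (R := A₁) _ ?_
    rw [RingHom.comap_ker, hk]
    infer_instance
  let m' := (RingHom.ker χ₁).comap ψ
  haveI : m'.IsMaximal := Ideal.comap_isMaximal_of_surjective ψ hψ
  letI := Ideal.Quotient.field m'
  let c₁ : CAlg2.normRed A ⧸ m' →+* L := Ideal.Quotient.lift m' (χ₁.comp ψ) fun x hx => hx
  let c₂ : CAlg2.normRed A ⧸ m' →+* L := Ideal.Quotient.lift m' (χ₂.comp ψ) fun x hx =>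
    RingHom.mem_ker.1 (hk₂.ge hx)
  haveI : ExpChar (CAlg2.normRed A ⧸ m') (ringExpChar (CAlg2.normRed A ⧸ m')) := inferInstance
  haveI : ExpChar L (ringExpChar (CAlg2.normRed A ⧸ m')) := expChar_of_injective_ringHom c₁.injective _
  refine (RingHom.cancel_right hψ).1 (RingHom.ext fun x => ?_)
  obtain ⟨n, a, ha⟩ := hA.2 m' (Ideal.Quotient.mk m' x)
  refine (iterateFrobenius L (ringExpChar (CAlg2.normRed A ⧸ m')) n).injective ?_
  rw [iterateFrobenius_def, iterateFrobenius_def]
  have e₁ : ((χ₁.comp ψ) x) ^ (ringExpChar (CAlg2.normRed A ⧸ m')) ^ n = χ₁ (algebraMap A₁ A'' (φ a)) := by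
    have := congrArg c₁ ha
    rw [map_pow] at this
    refine Eq.trans this.symm ?_
    change χ₁ (ψ _) = _
    exact congrArg χ₁ (RingHom.congr_fun hψc a)
  have e₂ : ((χ₂.comp ψ) x) ^ (ringExpChar (CAlg2.normRed A ⧸ m')) ^ n = χ₂ (algebraMap A₁ A'' (φ a)) := by
    have := congrArg c₂ ha
    rw [map_pow] at this
    refine Eq.trans this.symm ?_
    change χ₂ (ψ _) = _
    exact congrArg χ₂ (RingHom.congr_fun hψc a)
  rw [e₁, e₂]
  exact RingHom.congr_fun hχ (φ a)

end transfer

section globalize

variable [IsDomain A] {K : Type u} [Field K] [Algebra A K] [IsFractionRing A K] (p : Ideal A) [p.IsPrime]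
  [Algebra A' K] [IsScalarTower A A' K] [IsIntegralClosure A' A K]

/-- Passing from the localisation at `p` to the domain itself. -/
theorem exists_extend :
    ∃ (A'' : Type u) (_ : CommRing A'') (_ : Algebra (Localization.AtPrime p) A'')
      (_ : Algebra (Localization.AtPrime p) K) (_ : IsFractionRing (Localization.AtPrime p) K)
      (_ : Algebra A'' K) (_ : IsScalarTower (Localization.AtPrime p) A'' K)
      (_ : IsIntegralClosure A'' (Localization.AtPrime p) K) (j : A' →+* A''),
      j.comp (algebraMap A A') = (algebraMap (Localization.AtPrime p) A'').comp (algebraMap A _) ∧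
      (∀ (L : Type u) [Field L] (χ₁ χ₂ : A'' →+* L), χ₁.comp j = χ₂.comp j → χ₁ = χ₂) ∧
      ∀ (L : Type u) [Field L] (χ : A' →+* L), RingHom.ker (χ.comp (algebraMap A A')) ≤ p →
        ∃ χ' : A'' →+* L, χ'.comp j = χ := by
  let Ap := Localization.AtPrime p
  have hu : ∀ s : p.primeCompl, IsUnit (algebraMap A K s) := fun s => by
    refine isUnit_iff_ne_zero.2 fun h => s.2 ?_
    rw [(map_eq_zero_iff _ (IsFractionRing.injective A K)).1 h]
    exact zero_mem p
  letI : Algebra Ap K := (IsLocalization.lift (S := Ap) hu).toAlgebra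
  haveI : IsScalarTower A Ap K := IsScalarTower.of_algebraMap_eq fun a => (IsLocalization.lift_eq hu a).symm
  haveI : IsFractionRing Ap K :=
    IsFractionRing.isFractionRing_of_isDomain_of_isLocalization p.primeCompl Ap K
  have hsub : ∀ x : K, IsIntegral A x → IsIntegral Ap x := fun x hx => hx.tower_top
  letI : Algebra (integralClosure A K) (integralClosure Ap K) :=
    (RingHom.codRestrict (integralClosure A K).val.toRingHom (integralClosure Ap K).toSubring
      fun x => hsub _ x.2).toAlgebra
  haveI : IsScalarTower (integralClosure A K) (integralClosure Ap K) K :=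
    IsScalarTower.of_algebraMap_eq fun x => rfl
  haveI : IsScalarTower A (integralClosure A K) (integralClosure Ap K) :=
    IsScalarTower.of_algebraMap_eq fun a => Subtype.ext rfl
  haveI : IsLocalization (Algebra.algebraMapSubmonoid K p.primeCompl) K :=
    IsLocalization.self fun x hx => by
      obtain ⟨s, hs, rfl⟩ := hx
      exact hu ⟨s, hs⟩
  have hloc := IsLocalization.integralClosure (R := A) (S := K) (Rf := Ap) (Sf := K) p.primeCompl
  let e : A' ≃ₐ[A] integralClosure A K := IsIntegralClosure.equiv A A' K (integralClosure A K)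
  refine ⟨integralClosure Ap K, inferInstance, inferInstance, inferInstance, inferInstance, inferInstance,
    inferInstance, inferInstance,
    (algebraMap (integralClosure A K) (integralClosure Ap K)).comp e.toAlgHom.toRingHom, ?_,
    fun L _ χ₁ χ₂ hc => IsLocalization.ringHom_ext
      (Algebra.algebraMapSubmonoid (integralClosure A K) p.primeCompl) (RingHom.ext fun x => by
      have := RingHom.congr_fun hc (e.symm x)
      simpa using this),
    fun L _ χ hχ => ?_⟩
  · refine RingHom.ext fun a => ?_
    simp only [RingHom.comp_apply, AlgHom.toRingHom_eq_coe, RingHom.coe_coe, AlgEquiv.coe_algHom,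
      e.commutes, ← IsScalarTower.algebraMap_apply]
  · have hunit : ∀ y : Algebra.algebraMapSubmonoid (integralClosure A K) p.primeCompl,
        IsUnit ((χ.comp e.symm.toAlgHom.toRingHom) y) := by
      rintro ⟨_, s, hs, rfl⟩
      refine isUnit_iff_ne_zero.2 fun h => hs (hχ (RingHom.mem_ker.2 ?_))
      simpa using h
    refine ⟨IsLocalization.lift (S := integralClosure Ap K) hunit, RingHom.ext fun x => ?_⟩
    rw [RingHom.comp_apply, RingHom.comp_apply, IsLocalization.lift_eq]
    simp

include K in
/-- At a geometrically unibranch prime the normalisation has a unique radicial point. -/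
theorem radicialAt_of_localization {R : Type u} [CommRing R] [IsLocalRing R] (h : CAlg2.IsGeomUnibranch R)
    (φ : R →+* Localization.AtPrime p) (hφ : Function.Surjective φ) (hker : RingHom.ker φ ≤ nilradical R) :
    RadicialAt A' p := by
  obtain ⟨A'', _, _, _, _, _, _, _, j, hj, -, hext⟩ := exists_extend (A' := A') (K := K) p
  intro L _ χ₁ χ₂ hχ hk
  obtain ⟨c₁, rfl⟩ := hext L χ₁ hk.le
  obtain ⟨c₂, rfl⟩ := hext L χ₂ ((hχ ▸ hk).le)
  have hr := radicialAt_of_isGeomUnibranch (K := K) h φ hφ hker A''
  rw [hr L c₁ c₂ ?_ ?_]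
  · refine IsLocalization.ringHom_ext p.primeCompl ?_
    rw [RingHom.comp_assoc, RingHom.comp_assoc, ← hj, ← RingHom.comp_assoc, ← RingHom.comp_assoc, hχ]
  · haveI : (RingHom.ker (c₁.comp (algebraMap (Localization.AtPrime p) A''))).IsPrime := RingHom.ker_isPrime _
    refine (IsLocalization.orderEmbedding p.primeCompl (Localization.AtPrime p)).injective ?_
    change Ideal.comap (algebraMap A _) _ = Ideal.comap (algebraMap A _) _
    rw [RingHom.comap_ker, RingHom.comp_assoc, ← hj, ← RingHom.comp_assoc, hk]
    exact Localization.AtPrime.under_maximalIdeal.symm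

include K in
/-- At a unibranch prime the normalisation has a unique point. -/
theorem uniqueAt_of_localization {R : Type u} [CommRing R] [IsLocalRing R] (h : CAlg2.IsUnibranch R)
    (φ : R →+* Localization.AtPrime p) (hφ : Function.Surjective φ) (hker : RingHom.ker φ ≤ nilradical R) :
    UniqueAt A' p := by
  obtain ⟨A'', _, _, _, _, _, _, _, j, hj, -, hext⟩ := exists_extend (A' := A') (K := K) p
  have hu := uniqueAt_of_isUnibranch (K := K) h φ hφ hker A''
  intro q₁ q₂ _ _ h₁ h₂
  have key : ∀ (q : Ideal A') [q.IsPrime], q.comap (algebraMap A A') = p →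
      ∃ Q : Ideal A'', Q.IsPrime ∧ Q.comap (algebraMap (Localization.AtPrime p) A'') =
        IsLocalRing.maximalIdeal _ ∧ Q.comap j = q := by
    intro q _ hq
    obtain ⟨c, hc⟩ := hext q.ResidueField (algebraMap A' _)
      (by rw [ker_comp_algebraMap_residueField, hq])
    haveI : (RingHom.ker c).IsPrime := RingHom.ker_isPrime _
    refine ⟨RingHom.ker c, inferInstance, ?_, ?_⟩
    · refine (IsLocalization.orderEmbedding p.primeCompl (Localization.AtPrime p)).injective ?_
      change Ideal.comap (algebraMap A _) _ = Ideal.comap (algebraMap A _) _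
      rw [RingHom.comap_ker, RingHom.comap_ker, RingHom.comp_assoc, ← hj, ← RingHom.comp_assoc, hc,
        ker_comp_algebraMap_residueField, hq]
      exact Localization.AtPrime.under_maximalIdeal.symm
    · rw [RingHom.comap_ker, hc, Ideal.ker_algebraMap_residueField]
  obtain ⟨Q₁, hQ₁, e₁, rfl⟩ := key q₁ h₁
  obtain ⟨Q₂, hQ₂, e₂, rfl⟩ := key q₂ h₂
  rw [hu Q₁ Q₂ hQ₁ hQ₂ e₁ e₂]

end globalize

section geometry

/-- A closed surjection is open at a point which is alone in its fibre. -/
theorem isOpenAt_of_closed {α β : Type*} [TopologicalSpace α] [TopologicalSpace β] {f : α → β}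
    (hc : IsClosedMap f) (hs : Function.Surjective f) (x : α) (hx : ∀ w, f w = f x → w = x) :
    EGA43.IsOpenAt f x := by
  intro U hU
  obtain ⟨O, hOU, hO, hxO⟩ := mem_nhds_iff.1 hU
  refine Filter.mem_of_superset ((hc _ hO.isClosed_compl).isOpen_compl.mem_nhds ?_) ?_
  · rintro ⟨w, hw, hwx⟩
    exact hw (hx w hwx ▸ hxO)
  · intro z hz
    obtain ⟨w, rfl⟩ := hs z
    exact ⟨w, hOU (by_contra fun h => hz ⟨w, h, rfl⟩), rfl⟩

/-- A universally closed surjection is universally open at a point with radicial fibre. -/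
theorem isUnivOpenAt_of_radicial {X Y : Scheme.{u}} (ν : X ⟶ Y) [UniversallyClosed ν] [Surjective ν] (x : X)
    (h : ∀ (L : Type u) [Field L] (α β : Spec (CommRingCat.of L) ⟶ X), α ≫ ν = β ≫ ν →
      ν (α (IsLocalRing.closedPoint L)) = ν x → α = β) :
    EGA43.IsUnivOpenAt ν x := by
  intro Y' g x' hx'
  refine isOpenAt_of_closed (pullback.snd ν g).isClosedMap (pullback.snd ν g).surjective x' fun w hw => ?_
  obtain ⟨t, ht₁, ht₂⟩ :=
    Scheme.Pullback.exists_preimage_pullback (f := pullback.snd ν g) (g := pullback.snd ν g) w x' hw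
  let γ : Spec (CommRingCat.of ((pullback (pullback.snd ν g) (pullback.snd ν g)).residueField t)) ⟶ _ :=
    (pullback (pullback.snd ν g) (pullback.snd ν g)).fromSpecResidueField t
  have hpt : γ (IsLocalRing.closedPoint _) = t := Scheme.fromSpecResidueField_apply _ _
  have e : (γ ≫ pullback.fst _ _) ≫ pullback.fst ν g = (γ ≫ pullback.snd _ _) ≫ pullback.fst ν g := by
    refine h _ _ _ ?_ ?_
    · rw [Category.assoc, Category.assoc, Category.assoc, Category.assoc, pullback.condition,
        ← pullback.condition_assoc]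
    · rw [Scheme.Hom.comp_apply, Scheme.Hom.comp_apply]
      erw [hpt]
      rw [ht₁, ← hx', ← Scheme.Hom.comp_apply, ← Scheme.Hom.comp_apply, pullback.condition,
        Scheme.Hom.comp_apply, Scheme.Hom.comp_apply, hw]
  have e' : γ ≫ pullback.fst _ _ = γ ≫ pullback.snd _ _ :=
    pullback.hom_ext e (by rw [Category.assoc, Category.assoc, pullback.condition])
  rw [← ht₁, ← ht₂, ← hpt, ← Scheme.Hom.comp_apply, ← Scheme.Hom.comp_apply, e']

/-- The spectrum of a radicial integral extension is universally open at the point over `p`. -/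
theorem RadicialAt.isUnivOpenAt {p : Ideal A} (hr : RadicialAt A' p) [Algebra.IsIntegral A A']
    (hinj : Function.Injective (algebraMap A A')) (q : PrimeSpectrum A')
    (hq : q.asIdeal.comap (algebraMap A A') = p) :
    EGA43.IsUnivOpenAt (Spec.map (CommRingCat.ofHom (algebraMap A A'))) (q : Spec (CommRingCat.of A')) := by
  have : IsIntegralHom (Spec.map (CommRingCat.ofHom (algebraMap A A'))) :=
    IsIntegralHom.SpecMap_iff.2 (algebraMap_isIntegral_iff.2 ‹_›)
  have : Surjective (Spec.map (CommRingCat.ofHom (algebraMap A A'))) :=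
    ⟨fun y => exists_comap_eq hinj y⟩
  refine isUnivOpenAt_of_radicial _ _ fun L _ α β e hpt => ?_
  obtain ⟨a, rfl⟩ := Spec.map_surjective α
  obtain ⟨b, rfl⟩ := Spec.map_surjective β
  rw [← Spec.map_comp, ← Spec.map_comp, Spec.map_inj] at e
  rw [Spec.map_inj]
  refine CommRingCat.hom_ext (hr L a.hom b.hom (congrArg CommRingCat.Hom.hom e) ?_)
  have hp := congrArg PrimeSpectrum.asIdeal hpt
  rw [← hq]
  refine Eq.trans ?_ hp
  change _ = ((IsLocalRing.maximalIdeal L).comap a.hom).comap _
  rw [IsLocalRing.maximalIdeal_eq_bot, ← RingHom.ker_eq_comap_bot, RingHom.comap_ker]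
  rfl

theorem UniqueAt.isOpenAt {p : Ideal A} (hu : UniqueAt A' p) [Algebra.IsIntegral A A']
    (hinj : Function.Injective (algebraMap A A')) (q : PrimeSpectrum A')
    (hq : q.asIdeal.comap (algebraMap A A') = p) :
    EGA43.IsOpenAt (PrimeSpectrum.comap (algebraMap A A')) q := by
  refine isOpenAt_of_closed (PrimeSpectrum.isClosedMap_comap_of_isIntegral _
    (algebraMap_isIntegral_iff.2 ‹_›)) (fun y => exists_comap_eq hinj y) q fun w hw => ?_
  exact PrimeSpectrum.ext (hu _ _ w.2 q.2 ((congrArg PrimeSpectrum.asIdeal hw).trans hq) hq)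

end geometry

end Groth.Agent.GeomUnib
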