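import Groth.Agent.GeomUnib.CodimFibre

/-!
# Charts of maps to affine space
-/

set_option autoImplicit false

universe u

open CategoryTheory CategoryTheory.Limits AlgebraicGeometry TopologicalSpace

namespace Groth.Agent.GeomUnib

open FibreDim

variable {Y : Scheme.{u}}

/-- The affine chart of affine space over an affine open. -/
noncomputable def jA (n : ℕ) {U : Y.Opens} (hU : IsAffineOpen U) :
    Spec (CommRingCat.of (MvPolynomial (Fin n) Γ(Y, U))) ⟶ 𝔸(ULift.{u} (Fin n); Y) :=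
  Spec.map (MvPolynomial.renameEquiv Γ(Y, U) Equiv.ulift.{u, 0}.symm).toRingEquiv.symm.toCommRingCatIso.hom ≫
    (AffineSpace.SpecIso (ULift.{u} (Fin n)) Γ(Y, U)).inv ≫ AffineSpace.map (ULift.{u} (Fin n)) hU.fromSpec

instance (n : ℕ) {U : Y.Opens} (hU : IsAffineOpen U) : IsOpenImmersion (jA n hU) := by
  haveI : IsOpenImmersion (AffineSpace.map (ULift.{u} (Fin n)) hU.fromSpec) :=
    MorphismProperty.of_isPullback (AffineSpace.isPullback_map (n := ULift.{u} (Fin n)) hU.fromSpec).flip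
      (inferInstanceAs (IsOpenImmersion hU.fromSpec))
  unfold jA
  infer_instance

theorem jA_over (n : ℕ) {U : Y.Opens} (hU : IsAffineOpen U) :
    jA n hU ≫ (𝔸(ULift.{u} (Fin n); Y) ↘ Y) =
      Spec.map (CommRingCat.ofHom (MvPolynomial.C : Γ(Y, U) →+* MvPolynomial (Fin n) Γ(Y, U))) ≫ hU.fromSpec := by
  simp only [jA, Category.assoc, AffineSpace.map_over, AffineSpace.SpecIso_inv_over_assoc]
  rw [← Category.assoc]
  congr 1
  rw [← Spec.map_comp]
  congr 1
  ext a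
  simp

theorem mem_range_jA (n : ℕ) {U : Y.Opens} (hU : IsAffineOpen U) (a : ↥𝔸(ULift.{u} (Fin n); Y))
    (ha : (𝔸(ULift.{u} (Fin n); Y) ↘ Y).base a ∈ U) : a ∈ Set.range (jA n hU) := by
  obtain ⟨w, hw, -⟩ := Scheme.exists_preimage_of_isPullback
    (AffineSpace.isPullback_map (n := ULift.{u} (Fin n)) hU.fromSpec) a (hU.primeIdealOf ⟨_, ha⟩)
    (hU.fromSpec_primeIdealOf ⟨_, ha⟩).symm
  let e : Spec (CommRingCat.of (MvPolynomial (Fin n) Γ(Y, U))) ⟶ 𝔸(ULift.{u} (Fin n); Spec Γ(Y, U)) :=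
    Spec.map (MvPolynomial.renameEquiv Γ(Y, U) Equiv.ulift.{u, 0}.symm).toRingEquiv.symm.toCommRingCatIso.hom ≫
      (AffineSpace.SpecIso (ULift.{u} (Fin n)) Γ(Y, U)).inv
  haveI : IsIso e := inferInstance
  obtain ⟨v, rfl⟩ : ∃ v, e.base v = w := ⟨(inv e).base w, by
    rw [← Scheme.Hom.comp_apply, IsIso.inv_hom_id]; rfl⟩
  refine ⟨v, ?_⟩
  rw [← hw, ← Scheme.Hom.comp_apply]
  simp only [e, jA, Category.assoc]

/-- The maximal points of affine space in a chart. -/
theorem maximal_jA_iff (n : ℕ) {U : Y.Opens} (hU : IsAffineOpen U)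
    (P : PrimeSpectrum (MvPolynomial (Fin n) Γ(Y, U))) :
    (∀ a, a ⤳ (jA n hU).base P → (jA n hU).base P ⤳ a) ↔
      P.asIdeal = RingHom.ker (MvPolynomial.map (σ := Fin n) (Ideal.Quotient.mk (P.asIdeal.comap MvPolynomial.C))) ∧
        ∀ b : Y, b ⤳ hU.fromSpec (PrimeSpectrum.comap MvPolynomial.C P) →
          hU.fromSpec (PrimeSpectrum.comap MvPolynomial.C P) ⤳ b := by
  have hgen : ∀ (p : Ideal Γ(Y, U)) (Q : Ideal (MvPolynomial (Fin n) Γ(Y, U))), p ≤ Q.comap MvPolynomial.C →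
      RingHom.ker (MvPolynomial.map (σ := Fin n) (Ideal.Quotient.mk p)) ≤ Q := fun p Q h => by
    rw [MvPolynomial.ker_map, Ideal.mk_ker, Ideal.map_le_iff_le_comap]
    exact h
  have hcomap : ∀ p : Ideal Γ(Y, U),
      (RingHom.ker (MvPolynomial.map (σ := Fin n) (Ideal.Quotient.mk p))).comap MvPolynomial.C = p := fun p => by
    ext a
    rw [Ideal.mem_comap, RingHom.mem_ker, MvPolynomial.map_C, map_eq_zero_iff _ (MvPolynomial.C_injective _ _),
      Ideal.Quotient.eq_zero_iff_mem]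
  constructor
  · intro h
    have key : ∀ Q : PrimeSpectrum (MvPolynomial (Fin n) Γ(Y, U)), Q.asIdeal ≤ P.asIdeal → P.asIdeal ≤ Q.asIdeal :=
      fun Q hle => (PrimeSpectrum.le_iff_specializes P Q).2 ((jA n hU).isOpenEmbedding.toIsInducing.specializes_iff.1
        (h _ (((PrimeSpectrum.le_iff_specializes Q P).1 hle).map (jA n hU).continuous)))
    refine ⟨le_antisymm (key ⟨_, RingHom.ker_isPrime _⟩ (hgen _ _ le_rfl)) (hgen _ _ le_rfl), fun b hb => ?_⟩
    obtain ⟨p', rfl⟩ : b ∈ Set.range hU.fromSpec := hb.mem_open hU.fromSpec.isOpenMap.isOpen_range ⟨_, rfl⟩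
    have hle : p'.asIdeal ≤ P.asIdeal.comap MvPolynomial.C := (PrimeSpectrum.le_iff_specializes p' _).2
      (hU.fromSpec.isOpenEmbedding.toIsInducing.specializes_iff.1 hb)
    have h1 := key ⟨_, RingHom.ker_isPrime (MvPolynomial.map (σ := Fin n) (Ideal.Quotient.mk p'.asIdeal))⟩
      (hgen _ _ hle)
    have h2 := Ideal.comap_mono (f := MvPolynomial.C) h1
    rw [hcomap] at h2
    exact ((PrimeSpectrum.le_iff_specializes (PrimeSpectrum.comap MvPolynomial.C P) p').1 h2).map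
      hU.fromSpec.continuous
  · rintro ⟨hP, hy⟩ a ha
    obtain ⟨Q, rfl⟩ : a ∈ Set.range (jA n hU) := ha.mem_open (jA n hU).isOpenMap.isOpen_range ⟨_, rfl⟩
    have hQP := (jA n hU).isOpenEmbedding.toIsInducing.specializes_iff.1 ha
    have h1 := hy _ ((hQP.map (PrimeSpectrum.continuous_comap MvPolynomial.C)).map hU.fromSpec.continuous)
    have h2 : P.asIdeal.comap MvPolynomial.C ≤ Q.asIdeal.comap MvPolynomial.C :=
      (PrimeSpectrum.le_iff_specializes (PrimeSpectrum.comap MvPolynomial.C P) (PrimeSpectrum.comap MvPolynomial.C Q)).2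
        (hU.fromSpec.isOpenEmbedding.toIsInducing.specializes_iff.1 h1)
    exact ((PrimeSpectrum.le_iff_specializes P Q).1 (show P.asIdeal ≤ Q.asIdeal by
      rw [hP]; exact hgen _ _ h2)).map (jA n hU).continuous

variable {X : Scheme.{u}} (f : X ⟶ Y) [LocallyOfFiniteType f]

/-- Quasi-finiteness of a map of affine schemes at a point. -/
theorem quasiFiniteAt_Spec_iff {R S : CommRingCat.{u}} (φ : R ⟶ S) (x : PrimeSpectrum S) :
    (Spec.map φ).QuasiFiniteAt x ↔
      (letI := φ.hom.toAlgebra; Algebra.QuasiFiniteAt R x.asIdeal) := by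
  algebraize [φ.hom]
  let := Localization.AtPrime.algebraOfLiesOver (x.asIdeal.under R) x.asIdeal
  trans Algebra.QuasiFinite (Localization.AtPrime (x.asIdeal.under R))
    (Localization.AtPrime x.asIdeal)
  · rw [← RingHom.quasiFinite_algebraMap]
    exact RingHom.QuasiFinite.respectsIso.arrow_mk_iso_iff (Scheme.arrowStalkMapSpecIso ..)
  exact ⟨fun _ ↦ .trans _ (Localization.AtPrime (x.asIdeal.under R)) _,
    fun _ ↦ .of_restrictScalars R _ _⟩

/-- The chart of a map to affine space over `f`. -/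
theorem exists_chart_toAffineSpace {n : ℕ} (g : X ⟶ 𝔸(ULift.{u} (Fin n); Y))
    (hg : g ≫ (𝔸(ULift.{u} (Fin n); Y) ↘ Y) = f) [LocallyQuasiFinite g] (x : X) :
    ∃ (U : Y.Opens) (hU : IsAffineOpen U) (V : X.Opens) (hV : IsAffineOpen V) (hVU : V ≤ f ⁻¹ᵁ U)
      (_ : x ∈ V),
      letI := (f.appLE U V hVU).hom.toAlgebra
      ∃ φ : MvPolynomial (Fin n) Γ(Y, U) →ₐ[Γ(Y, U)] Γ(X, V),
        hV.fromSpec ≫ g = Spec.map (CommRingCat.ofHom φ.toRingHom) ≫ jA n hU ∧
        ∀ q : PrimeSpectrum Γ(X, V), IsQFAt φ q.asIdeal := by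
  obtain ⟨U, hU, hxU, -⟩ := exists_isAffineOpen_mem_and_subset (X := Y) (x := f.base x) (U := ⊤) trivial
  obtain ⟨V, hV, hxV, hVU⟩ := exists_isAffineOpen_mem_and_subset (X := X) (x := x) (U := f ⁻¹ᵁ U) hxU
  refine ⟨U, hU, V, hV, hVU, hxV, ?_⟩
  letI := (f.appLE U V hVU).hom.toAlgebra
  have hr : Set.range (hV.fromSpec ≫ g) ⊆ Set.range (jA n hU) := by
    rintro _ ⟨t, rfl⟩
    refine mem_range_jA n hU _ ?_
    rw [Scheme.Hom.comp_apply, ← Scheme.Hom.comp_apply, hg]
    exact hVU (hV.range_fromSpec.le ⟨t, rfl⟩)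
  obtain ⟨ψ, hψ⟩ := Spec.map_surjective (IsOpenImmersion.lift (jA n hU) (hV.fromSpec ≫ g) hr)
  have hfac : Spec.map ψ ≫ jA n hU = hV.fromSpec ≫ g := by rw [hψ, IsOpenImmersion.lift_fac]
  have hC : CommRingCat.ofHom (MvPolynomial.C : Γ(Y, U) →+* MvPolynomial (Fin n) Γ(Y, U)) ≫ ψ = f.appLE U V hVU := by
    refine Spec.map_injective ?_
    rw [← cancel_mono hU.fromSpec, Spec.map_comp, Category.assoc, ← jA_over, reassoc_of% hfac, hg,
      IsAffineOpen.SpecMap_appLE_fromSpec f hU hV hVU]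
  let φ : MvPolynomial (Fin n) Γ(Y, U) →ₐ[Γ(Y, U)] Γ(X, V) :=
    { ψ.hom with commutes' := fun a => congr($(hC).hom a) }
  refine ⟨φ, hfac.symm, fun q => ?_⟩
  haveI : LocallyQuasiFinite (Spec.map ψ ≫ jA n hU) := by rw [hfac]; infer_instance
  haveI := LocallyQuasiFinite.of_comp (Spec.map ψ) (jA n hU)
  exact (quasiFiniteAt_Spec_iff ψ q).1 ((Spec.map ψ).quasiFiniteAt q)

/-- In a chart the image is maximal in affine space exactly when the point dominates a component of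
the base with fibre dimension `n`. -/
theorem maximal_chart_iff {U : Y.Opens} (hU : IsAffineOpen U) {V : X.Opens} (hV : IsAffineOpen V)
    (hVU : V ≤ f ⁻¹ᵁ U) :
    letI := (f.appLE U V hVU).hom.toAlgebra
    ∀ {n : ℕ} (φ : MvPolynomial (Fin n) Γ(Y, U) →ₐ[Γ(Y, U)] Γ(X, V)) (q : PrimeSpectrum Γ(X, V)),
      IsQFAt φ q.asIdeal →
      ((∀ a, a ⤳ (jA n hU).base (PrimeSpectrum.comap φ.toRingHom q) →
          (jA n hU).base (PrimeSpectrum.comap φ.toRingHom q) ⤳ a) ↔
        fdim f (hV.fromSpec q) = n ∧ ∀ b : Y, b ⤳ f.base (hV.fromSpec q) → f.base (hV.fromSpec q) ⤳ b) := by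
  letI := (f.appLE U V hVU).hom.toAlgebra
  intro n φ q hφ
  have hw : hV.fromSpec q ∈ V := hV.range_fromSpec.le ⟨q, rfl⟩
  have he : hV.primeIdealOf ⟨_, hw⟩ = q := hV.fromSpec.isOpenEmbedding.injective (hV.fromSpec_primeIdealOf _)
  have h1 : fdim f (hV.fromSpec q) ≤ n ∧ (fdim f (hV.fromSpec q) = n ↔ Function.Injective (quotMap φ q.asIdeal)) := by
    have h2 := fdim_chart f hU hV hVU _ hw φ (by rw [he]; exact hφ)
    rwa [he] at h2
  have hcomap : (q.asIdeal.comap φ.toRingHom).comap MvPolynomial.C = q.asIdeal.under Γ(Y, U) := by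
    rw [Ideal.comap_comap]
    congr 1
    exact RingHom.ext fun a => φ.commutes a
  have hpt : hU.fromSpec (PrimeSpectrum.comap MvPolynomial.C (PrimeSpectrum.comap φ.toRingHom q)) =
      f.base (hV.fromSpec q) := by
    rw [← Scheme.Hom.comp_apply hV.fromSpec f, ← IsAffineOpen.SpecMap_appLE_fromSpec f hU hV hVU, Scheme.Hom.comp_apply]
    exact congrArg hU.fromSpec (PrimeSpectrum.ext hcomap)
  rw [maximal_jA_iff, hpt, h1.2, injective_quotMap_iff]
  refine and_congr ?_ Iff.rfl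
  show q.asIdeal.comap φ.toRingHom = RingHom.ker (MvPolynomial.map (σ := Fin n)
    (Ideal.Quotient.mk ((q.asIdeal.comap φ.toRingHom).comap MvPolynomial.C))) ↔ _
  rw [hcomap]

/-- Equidimensional morphisms: fibres and components near the point, any base. -/
theorem exists_equidim_data' {x : X} (hf : EGA43.IsEquidimAt f x) :
    ∃ (e : ℕ) (U : X.Opens), x ∈ U ∧ FlatMor.fibreDimAt f x = e ∧
      (∀ z ∈ U, (∀ b : X, b ⤳ z → z ⤳ b) →
        fdim f z = e ∧ (∀ b : Y, b ⤳ f.base z → f.base z ⤳ b) ∧ f.base z ⤳ f.base x) ∧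
      ∀ m ∈ U, (∀ b : X, f.base b = f.base m → m ∈ closure {b} → b = m) → fdim f m = e := by
  obtain ⟨e, U, hxU, hcomp, hdim⟩ := hf
  have hm : ∀ m ∈ U, (∀ b : X, f.base b = f.base m → m ∈ closure {b} → b = m) → fdim f m = e := by
    intro m hmU hmax
    let u : ↥U.toScheme := ⟨m, hmU⟩
    obtain ⟨C, hC, m₀, hm₀, hm₀u, hdC⟩ := FibreDim.exists_component_gen (U.ι ≫ f) u
    obtain rfl : m₀ = u := U.ι.isOpenEmbedding.injective
      (hmax _ hm₀ (hm₀u.map U.ι.continuous).mem_closure)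
    rw [fdim_opens, hdim _ C hC] at hdC
    exact hdC
  refine ⟨e, U, hxU, ?_, fun z hzU hz => ⟨?_, ?_⟩, hm⟩
  · obtain ⟨n, hn, ⟨w, hw, hwx, hwn⟩, hall⟩ := exists_fibreDimAt_eq f x
    obtain ⟨m, hmy, hmw, hwm, hmax⟩ := exists_maximal_gen f w
    have he := hm m ((hmw.trans hwx).mem_open U.2 hxU) hmax
    refine hn.trans (le_antisymm ?_ ?_)
    · rw [← hwn, ← he]; exact hwm
    · rw [← he]; exact hall m (hmy.trans hw) (hmw.trans hwx)
  · exact hm z hzU fun b _ hb =>
      ((specializes_iff_mem_closure.2 hb).antisymm (hz b (specializes_iff_mem_closure.2 hb))).eq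
  · haveI : QuasiSober ↥(U : Set X) := U.2.isOpenEmbedding_subtypeVal.quasiSober
    let u : ↥U.toScheme := ⟨z, hzU⟩
    obtain ⟨c, hc⟩ := QuasiSober.sober (isIrreducible_irreducibleComponent (x := u))
      isClosed_irreducibleComponent
    have hcu := (hc.specializes mem_irreducibleComponent).map U.ι.continuous
    obtain rfl : c = u := U.ι.isOpenEmbedding.injective (hcu.antisymm (hz _ hcu)).eq
    obtain ⟨W, hW, hxW, hWeq⟩ := hcomp _ (irreducibleComponent_mem_irreducibleComponents u)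
    have := hc.image (U.ι ≫ f).continuous
    rw [hWeq] at this
    exact ⟨fun b hb => maximal_of_component _ W hW this b hb, this.specializes hxW⟩

end Groth.Agent.GeomUnib
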