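import Mathlib
import Groth.Agent.UnivOpenAt.Core
import Groth.Agent.DvrDom.Basic
import Groth.Agent.HenselLib.EtaleNormal
import Groth.Agent.EGA41Lib.Separable
import Groth.Agent.AICPoint.Root

/-!
# Flatness at a generic point of a geometrically reduced fibre

Let `A` be a reduced Noetherian ring, `C` a finite type `A`-algebra and `q` a prime over `p` with
`p C_q = q C_q` and `κ(q)/κ(p)` geometrically reduced. If `C` is universally open at `q` (torsion in
`W ⊗ C` vanishes at points over `q` for every domain `W`) then `C_q` is flat over `A`.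
-/

set_option autoImplicit false
set_option linter.unusedSectionVars false
set_option linter.style.haveILetI false
set_option maxHeartbeats 1000000
set_option synthInstance.maxHeartbeats 200000

universe u

namespace Groth.Agent.GeomUnib

open IsLocalRing TensorProduct UnivOpenAt

/-- A prime between `pE` and a point where `p` generates the maximal ideal is that point. -/
lemma eq_of_map_eq_maximal {A E : Type u} [CommRing A] [CommRing E] [Algebra A E] (p : Ideal A)
    (Q M : Ideal E) [Q.IsPrime] [hM : M.IsPrime]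
    (h : p.map (algebraMap A (Localization.AtPrime Q)) = maximalIdeal (Localization.AtPrime Q))
    (hle : M ≤ Q) (hp : p.map (algebraMap A E) ≤ M) : M = Q := by
  refine le_antisymm hle fun x hx => ?_
  have h1 : maximalIdeal (Localization.AtPrime Q) ≤ M.map (algebraMap E (Localization.AtPrime Q)) := by
    rw [← h, IsScalarTower.algebraMap_eq A E, ← Ideal.map_map]
    exact Ideal.map_mono hp
  have h2 := h1 ((IsLocalization.AtPrime.to_map_mem_maximal_iff (Localization.AtPrime Q) Q x).2 hx)
  rw [IsLocalization.algebraMap_mem_map_algebraMap_iff Q.primeCompl] at h2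
  obtain ⟨s, hs, hsx⟩ := h2
  exact (hM.mem_or_mem hsx).resolve_left fun h' => hs (hle h')

/-- Lifting a pair of ring maps to the tensor product. -/
lemma exists_tensor_lift {P R E T : Type u} [CommRing P] [CommRing R] [CommRing E] [CommRing T]
    [Algebra P R] [Algebra P E] (f : R →+* T) (g : E →+* T)
    (h : ∀ x, f (algebraMap P R x) = g (algebraMap P E x)) :
    ∃ χ : R ⊗[P] E →+* T, (∀ e : E, χ ((1 : R) ⊗ₜ e) = g e) ∧ ∀ w : R, χ (w ⊗ₜ (1 : E)) = f w := by
  letI : Algebra P T := (g.comp (algebraMap P E)).toAlgebra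
  let f' : R →ₐ[P] T := { f with commutes' := h }
  let g' : E →ₐ[P] T := { g with commutes' := fun _ => rfl }
  refine ⟨(Algebra.TensorProduct.lift f' g' fun _ _ => .all _ _).toRingHom, fun e => ?_, fun w => ?_⟩
  · refine (Algebra.TensorProduct.lift_tmul f' g' _ (1 : R) e).trans ?_
    rw [map_one, one_mul]
    rfl
  · refine (Algebra.TensorProduct.lift_tmul f' g' _ w (1 : E)).trans ?_
    rw [map_one, mul_one]
    rfl

/-- The prime below generates the maximal ideal at a point of an etale algebra. -/
lemma map_comap_eq_maximal {R S : Type u} [CommRing R] [CommRing S] [Algebra R S] [Algebra.Etale R S]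
    (q : Ideal S) [q.IsPrime] :
    (q.comap (algebraMap R S)).map (algebraMap R (Localization.AtPrime q)) =
      maximalIdeal (Localization.AtPrime q) := by
  haveI : q.LiesOver (q.comap (algebraMap R S)) := ⟨rfl⟩
  letI := Localization.AtPrime.algebraOfLiesOver (q.comap (algebraMap R S)) q
  exact ((Algebra.isUnramifiedAt_iff_map_eq R (q.comap (algebraMap R S)) q).1 inferInstance).2

/-- Kernel elements of a surjection from an etale algebra over `A[T]` lie in every prime below. -/
theorem mem_of_torAt {A C : Type u} [CommRing A] [IsNoetherianRing A] [CommRing C] [Algebra A C] {n : ℕ}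
    {E : Type u} [CommRing E] [Algebra A E] [Algebra (MvPolynomial (Fin n) A) E]
    [IsScalarTower A (MvPolynomial (Fin n) A) E] [Algebra.Etale (MvPolynomial (Fin n) A) E]
    (φ : E →ₐ[A] C) (hφ : Function.Surjective φ) (qf : Ideal C) [qf.IsPrime] (Q : Ideal E) [Q.IsPrime]
    (hQ : Q = qf.comap φ.toRingHom) (p : Ideal A) (hp : p = Q.comap (algebraMap A E))
    (hmax : p.map (algebraMap A (Localization.AtPrime Q)) = maximalIdeal (Localization.AtPrime Q))
    (htor : ∀ (W : Type u) [CommRing W] [IsDomain W] [Algebra A W], TorAt (A := A) qf W)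
    (k : E) (hk : φ k = 0) (M : Ideal E) [M.IsPrime] (hM : M ≤ Q) : k ∈ M := by
  classical
  have hkQ : k ∈ Q := by
    rw [hQ]
    show φ k ∈ qf
    rw [hk]
    exact qf.zero_mem
  by_cases hMQ : M = Q
  · exact hMQ ▸ hkQ
  -- a discrete valuation ring dominating `(E/M)_Q`
  haveI : Algebra.FiniteType A E := .trans (S := MvPolynomial (Fin n) A) inferInstance inferInstance
  haveI : IsNoetherianRing E := Algebra.FiniteType.isNoetherianRing A E
  let Eb := E ⧸ M
  let Qb : Ideal Eb := Q.map (Ideal.Quotient.mk M)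
  have hQbc : Qb.comap (Ideal.Quotient.mk M) = Q := by
    rw [Ideal.comap_map_of_surjective' _ Ideal.Quotient.mk_surjective, Ideal.mk_ker, sup_eq_left]
    exact hM
  haveI : Qb.IsPrime := Ideal.map_isPrime_of_surjective Ideal.Quotient.mk_surjective (Ideal.mk_ker.trans_le hM)
  let D₀ := Localization.AtPrime Qb
  haveI : IsDomain D₀ := IsLocalization.isDomain_localization Qb.primeCompl_le_nonZeroDivisors
  haveI : IsNoetherianRing D₀ := IsLocalization.isNoetherianRing Qb.primeCompl D₀ inferInstance
  have hinj0 := IsLocalization.injective D₀ Qb.primeCompl_le_nonZeroDivisors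
  let L := FractionRing Eb
  let toL : D₀ →+* L := IsLocalization.lift (M := Qb.primeCompl) (g := algebraMap Eb L) fun y =>
    isUnit_iff_ne_zero.2 (IsFractionRing.to_map_ne_zero_of_mem_nonZeroDivisors
      (mem_nonZeroDivisors_of_ne_zero fun h => y.2 (by rw [h]; exact Qb.zero_mem)))
  letI := toL.toAlgebra
  have htoL : Function.Injective toL := by
    rw [IsLocalization.lift_injective_iff]
    intro x y
    rw [hinj0.eq_iff, (IsFractionRing.injective Eb L).eq_iff]
  have hD₀ : ¬ IsField D₀ := fun hf => by
    refine hMQ (le_antisymm hM fun x hx => ?_)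
    have h2 : algebraMap Eb D₀ (Ideal.Quotient.mk M x) ∈ maximalIdeal D₀ :=
      (IsLocalization.AtPrime.to_map_mem_maximal_iff D₀ Qb _).2 (Ideal.mem_map_of_mem _ hx)
    rw [IsLocalRing.isField_iff_maximalIdeal_eq.1 hf, Ideal.mem_bot, map_eq_zero_iff _ hinj0] at h2
    exact Ideal.Quotient.eq_zero_iff_mem.1 h2
  obtain ⟨O, hO, hAO, hmO⟩ := DvrDom.exists_dvr (L := L) D₀ hD₀ htoL ∅ (by
    rw [Finset.coe_empty, Set.union_empty, eq_top_iff]
    intro z _
    obtain ⟨a, b, -, rfl⟩ := IsFractionRing.div_surjective (A := Eb) z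
    exact div_mem (Subfield.subset_closure ⟨algebraMap Eb D₀ a, IsLocalization.lift_eq _ _⟩)
      (Subfield.subset_closure ⟨algebraMap Eb D₀ b, IsLocalization.lift_eq _ _⟩))
  let eO : E →+* O := ((toL.codRestrict O.toSubring hAO).comp (algebraMap Eb D₀)).comp (Ideal.Quotient.mk M)
  letI : Algebra A O := (eO.comp (algebraMap A E)).toAlgebra
  let eOA : E →ₐ[A] O := { eO with commutes' := fun _ => rfl }
  have heO : ∀ x : E, eO x = 0 → x ∈ M := fun x hx => by
    have h2 : toL (algebraMap Eb D₀ (Ideal.Quotient.mk M x)) = 0 := congrArg Subtype.val hx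
    rw [map_eq_zero_iff _ htoL, map_eq_zero_iff _ hinj0] at h2
    exact Ideal.Quotient.eq_zero_iff_mem.1 h2
  have heQ : Q = (maximalIdeal O).comap eO := by
    refine le_antisymm (fun c hc => (O.valuation_lt_one_iff (eO c)).2
      (hmO _ ((IsLocalization.AtPrime.to_map_mem_maximal_iff D₀ Qb _).2 (Ideal.mem_map_of_mem _ hc)))) fun c hc => ?_
    by_contra hcQ
    exact (IsLocalRing.notMem_maximalIdeal.2 (((IsLocalization.map_units D₀
      (⟨Ideal.Quotient.mk M c, fun h => hcQ (hQbc.le h)⟩ : Qb.primeCompl)).map (toL.codRestrict O.toSubring hAO)))) hc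
  -- the base change `E' = O[T] ⊗ E`
  let R₁ := MvPolynomial (Fin n) O
  letI : Algebra (MvPolynomial (Fin n) A) R₁ := (MvPolynomial.map (algebraMap A O)).toAlgebra
  haveI : IsScalarTower A (MvPolynomial (Fin n) A) R₁ := .of_algebraMap_eq fun a => by
    show _ = MvPolynomial.map (algebraMap A O) (MvPolynomial.C a)
    rw [MvPolynomial.map_C]
    rfl
  haveI : IsIntegrallyClosed R₁ := AICPoint.isIntegrallyClosed_mvPolynomial O n
  let E' := R₁ ⊗[MvPolynomial (Fin n) A] E
  letI : CommRing E' := Algebra.TensorProduct.instCommRing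
  haveI : Algebra.Etale R₁ E' := inferInstance
  haveI : Algebra.FiniteType R₁ E' := inferInstance
  haveI : IsNoetherianRing E' := Algebra.FiniteType.isNoetherianRing R₁ E'
  let iE : E →ₐ[A] E' := (Algebra.TensorProduct.includeRight (R := MvPolynomial (Fin n) A)).restrictScalars A
  -- the section
  let T : Fin n → O := fun i => eO (algebraMap (MvPolynomial (Fin n) A) E (.X i))
  let ev : R₁ →ₐ[O] O := MvPolynomial.aeval T
  obtain ⟨χ, hχE, hχR⟩ : ∃ χ : E' →+* O, (∀ e : E, χ (iE e) = eO e) ∧
      ∀ w : R₁, χ (algebraMap R₁ E' w) = ev w := by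
    let g : MvPolynomial (Fin n) A →+* O := eO.comp (algebraMap (MvPolynomial (Fin n) A) E)
    have hev : ∀ f : MvPolynomial (Fin n) A, ev (algebraMap (MvPolynomial (Fin n) A) R₁ f) = g f := by
      intro f
      refine RingHom.congr_fun (MvPolynomial.ringHom_ext (f := ev.toRingHom.comp (algebraMap _ R₁))
        (g := g) (fun a => ?_) fun i => ?_) f
      · show ev (MvPolynomial.map (algebraMap A O) (MvPolynomial.C a)) = eO (algebraMap _ E (MvPolynomial.C a))
        rw [MvPolynomial.map_C]
        refine (MvPolynomial.aeval_C _ _).trans ?_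
        exact congrArg eO (IsScalarTower.algebraMap_apply A (MvPolynomial (Fin n) A) E a)
      · show ev (MvPolynomial.map (algebraMap A O) (MvPolynomial.X i)) = eO (algebraMap _ E (MvPolynomial.X i))
        rw [MvPolynomial.map_X]
        exact MvPolynomial.aeval_X _ _
    exact exists_tensor_lift (P := MvPolynomial (Fin n) A) ev.toRingHom eO hev
  obtain ⟨π, hπ⟩ := IsDiscreteValuationRing.exists_irreducible O
  have hmπ : maximalIdeal O = Ideal.span {π} := hπ.maximalIdeal_eq
  let p' : Ideal E' := (maximalIdeal O).comap χ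
  haveI : p'.IsPrime := inferInstance
  let πE : E' := algebraMap R₁ E' (MvPolynomial.C π)
  have hπE : χ πE = π := (hχR _).trans (MvPolynomial.aeval_C T π)
  have hπp' : Ideal.span {πE} ≤ p' := by
    rw [Ideal.span_le, Set.singleton_subset_iff]
    show χ πE ∈ maximalIdeal O
    rw [hπE, hmπ]
    exact Ideal.mem_span_singleton_self π
  obtain ⟨p0, hp0, hp0le⟩ := Ideal.exists_minimalPrimes_le hπp'
  haveI := hp0.1.1
  have hπp0 : πE ∈ p0 := hp0.1.2 (Ideal.mem_span_singleton_self _)
  -- `p0` lies over `Q`
  have hmem0 : ∀ o : O, o ∈ maximalIdeal O → algebraMap R₁ E' (MvPolynomial.C o) ∈ p0 := fun o ho => by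
    rw [hmπ, Ideal.mem_span_singleton] at ho
    obtain ⟨c, rfl⟩ := ho
    rw [map_mul, map_mul]
    exact p0.mul_mem_right _ hπp0
  have hiA : ∀ a : A, iE (algebraMap A E a) = algebraMap R₁ E' (MvPolynomial.C (algebraMap A O a)) := fun a => by
    rw [AlgHom.commutes, IsScalarTower.algebraMap_apply A (MvPolynomial (Fin n) A) E',
      IsScalarTower.algebraMap_apply (MvPolynomial (Fin n) A) R₁ E', MvPolynomial.algebraMap_eq]
    exact congrArg _ (MvPolynomial.map_C _ a)
  have hp0Q : p0.comap iE.toRingHom = Q := by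
    refine eq_of_map_eq_maximal p Q _ hmax (fun e he => ?_) (Ideal.map_le_iff_le_comap.2 fun a ha => ?_)
    · rw [heQ]
      show eO e ∈ maximalIdeal O
      rw [← hχE]
      exact hp0le he
    · show iE (algebraMap A E a) ∈ p0
      rw [hiA]
      refine hmem0 _ ?_
      rw [hp, heQ] at ha
      exact ha
  -- the maximal ideal at `p0` is generated by `π`
  let R := Localization.AtPrime p0
  have hmaxR : maximalIdeal R = Ideal.span {algebraMap E' R πE} := by
    let P1 : Ideal R₁ := (maximalIdeal O).map MvPolynomial.C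
    haveI : P1.IsPrime := by
      rw [show P1 = RingHom.ker (MvPolynomial.map (σ := Fin n) (IsLocalRing.residue O)) from by
        rw [MvPolynomial.ker_map, IsLocalRing.ker_residue]]
      exact RingHom.ker_isPrime _
    haveI : p0.LiesOver (p0.comap (algebraMap R₁ E')) := ⟨rfl⟩
    have hle : P1 ≤ p0.comap (algebraMap R₁ E') := Ideal.map_le_iff_le_comap.2 fun o ho => hmem0 o ho
    obtain ⟨p1, hp1, hp1p, hp1o⟩ := Ideal.exists_ideal_le_liesOver_of_le (S := E') (p := P1)
      (q := p0.comap (algebraMap R₁ E')) p0 hle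
    have hmemP : MvPolynomial.C π ∈ P1 := Ideal.mem_map_of_mem _ (hmπ.ge (Ideal.mem_span_singleton_self π))
    have hp10 : p1 = p0 := le_antisymm hp1 (hp0.2 ⟨hp1p, by
      rw [Ideal.span_le, Set.singleton_subset_iff]
      exact (hp1o.over ▸ hmemP : MvPolynomial.C π ∈ p1.under R₁)⟩ hp1)
    subst hp10
    have hcomap : p1.comap (algebraMap R₁ E') = P1 := hp1o.over.symm
    have h1 := map_comap_eq_maximal (R := R₁) p1
    rw [hcomap] at h1
    rw [← h1]
    show (Ideal.map MvPolynomial.C (maximalIdeal O)).map (algebraMap R₁ R) = _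
    rw [Ideal.map_map, hmπ, Ideal.map_span, Set.image_singleton, RingHom.comp_apply,
      IsScalarTower.algebraMap_apply R₁ E' R]
  -- the map to `O ⊗ C`
  let ψ₁ : R₁ →+* O ⊗[A] C := MvPolynomial.eval₂Hom
    (Algebra.TensorProduct.includeLeftRingHom (R := A) (A := O) (B := C))
    (fun i => (1 : O) ⊗ₜ φ (algebraMap (MvPolynomial (Fin n) A) E (.X i)))
  obtain ⟨ψ, hψE, hψR⟩ : ∃ ψ : E' →+* O ⊗[A] C, (∀ e : E, ψ (iE e) = (1 : O) ⊗ₜ φ e) ∧
      ∀ w : R₁, ψ (algebraMap R₁ E' w) = ψ₁ w := by
    let g : MvPolynomial (Fin n) A →+* O ⊗[A] C :=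
      (Algebra.TensorProduct.includeRight (R := A) (A := O) (B := C)).toRingHom.comp
        (φ.toRingHom.comp (algebraMap (MvPolynomial (Fin n) A) E))
    have hψ₁ : ∀ f, ψ₁ (algebraMap (MvPolynomial (Fin n) A) R₁ f) = g f := fun f => by
      refine RingHom.congr_fun (MvPolynomial.ringHom_ext (f := ψ₁.comp (algebraMap _ R₁))
        (g := g) (fun a => ?_) fun i => ?_) f
      · show ψ₁ (MvPolynomial.map _ (MvPolynomial.C a)) = (1 : O) ⊗ₜ φ (algebraMap _ E (MvPolynomial.C a))
        rw [MvPolynomial.map_C, MvPolynomial.eval₂Hom_C, ← MvPolynomial.algebraMap_eq,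
          ← IsScalarTower.algebraMap_apply, AlgHom.commutes]
        show algebraMap A O a ⊗ₜ[A] (1 : C) = _
        rw [Algebra.algebraMap_eq_smul_one, Algebra.algebraMap_eq_smul_one, TensorProduct.smul_tmul]
      · show ψ₁ (MvPolynomial.map _ (MvPolynomial.X i)) = (1 : O) ⊗ₜ φ (algebraMap _ E (MvPolynomial.X i))
        rw [MvPolynomial.map_X, MvPolynomial.eval₂Hom_X']
    exact exists_tensor_lift ψ₁
      ((Algebra.TensorProduct.includeRight (R := A) (A := O) (B := C)).toRingHom.comp φ.toRingHom) hψ₁
  have hψk : ψ (iE k) = 0 := by rw [hψE, hk, TensorProduct.tmul_zero]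
  have hψπ : ψ πE = π ⊗ₜ[A] (1 : C) := (hψR _).trans (MvPolynomial.eval₂Hom_C _ _ π)
  -- the point of `O ⊗ C` below `p0`
  let mk0 : E' →+* E' ⧸ p0 := Ideal.Quotient.mk (R := E') p0
  let ζ : E →+* E' ⧸ p0 := mk0.comp iE.toRingHom
  let θ : C →+* E' ⧸ p0 := RingHom.liftOfSurjective φ.toRingHom hφ ⟨ζ, fun e he => by
    have : e ∈ Q := by
      rw [hQ]
      show φ.toRingHom e ∈ qf
      rw [show φ.toRingHom e = 0 from he]
      exact qf.zero_mem
    rw [← hp0Q] at this
    exact Ideal.Quotient.eq_zero_iff_mem.2 this⟩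
  have hθ : ∀ e, θ (φ e) = mk0 (iE e) := fun e =>
    RingHom.liftOfRightInverse_comp_apply φ.toRingHom _ _ _ e
  let θA : C →ₐ[A] E' ⧸ p0 := { θ with
    commutes' := fun a => by
      show θ (algebraMap A C a) = algebraMap A (E' ⧸ p0) a
      rw [← φ.commutes, hθ, iE.commutes]
      rfl }
  let inO : O →ₐ[A] E' ⧸ p0 :=
    { mk0.comp ((algebraMap R₁ E').comp MvPolynomial.C) with
      commutes' := fun a => by
        show mk0 (algebraMap R₁ E' (MvPolynomial.C (algebraMap A O a))) = algebraMap A (E' ⧸ p0) a
        rw [← hiA, iE.commutes]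
        rfl }
  let χ₂ : O ⊗[A] C →ₐ[A] E' ⧸ p0 := Algebra.TensorProduct.lift inO θA fun _ _ => .all _ _
  have hχ₂ψ : ∀ z : E', χ₂ (ψ z) = mk0 z := by
    intro z
    induction z using TensorProduct.induction_on with
    | zero => simp
    | add a b ha hb => rw [map_add, map_add, ha, hb, map_add]
    | tmul w e =>
      have hw : χ₂ (ψ₁ w) = mk0 (algebraMap R₁ E' w) := by
        refine RingHom.congr_fun (MvPolynomial.ringHom_ext (f := χ₂.toRingHom.comp ψ₁)
          (g := mk0.comp (algebraMap R₁ E')) (fun o => ?_) fun i => ?_) w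
        · show χ₂ (ψ₁ (MvPolynomial.C o)) = _
          rw [MvPolynomial.eval₂Hom_C]
          show χ₂ (o ⊗ₜ[A] (1 : C)) = _
          rw [Algebra.TensorProduct.lift_tmul, map_one, mul_one]
          rfl
        · show χ₂ (ψ₁ (MvPolynomial.X i)) = _
          rw [MvPolynomial.eval₂Hom_X', Algebra.TensorProduct.lift_tmul, map_one, one_mul]
          show θ (φ _) = mk0 (algebraMap R₁ E' (MvPolynomial.X i))
          rw [hθ]
          congr 1
          show (1 : R₁) ⊗ₜ[MvPolynomial (Fin n) A] algebraMap (MvPolynomial (Fin n) A) E (.X i) =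
            (MvPolynomial.X i : R₁) ⊗ₜ[MvPolynomial (Fin n) A] (1 : E)
          rw [Algebra.algebraMap_eq_smul_one, ← TensorProduct.smul_tmul, ← Algebra.algebraMap_eq_smul_one]
          exact congrArg (· ⊗ₜ[MvPolynomial (Fin n) A] (1 : E)) (MvPolynomial.map_X _ i)
      have hwe : w ⊗ₜ[MvPolynomial (Fin n) A] e = algebraMap R₁ E' w * iE e := by
        show _ = (w ⊗ₜ[MvPolynomial (Fin n) A] (1 : E)) * ((1 : R₁) ⊗ₜ e)
        rw [Algebra.TensorProduct.tmul_mul_tmul, mul_one, one_mul]
      rw [hwe, map_mul, map_mul, hψR, hψE, hw, Algebra.TensorProduct.lift_tmul, map_one, one_mul, map_mul]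
      exact congrArg _ (hθ e)
  let r : Ideal (O ⊗[A] C) := RingHom.ker χ₂.toRingHom
  have hr : r.comap (inr A C O) = qf := by
    ext c
    obtain ⟨e, rfl⟩ := hφ c
    show χ₂ ((1 : O) ⊗ₜ[A] φ e) = 0 ↔ φ e ∈ qf
    rw [Algebra.TensorProduct.lift_tmul, map_one, one_mul]
    show θ (φ e) = 0 ↔ _
    rw [hθ]
    refine Ideal.Quotient.eq_zero_iff_mem.trans ?_
    show e ∈ p0.comap iE.toRingHom ↔ _
    rw [hp0Q, hQ]
    rfl
  -- `k` vanishes in the local ring at `p0`
  have hk0 : algebraMap E' R (iE k) = 0 := by
    haveI : IsNoetherianRing R := IsLocalization.isNoetherianRing p0.primeCompl R inferInstance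
    by_contra hne
    have hex : ∃ N, algebraMap E' R (iE k) ∉ maximalIdeal R ^ N := by
      by_contra! hall
      refine hne ((Submodule.mem_bot R).1 ?_)
      rw [← Ideal.iInf_pow_eq_bot_of_isLocalRing (maximalIdeal R) (maximalIdeal.isMaximal R).ne_top]
      exact Submodule.mem_iInf _ |>.2 hall
    obtain ⟨N, hN, hmin⟩ : ∃ N, algebraMap E' R (iE k) ∈ maximalIdeal R ^ N ∧
        algebraMap E' R (iE k) ∉ maximalIdeal R ^ (N + 1) := by
      have h0 := Nat.find_spec hex
      obtain ⟨N, hN⟩ : ∃ N, Nat.find hex = N + 1 := Nat.exists_eq_add_one.2 (Nat.pos_of_ne_zero fun h => by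
        rw [h, pow_zero, Ideal.one_eq_top] at h0; exact h0 trivial)
      exact ⟨N, not_not.1 (Nat.find_min hex (by omega)), hN ▸ h0⟩
    rw [hmaxR, Ideal.span_singleton_pow, Ideal.mem_span_singleton'] at hN
    obtain ⟨v, hv⟩ := hN
    have hv' : IsUnit v := by
      refine IsLocalRing.notMem_maximalIdeal.1 fun h => hmin ?_
      rw [pow_succ', ← hv]
      exact Ideal.mul_mem_mul h (by
        rw [hmaxR, Ideal.span_singleton_pow]; exact Ideal.mem_span_singleton_self _)
    obtain ⟨v, rfl⟩ := hv'
    obtain ⟨a, s, has⟩ := IsLocalization.exists_mk'_eq p0.primeCompl ((v⁻¹ : Rˣ) : R)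
    have hrel : algebraMap E' R ((s : E') * πE ^ N) = algebraMap E' R (a * iE k) := by
      rw [map_mul, map_mul, map_pow, ← IsLocalization.mk'_spec R a s, has, ← hv]
      linear_combination (-((algebraMap E' R πE) ^ N) * algebraMap E' R (s : E')) * Units.inv_mul v
    obtain ⟨c, hc⟩ := (IsLocalization.eq_iff_exists p0.primeCompl R).1 hrel
    have hc' := congrArg ψ hc
    simp only [map_mul, map_pow, hψk, hψπ, mul_zero, Algebra.TensorProduct.tmul_pow, one_pow] at hc'
    have hmem := htor O (π ^ N) (ψ (c : E') * ψ (s : E')) (pow_ne_zero _ hπ.ne_zero)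
      (by linear_combination hc') r (RingHom.ker_isPrime _) hr
    have hcs : χ₂ (ψ ((c : E') * (s : E'))) = 0 := by
      rw [map_mul]
      exact hmem
    rw [hχ₂ψ, Ideal.Quotient.eq_zero_iff_mem] at hcs
    exact (hp0.1.1.mem_or_mem hcs).elim c.2 s.2
  -- hence in the domain `E'_{p'}`
  obtain ⟨⟨t, ht⟩, htk⟩ := (IsLocalization.map_eq_zero_iff p0.primeCompl R _).1 hk0
  replace htk : t * iE k = 0 := htk
  obtain ⟨e, z, c, hc0, he, het, htz⟩ := HenselLib.exists_idempotent_mul R₁ E' t
  have hep' : e ∉ p' := fun h => by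
    have h0 : (1 - e) * t = 0 := by rw [sub_mul, one_mul, het, sub_self]
    have h1 : 1 - e ∈ p0 := (hp0.1.1.mem_or_mem (h0 ▸ p0.zero_mem)).resolve_right ht
    exact (inferInstance : p'.IsPrime).one_notMem (by simpa using p'.add_mem (hp0le h1) h)
  have hek : e * iE k = 0 := by
    haveI : Module.Flat R₁ E' := inferInstance
    refine IsSMulRegular.of_flat (S := E') (IsSMulRegular.of_ne_zero hc0) (?_ :
      algebraMap R₁ E' c • (e * iE k) = algebraMap R₁ E' c • 0)
    rw [smul_zero, smul_eq_mul, ← mul_assoc, ← htz, mul_right_comm, htk, zero_mul]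
  refine heO k ?_
  have h1 := congrArg χ hek
  rw [map_mul, map_zero, hχE] at h1
  exact (mul_eq_zero.1 h1).resolve_left fun h => hep' (show χ e ∈ maximalIdeal O by rw [h]; exact zero_mem _)

/-- An etale model of the local ring, given a separating basis of the residue field made of elements of
`C`. -/
theorem exists_model_of_separating {A C : Type u} [CommRing A] [IsNoetherianRing A] [IsReduced A] [CommRing C]
    [Algebra A C] [Algebra.FiniteType A C] (q : Ideal C) [q.IsPrime] (p : Ideal A) [p.IsPrime] [q.LiesOver p]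
    [Algebra (Localization.AtPrime p) (Localization.AtPrime q)]
    [Localization.AtPrime.IsLiesOverAlgebra p q]
    (hmax : p.map (algebraMap A (Localization.AtPrime q)) = maximalIdeal (Localization.AtPrime q))
    {n : ℕ} (t : Fin n → C)
    (hind : AlgebraicIndependent p.ResidueField fun i => algebraMap C q.ResidueField (t i))
    (hsep : Algebra.IsSeparable
      (IntermediateField.adjoin p.ResidueField (Set.range fun i => algebraMap C q.ResidueField (t i))) q.ResidueField)
    (htor : ∀ (g : C), g ∉ q → ∀ (qf : Ideal (Localization.Away g)) [qf.IsPrime],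
      qf.comap (algebraMap C (Localization.Away g)) = q →
      ∀ (W : Type u) [CommRing W] [IsDomain W] [Algebra A W], TorAt (A := A) qf W) :
    ∃ (E : Type u) (_ : CommRing E) (_ : Algebra A E) (_ : Algebra (MvPolynomial (Fin n) A) E)
      (_ : IsScalarTower A (MvPolynomial (Fin n) A) E) (_ : Algebra.Etale (MvPolynomial (Fin n) A) E)
      (Q : Ideal E) (_ : Q.IsPrime), p = Q.comap (algebraMap A E) ∧
      p.map (algebraMap A (Localization.AtPrime Q)) = maximalIdeal (Localization.AtPrime Q) ∧
      Nonempty (Localization.AtPrime Q ≃ₐ[A] Localization.AtPrime q) := by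
  classical
  let P := MvPolynomial (Fin n) A
  letI : Algebra P C := (MvPolynomial.aeval t : P →ₐ[A] C).toRingHom.toAlgebra
  haveI : IsScalarTower A P C := .of_algebraMap_eq fun a => ((MvPolynomial.aeval t).commutes a).symm
  haveI : Algebra.FiniteType P C := .of_restrictScalars_finiteType A P C
  let P₀ : Ideal P := q.comap (algebraMap P C)
  -- `q` meets `A[T]` in `pA[T]`
  have hP₀ : P₀ = p.map (MvPolynomial.C : A →+* P) := by
    have hker : ∀ f : P, f ∈ P₀ ↔ MvPolynomial.map (algebraMap A p.ResidueField) f = 0 := fun f => by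
      show MvPolynomial.aeval t f ∈ q ↔ _
      rw [← Ideal.algebraMap_residueField_eq_zero]
      refine Iff.trans ?_ (map_eq_zero_iff _ hind)
      rw [MvPolynomial.aeval_map_algebraMap]
      exact Eq.congr_left (MvPolynomial.aeval_algebraMap_apply q.ResidueField t f).symm
    ext f
    rw [hker, ← RingHom.mem_ker, MvPolynomial.ker_map, Ideal.ker_algebraMap_residueField]
  haveI : q.LiesOver P₀ := ⟨rfl⟩
  letI := Localization.AtPrime.algebraOfLiesOver P₀ q
  -- unramified over `A[T]`
  have hmax' : P₀.map (algebraMap P (Localization.AtPrime q)) = maximalIdeal (Localization.AtPrime q) := by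
    rw [hP₀, Ideal.map_map, ← MvPolynomial.algebraMap_eq, ← IsScalarTower.algebraMap_eq, hmax]
  have hsep' : Algebra.IsSeparable P₀.ResidueField q.ResidueField := by
    let K₀ := IntermediateField.adjoin p.ResidueField (Set.range fun i => algebraMap C q.ResidueField (t i))
    let K₁ := (algebraMap P₀.ResidueField q.ResidueField).fieldRange
    have hA : ∀ f : P, algebraMap P₀.ResidueField q.ResidueField (algebraMap P P₀.ResidueField f) =
        algebraMap C q.ResidueField (MvPolynomial.aeval t f) := fun f => by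
      rw [← IsScalarTower.algebraMap_apply, IsScalarTower.algebraMap_apply P C q.ResidueField]
      rfl
    have hpK₁ : ∀ z, algebraMap p.ResidueField q.ResidueField z ∈ K₁ := by
      intro z
      have hmem : ∀ a : A, algebraMap p.ResidueField q.ResidueField (algebraMap A p.ResidueField a) ∈ K₁ := fun a => by
        rw [← IsScalarTower.algebraMap_apply, IsScalarTower.algebraMap_apply A C q.ResidueField,
          ← (MvPolynomial.aeval t).commutes, ← hA]
        exact ⟨_, rfl⟩
      obtain ⟨a, b, -, rfl⟩ := IsFractionRing.div_surjective (A := A ⧸ p) z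
      obtain ⟨a, rfl⟩ := Ideal.Quotient.mk_surjective a
      obtain ⟨b, rfl⟩ := Ideal.Quotient.mk_surjective b
      rw [map_div₀]
      exact div_mem (hmem a) (hmem b)
    let K₁' : IntermediateField p.ResidueField q.ResidueField := K₁.toIntermediateField hpK₁
    have hle : K₀ ≤ K₁' := by
      rw [IntermediateField.adjoin_le_iff]
      rintro _ ⟨i, rfl⟩
      exact ⟨algebraMap P P₀.ResidueField (.X i), (hA _).trans (by rw [MvPolynomial.aeval_X])⟩
    letI : Algebra K₀ K₁' := (IntermediateField.inclusion hle).toRingHom.toAlgebra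
    haveI : IsScalarTower K₀ K₁' q.ResidueField := .of_algebraMap_eq fun _ => rfl
    haveI : Algebra.IsSeparable K₁' q.ResidueField := Algebra.isSeparable_tower_top_of_isSeparable K₀ _ _
    let e : P₀.ResidueField ≃+* K₁' := RingEquiv.ofBijective
      ((algebraMap P₀.ResidueField q.ResidueField).codRestrict K₁'.toSubfield fun z => ⟨z, rfl⟩)
      ⟨fun a b h => RingHom.injective _ (congrArg Subtype.val h),
        fun ⟨_, z, hz⟩ => ⟨z, Subtype.ext hz⟩⟩
    exact Algebra.IsSeparable.of_equiv_equiv e.symm (RingEquiv.refl _) (RingHom.ext fun z => by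
      show algebraMap P₀.ResidueField q.ResidueField (e.symm z) = (z : q.ResidueField)
      exact congrArg Subtype.val (e.apply_symm_apply z))
  haveI : Algebra.IsUnramifiedAt P q := (Algebra.isUnramifiedAt_iff_map_eq P P₀ q).2 ⟨hsep', hmax'⟩
  obtain ⟨g, hg, S, φ, hφ⟩ := Algebra.IsUnramifiedAt.exists_hasStandardEtaleSurjectionOn (R := P) q
  let Cg := Localization.Away g
  let E := S.Ring
  letI : Algebra A E := ((algebraMap P E).comp (algebraMap A P)).toAlgebra
  haveI : IsScalarTower A P E := .of_algebraMap_eq fun _ => rfl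
  let qf : Ideal Cg := q.map (algebraMap C Cg)
  have hdisj : Disjoint ((Submonoid.powers g : Submonoid C) : Set C) q :=
    Set.disjoint_left.2 fun x ⟨m, hm⟩ hx => hg (Ideal.IsPrime.mem_of_pow_mem ‹_› m (by subst hm; exact hx))
  haveI : qf.IsPrime := IsLocalization.isPrime_of_isPrime_disjoint (Submonoid.powers g) Cg q ‹_› hdisj
  have hqf : qf.comap (algebraMap C Cg) = q :=
    IsLocalization.under_map_of_isPrime_disjoint (Submonoid.powers g) Cg ‹_› hdisj
  let φA : E →ₐ[A] Cg := φ.restrictScalars A
  let Q : Ideal E := qf.comap φA.toRingHom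
  haveI : Q.IsPrime := inferInstance
  have hQA : p = Q.comap (algebraMap A E) := by
    rw [Ideal.comap_comap, AlgHom.toRingHom_eq_coe, AlgHom.comp_algebraMap, IsScalarTower.algebraMap_eq A C Cg,
      ← Ideal.comap_comap, hqf]
    exact q.over_def p
  have hQP : Q.comap (algebraMap P E) = P₀ := by
    rw [Ideal.comap_comap, show φA.toRingHom.comp (algebraMap P E) = algebraMap P Cg from φ.comp_algebraMap,
      IsScalarTower.algebraMap_eq P C Cg, ← Ideal.comap_comap, hqf]
  have hmaxQ : p.map (algebraMap A (Localization.AtPrime Q)) = maximalIdeal (Localization.AtPrime Q) := by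
    rw [← map_comap_eq_maximal (R := P) Q, hQP, hP₀, Ideal.map_map, ← MvPolynomial.algebraMap_eq,
      ← IsScalarTower.algebraMap_eq]
  haveI : IsReduced E := HenselLib.isReduced_of_etale P E
  have hker : ∀ k : E, φA k = 0 → algebraMap E (Localization.AtPrime Q) k = 0 := by
    intro k hk
    have : IsNilpotent (algebraMap E (Localization.AtPrime Q) k) := by
      rw [← mem_nilradical, nilradical_eq_sInf, Ideal.mem_sInf]
      intro M hM
      haveI : M.IsPrime := hM
      refine mem_of_torAt (n := n) φA hφ qf Q rfl p hQA hmaxQ (fun W _ _ _ => htor g hg qf hqf W) k hk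
        (M.comap (algebraMap E _)) fun x hx => ?_
      exact (IsLocalization.AtPrime.to_map_mem_maximal_iff (Localization.AtPrime Q) Q x).1
        (IsLocalRing.le_maximalIdeal hM.ne_top hx)
    exact IsReduced.eq_zero _ this
  -- `E_Q = C_q`
  haveI : IsLocalization.AtPrime (Localization.AtPrime qf) q := by
    have h := IsLocalization.isLocalization_isLocalization_atPrime_isLocalization (Submonoid.powers g)
      (Localization.AtPrime qf) qf
    simp only [Ideal.under, hqf] at h
    exact h
  let σ : Localization.AtPrime Q →ₐ[A] Localization.AtPrime qf :=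
    { Localization.localRingHom Q qf φA.toRingHom rfl with
      commutes' := fun a => by
        show Localization.localRingHom Q qf φA.toRingHom rfl (algebraMap A _ a) = _
        rw [IsScalarTower.algebraMap_apply A E (Localization.AtPrime Q), Localization.localRingHom_to_map,
          AlgHom.toRingHom_eq_coe, AlgHom.coe_toRingHom, AlgHom.commutes, ← IsScalarTower.algebraMap_apply] }
  have hσ : Function.Bijective σ := by
    constructor
    · rw [injective_iff_map_eq_zero]
      intro z hz
      obtain ⟨⟨a, s⟩, rfl⟩ := IsLocalization.mk'_surjective Q.primeCompl z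
      change Localization.localRingHom Q qf φA.toRingHom rfl (IsLocalization.mk' _ a s) = 0 at hz
      rw [Localization.localRingHom_mk', IsLocalization.mk'_eq_zero_iff] at hz
      obtain ⟨⟨m, hm⟩, hma⟩ := hz
      obtain ⟨m', rfl⟩ := hφ m
      have h0 := hker (m' * a) (by rw [map_mul]; exact hma)
      rw [map_mul] at h0
      show IsLocalization.mk' _ a s = 0
      rw [IsLocalization.mk'_eq_mul_mk'_one, (IsLocalization.map_units (Localization.AtPrime Q)
        (⟨m', hm⟩ : Q.primeCompl)).mul_right_eq_zero.1 h0, zero_mul]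
    · intro z
      obtain ⟨⟨a, ⟨s, hs⟩⟩, rfl⟩ := IsLocalization.mk'_surjective qf.primeCompl z
      obtain ⟨a', rfl⟩ := hφ a
      obtain ⟨s', rfl⟩ := hφ s
      exact ⟨IsLocalization.mk' _ a' (⟨s', hs⟩ : Q.primeCompl), Localization.localRingHom_mk' Q qf φA.toRingHom rfl a' ⟨s', hs⟩⟩
  have e := (AlgEquiv.ofBijective σ hσ).trans
    ((IsLocalization.algEquiv q.primeCompl (Localization.AtPrime qf) (Localization.AtPrime q)).restrictScalars A)
  exact ⟨E, inferInstance, inferInstance, inferInstance, inferInstance, inferInstance, Q, inferInstance, hQA,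
    hmaxQ, ⟨e⟩⟩

/-- Torsion statements pass to basic opens. -/
theorem torAt_away {A C : Type u} [CommRing A] [CommRing C] [Algebra A C] (g : C) (q : Ideal C) [q.IsPrime]
    (C' : Type u) [CommRing C'] [Algebra A C'] [Algebra C C'] [IsScalarTower A C C'] [IsLocalization.Away g C']
    (q' : Ideal C') [q'.IsPrime] (hq : q'.comap (algebraMap C C') = q)
    {W : Type u} [CommRing W] [Algebra A W] (h : TorAt (A := A) q W) : TorAt (A := A) q' W := by
  intro s u hs hsu P hP hPp
  let μ : W ⊗[A] C →ₐ[A] W ⊗[A] C' := Algebra.TensorProduct.map (AlgHom.id A W) (IsScalarTower.toAlgHom A C C')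
  letI : Algebra (W ⊗[A] C) (W ⊗[A] C') := μ.toRingHom.toAlgebra
  haveI : IsScalarTower W (W ⊗[A] C) (W ⊗[A] C') := .of_algebraMap_eq fun w => by
    show algebraMap W (W ⊗[A] C') w = μ (algebraMap W (W ⊗[A] C) w)
    simp [μ]
  haveI hloc := IsLocalization.tensorProduct_tensorProduct_right A W (Submonoid.powers g) C'
    (by ext c; simp [RingHom.algebraMap_toAlgebra, μ])
  obtain ⟨⟨w, ⟨m, hm⟩⟩, hw⟩ := IsLocalization.surj
    ((Submonoid.powers g).map (Algebra.TensorProduct.includeRight (R := A) (A := W))) u
  change u * μ m = μ w at hw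
  have hms : μ ((s ⊗ₜ[A] (1 : C)) * w) = 0 := by
    rw [map_mul, ← hw, ← mul_assoc, show μ (s ⊗ₜ[A] (1 : C)) = s ⊗ₜ[A] (1 : C') by simp [μ], hsu, zero_mul]
  obtain ⟨⟨m', hm'⟩, hm'0⟩ := (IsLocalization.map_eq_zero_iff
    ((Submonoid.powers g).map (Algebra.TensorProduct.includeRight (R := A) (A := W))) (W ⊗[A] C') _).1 hms
  let P' := P.comap μ.toRingHom
  have hP' : P'.comap (inr A C W) = q := by
    rw [← hq, ← hPp, Ideal.comap_comap, Ideal.comap_comap]
    rfl
  have hnot : ∀ z ∈ (Submonoid.powers g).map (Algebra.TensorProduct.includeRight (R := A) (A := W) (B := C)),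
      μ z ∉ P := fun z hz hzP => hP.ne_top (Ideal.eq_top_of_isUnit_mem _ hzP
        (IsLocalization.map_units (W ⊗[A] C') (⟨z, hz⟩ : (Submonoid.powers g).map _)))
  have h1 := h s (m' * w) hs (by rw [mul_left_comm]; exact hm'0) P' inferInstance hP'
  change μ (m' * w) ∈ P at h1
  rw [map_mul] at h1
  have h2 := (hP.mem_or_mem h1).resolve_left (hnot _ hm')
  rw [← hw] at h2
  exact (hP.mem_or_mem h2).resolve_right (hnot _ hm)

/-- An etale model of the local ring at a generic point of a geometrically reduced fibre. -/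
theorem exists_model_of_torAt {A C : Type u} [CommRing A] [IsNoetherianRing A] [IsReduced A] [CommRing C]
    [Algebra A C] [Algebra.FiniteType A C] (q : Ideal C) [q.IsPrime] (p : Ideal A) [p.IsPrime] [q.LiesOver p]
    [Algebra (Localization.AtPrime p) (Localization.AtPrime q)]
    [Localization.AtPrime.IsLiesOverAlgebra p q]
    (hmax : p.map (algebraMap A (Localization.AtPrime q)) = maximalIdeal (Localization.AtPrime q))
    [Algebra.IsGeometricallyReduced p.ResidueField q.ResidueField]
    (htor : ∀ (W : Type u) [CommRing W] [IsDomain W] [Algebra A W], TorAt (A := A) q W) :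
    ∃ (n : ℕ) (E : Type u) (_ : CommRing E) (_ : Algebra A E) (_ : Algebra (MvPolynomial (Fin n) A) E)
      (_ : IsScalarTower A (MvPolynomial (Fin n) A) E) (_ : Algebra.Etale (MvPolynomial (Fin n) A) E)
      (Q : Ideal E) (_ : Q.IsPrime), p = Q.comap (algebraMap A E) ∧
      p.map (algebraMap A (Localization.AtPrime Q)) = maximalIdeal (Localization.AtPrime Q) ∧
      Nonempty (Localization.AtPrime Q ≃ₐ[A] Localization.AtPrime q) := by
  classical
  let k := p.ResidueField
  let K := q.ResidueField
  haveI : Algebra.EssFiniteType A K := Algebra.EssFiniteType.comp A C K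
  haveI : Algebra.EssFiniteType k K := Algebra.EssFiniteType.of_comp A k K
  obtain ⟨s, hs, hsep⟩ : ∃ t : Finset K, IsTranscendenceBasis k ((↑) : t → K) ∧
      Algebra.IsSeparable (IntermediateField.adjoin k (t : Set K)) K := by
    obtain _ | ⟨c, hc, hck⟩ := CharP.exists' k
    · exact exists_isTranscendenceBasis_and_isSeparable_of_perfectField k K
    · have : CharP K c := charP_of_injective_algebraMap (algebraMap k K).injective c
      exact exists_isTranscendenceBasis_and_isSeparable_of_linearIndepOn_pow_of_essFiniteType c hc.out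
        fun s hs => EGA41Lib.frobLI_of_isGeometricallyReduced (p := c) _ hs
  let n := s.card
  let z : Fin n → K := fun i => (s.equivFin.symm i : K)
  have hz : AlgebraicIndependent k z := hs.1.comp _ s.equivFin.symm.injective
  have hrange : Set.range z = (s : Set K) := by
    ext x
    simp only [z, Set.mem_range, Finset.mem_coe]
    exact ⟨fun ⟨i, hi⟩ => hi ▸ (s.equivFin.symm i).2, fun hx => ⟨s.equivFin ⟨x, hx⟩, by simp⟩⟩
  have hfrac : ∀ x : K, ∃ c d : C, d ∉ q ∧ x * algebraMap C K d = algebraMap C K c := by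
    intro x
    obtain ⟨a, b, hb, rfl⟩ := IsFractionRing.div_surjective (A := C ⧸ q) x
    obtain ⟨a, rfl⟩ := Ideal.Quotient.mk_surjective a
    obtain ⟨b, rfl⟩ := Ideal.Quotient.mk_surjective b
    have hb' : b ∉ q := fun h => nonZeroDivisors.ne_zero hb (Ideal.Quotient.eq_zero_iff_mem.2 h)
    exact ⟨a, b, hb', div_mul_cancel₀ _ fun h => hb' (Ideal.algebraMap_residueField_eq_zero.1 h)⟩
  choose c d hd hcd using fun i => hfrac (z i)
  let g := ∏ i, d i
  have hg : g ∉ q := fun h => by
    obtain ⟨i, -, hi⟩ := (Ideal.IsPrime.prod_mem_iff (p := q)).1 h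
    exact hd i hi
  let C' := Localization.Away g
  let q' : Ideal C' := q.map (algebraMap C C')
  have hdisj : Disjoint ((Submonoid.powers g : Submonoid C) : Set C) q :=
    Set.disjoint_left.2 fun x ⟨m, hm⟩ hx => hg (Ideal.IsPrime.mem_of_pow_mem ‹_› m (by subst hm; exact hx))
  haveI : q'.IsPrime := IsLocalization.isPrime_of_isPrime_disjoint (Submonoid.powers g) C' q ‹_› hdisj
  have hq' : q'.comap (algebraMap C C') = q :=
    IsLocalization.under_map_of_isPrime_disjoint (Submonoid.powers g) C' ‹_› hdisj
  haveI : q'.LiesOver p := ⟨by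
    rw [Ideal.under, IsScalarTower.algebraMap_eq A C C', ← Ideal.comap_comap, hq']
    exact q.over_def p⟩
  letI := Localization.AtPrime.algebraOfLiesOver p q'
  haveI : IsLocalization.AtPrime (Localization.AtPrime q') q := by
    have h := IsLocalization.isLocalization_isLocalization_atPrime_isLocalization (Submonoid.powers g)
      (Localization.AtPrime q') q'
    simp only [Ideal.under, hq'] at h
    exact h
  let e : Localization.AtPrime q ≃ₐ[A] Localization.AtPrime q' :=
    (IsLocalization.algEquiv q.primeCompl (Localization.AtPrime q) (Localization.AtPrime q')).restrictScalars A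
  have hmax' : p.map (algebraMap A (Localization.AtPrime q')) = maximalIdeal (Localization.AtPrime q') := by
    rw [← e.toAlgHom.comp_algebraMap, ← Ideal.map_map, hmax]
    exact IsLocalRing.map_ringEquiv_maximalIdeal e.toRingEquiv
  -- the residue fields
  let f : K →+* q'.ResidueField := Ideal.ResidueField.map q q' (algebraMap C C') hq'.symm
  have hf : ∀ x : C, f (algebraMap C K x) = algebraMap C' q'.ResidueField (algebraMap C C' x) := fun x =>
    Ideal.ResidueField.map_algebraMap _ _ _ hq'.symm x
  let fk : K →ₐ[k] q'.ResidueField :=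
    { f with
      commutes' := fun x => RingHom.congr_fun
        (Ideal.ResidueField.ringHom_ext (f := f.comp (algebraMap k K)) (g := algebraMap k q'.ResidueField)
          (RingHom.ext fun a => by
            show f (algebraMap k K (algebraMap A k a)) = algebraMap k q'.ResidueField (algebraMap A k a)
            rw [← IsScalarTower.algebraMap_apply, ← IsScalarTower.algebraMap_apply,
              IsScalarTower.algebraMap_apply A C K, hf, ← IsScalarTower.algebraMap_apply A C C',
              ← IsScalarTower.algebraMap_apply])) x }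
  have hgK : f (algebraMap C K g) ≠ 0 := fun h =>
    hg (Ideal.algebraMap_residueField_eq_zero.1 ((map_eq_zero f).1 h))
  have hfs : Function.Surjective f := by
    have hmem : ∀ y : C', algebraMap C' q'.ResidueField y ∈ f.fieldRange := fun y => by
      obtain ⟨⟨a, ⟨_, m, rfl⟩⟩, rfl⟩ := IsLocalization.mk'_surjective (Submonoid.powers g) y
      have h := congrArg (algebraMap C' q'.ResidueField) (IsLocalization.mk'_spec C' a
        (⟨g ^ m, m, rfl⟩ : Submonoid.powers g))
      rw [map_mul, ← hf, ← hf] at h
      refine ⟨algebraMap C K a / algebraMap C K (g ^ m), ?_⟩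
      rw [map_div₀, ← h, mul_div_cancel_right₀]
      rw [map_pow, map_pow]
      exact pow_ne_zero _ hgK
    intro y
    obtain ⟨a, b, -, rfl⟩ := IsFractionRing.div_surjective (A := C' ⧸ q') y
    obtain ⟨a, rfl⟩ := Ideal.Quotient.mk_surjective a
    obtain ⟨b, rfl⟩ := Ideal.Quotient.mk_surjective b
    exact div_mem (hmem a) (hmem b)
  have hu : ∀ i, IsUnit (algebraMap C C' (d i)) := fun i =>
    isUnit_of_dvd_unit (map_dvd _ (Finset.dvd_prod_of_mem d (Finset.mem_univ i)))
      (IsLocalization.Away.algebraMap_isUnit g)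
  let t : Fin n → C' := fun i => algebraMap C C' (c i) * ((hu i).unit⁻¹ : C'ˣ)
  have ht : (fun i => algebraMap C' q'.ResidueField (t i)) = fk ∘ z := by
    funext i
    have h1 : t i * algebraMap C C' (d i) = algebraMap C C' (c i) := by
      rw [mul_assoc, IsUnit.val_inv_mul, mul_one]
    refine mul_right_cancel₀ (b := f (algebraMap C K (d i)))
      (fun h => hd i (Ideal.algebraMap_residueField_eq_zero.1 ((map_eq_zero f).1 h))) ?_
    show _ = f (z i) * _
    rw [← map_mul f, hcd, hf, hf, ← map_mul, h1]
  have hsep' : Algebra.IsSeparable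
      (IntermediateField.adjoin k (Set.range fun i => algebraMap C' q'.ResidueField (t i))) q'.ResidueField := by
    let K₀ := IntermediateField.adjoin k (s : Set K)
    have heq : IntermediateField.adjoin k (Set.range fun i => algebraMap C' q'.ResidueField (t i)) = K₀.map fk := by
      rw [IntermediateField.adjoin_map, ht, Set.range_comp, hrange]
    rw [heq]
    exact Algebra.IsSeparable.of_equiv_equiv (IntermediateField.equivMap K₀ fk).toRingEquiv
      (RingEquiv.ofBijective f ⟨f.injective, hfs⟩) (RingHom.ext fun x => rfl)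
  obtain ⟨E, _, _, _, _, _, Q, _, hQA, hmQ, ⟨ε⟩⟩ := exists_model_of_separating q' p hmax' t (ht ▸ hz.map' fk.injective) hsep'
    fun g' hg' qf _ hqf W _ _ _ =>
      torAt_away g' q' _ qf hqf (torAt_away g q C' q' hq' (htor W))
  exact ⟨n, E, inferInstance, inferInstance, inferInstance, inferInstance, inferInstance, Q, inferInstance, hQA, hmQ,
    ⟨ε.trans e.symm⟩⟩

/-- Flatness at a generic point of a geometrically reduced fibre. -/
theorem flat_of_torAt {A C : Type u} [CommRing A] [IsNoetherianRing A] [IsReduced A] [CommRing C]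
    [Algebra A C] [Algebra.FiniteType A C] (q : Ideal C) [q.IsPrime] (p : Ideal A) [p.IsPrime] [q.LiesOver p]
    [Algebra (Localization.AtPrime p) (Localization.AtPrime q)]
    [Localization.AtPrime.IsLiesOverAlgebra p q]
    (hmax : p.map (algebraMap A (Localization.AtPrime q)) = maximalIdeal (Localization.AtPrime q))
    [Algebra.IsGeometricallyReduced p.ResidueField q.ResidueField]
    (htor : ∀ (W : Type u) [CommRing W] [IsDomain W] [Algebra A W], TorAt (A := A) q W) :
    Module.Flat A (Localization.AtPrime q) := by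
  obtain ⟨n, E, _, _, _, _, _, Q, _, -, -, ⟨ε⟩⟩ := exists_model_of_torAt q p hmax htor
  haveI : Module.Flat A E := Module.Flat.trans A (MvPolynomial (Fin n) A) E
  haveI : Module.Flat A (Localization.AtPrime Q) := Module.Flat.trans A E _
  exact Module.Flat.of_linearEquiv ε.symm.toLinearEquiv

end Groth.Agent.GeomUnib
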