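import Mathlib
import Groth.Agent.FlatDescent.Local

/-!
# Flatness from flatness at the generic points of a reduced closed fibre

Let `A → B` be a local homomorphism of Noetherian local rings with `B/mB` reduced. If `B_q` is flat over
`A` at every minimal prime `q` of `mB` then `B` is flat over `A`.
-/

set_option linter.unusedSectionVars false
set_option linter.style.haveILetI false

universe u

namespace Groth.Agent.GeomUnib

open IsLocalRing TensorProduct

variable {A B : Type u} [CommRing A] [CommRing B] [Algebra A B]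

/-- Multiplication `B ⊗ J → B`. -/
noncomputable def mulIdeal (J : Ideal A) : B ⊗[A] J →ₗ[A] B :=
  (TensorProduct.rid A B).toLinearMap ∘ₗ J.subtype.lTensor B

lemma mulIdeal_tmul (J : Ideal A) (b : B) (j : J) : mulIdeal J (b ⊗ₜ[A] j) = (j : A) • b := by
  simp [mulIdeal]

/-- The inclusion `B ⊗ J → B ⊗ J'`. -/
noncomputable def inclIdeal {J J' : Ideal A} (h : J ≤ J') : B ⊗[A] J →ₗ[B] B ⊗[A] J' :=
  AlgebraTensorModule.lTensor B B (Submodule.inclusion h)

lemma mulIdeal_inclIdeal {J J' : Ideal A} (h : J ≤ J') (x : B ⊗[A] J) :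
    mulIdeal J' (inclIdeal h x) = mulIdeal J x := by
  induction x using TensorProduct.induction_on with
  | zero => simp
  | tmul b j => simp [inclIdeal, mulIdeal_tmul]
  | add a b ha hb => rw [map_add, map_add, map_add, ha, hb]

lemma inclIdeal_inclIdeal {J J' : Ideal A} (h : J ≤ J') (h' : J' ≤ J) (x : B ⊗[A] J') :
    inclIdeal h (inclIdeal h' x) = x := by
  induction x using TensorProduct.induction_on with
  | zero => simp
  | tmul b j => rfl
  | add a b ha hb => rw [map_add (inclIdeal h'), map_add (inclIdeal h), ha, hb]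

variable [IsLocalRing A] [IsNoetherianRing A]

local notation "𝔪" => maximalIdeal A

lemma range_incl_pow (n : ℕ) :
    LinearMap.range (inclIdeal (B := B) (Ideal.pow_le_self (Nat.succ_ne_zero n) : 𝔪 ^ (n + 1) ≤ 𝔪)) ≤
      (Ideal.map (algebraMap A B) 𝔪) ^ n • (⊤ : Submodule B (B ⊗[A] 𝔪)) := by
  rintro _ ⟨x, rfl⟩
  induction x using TensorProduct.induction_on with
  | zero => rw [map_zero]; exact zero_mem _
  | add a b ha hb => rw [map_add]; exact add_mem ha hb
  | tmul b j =>
    obtain ⟨j, hj⟩ := j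
    rw [show inclIdeal _ (b ⊗ₜ[A] (⟨j, hj⟩ : ↥(𝔪 ^ (n + 1)))) =
      b ⊗ₜ[A] (⟨j, Ideal.pow_le_self (Nat.succ_ne_zero n) hj⟩ : 𝔪) from rfl]
    have key : ∀ z ∈ 𝔪 ^ n * 𝔪, ∃ hz : z ∈ 𝔪,
        b ⊗ₜ[A] (⟨z, hz⟩ : 𝔪) ∈ (Ideal.map (algebraMap A B) 𝔪) ^ n • (⊤ : Submodule B (B ⊗[A] 𝔪)) := by
      intro z hz'
      refine Submodule.mul_induction_on hz' (fun c hc d hd => ⟨(maximalIdeal A).mul_mem_left c hd, ?_⟩)
        (fun c d ⟨hc, hc'⟩ ⟨hd, hd'⟩ => ⟨add_mem hc hd, ?_⟩)
      · rw [show (⟨c * d, (maximalIdeal A).mul_mem_left c hd⟩ : 𝔪) = c • ⟨d, hd⟩ from rfl, tmul_smul,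
          ← IsScalarTower.algebraMap_smul B c]
        refine Submodule.smul_mem_smul ?_ trivial
        rw [← Ideal.map_pow]
        exact Ideal.mem_map_of_mem _ hc
      · rw [show (⟨c + d, add_mem hc hd⟩ : 𝔪) = ⟨c, hc⟩ + ⟨d, hd⟩ from rfl, tmul_add]
        exact add_mem hc' hd'
    obtain ⟨h', h⟩ := key j ((pow_succ 𝔪 n).le hj)
    exact h

/-- A relation in degree `n` which holds at the generic points of the reduced closed fibre holds one step
deeper. -/
theorem mem_smul_top_of_mulIdeal_eq_zero [IsReduced (B ⧸ Ideal.map (algebraMap A B) 𝔪)]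
    (hflat : ∀ (q : Ideal B) [q.IsPrime], q ∈ (Ideal.map (algebraMap A B) 𝔪).minimalPrimes →
      Module.Flat A (Localization.AtPrime q))
    (J : Ideal A) (x : B ⊗[A] J) (hx : mulIdeal J x = 0) :
    x ∈ (Ideal.map (algebraMap A B) 𝔪) • (⊤ : Submodule B (B ⊗[A] J)) := by
  classical
  letI : Field (A ⧸ 𝔪) := Ideal.Quotient.field 𝔪
  let V := J ⧸ (𝔪 • ⊤ : Submodule A J)
  let bs := Module.finBasis (A ⧸ 𝔪) V
  let γ : J →ₗ[A] (Fin (Module.finrank (A ⧸ 𝔪) V) → A ⧸ 𝔪) :=
    (bs.equivFun.restrictScalars A).toLinearMap ∘ₗ Submodule.mkQ _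
  have hγ : LinearMap.ker γ = (𝔪 • ⊤ : Submodule A J) := by
    rw [LinearMap.ker_comp, LinearEquiv.ker, Submodule.comap_bot, Submodule.ker_mkQ]
  have hγs : Function.Surjective γ :=
    (bs.equivFun.restrictScalars A).surjective.comp (Submodule.mkQ_surjective _)
  have hcomp : ∀ i, ((LinearMap.proj i).comp γ).lTensor B x = 0 := by
    intro i
    obtain ⟨c, hc⟩ : ∃ c : B, ((LinearMap.proj i).comp γ).lTensor B x = c ⊗ₜ[A] (1 : A ⧸ 𝔪) := by
      generalize ((LinearMap.proj i).comp γ).lTensor B x = w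
      induction w using TensorProduct.induction_on with
      | zero => exact ⟨0, (zero_tmul _ _).symm⟩
      | tmul c a =>
        obtain ⟨a, rfl⟩ := Ideal.Quotient.mk_surjective a
        exact ⟨a • c, by rw [smul_tmul, Algebra.smul_def, mul_one]; rfl⟩
      | add a b ha hb =>
        obtain ⟨c, rfl⟩ := ha
        obtain ⟨d, rfl⟩ := hb
        exact ⟨c + d, (add_tmul _ _ _).symm⟩
    suffices hcm : c ∈ Ideal.map (algebraMap A B) 𝔪 by
      rw [hc]
      refine Submodule.span_induction (p := fun z _ => z ⊗ₜ[A] (1 : A ⧸ 𝔪) = 0) ?_ (zero_tmul _ _)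
        (fun a b _ _ ha hb => by rw [add_tmul, ha, hb, add_zero]) (fun r z _ hz => ?_) hcm
      · rintro _ ⟨a, ha, rfl⟩
        rw [Algebra.algebraMap_eq_smul_one, smul_tmul, Algebra.smul_def, mul_one,
          Ideal.Quotient.algebraMap_eq, Ideal.Quotient.eq_zero_iff_mem.2 ha, tmul_zero]
      · rw [show (r • z) ⊗ₜ[A] (1 : A ⧸ 𝔪) = r • (z ⊗ₜ[A] (1 : A ⧸ 𝔪)) from rfl, hz, smul_zero]
    have hrad : (Ideal.map (algebraMap A B) 𝔪).IsRadical := (Ideal.isRadical_iff_quotient_reduced _).2 ‹_›
    rw [← hrad.radical, ← Ideal.sInf_minimalPrimes, Ideal.mem_sInf]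
    intro q hq
    haveI := hq.1.1
    haveI := hflat q hq
    let L := (Algebra.ofId B (Localization.AtPrime q)).restrictScalars A
    have hinj : Function.Injective (mulIdeal (B := Localization.AtPrime q) J) :=
      (TensorProduct.rid A _).injective.comp
        (Module.Flat.lTensor_preserves_injective_linearMap _ J.injective_subtype)
    have hnat : mulIdeal J (L.toLinearMap.rTensor J x) = L (mulIdeal J x) := by
      clear hc hx
      induction x using TensorProduct.induction_on with
      | zero => simp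
      | tmul b j => simp [mulIdeal_tmul]
      | add a b ha hb => simp only [map_add, ha, hb]
    have h0 : L.toLinearMap.rTensor J x = 0 := hinj (by rw [hnat, hx, map_zero, map_zero])
    have h1 : L c ⊗ₜ[A] (1 : A ⧸ 𝔪) = 0 := by
      have h2 : L.toLinearMap.rTensor (A ⧸ 𝔪) (((LinearMap.proj i).comp γ).lTensor B x) = 0 := by
        rw [← LinearMap.comp_apply, LinearMap.rTensor_comp_lTensor, ← LinearMap.lTensor_comp_rTensor,
          LinearMap.comp_apply, h0, map_zero]
      rwa [hc, LinearMap.rTensor_tmul] at h2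
    have h2 := congrArg (TensorProduct.tensorQuotEquivQuotSMul (Localization.AtPrime q) 𝔪) h1
    rw [map_zero, ← (Ideal.Quotient.mk 𝔪).map_one, TensorProduct.tensorQuotEquivQuotSMul_tmul_mk, one_smul,
      Submodule.Quotient.mk_eq_zero] at h2
    have h3 : algebraMap B (Localization.AtPrime q) c ∈ Ideal.map (algebraMap A (Localization.AtPrime q)) 𝔪 := by
      rw [Ideal.smul_top_eq_map] at h2
      exact h2
    rw [IsScalarTower.algebraMap_eq A B (Localization.AtPrime q), ← Ideal.map_map,
      IsLocalization.algebraMap_mem_map_algebraMap_iff q.primeCompl] at h3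
    obtain ⟨s, hs, hsc⟩ := h3
    exact (hq.1.1.mem_or_mem (hq.1.2 hsc)).resolve_left hs
  have h4 : γ.lTensor B x = 0 := by
    refine (TensorProduct.piRight A A B (fun _ : Fin (Module.finrank (A ⧸ 𝔪) V) => A ⧸ 𝔪)).injective ?_
    rw [map_zero]
    ext i
    have key : ∀ z, TensorProduct.piRight A A B (fun _ : Fin (Module.finrank (A ⧸ 𝔪) V) => A ⧸ 𝔪) (γ.lTensor B z) i =
        ((LinearMap.proj i).comp γ).lTensor B z := fun z => by
      induction z using TensorProduct.induction_on with
      | zero => simp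
      | tmul b j => simp
      | add a b ha hb => simp only [map_add, Pi.add_apply, ha, hb]
    exact (key x).trans (hcomp i)
  have hexact : Function.Exact (LinearMap.ker γ).subtype γ := LinearMap.exact_subtype_ker_map γ
  obtain ⟨w, rfl⟩ := (lTensor_exact B hexact hγs x).1 h4
  clear h4 hx hcomp
  induction w using TensorProduct.induction_on with
  | zero => rw [map_zero]; exact zero_mem _
  | add a b ha hb => rw [map_add]; exact add_mem ha hb
  | tmul b j =>
    obtain ⟨j, hj⟩ := j
    rw [LinearMap.lTensor_tmul]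
    change b ⊗ₜ[A] j ∈ _
    rw [hγ] at hj
    refine Submodule.smul_induction_on hj (fun a ha z _ => ?_) (fun c d hc hd => by rw [tmul_add]; exact add_mem hc hd)
    rw [tmul_smul, ← IsScalarTower.algebraMap_smul B a]
    exact Submodule.smul_mem_smul (Ideal.mem_map_of_mem _ ha) trivial

/-- Flatness from the generic points of the reduced closed fibre. -/
theorem flat_of_flat_minimalPrimes [IsNoetherianRing B] [IsLocalRing B] [IsLocalHom (algebraMap A B)]
    [IsReduced (B ⧸ Ideal.map (algebraMap A B) 𝔪)]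
    (hflat : ∀ (q : Ideal B) [q.IsPrime], q ∈ (Ideal.map (algebraMap A B) 𝔪).minimalPrimes →
      Module.Flat A (Localization.AtPrime q)) : Module.Flat A B := by
  have hle : Ideal.map (algebraMap A B) 𝔪 ≤ maximalIdeal B :=
    Ideal.map_le_iff_le_comap.2 fun a ha => map_nonunit _ a ha
  letI : Field (A ⧸ 𝔪) := Ideal.Quotient.field 𝔪
  haveI : Module.Finite B (B ⊗[A] 𝔪) := inferInstance
  have hstep : ∀ (n : ℕ) (x : B ⊗[A] 𝔪), mulIdeal 𝔪 x = 0 →
      x ∈ LinearMap.range (inclIdeal (B := B) (Ideal.pow_le_self (Nat.succ_ne_zero n) : 𝔪 ^ (n + 1) ≤ 𝔪)) := by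
    intro n
    induction n with
    | zero =>
      intro x _
      refine ⟨inclIdeal (le_of_eq (pow_one 𝔪).symm) x, ?_⟩
      exact inclIdeal_inclIdeal _ _ x
    | succ n ih =>
      intro x hx
      obtain ⟨x', rfl⟩ := ih x hx
      rw [mulIdeal_inclIdeal] at hx
      refine Submodule.smul_induction_on (mem_smul_top_of_mulIdeal_eq_zero hflat _ x' hx)
        (fun c hc z hz => ?_) (fun a b ha hb => by rw [map_add]; exact add_mem ha hb)
      rw [map_smul]
      refine Submodule.span_induction (p := fun c _ => c • inclIdeal (Ideal.pow_le_self (Nat.succ_ne_zero n)) z ∈ _)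
        ?_ (by rw [zero_smul]; exact zero_mem _) (fun a b _ _ ha hb => by rw [add_smul]; exact add_mem ha hb)
        (fun r c _ hc => by rw [smul_assoc]; exact Submodule.smul_mem _ r hc) hc
      rintro _ ⟨a, ha, rfl⟩
      clear hx hz
      induction z using TensorProduct.induction_on with
      | zero => simp
      | add p q hp hq => rw [map_add, smul_add]; exact add_mem hp hq
      | tmul b j =>
        rw [IsScalarTower.algebraMap_smul, show inclIdeal (B := B) _ (b ⊗ₜ[A] j) = b ⊗ₜ[A] (⟨(j : A), _⟩ : 𝔪) from rfl,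
          ← tmul_smul]
        exact ⟨b ⊗ₜ[A] (⟨a * j, by rw [pow_succ' 𝔪 (n + 1)]; exact Ideal.mul_mem_mul ha j.2⟩ : ↥(𝔪 ^ (n + 1 + 1))), rfl⟩
  refine FlatDescent.flat_of_injective_of_flat_quotient (S := B) 𝔪 (hle.trans (maximalIdeal_le_jacobson _)) ?_
  rw [injective_iff_map_eq_zero]
  intro z hz
  let x := TensorProduct.comm A 𝔪 B z
  have hx : mulIdeal 𝔪 x = 0 := by
    have key : ∀ z, mulIdeal 𝔪 (TensorProduct.comm A 𝔪 B z) = TensorProduct.lid A B ((maximalIdeal A).subtype.rTensor B z) := fun z => by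
      induction z using TensorProduct.induction_on with
      | zero => simp
      | tmul j b => simp [mulIdeal_tmul]
      | add a b ha hb => simp only [map_add, ha, hb]
    rw [key, hz, map_zero]
  have hx0 : x = 0 := by
    have hkr := Ideal.iInf_pow_smul_eq_bot_of_le_jacobson (M := B ⊗[A] 𝔪) (Ideal.map (algebraMap A B) 𝔪)
      (hle.trans (maximalIdeal_le_jacobson _))
    exact (Submodule.mem_bot B).1 (hkr ▸ Submodule.mem_iInf _ |>.2 fun n => range_incl_pow n (hstep n x hx))
  exact (TensorProduct.comm A 𝔪 B).injective (by rw [map_zero]; exact hx0)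

end Groth.Agent.GeomUnib
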