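import Mathlib
import Groth.Agent.UnivOpenAt.Scheme
import Groth.Prelude.Def_FDesc

/-!
# Geometrically reduced fibres in affine charts

Consequences, for the local rings of an affine chart, of geometric reducedness of a fibre at a point.
-/

set_option autoImplicit false
set_option linter.unusedSectionVars false
set_option linter.style.haveILetI false
set_option backward.isDefEq.respectTransparency false
set_option maxHeartbeats 1000000
set_option synthInstance.maxHeartbeats 200000

universe u

namespace Groth.Agent.GeomUnib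

open IsLocalRing TensorProduct CategoryTheory Limits AlgebraicGeometry

section Scheme

variable {X Y : Scheme.{u}} (f : X ⟶ Y) {U : Y.Opens} (hU : IsAffineOpen U) {V : X.Opens} (hV : IsAffineOpen V)
  (hVU : V ≤ f ⁻¹ᵁ U) {x : X} (hx : x ∈ V)

include hU hV hVU hx in
/-- The local rings of the affine chart of a base change of the fibre. -/
theorem exists_bc_point (K : Type u) [Field K] [Algebra Γ(Y, U) K]
    (hK : RingHom.ker (algebraMap Γ(Y, U) K) = (hU.primeIdealOf ⟨f.base x, hVU hx⟩).asIdeal) :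
    letI := (f.appLE U V hVU).hom.toAlgebra
    ∀ (P : Ideal (K ⊗[Γ(Y, U)] Γ(X, V))) [P.IsPrime],
      P.comap (UnivOpenAt.inr Γ(Y, U) Γ(X, V) K) = (hV.primeIdealOf ⟨x, hx⟩).asIdeal →
      ∃ (alg : Algebra (Y.residueField (f.base x)) K) (w : ↥(@FBase.bc _ _ _ (f.fiberToSpecResidueField (f.base x)) K _ alg)),
        (@FBase.bcπ _ _ _ (f.fiberToSpecResidueField (f.base x)) K _ alg).base w = f.asFiber x ∧
        Nonempty ((@FBase.bc _ _ _ (f.fiberToSpecResidueField (f.base x)) K _ alg).presheaf.stalk w ≃+* Localization.AtPrime P) := by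
  letI := (f.appLE U V hVU).hom.toAlgebra
  intro P hP hPx
  let g₀ : Spec (CommRingCat.of K) ⟶ Y :=
    Spec.map (CommRingCat.ofHom (algebraMap Γ(Y, U) K)) ≫ hU.fromSpec
  have hpt : ∀ w, g₀ w = f.base x := fun w => by
    refine (congrArg hU.fromSpec (?_ : PrimeSpectrum.comap (algebraMap Γ(Y, U) K) w =
      hU.primeIdealOf ⟨f.base x, hVU hx⟩)).trans (hU.fromSpec_primeIdealOf ⟨f.base x, hVU hx⟩)
    refine PrimeSpectrum.ext ?_
    show w.asIdeal.comap (algebraMap Γ(Y, U) K) = _
    rw [Ideal.eq_bot_of_prime w.asIdeal, ← RingHom.ker_eq_comap_bot, hK]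
  obtain ⟨⟨y', ψ⟩, hg⟩ := (Scheme.SpecToEquivOfField K Y).symm.surjective g₀
  change Spec.map ψ ≫ Y.fromSpecResidueField y' = g₀ at hg
  obtain rfl : y' = f.base x := by
    have h := hpt (IsLocalRing.closedPoint K)
    rw [← hg, Scheme.Hom.comp_apply, Scheme.fromSpecResidueField_apply] at h
    exact h
  let g : Spec (CommRingCat.of K) ⟶ Y :=
    Spec.map ψ ≫ Y.fromSpecResidueField (f.base x)
  have hg' : 𝟙 _ ≫ g = Spec.map (CommRingCat.ofHom (algebraMap Γ(Y, U) K)) ≫ hU.fromSpec := by
    rw [Category.id_comp]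
    exact hg
  obtain ⟨Φ, hΦ, hfst, -, -⟩ := UnivOpenAt.exists_chart f hU hV hVU g K (𝟙 _) hg'
  let e := pullbackLeftPullbackSndIso f (Y.fromSpecResidueField (f.base x)) (Spec.map ψ)
  let Ψ : Spec (CommRingCat.of (K ⊗[Γ(Y, U)] Γ(X, V))) ⟶
      @FBase.bc _ _ _ (f.fiberToSpecResidueField (f.base x)) K _ ψ.hom.toAlgebra := Φ ≫ e.inv
  haveI : IsOpenImmersion Ψ := inferInstance
  let P' : PrimeSpectrum (K ⊗[Γ(Y, U)] Γ(X, V)) := ⟨P, hP⟩
  have hpi : (@FBase.bcπ _ _ _ (f.fiberToSpecResidueField (f.base x)) K _ ψ.hom.toAlgebra).base (Ψ P') = f.asFiber x := by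
    refine (f.fiberι (f.base x)).isEmbedding.injective ?_
    rw [Scheme.Hom.fiberι_asFiber]
    have h1 : Ψ ≫ @FBase.bcπ _ _ _ (f.fiberToSpecResidueField (f.base x)) K _ ψ.hom.toAlgebra ≫ f.fiberι (f.base x) =
        Φ ≫ pullback.fst f g := by
      rw [show Ψ = Φ ≫ e.inv from rfl, Category.assoc]
      congr 1
      rw [Iso.inv_comp_eq]
      exact (pullbackLeftPullbackSndIso_hom_fst _ _ _).symm
    refine (congr($h1 P') : _).trans ((hfst P').trans ?_)
    exact (UnivOpenAt.fromSpec_eq_iff hV hx _).2 hPx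
  exact ⟨ψ.hom.toAlgebra, Ψ P', hpi,
    ⟨(asIso (Ψ.stalkMap P') ≪≫ Spec.stalkIso (CommRingCat.of (K ⊗[Γ(Y, U)] Γ(X, V))) P').commRingCatIsoToRingEquiv⟩⟩

include hU hV hVU hx in
/-- A geometrically reduced fibre in an affine chart. -/
theorem isReduced_localization_tensor
    (hred : FBase.IsGeomReducedAt (f.fiberToSpecResidueField (f.base x)) (f.asFiber x))
    (K : Type u) [Field K] [Algebra Γ(Y, U) K]
    (hK : RingHom.ker (algebraMap Γ(Y, U) K) = (hU.primeIdealOf ⟨f.base x, hVU hx⟩).asIdeal) :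
    letI := (f.appLE U V hVU).hom.toAlgebra
    ∀ (P : Ideal (K ⊗[Γ(Y, U)] Γ(X, V))) [P.IsPrime],
      P.comap (UnivOpenAt.inr Γ(Y, U) Γ(X, V) K) = (hV.primeIdealOf ⟨x, hx⟩).asIdeal →
      _root_.IsReduced (Localization.AtPrime P) := by
  letI := (f.appLE U V hVU).hom.toAlgebra
  intro P hP hPx
  obtain ⟨alg, w, hw, ⟨σ⟩⟩ := exists_bc_point f hU hV hVU hx K hK P hPx
  haveI := @hred K _ alg w hw
  exact isReduced_of_injective σ.symm σ.symm.injective

end Scheme

section Algebra

variable {A C : Type u} [CommRing A] [CommRing C] [Algebra A C] (p : Ideal A) [p.IsPrime]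
  (qx : Ideal C) [qx.IsPrime]

/-- `L → K ⊗ L` is integral when the complement of `p` is invertible in `L`. -/
theorem isIntegral_includeRight {L : Type u} [CommRing L] [Algebra A L]
    (hL : ∀ a ∉ p, IsUnit (algebraMap A L a)) (K : Type u) [Field K] [Algebra A K]
    [Algebra p.ResidueField K] [IsScalarTower A p.ResidueField K] [Algebra.IsIntegral p.ResidueField K] :
    (Algebra.TensorProduct.includeRight (R := A) (A := K) (B := L)).toRingHom.IsIntegral := by
  let iR := (Algebra.TensorProduct.includeRight (R := A) (A := K) (B := L)).toRingHom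
  let iL : K →+* K ⊗[A] L := Algebra.TensorProduct.includeLeftRingHom
  have hcoe : ∀ z : p.ResidueField, iL (algebraMap p.ResidueField K z) ∈ iR.range := by
    intro z
    obtain ⟨a, b, hb, rfl⟩ := IsFractionRing.div_surjective (A := A ⧸ p) z
    obtain ⟨a, rfl⟩ := Ideal.Quotient.mk_surjective a
    obtain ⟨b, rfl⟩ := Ideal.Quotient.mk_surjective b
    have hb' : b ∉ p := fun h => nonZeroDivisors.ne_zero hb (Ideal.Quotient.eq_zero_iff_mem.2 h)
    obtain ⟨v, hv⟩ := hL b hb'
    refine ⟨algebraMap A L a * (v⁻¹ : Lˣ), ?_⟩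
    have hA : ∀ c : A, iR (algebraMap A L c) = iL (algebraMap p.ResidueField K (algebraMap A p.ResidueField c)) :=
      fun c => by
        rw [← IsScalarTower.algebraMap_apply]
        exact ((Algebra.TensorProduct.includeRight (R := A) (A := K) (B := L)).commutes c).trans
          ((Algebra.TensorProduct.includeLeft (R := A) (S := A) (A := K) (B := L)).commutes c).symm
    have hne : algebraMap A p.ResidueField b ≠ 0 := fun h => hb' (Ideal.algebraMap_residueField_eq_zero.1 h)
    refine ((v.isUnit.map iR).mul_left_inj).1 ?_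
    rw [← map_mul, mul_assoc, Units.inv_mul, mul_one, hA, hv, hA, ← map_mul, ← map_mul]
    congr 2
    exact (div_mul_cancel₀ _ hne).symm
  intro t
  induction t using TensorProduct.induction_on with
  | zero => exact iR.isIntegralElem_zero
  | add a b ha hb => exact RingHom.IsIntegralElem.add _ ha hb
  | tmul k l =>
    rw [show k ⊗ₜ[A] l = iL k * iR l by simp [iL, iR]]
    refine RingHom.IsIntegralElem.mul _ ?_ (iR.isIntegralElem_map)
    obtain hs | hn := subsingleton_or_nontrivial (K ⊗[A] L)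
    · exact ⟨Polynomial.X, Polynomial.monic_X, Subsingleton.elim _ _⟩
    obtain ⟨P, hP, hPk⟩ := Algebra.IsIntegral.isIntegral (R := p.ResidueField) k
    have hlift : P.map (iL.comp (algebraMap p.ResidueField K)) ∈ Polynomial.lifts iR := by
      rw [Polynomial.lifts_iff_coeff_lifts]
      intro n
      rw [Polynomial.coeff_map]
      exact hcoe _
    obtain ⟨Q, hQ, -, hQm⟩ := Polynomial.lifts_and_degree_eq_and_monic hlift (hP.map _)
    refine ⟨Q, hQm, ?_⟩
    rw [Polynomial.eval₂_eq_eval_map, hQ, ← Polynomial.map_map, Polynomial.eval_map, Polynomial.eval₂_at_apply,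
      ← Polynomial.eval₂_eq_eval_map, hPk, map_zero]

variable (K : Type u) [Field K] [Algebra A K] [Algebra p.ResidueField K]
  [IsScalarTower A p.ResidueField K] [Algebra.IsIntegral p.ResidueField K]

/-- Reducedness of `K ⊗ C_q` from reducedness at the points over a specialisation of `q`. -/
theorem isReduced_tensor_localization (hp : p = qx.comap (algebraMap A C))
    (hred : ∀ (P : Ideal (K ⊗[A] C)) [P.IsPrime],
      P.comap (UnivOpenAt.inr A C K) = qx → _root_.IsReduced (Localization.AtPrime P))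
    (q : Ideal C) [q.IsPrime] (hq : q ≤ qx) : _root_.IsReduced (K ⊗[A] Localization.AtPrime q) := by
  classical
  let key : ∀ (r : Ideal C) [r.IsPrime],
      letI μ : K ⊗[A] C →ₐ[A] K ⊗[A] Localization.AtPrime r :=
        Algebra.TensorProduct.map (AlgHom.id A K) (IsScalarTower.toAlgHom A C (Localization.AtPrime r))
      (∀ z, ∃ m w, m ∉ r ∧ z * μ ((1 : K) ⊗ₜ[A] m) = μ w) ∧
        ∀ w, μ w = 0 → ∃ m, m ∉ r ∧ ((1 : K) ⊗ₜ[A] m) * w = 0 := by
    intro r hr
    let μ : K ⊗[A] C →ₐ[A] K ⊗[A] Localization.AtPrime r :=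
      Algebra.TensorProduct.map (AlgHom.id A K) (IsScalarTower.toAlgHom A C (Localization.AtPrime r))
    letI : Algebra (K ⊗[A] C) (K ⊗[A] Localization.AtPrime r) := μ.toRingHom.toAlgebra
    haveI : IsScalarTower K (K ⊗[A] C) (K ⊗[A] Localization.AtPrime r) := .of_algebraMap_eq fun w => by
      show algebraMap K (K ⊗[A] Localization.AtPrime r) w = μ (algebraMap K (K ⊗[A] C) w)
      simp [μ]
    haveI := IsLocalization.tensorProduct_tensorProduct_right A K r.primeCompl (Localization.AtPrime r)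
      (by ext c; simp [RingHom.algebraMap_toAlgebra, μ])
    refine ⟨fun z => ?_, fun w hw => ?_⟩
    · obtain ⟨⟨w, ⟨_, m, hm, rfl⟩⟩, hw⟩ := IsLocalization.surj
        (r.primeCompl.map (Algebra.TensorProduct.includeRight (R := A) (A := K))) z
      exact ⟨m, w, hm, hw⟩
    · obtain ⟨⟨_, m, hm, rfl⟩, h⟩ := (IsLocalization.map_eq_zero_iff
        (r.primeCompl.map (Algebra.TensorProduct.includeRight (R := A) (A := K))) _ w).1 hw
      exact ⟨m, hm, h⟩
  let μ : ∀ (r : Ideal C) [r.IsPrime], K ⊗[A] C →ₐ[A] K ⊗[A] Localization.AtPrime r := fun r _ =>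
    Algebra.TensorProduct.map (AlgHom.id A K) (IsScalarTower.toAlgHom A C (Localization.AtPrime r))
  have hμu : ∀ (r : Ideal C) [r.IsPrime] (m : C), m ∉ r → IsUnit (μ r ((1 : K) ⊗ₜ[A] m)) := fun r _ m hm => by
    rw [show μ r ((1 : K) ⊗ₜ[A] m) = Algebra.TensorProduct.includeRight (algebraMap C (Localization.AtPrime r) m) by
      simp [μ]]
    exact (IsLocalization.map_units (Localization.AtPrime r) (⟨m, hm⟩ : r.primeCompl)).map _
  refine ⟨fun z ⟨N, hN⟩ => ?_⟩
  obtain ⟨m, w, hm, hw⟩ := (key q).1 z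
  change z * μ q _ = μ q w at hw
  obtain ⟨m', hm', hm'0⟩ := (key q).2 (w ^ N) (by
    show μ q (w ^ N) = 0
    rw [map_pow, ← hw, mul_pow, hN, zero_mul])
  let w1 : K ⊗[A] C := ((1 : K) ⊗ₜ[A] m') * w
  have hw1 : w1 ^ (N + 1) = 0 := by
    calc w1 ^ (N + 1) = ((1 : K) ⊗ₜ[A] m') ^ N * w * (((1 : K) ⊗ₜ[A] m') * w ^ N) := by simp only [w1]; ring
      _ = 0 := by rw [hm'0, mul_zero]
  have h0 : μ qx w1 = 0 := by
    by_contra hne
    let J : Ideal (K ⊗[A] Localization.AtPrime qx) := (⊥ : Ideal _).colon {μ qx w1}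
    have hJ : J ≠ ⊤ := fun h => hne (by
      have h1 : (1 : K ⊗[A] Localization.AtPrime qx) ∈ J := h ▸ trivial
      rw [Submodule.mem_colon_singleton, Submodule.mem_bot, smul_eq_mul, one_mul] at h1
      exact h1)
    obtain ⟨M, hM, hJM⟩ := Ideal.exists_le_maximal J hJ
    let P := M.comap (μ qx).toRingHom
    have hMx : M.comap (Algebra.TensorProduct.includeRight (R := A) (A := K)).toRingHom =
        maximalIdeal (Localization.AtPrime qx) :=
      IsLocalRing.eq_maximalIdeal (Ideal.isMaximal_comap_of_isIntegral_of_isMaximal' _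
        (isIntegral_includeRight p (fun a ha => by
          rw [IsScalarTower.algebraMap_apply A C (Localization.AtPrime qx)]
          exact IsLocalization.map_units (Localization.AtPrime qx)
            (⟨algebraMap A C a, fun h => ha (hp.ge h)⟩ : qx.primeCompl)) K) M)
    have hPx : P.comap (UnivOpenAt.inr A C K) = qx := by
      rw [Ideal.comap_comap, show (μ qx).toRingHom.comp (UnivOpenAt.inr A C K) =
        (Algebra.TensorProduct.includeRight (R := A) (A := K)).toRingHom.comp
          (algebraMap C (Localization.AtPrime qx)) from RingHom.ext fun c => by simp [μ],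
        ← Ideal.comap_comap, hMx]
      exact IsLocalization.AtPrime.comap_maximalIdeal _ qx
    haveI := hred P hPx
    obtain ⟨⟨v, hv⟩, hvw⟩ := (IsLocalization.map_eq_zero_iff P.primeCompl (Localization.AtPrime P) w1).1
      (IsReduced.eq_zero _ ⟨N + 1, by rw [← map_pow, hw1, map_zero]⟩)
    refine hv (hJM ?_)
    rw [Submodule.mem_colon_singleton, Submodule.mem_bot, smul_eq_mul]
    show μ qx v * μ qx w1 = 0
    rw [← map_mul, show v * w1 = 0 from hvw, map_zero]
  obtain ⟨m'', hm'', hm''0⟩ := (key qx).2 w1 h0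
  have h1 : μ q ((1 : K) ⊗ₜ[A] m'') * μ q ((1 : K) ⊗ₜ[A] m') * (z * μ q ((1 : K) ⊗ₜ[A] m)) = 0 := by
    rw [hw, ← map_mul, ← map_mul, mul_assoc, hm''0, map_zero]
  rwa [((hμu q m'' fun h => hm'' (hq h)).mul (hμu q m' hm')).mul_right_eq_zero,
    (hμu q m hm).mul_left_eq_zero] at h1

/-- `p C_q` is the maximal ideal and the residue extension is geometrically reduced. -/
theorem fibre_local_props (hK : IsAlgClosure p.ResidueField K) (L : Type u) [CommRing L] [Algebra A L]
    (hL : ∀ a ∉ p, IsUnit (algebraMap A L a)) (hred : _root_.IsReduced (K ⊗[A] L)) :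
    Algebra.IsGeometricallyReduced p.ResidueField (p.ResidueField ⊗[A] L) ∧
      Function.Surjective (Algebra.TensorProduct.includeRight (R := A) (A := p.ResidueField) (B := L)) ∧
      RingHom.ker (Algebra.TensorProduct.includeRight (R := A) (A := p.ResidueField) (B := L)).toRingHom =
        p.map (algebraMap A L) := by
  refine ⟨?_, ?_, le_antisymm ?_ ?_⟩
  · rw [Algebra.isGeometricallyReduced_field_iff]
    let e : AlgebraicClosure p.ResidueField ≃ₐ[p.ResidueField] K := IsAlgClosure.equiv _ _ _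
    let c : K ⊗[p.ResidueField] (p.ResidueField ⊗[A] L) ≃ₐ[K] K ⊗[A] L :=
      Algebra.TensorProduct.cancelBaseChange A p.ResidueField K K L
    exact isReduced_of_injective (c.toRingEquiv.toRingHom.comp
      (Algebra.TensorProduct.congr e AlgEquiv.refl).toRingEquiv.toRingHom)
      (c.injective.comp (Algebra.TensorProduct.congr e AlgEquiv.refl).injective)
  · intro t
    induction t using TensorProduct.induction_on with
    | zero => exact ⟨0, map_zero _⟩
    | add a b ha hb =>
      obtain ⟨a, rfl⟩ := ha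
      obtain ⟨b, rfl⟩ := hb
      exact ⟨a + b, map_add _ _ _⟩
    | tmul k l =>
      obtain ⟨a, b, hb, rfl⟩ := IsFractionRing.div_surjective (A := A ⧸ p) k
      obtain ⟨a, rfl⟩ := Ideal.Quotient.mk_surjective a
      obtain ⟨b, rfl⟩ := Ideal.Quotient.mk_surjective b
      have hb' : b ∉ p := fun h => nonZeroDivisors.ne_zero hb (Ideal.Quotient.eq_zero_iff_mem.2 h)
      obtain ⟨v, hv⟩ := hL b hb'
      refine ⟨(v⁻¹ : Lˣ) * (a • l), ?_⟩
      refine ((v.isUnit.map (Algebra.TensorProduct.includeRight (R := A) (A := p.ResidueField)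
        (B := L))).mul_right_inj).1 ?_
      rw [← map_mul, ← mul_assoc, Units.mul_inv, one_mul, hv, AlgHom.commutes, map_smul, Algebra.smul_def,
        Algebra.TensorProduct.algebraMap_apply, Algebra.TensorProduct.algebraMap_apply]
      simp only [Algebra.TensorProduct.includeRight_apply, Algebra.TensorProduct.tmul_mul_tmul, one_mul, mul_one]
      congr 1
      rw [mul_comm]
      exact (div_mul_cancel₀ _ fun h => hb' (Ideal.algebraMap_residueField_eq_zero.1 h)).symm
  · intro l hl
    let π : L →ₐ[A] L ⧸ p.map (algebraMap A L) := Ideal.Quotient.mkₐ A _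
    let r : p.ResidueField →+* L ⧸ p.map (algebraMap A L) := Ideal.ResidueField.lift p
      (algebraMap A (L ⧸ p.map (algebraMap A L)))
      (fun a ha => Ideal.Quotient.eq_zero_iff_mem.2 (Ideal.mem_map_of_mem _ ha))
      (fun a ha => (hL a ha).map (Ideal.Quotient.mk _))
    let rA : p.ResidueField →ₐ[A] L ⧸ p.map (algebraMap A L) :=
      { r with commutes' := fun a => Ideal.ResidueField.lift_algebraMap _ _ _ _ a }
    have h := congrArg (Algebra.TensorProduct.lift rA π fun _ _ => .all _ _) (show (1 : p.ResidueField) ⊗ₜ[A] l = 0 from hl)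
    rw [Algebra.TensorProduct.lift_tmul, map_one, one_mul, map_zero] at h
    exact Ideal.Quotient.eq_zero_iff_mem.1 h
  · rw [Ideal.map_le_iff_le_comap]
    intro a ha
    show Algebra.TensorProduct.includeRight (algebraMap A L a) = 0
    rw [AlgHom.commutes, Algebra.TensorProduct.algebraMap_apply, Ideal.algebraMap_residueField_eq_zero.2 ha,
      TensorProduct.zero_tmul]

end Algebra

end Groth.Agent.GeomUnib
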