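import Mathlib
import Groth.Agent.GeomUnib.FlatGrade
import Groth.Agent.GeomUnib.FlatGeneric
import Groth.Agent.GeomUnib.GeomRedFibre

/-!
# Flatness from universal openness at the generic points of a geometrically reduced fibre
-/

set_option autoImplicit false
set_option linter.unusedSectionVars false
set_option linter.style.haveILetI false
set_option maxHeartbeats 1000000
set_option synthInstance.maxHeartbeats 200000

universe u

namespace Groth.Agent.GeomUnib

open IsLocalRing TensorProduct UnivOpenAt

/-- The residue extensions at the generic points of a geometrically reduced fibre. -/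
theorem residue_props {A C : Type u} [CommRing A] [CommRing C]
    [Algebra A C] [Algebra.FiniteType A C] (qx : Ideal C) [qx.IsPrime] (p : Ideal A) [p.IsPrime]
    [qx.LiesOver p]
    (hred : ∀ (P : Ideal (AlgebraicClosure p.ResidueField ⊗[A] C)) [P.IsPrime],
      P.comap (inr A C (AlgebraicClosure p.ResidueField)) = qx → IsReduced (Localization.AtPrime P))
    (q : Ideal C) [q.IsPrime] [q.LiesOver p] [Algebra (Localization.AtPrime p) (Localization.AtPrime q)]
    [Localization.AtPrime.IsLiesOverAlgebra p q] (hqx : q ≤ qx)
    (hmin : q ∈ (p.map (algebraMap A C)).minimalPrimes) :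
    p.map (algebraMap A (Localization.AtPrime q)) = maximalIdeal (Localization.AtPrime q) ∧
      Algebra.IsGeometricallyReduced p.ResidueField q.ResidueField := by
  classical
  let K := AlgebraicClosure p.ResidueField
  haveI : Algebra.IsIntegral p.ResidueField K := Algebra.isAlgebraic_iff_isIntegral.1 inferInstance
  have hpq : p.map (algebraMap A C) ≤ q := hmin.1.2
  obtain ⟨hgr, -, hker⟩ := fibre_local_props p K inferInstance (Localization.AtPrime q) (fun a ha => by
      rw [IsScalarTower.algebraMap_apply A C (Localization.AtPrime q)]
      exact IsLocalization.map_units (Localization.AtPrime q)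
        (⟨algebraMap A C a, fun h => ha ((q.over_def p).ge h)⟩ : q.primeCompl))
    (isReduced_tensor_localization p qx K (qx.over_def p) hred q hqx)
  haveI := hgr
  haveI := Algebra.isReduced_of_isGeometricallyReduced p.ResidueField (A := p.ResidueField ⊗[A] Localization.AtPrime q)
  let iR := (Algebra.TensorProduct.includeRight (R := A) (A := p.ResidueField) (B := Localization.AtPrime q)).toRingHom
  have hmax : p.map (algebraMap A (Localization.AtPrime q)) = maximalIdeal (Localization.AtPrime q) := by
    refine le_antisymm ?_ fun z hz => ?_
    · rw [IsScalarTower.algebraMap_eq A C (Localization.AtPrime q), ← Ideal.map_map,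
        ← Localization.AtPrime.map_eq_maximalIdeal]
      exact Ideal.map_mono hpq
    · rw [← hker]
      show iR z = 0
      refine IsReduced.eq_zero _ ?_
      rw [← mem_nilradical, nilradical_eq_sInf, Ideal.mem_sInf]
      intro N hN
      haveI : N.IsPrime := hN
      suffices h : N.comap iR = maximalIdeal _ from (h.ge hz : z ∈ N.comap iR)
      have hle : (N.comap iR).comap (algebraMap C (Localization.AtPrime q)) ≤ q := fun c hc =>
        (IsLocalization.AtPrime.to_map_mem_maximal_iff (Localization.AtPrime q) q c).1
          (IsLocalRing.le_maximalIdeal (Ideal.IsPrime.ne_top (I := N.comap iR) inferInstance) hc)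
      have heq : (N.comap iR).comap (algebraMap C (Localization.AtPrime q)) = q := by
        refine le_antisymm hle (hmin.2 ⟨inferInstance, ?_⟩ hle)
        rw [← Ideal.map_le_iff_le_comap, Ideal.map_map, ← IsScalarTower.algebraMap_eq, ← hker]
        exact Ideal.ker_le_comap iR
      rw [← IsLocalization.map_comap q.primeCompl (Localization.AtPrime q) (N.comap iR), Ideal.under, heq,
        Localization.AtPrime.map_eq_maximalIdeal]
  have hres : Algebra.IsGeometricallyReduced p.ResidueField q.ResidueField := by
    have hker' : ∀ z, iR z = 0 ↔ z ∈ maximalIdeal (Localization.AtPrime q) := fun z => by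
      rw [← RingHom.mem_ker, hker, hmax]
    haveI : Nontrivial (p.ResidueField ⊗[A] Localization.AtPrime q) := ⟨⟨1, 0, fun h =>
      (Ideal.ne_top_iff_one _).1 (maximalIdeal.isMaximal (Localization.AtPrime q)).ne_top
        ((hker' 1).1 (by rw [map_one]; exact h))⟩⟩
    let ρ : q.ResidueField →+* p.ResidueField ⊗[A] Localization.AtPrime q :=
      Ideal.ResidueField.lift q (iR.comp (algebraMap C (Localization.AtPrime q)))
        (fun c hc => (hker' _).2 ((IsLocalization.AtPrime.to_map_mem_maximal_iff (Localization.AtPrime q) q c).2 hc))
        (fun c hc => (IsLocalization.map_units (Localization.AtPrime q) (⟨c, hc⟩ : q.primeCompl)).map iR)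
    have hρ : Function.Injective ρ := RingHom.injective ρ
    let ρk : q.ResidueField →ₐ[p.ResidueField] p.ResidueField ⊗[A] Localization.AtPrime q :=
      { ρ with
        commutes' := fun x => RingHom.congr_fun
          (Ideal.ResidueField.ringHom_ext (f := ρ.comp (algebraMap p.ResidueField q.ResidueField))
            (g := algebraMap p.ResidueField (p.ResidueField ⊗[A] Localization.AtPrime q))
            (RingHom.ext fun a => by
              show ρ (algebraMap p.ResidueField q.ResidueField (algebraMap A p.ResidueField a)) =
                algebraMap p.ResidueField _ (algebraMap A p.ResidueField a)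
              rw [← IsScalarTower.algebraMap_apply, ← IsScalarTower.algebraMap_apply,
                IsScalarTower.algebraMap_apply A C q.ResidueField]
              refine (Ideal.ResidueField.lift_algebraMap _ _ _ _ (algebraMap A C a)).trans ?_
              show iR (algebraMap C (Localization.AtPrime q) (algebraMap A C a)) = _
              rw [← IsScalarTower.algebraMap_apply]
              exact AlgHom.commutes _ a)) x }
    exact Algebra.IsGeometricallyReduced.of_injective ρk hρ
  exact ⟨hmax, hres⟩

/-- Flatness at a point from torsion statements at the generic points of the geometrically reduced fibre. -/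
theorem flat_of_geomReduced {A C : Type u} [CommRing A] [IsNoetherianRing A] [IsReduced A] [CommRing C]
    [Algebra A C] [Algebra.FiniteType A C] (qx : Ideal C) [qx.IsPrime] (p : Ideal A) [p.IsPrime]
    [qx.LiesOver p]
    (hred : ∀ (P : Ideal (AlgebraicClosure p.ResidueField ⊗[A] C)) [P.IsPrime],
      P.comap (inr A C (AlgebraicClosure p.ResidueField)) = qx → IsReduced (Localization.AtPrime P))
    (htor : ∀ (q : Ideal C) [q.IsPrime], q ≤ qx → q ∈ (p.map (algebraMap A C)).minimalPrimes →
      ∀ (W : Type u) [CommRing W] [IsDomain W] [Algebra A W], TorAt (A := A) q W) :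
    Module.Flat A (Localization.AtPrime qx) := by
  classical
  let K := AlgebraicClosure p.ResidueField
  let A₀ := Localization.AtPrime p
  let B := Localization.AtPrime qx
  letI := Localization.AtPrime.algebraOfLiesOver p qx
  haveI : Algebra.IsIntegral p.ResidueField K := Algebra.isAlgebraic_iff_isIntegral.1 inferInstance
  have hmB : (maximalIdeal A₀).map (algebraMap A₀ B) = p.map (algebraMap A B) := by
    rw [← Localization.AtPrime.map_eq_maximalIdeal, Ideal.map_map, ← IsScalarTower.algebraMap_eq]
  have hprops : ∀ (q : Ideal C) [q.IsPrime], q ≤ qx → (∀ a ∉ p, a ∉ q.comap (algebraMap A C)) →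
      Algebra.IsGeometricallyReduced p.ResidueField (p.ResidueField ⊗[A] Localization.AtPrime q) ∧
      Function.Surjective (Algebra.TensorProduct.includeRight (R := A) (A := p.ResidueField) (B := Localization.AtPrime q)) ∧
      RingHom.ker (Algebra.TensorProduct.includeRight (R := A) (A := p.ResidueField) (B := Localization.AtPrime q)).toRingHom =
        p.map (algebraMap A (Localization.AtPrime q)) := by
    intro q _ hq hqp
    refine fibre_local_props p K inferInstance (Localization.AtPrime q) (fun a ha => ?_)
      (isReduced_tensor_localization p qx K (qx.over_def p) hred q hq)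
    rw [IsScalarTower.algebraMap_apply A C (Localization.AtPrime q)]
    exact IsLocalization.map_units (Localization.AtPrime q) (⟨algebraMap A C a, hqp a ha⟩ : q.primeCompl)
  haveI : IsReduced (B ⧸ (maximalIdeal A₀).map (algebraMap A₀ B)) := by
    obtain ⟨hgr, -, hker⟩ := hprops qx le_rfl fun a ha h => ha ((qx.over_def p).ge h)
    haveI := Algebra.isReduced_of_isGeometricallyReduced p.ResidueField (A := p.ResidueField ⊗[A] B)
    rw [← Ideal.isRadical_iff_quotient_reduced, hmB, ← hker]
    intro z hz
    obtain ⟨n, hn⟩ := hz
    rw [RingHom.mem_ker, map_pow] at hn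
    exact IsReduced.eq_zero _ ⟨n, hn⟩
  haveI : IsNoetherianRing A₀ := IsLocalization.isNoetherianRing p.primeCompl A₀ inferInstance
  haveI : IsNoetherianRing C := Algebra.FiniteType.isNoetherianRing A C
  haveI : IsNoetherianRing B := IsLocalization.isNoetherianRing qx.primeCompl B inferInstance
  haveI : Module.Flat A₀ B := by
    refine flat_of_flat_minimalPrimes fun q' hq' hq'min => ?_
    let q := q'.comap (algebraMap C B)
    rw [hmB] at hq'min
    have hqx : q ≤ qx := fun c hc => by
      refine (IsLocalization.AtPrime.to_map_mem_maximal_iff B qx c).1 ?_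
      exact IsLocalRing.le_maximalIdeal hq'.ne_top hc
    have hpq : p.map (algebraMap A C) ≤ q := by
      rw [← Ideal.map_le_iff_le_comap, Ideal.map_map, ← IsScalarTower.algebraMap_eq]
      exact hq'min.1.2
    have hmin : q ∈ (p.map (algebraMap A C)).minimalPrimes := by
      refine ⟨⟨inferInstance, hpq⟩, fun M hM hMq => ?_⟩
      haveI := hM.1
      have hMx : M ≤ qx := hMq.trans hqx
      have h1 : q' ≤ M.map (algebraMap C B) := by
        refine hq'min.2 ⟨Ideal.isPrime_map_of_isLocalizationAtPrime qx hMx, ?_⟩ ?_
        · rw [IsScalarTower.algebraMap_eq A C B, ← Ideal.map_map]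
          exact Ideal.map_mono hM.2
        · exact Ideal.map_le_iff_le_comap.2 hMq
      exact (Ideal.comap_mono h1).trans (le_of_eq (Ideal.under_map_of_isLocalizationAtPrime qx hMx))
    haveI hqp : q.LiesOver p := ⟨le_antisymm (Ideal.map_le_iff_le_comap.1 hpq)
      ((Ideal.comap_mono hqx).trans (qx.over_def p).ge)⟩
    letI := Localization.AtPrime.algebraOfLiesOver p q
    obtain ⟨hmax, hgr⟩ := residue_props qx p hred q hqx hmin
    haveI := hgr
    haveI : Module.Flat A (Localization.AtPrime q) := flat_of_torAt q p hmax (htor q hqx hmin)
    haveI : IsLocalization.AtPrime (Localization.AtPrime q') q :=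
      IsLocalization.isLocalization_isLocalization_atPrime_isLocalization qx.primeCompl (Localization.AtPrime q') q'
    have e := (IsLocalization.algEquiv q.primeCompl (Localization.AtPrime q) (Localization.AtPrime q')).restrictScalars A
    haveI : Module.Flat A (Localization.AtPrime q') := Module.Flat.of_linearEquiv e.symm.toLinearEquiv
    exact (Module.flat_iff_of_isLocalization A₀ p.primeCompl _).2 inferInstance
  exact (Module.flat_iff_of_isLocalization A₀ p.primeCompl B).1 inferInstance

end Groth.Agent.GeomUnib
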