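import Groth.Agent.GeomUnib.GeomRedGen
import Groth.Agent.GeomUnib.FlatFibre

/-!
# A branch with reduced fibre fills up the total space

If a quotient domain `C → C'` is universally open at the generic point `q` of a fibre at which the fibre
of `C` is geometrically reduced, the primes below `q` contain the kernel.
-/

set_option autoImplicit false
set_option linter.style.haveILetI false
set_option linter.unusedSectionVars false
set_option backward.isDefEq.respectTransparency false
set_option maxHeartbeats 1000000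
set_option synthInstance.maxHeartbeats 200000

universe u

namespace Groth.Agent.GeomUnib.BranchKernel

open IsLocalRing TensorProduct UnivOpenAt

variable {A C : Type u} [CommRing A] [CommRing C] [Algebra A C]

/-- At the generic point of a fibre a member of the prime dies in the reduced local ring of a
geometric fibre. -/
theorem exists_notMem_mul_eq_zero {q : Ideal C} [q.IsPrime] (hGR : GRAt A C q)
    (hmin : ∀ r : Ideal C, r.IsPrime → r ≤ q → r.comap (algebraMap A C) = q.comap (algebraMap A C) → r = q)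
    {K : Type u} [Field K] [Algebra A K] (hK : RingHom.ker (algebraMap A K) = q.comap (algebraMap A C))
    (P : Ideal (K ⊗[A] C)) [P.IsPrime] (hP : P.comap (inr A C K) = q) {i : C} (hi : i ∈ q) :
    ∃ t, t ∉ P ∧ t * inr A C K i = 0 := by
  haveI := (grAt_iff_isReduced.1 hGR) K hK P hP
  let L := Localization.AtPrime P
  have h0 : IsNilpotent (algebraMap _ L (inr A C K i)) := by
    refine nilpotent_iff_mem_prime.2 fun R hR => ?_
    have hle : R.comap (algebraMap _ L) ≤ P := by
      exact (Ideal.comap_mono (le_maximalIdeal hR.ne_top)).trans Localization.AtPrime.under_maximalIdeal.le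
    let r := (R.comap (algebraMap _ L)).comap (inr A C K)
    have hker : ∀ a, inr A C K (algebraMap A C a) = algebraMap A K a ⊗ₜ[A] (1 : C) := fun a => by
      simp [inr, Algebra.TensorProduct.algebraMap_apply]
    have hrq : r = q := hmin r inferInstance ((Ideal.comap_mono hle).trans hP.le) (by
      refine le_antisymm (Ideal.comap_mono ((Ideal.comap_mono hle).trans hP.le)) fun a ha => ?_
      have ha' : algebraMap A K a = 0 := hK.ge ha
      show inr A C K (algebraMap A C a) ∈ R.comap (algebraMap _ L)
      rw [hker, ha', TensorProduct.zero_tmul]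
      exact zero_mem _)
    exact (hrq.ge hi : i ∈ r)
  obtain ⟨⟨t, ht⟩, h⟩ := (IsLocalization.map_eq_zero_iff P.primeCompl L _).1 (IsReduced.eq_zero _ h0)
  exact ⟨t, ht, h⟩

section quotient

variable (A' : Type u) [CommRing A'] [Algebra A A'] {C' : Type u} [CommRing C'] [Algebra A C'] [Algebra A' C']
  [IsScalarTower A A' C'] (φ : C →ₐ[A] C') (hφ : Function.Surjective φ)

include hφ in
/-- Geometric reducedness passes to the quotient at the generic point of a fibre. -/
theorem grAt_quotient (hA : Function.Surjective (algebraMap A A')) {q' : Ideal C'} [q'.IsPrime]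
    (hmin : ∀ r : Ideal C, r.IsPrime → r ≤ q'.comap φ →
      r.comap (algebraMap A C) = (q'.comap φ).comap (algebraMap A C) → r = q'.comap φ)
    (hGR : GRAt A C (q'.comap φ)) : GRAt A' C' q' := by
  intro K _ _ hK P hP hPq w hw
  let q := q'.comap φ
  letI : Algebra A K := ((algebraMap A' K).comp (algebraMap A A')).toAlgebra
  haveI : IsScalarTower A A' K := .of_algebraMap_eq fun a => rfl
  have hK' : RingHom.ker (algebraMap A K) = q.comap (algebraMap A C) := by
    ext a
    rw [RingHom.mem_ker, IsScalarTower.algebraMap_apply A A' K, ← RingHom.mem_ker, hK, Ideal.mem_comap,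
      Ideal.mem_comap, ← IsScalarTower.algebraMap_apply, Ideal.mem_comap, AlgHom.commutes]
  let inl' : K →ₐ[A] K ⊗[A'] C' :=
    (Algebra.TensorProduct.includeLeft (R := A') (S := A') : K →ₐ[A'] K ⊗[A'] C').restrictScalars A
  let inr' : C' →ₐ[A] K ⊗[A'] C' :=
    (Algebra.TensorProduct.includeRight : C' →ₐ[A'] K ⊗[A'] C').restrictScalars A
  let Φ : K ⊗[A] C →ₐ[A] K ⊗[A'] C' :=
    Algebra.TensorProduct.lift inl' (inr'.comp φ) fun _ _ => Commute.all _ _
  let P' := P.comap Φ
  have hP' : P'.comap (inr A C K) = q := by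
    ext c
    show Φ (inr A C K c) ∈ P ↔ φ c ∈ q'
    rw [show Φ (inr A C K c) = inr A' C' K (φ c) by simp [Φ, inr, inl', inr'], ← hPq]
    rfl
  haveI : P'.IsPrime := inferInstance
  let L := Localization.AtPrime P'
  haveI : _root_.IsReduced L := (grAt_iff_isReduced.1 hGR) K hK' P' hP'
  let can : K ⊗[A] C →ₐ[A] L := IsScalarTower.toAlgHom A (K ⊗[A] C) L
  haveI : IsScalarTower A A' L := inferInstance
  let ψ₀ : C →ₐ[A] L := can.comp Algebra.TensorProduct.includeRight
  have hψ₀ : RingHom.ker φ.toRingHom ≤ RingHom.ker ψ₀.toRingHom := fun i hi => by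
    have hiq : i ∈ q := by
      show φ i ∈ q'
      rw [show φ i = 0 from hi]
      exact zero_mem _
    obtain ⟨t, ht, h⟩ := exists_notMem_mul_eq_zero hGR hmin hK' P' hP' hiq
    show algebraMap _ L (inr A C K i) = 0
    exact (IsLocalization.map_eq_zero_iff P'.primeCompl L _).2 ⟨⟨t, ht⟩, h⟩
  let ψ₁ : C' →+* L := φ.toRingHom.liftOfSurjective hφ ⟨ψ₀.toRingHom, hψ₀⟩
  have hψ₁ : ∀ c, ψ₁ (φ c) = ψ₀ c := fun c => RingHom.liftOfRightInverse_comp_apply _ _ _ _ c
  let ψ : C' →ₐ[A'] L :=
    { ψ₁ with
      commutes' := fun a' => by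
        obtain ⟨a, rfl⟩ := hA a'
        show ψ₁ _ = _
        rw [← IsScalarTower.algebraMap_apply, ← IsScalarTower.algebraMap_apply, ← AlgHom.commutes φ, hψ₁,
          AlgHom.commutes] }
  let κ : K →ₐ[A'] L := (IsScalarTower.toAlgHom A' (K ⊗[A] C) L).comp
    (Algebra.TensorProduct.includeLeft (R := A) (S := A') : K →ₐ[A'] K ⊗[A] C)
  let Ψ : K ⊗[A'] C' →ₐ[A'] L := Algebra.TensorProduct.lift κ ψ fun _ _ => Commute.all _ _
  have hΨ : ∀ v, Ψ (Φ v) = algebraMap _ L v := fun v => by
    induction v using TensorProduct.induction_on with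
    | zero => simp
    | add a b ha hb => rw [map_add, map_add, ha, hb, map_add]
    | tmul k c =>
      rw [show Φ (k ⊗ₜ[A] c) = k ⊗ₜ[A'] φ c by simp [Φ, inl', inr'],
        show Ψ (k ⊗ₜ[A'] φ c) = κ k * ψ₁ (φ c) by simp [Ψ]; rfl, hψ₁]
      show algebraMap _ L (k ⊗ₜ[A] (1 : C)) * algebraMap _ L ((1 : K) ⊗ₜ[A] c) = _
      rw [← map_mul, Algebra.TensorProduct.tmul_mul_tmul, mul_one, one_mul]
  have hΦ : Function.Surjective Φ := fun z => by
    induction z using TensorProduct.induction_on with
    | zero => exact ⟨0, map_zero _⟩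
    | add a b ha hb =>
      obtain ⟨a', rfl⟩ := ha
      obtain ⟨b', rfl⟩ := hb
      exact ⟨a' + b', map_add _ _ _⟩
    | tmul k c =>
      obtain ⟨c', rfl⟩ := hφ c
      exact ⟨k ⊗ₜ c', by simp [Φ, inl', inr']⟩
  obtain ⟨v, rfl⟩ := hΦ w
  have h0 : algebraMap _ L v = 0 := by
    rw [← hΨ]
    exact IsReduced.eq_zero _ (hw.map Ψ)
  obtain ⟨⟨t, ht⟩, h⟩ := (IsLocalization.map_eq_zero_iff P'.primeCompl L v).1 h0
  exact ⟨Φ t, ht, by rw [← map_mul]; exact (congrArg Φ h).trans (map_zero Φ)⟩

/-- Torsion vanishing over a quotient of the base. -/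
theorem torAt_quotient (hA : Function.Surjective (algebraMap A A')) (q' : Ideal C') (W : Type u) [CommRing W]
    [Algebra A W] [Algebra A' W] [IsScalarTower A A' W] (h : TorAt (A := A) q' W) : TorAt (A := A') q' W := by
  intro s u hs hsu P hP hPq
  let incR : C' →ₐ[A'] W ⊗[A] C' :=
    { (inr A C' W : C' →+* W ⊗[A] C') with
      commutes' := fun a' => by
        obtain ⟨a, rfl⟩ := hA a'
        show inr A C' W (algebraMap A' C' (algebraMap A A' a)) = algebraMap A' (W ⊗[A] C') (algebraMap A A' a)
        rw [← IsScalarTower.algebraMap_apply A A' C', Algebra.TensorProduct.algebraMap_apply,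
          ← IsScalarTower.algebraMap_apply A A' W]
        simp [inr, Algebra.TensorProduct.algebraMap_apply] }
  let g : W ⊗[A'] C' →ₐ[A'] W ⊗[A] C' :=
    Algebra.TensorProduct.lift (Algebra.TensorProduct.includeLeft (R := A) (S := A')) incR
      fun _ _ => Commute.all _ _
  let θ : W ⊗[A] C' →ₐ[A] W ⊗[A'] C' :=
    Algebra.TensorProduct.lift
      ((Algebra.TensorProduct.includeLeft (R := A') (S := A') : W →ₐ[A'] W ⊗[A'] C').restrictScalars A)
      ((Algebra.TensorProduct.includeRight : C' →ₐ[A'] W ⊗[A'] C').restrictScalars A) fun _ _ => Commute.all _ _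
  have hg : ∀ (w : W) (c : C'), g (w ⊗ₜ[A'] c) = w ⊗ₜ[A] c := fun w c => by simp [g, incR, inr]
  have hθg : ∀ v, θ (g v) = v := fun v => by
    induction v using TensorProduct.induction_on with
    | zero => simp
    | add a b ha hb => rw [map_add, map_add, ha, hb]
    | tmul w c => rw [hg]; simp [θ]
  have h1 := h s (g u) hs (by rw [← hg, ← map_mul, hsu, map_zero]) (P.comap θ) inferInstance (by
    rw [← hPq]
    ext c
    show θ (inr A C' W c) ∈ P ↔ inr A' C' W c ∈ P
    rw [show θ (inr A C' W c) = inr A' C' W c by simp [θ, inr]])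
  have h2 : θ (g u) ∈ P := h1
  rwa [hθg] at h2

end quotient

/-- At the generic point of a fibre with geometrically reduced local ring the maximal ideal is that of
the base. -/
theorem maximalIdeal_le_map {q : Ideal C} [q.IsPrime] (p : Ideal A) [p.IsPrime] [q.LiesOver p] (hGR : GRAt A C q)
    (hmin : ∀ r : Ideal C, r.IsPrime → r ≤ q → r.comap (algebraMap A C) = q.comap (algebraMap A C) → r = q) :
    maximalIdeal (Localization.AtPrime q) ≤ p.map (algebraMap A (Localization.AtPrime q)) := by
  let B := Localization.AtPrime q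
  let J := p.map (algebraMap A B)
  have hov : p = q.comap (algebraMap A C) := Ideal.LiesOver.over
  have hJm : J ≤ maximalIdeal B := by
    refine Ideal.map_le_iff_le_comap.2 fun a ha => ?_
    show algebraMap A B a ∈ maximalIdeal B
    rw [IsScalarTower.algebraMap_apply A C B]
    exact (IsLocalization.AtPrime.to_map_mem_maximal_iff B q _).2 (hov.le ha)
  haveI : Nontrivial (B ⧸ J) := Ideal.Quotient.nontrivial_iff.2 fun h => (maximalIdeal.isMaximal B).ne_top (top_le_iff.1 (h ▸ hJm))
  haveI : IsLocalRing (B ⧸ J) := IsLocalRing.of_surjective' (Ideal.Quotient.mk J) Ideal.Quotient.mk_surjective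
  have hf₁ : p ≤ RingHom.ker ((Algebra.ofId A (B ⧸ J)) : A →+* B ⧸ J) := fun a ha =>
    Ideal.Quotient.eq_zero_iff_mem.2 (Ideal.mem_map_of_mem _ ha)
  have hf₂ : ∀ a ∈ p.primeCompl, IsUnit (algebraMap A (B ⧸ J) a) := fun a ha => by
    have h1 : IsUnit (algebraMap C B (algebraMap A C a)) :=
      IsLocalization.map_units B (⟨_, fun h => ha (hov.ge h)⟩ : q.primeCompl)
    rw [← IsScalarTower.algebraMap_apply A C B] at h1
    exact h1.map (Ideal.Quotient.mk J)
  let κ : p.ResidueField →ₐ[A] B ⧸ J := Ideal.ResidueField.liftₐ p (Algebra.ofId A _) hf₁ hf₂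
  let μ : p.ResidueField ⊗[A] C →ₐ[A] B ⧸ J :=
    Algebra.TensorProduct.lift κ (IsScalarTower.toAlgHom A C (B ⧸ J)) fun _ _ => Commute.all _ _
  let P := (maximalIdeal (B ⧸ J)).comap μ
  have hP : P.comap (inr A C p.ResidueField) = q := by
    ext c
    show μ (inr A C p.ResidueField c) ∈ maximalIdeal (B ⧸ J) ↔ c ∈ q
    haveI : IsLocalHom (Ideal.Quotient.mk J) := IsLocalHom.of_surjective _ Ideal.Quotient.mk_surjective
    rw [show μ (inr A C p.ResidueField c) = Ideal.Quotient.mk J (algebraMap C B c) by simp [μ, inr],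
      ← Ideal.mem_comap, IsLocalRing.maximalIdeal_comap,
      IsLocalization.AtPrime.to_map_mem_maximal_iff B q]
  intro b hb
  obtain ⟨⟨i, t⟩, hit⟩ := IsLocalization.surj q.primeCompl b
  have hi : i ∈ q := by
    rw [← IsLocalization.AtPrime.to_map_mem_maximal_iff B q, ← hit]
    exact Ideal.mul_mem_right _ _ hb
  obtain ⟨s, hs, h0⟩ := exists_notMem_mul_eq_zero hGR hmin (K := p.ResidueField)
    (hov ▸ Ideal.ker_algebraMap_residueField p) P hP hi
  have hu : IsUnit (μ s) := IsLocalRing.notMem_maximalIdeal.1 hs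
  have h1 := congrArg μ h0
  rw [map_mul, map_zero, hu.mul_right_eq_zero,
    show μ (inr A C p.ResidueField i) = Ideal.Quotient.mk J (algebraMap C B i) by simp [μ, inr],
    Ideal.Quotient.eq_zero_iff_mem, ← hit] at h1
  exact (Ideal.mul_unit_mem_iff_mem _ (IsLocalization.map_units B t)).1 h1

/-- **The primes below `q` contain the kernel of the branch.** -/
theorem ker_le_of_le [IsNoetherianRing A] [Algebra.FiniteType A C] {C' : Type u} [CommRing C'] [IsDomain C']
    [Algebra A C'] (φ : C →ₐ[A] C') (hφ : Function.Surjective φ)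
    (hker : RingHom.ker (algebraMap A C') = nilradical A) {q' : Ideal C'} [q'.IsPrime]
    (hmin : ∀ r : Ideal C, r.IsPrime → r ≤ q'.comap φ →
      r.comap (algebraMap A C) = (q'.comap φ).comap (algebraMap A C) → r = q'.comap φ)
    (hGR : GRAt A C (q'.comap φ))
    (htor : ∀ (W : Type u) [CommRing W] [IsDomain W] [Algebra A W], TorAt (A := A) q' W)
    {r : Ideal C} [r.IsPrime] (hr : r ≤ q'.comap φ) : RingHom.ker φ.toRingHom ≤ r := by
  classical
  let A' := A ⧸ nilradical A
  letI : Algebra A' C' := (Ideal.Quotient.lift (nilradical A) (algebraMap A C') hker.ge).toAlgebra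
  haveI : IsScalarTower A A' C' := .of_algebraMap_eq fun a => rfl
  have hA : Function.Surjective (algebraMap A A') := Ideal.Quotient.mk_surjective
  haveI : _root_.IsReduced A' :=
    (Ideal.isRadical_iff_quotient_reduced _).1 (by rw [nilradical]; exact Ideal.radical_isRadical _)
  haveI : Algebra.FiniteType A C' := Algebra.FiniteType.of_surjective φ hφ
  haveI : Algebra.FiniteType A' C' := Algebra.FiniteType.of_restrictScalars_finiteType A A' C'
  let q := q'.comap φ
  haveI : q.IsPrime := inferInstanceAs (q'.comap φ).IsPrime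
  let p := q.comap (algebraMap A C)
  haveI : q.LiesOver p := ⟨rfl⟩
  let p' := q'.comap (algebraMap A' C')
  haveI : q'.LiesOver p' := ⟨rfl⟩
  have hGR' : GRAt A' C' q' := grAt_quotient A' φ hφ hA hmin hGR
  haveI : Module.Flat A' (Localization.AtPrime q') := by
    refine flat_of_geomReduced q' p' (fun P _ hP => grAt_iff_isReduced.1 hGR' _ ?_ P hP) fun q₁ _ hle hm W _ _ _ => ?_
    · ext a
      rw [RingHom.mem_ker, IsScalarTower.algebraMap_apply A' p'.ResidueField (AlgebraicClosure p'.ResidueField),
        map_eq_zero]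
      exact Ideal.algebraMap_residueField_eq_zero
    · have hq₁ : q₁ = q' := by
        have h1 : q₁.comap φ = q := hmin _ inferInstance (Ideal.comap_mono hle) (by
          refine le_antisymm (Ideal.comap_mono (Ideal.comap_mono hle)) fun a ha => ?_
          show φ (algebraMap A C a) ∈ q₁
          have ha' : φ (algebraMap A C a) ∈ q' := ha
          rw [AlgHom.commutes, IsScalarTower.algebraMap_apply A A' C'] at ha' ⊢
          exact hm.1.2 (Ideal.mem_map_of_mem _ ha'))
        exact Ideal.comap_injective_of_surjective _ hφ h1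
      subst hq₁
      letI : Algebra A W := ((algebraMap A' W).comp (algebraMap A A')).toAlgebra
      haveI : IsScalarTower A A' W := .of_algebraMap_eq fun a => rfl
      exact torAt_quotient A' hA _ W (htor W)
  let B := Localization.AtPrime q
  let B' := Localization.AtPrime q'
  haveI : IsNoetherianRing C := Algebra.FiniteType.isNoetherianRing A C
  haveI : IsNoetherianRing B := IsLocalization.isNoetherianRing q.primeCompl B inferInstance
  let β : B →+* B' := Localization.localRingHom q q' φ.toRingHom rfl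
  have hβc : ∀ c, β (algebraMap C B c) = algebraMap C' B' (φ c) := fun c => Localization.localRingHom_to_map ..
  have hβa : ∀ a, β (algebraMap A B a) = algebraMap A B' a := fun a => by
    rw [IsScalarTower.algebraMap_apply A C B, hβc, AlgHom.commutes, ← IsScalarTower.algebraMap_apply]
  have hβ : Function.Surjective β := fun z => by
    obtain ⟨c', ⟨s', hs'⟩, rfl⟩ := IsLocalization.exists_mk'_eq q'.primeCompl z
    obtain ⟨c, rfl⟩ := hφ c'
    obtain ⟨s, rfl⟩ := hφ s'
    exact ⟨IsLocalization.mk' B c (⟨s, hs'⟩ : q.primeCompl), Localization.localRingHom_mk' _ _ _ _ _ _⟩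
  let J : Ideal B := RingHom.ker β
  let N : Ideal B := (nilradical A).map (algebraMap A B)
  have hmB : maximalIdeal B ≤ p.map (algebraMap A B) := maximalIdeal_le_map p hGR hmin
  have hJN : J ≤ N ⊔ maximalIdeal B * J := by
    intro b hb
    have hbm : b ∈ maximalIdeal B := le_maximalIdeal (RingHom.ker_ne_top β) hb
    obtain ⟨n, a, g, hsum⟩ : ∃ (n : ℕ) (a : Fin n → p) (g : Fin n → B), ∑ k, algebraMap A B (a k : A) * g k = b := by
      have h := hmB hbm
      rw [Ideal.map, Ideal.span, Submodule.mem_span_set'] at h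
      obtain ⟨n, f, v, hv⟩ := h
      choose a ha hav using fun k => (v k).2
      exact ⟨n, fun k => ⟨a k, ha k⟩, f, by simpa [hav, mul_comm] using hv⟩
    have hrel : ∑ k, algebraMap A A' (a k : A) • β (g k) = 0 := by
      have h := congrArg β hsum
      rw [show β b = 0 from hb, map_sum] at h
      simpa [Algebra.smul_def, ← IsScalarTower.algebraMap_apply, hβa] using h
    obtain ⟨m, c, y, hgy, hc⟩ := Module.Flat.isTrivialRelation_of_sum_smul_eq_zero (R := A') (M := B')
      (f := fun k => algebraMap A A' (a k : A)) (x := fun k => β (g k)) (by convert hrel using 1)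
    choose ĉ hĉ using fun k j => hA (c k j)
    choose ŷ hŷ using fun j => hβ (y j)
    let d : Fin n → B := fun k => g k - ∑ j, algebraMap A B (ĉ k j) * ŷ j
    have hd : ∀ k, d k ∈ J := fun k => by
      show β (g k - ∑ j, algebraMap A B (ĉ k j) * ŷ j) = 0
      rw [map_sub, map_sum, show β (g k) = _ from hgy k, sub_eq_zero]
      refine Finset.sum_congr rfl fun j _ => ?_
      rw [map_mul, hβa, hŷ, ← hĉ k j, Algebra.smul_def, ← IsScalarTower.algebraMap_apply]
    have hn : ∀ j, ∑ k, (a k : A) * ĉ k j ∈ nilradical A := fun j => by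
      rw [← Ideal.Quotient.eq_zero_iff_mem, map_sum, ← hc j]
      refine Finset.sum_congr rfl fun k _ => ?_
      rw [map_mul, ← hĉ k j]
      rfl
    have hb' : b = (∑ j, algebraMap A B (∑ k, (a k : A) * ĉ k j) * ŷ j) + ∑ k, algebraMap A B (a k : A) * d k := by
      simp only [d, mul_sub, Finset.mul_sum, Finset.sum_sub_distrib, map_sum, map_mul, Finset.sum_mul, hsum]
      rw [Finset.sum_comm]
      simp [mul_assoc]
    rw [hb']
    refine Submodule.add_mem_sup (Ideal.sum_mem _ fun j _ => Ideal.mul_mem_right _ _ (Ideal.mem_map_of_mem _ (hn j)))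
      (Ideal.sum_mem _ fun k _ => Ideal.mul_mem_mul ?_ (hd k))
    rw [IsScalarTower.algebraMap_apply A C B]
    exact (IsLocalization.AtPrime.to_map_mem_maximal_iff B q _).2 (a k).2
  have hJ : J ≤ N := Submodule.le_of_le_smul_of_le_jacobson_bot (IsNoetherian.noetherian J)
    (IsLocalRing.jacobson_eq_maximalIdeal ⊥ bot_ne_top).ge hJN
  have hN : N ≤ nilradical B := Ideal.map_le_iff_le_comap.2 fun a ha => (mem_nilradical.1 ha).map (algebraMap A B)
  intro i hi
  have hiJ : algebraMap C B i ∈ J := by
    show β _ = 0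
    rw [hβc, show φ i = 0 from hi, map_zero]
  obtain ⟨n, hn⟩ := mem_nilradical.1 (hN (hJ hiJ))
  rw [← map_pow, IsLocalization.map_eq_zero_iff q.primeCompl] at hn
  obtain ⟨⟨s, hs⟩, h⟩ := hn
  exact Ideal.IsPrime.mem_of_pow_mem inferInstance n
    ((Ideal.IsPrime.mem_or_mem inferInstance (show s * i ^ n ∈ r from h.symm ▸ r.zero_mem)).resolve_left fun h' => hs (hr h'))

end Groth.Agent.GeomUnib.BranchKernel
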