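import Groth.Agent.Miracle.Basic
import Groth.Agent.FlatDescent.Scheme

/-!
# The closed fibre in miracle flatness
-/

set_option linter.style.haveILetI false

universe u

open IsLocalRing TensorProduct LocCoh CategoryTheory AlgebraicGeometry

namespace Groth.Agent.GeomUnib.CMFibre

/-- The closed fibre of a Cohen–Macaulay local ring over a regular one is Cohen–Macaulay when the dimension
formula holds. -/
theorem isCohenMacaulay_closedFibre (n : ℕ) : ∀ {R S : Type u} [CommRing R] [CommRing S] [IsRegularLocalRing R]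
    [IsCohenMacaulayLocalRing S] [Algebra R S] [IsLocalHom (algebraMap R S)],
    (maximalIdeal R).spanFinrank = n →
    ringKrullDim S = ringKrullDim R + ringKrullDim (S ⧸ (maximalIdeal R).map (algebraMap R S)) →
    IsCohenMacaulayLocalRing (S ⧸ (maximalIdeal R).map (algebraMap R S)) := by
  induction n with
  | zero =>
    intro R S _ _ _ _ _ _ hn _
    have h0 : (maximalIdeal R).map (algebraMap R S) = ⊥ := by
      rw [(Submodule.spanFinrank_eq_zero_iff_eq_bot (IsNoetherian.noetherian _)).mp hn]
      exact Ideal.map_bot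
    exact Catenary.isCohenMacaulayLocalRing_of_ringEquiv ((Ideal.quotEquivOfEq h0).trans (RingEquiv.quotientBot S)).symm
  | succ n ih =>
    intro R S _ _ _ _ _ _ hn hdim
    obtain ⟨x, hx, hx2⟩ : ∃ x ∈ maximalIdeal R, x ∉ maximalIdeal R ^ 2 := by
      by_contra h
      push Not at h
      have := Submodule.eq_bot_of_le_smul_of_le_jacobson_bot (maximalIdeal R) (maximalIdeal R)
        (IsNoetherian.noetherian _) (fun x hx => by rw [smul_eq_mul, ← pow_two]; exact h x hx)
        (maximalIdeal_le_jacobson ⊥)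
      rw [this, Submodule.spanFinrank_bot] at hn
      omega
    obtain ⟨_, hn'⟩ := DepthLib.isRegularLocalRing_quotient_singleton hn hx hx2
    let I : Ideal R := Ideal.span {x}
    let T := (R ⧸ I) ⊗[R] S
    have hmap : I.map (algebraMap R S) = Ideal.span {algebraMap R S x} := by
      rw [Ideal.map_span, Set.image_singleton]
    let e : T ≃+* S ⧸ Ideal.span {algebraMap R S x} :=
      (((Algebra.TensorProduct.comm R (R ⧸ I) S).toRingEquiv).trans
        (Algebra.TensorProduct.quotIdealMapEquivTensorQuot S I).symm.toRingEquiv).trans (Ideal.quotEquivOfEq hmap)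
    have hy : algebraMap R S x ∈ maximalIdeal S := fun h => hx ((isUnit_map_iff (algebraMap R S) x).mp h)
    have hne : Ideal.span {algebraMap R S x} ≠ ⊤ :=
      ne_top_of_le_ne_top (maximalIdeal.isMaximal S).ne_top ((Ideal.span_singleton_le_iff_mem _).mpr hy)
    have : Nontrivial (S ⧸ Ideal.span {algebraMap R S x}) := Ideal.Quotient.nontrivial_iff.mpr hne
    have hlS : IsLocalRing (S ⧸ Ideal.span {algebraMap R S x}) :=
      .of_surjective' (Ideal.Quotient.mk _) Ideal.Quotient.mk_surjective
    have hlT : IsLocalRing T := e.symm.isLocalRing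
    have : IsNoetherianRing T := isNoetherianRing_of_ringEquiv _ e.symm
    let π : S →+* T := (Algebra.TensorProduct.includeRight : S →ₐ[R] T).toRingHom
    have hπ : Function.Surjective π := fun z => by
      induction z using TensorProduct.induction_on with
      | zero => exact ⟨0, map_zero _⟩
      | add u v hu hv =>
        obtain ⟨a, rfl⟩ := hu; obtain ⟨b, rfl⟩ := hv; exact ⟨a + b, map_add _ _ _⟩
      | tmul c s =>
        obtain ⟨c, rfl⟩ := Ideal.Quotient.mk_surjective c
        refine ⟨c • s, ?_⟩
        change (1 : R ⧸ I) ⊗ₜ[R] (c • s) = _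
        rw [← TensorProduct.smul_tmul, Algebra.smul_def, mul_one]
        rfl
    have hmaxT : maximalIdeal T = (maximalIdeal S).map π := (map_maximalIdeal_of_surjective π hπ).symm
    have hπR : ∀ r, π (algebraMap R S r) = algebraMap (R ⧸ I) T (Ideal.Quotient.mk I r) := fun r => by
      rw [show π (algebraMap R S r) = algebraMap R T r from (Algebra.TensorProduct.includeRight).commutes r,
        IsScalarTower.algebraMap_apply R (R ⧸ I) T]
      rfl
    have hmR : maximalIdeal (R ⧸ I) = (maximalIdeal R).map (Ideal.Quotient.mk I) :=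
      (map_maximalIdeal_of_surjective _ Ideal.Quotient.mk_surjective).symm
    have hfib : (maximalIdeal (R ⧸ I)).map (algebraMap (R ⧸ I) T) =
        ((maximalIdeal R).map (algebraMap R S)).map π := by
      rw [hmR, Ideal.map_map, Ideal.map_map]
      congr 1
      exact RingHom.ext fun r => (hπR r).symm
    have hloc : IsLocalHom (algebraMap (R ⧸ I) T) := by
      refine ((local_hom_TFAE _).out 0 2).mpr ?_
      rw [hfib, hmaxT]
      exact Ideal.map_mono (((local_hom_TFAE _).out 0 2).mp ‹IsLocalHom (algebraMap R S)›)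
    let J := (maximalIdeal R).map (algebraMap R S)
    have hkerπ : RingHom.ker π ≤ J := by
      intro s hs
      have h0 : e (π s) = 0 := by rw [RingHom.mem_ker.mp hs, map_zero]
      have h1 : e (π s) = Ideal.Quotient.mk _ s := by
        have h2 : (Algebra.TensorProduct.quotIdealMapEquivTensorQuot S I).symm (s ⊗ₜ[R] (1 : R ⧸ I)) =
            Ideal.Quotient.mk _ s := by
          rw [AlgEquiv.symm_apply_eq, Algebra.TensorProduct.quotIdealMapEquivTensorQuot_mk]
        change Ideal.quotEquivOfEq hmap ((Algebra.TensorProduct.quotIdealMapEquivTensorQuot S I).symm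
          (Algebra.TensorProduct.comm R (R ⧸ I) S ((1 : R ⧸ I) ⊗ₜ[R] s))) = _
        rw [Algebra.TensorProduct.comm_tmul, h2, Ideal.quotEquivOfEq_mk]
      rw [h1, Ideal.Quotient.eq_zero_iff_mem, ← hmap] at h0
      exact Ideal.map_mono ((Ideal.span_singleton_le_iff_mem _).mpr hx) h0
    let ef : S ⧸ J ≃+* T ⧸ (maximalIdeal (R ⧸ I)).map (algebraMap (R ⧸ I) T) :=
      (Ideal.quotEquivOfEq (show J = RingHom.ker ((Ideal.Quotient.mk _).comp π) by
        rw [← RingHom.comap_ker, Ideal.mk_ker, hfib, Ideal.comap_map_of_surjective _ hπ, ← RingHom.ker_eq_comap_bot,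
          sup_eq_left.mpr hkerπ])).trans
        (RingHom.quotientKerEquivOfSurjective (Ideal.Quotient.mk_surjective.comp hπ))
    have hRdim : ringKrullDim R = ringKrullDim (R ⧸ I) + 1 := by
      rw [← IsRegularLocalRing.spanFinrank_maximalIdeal, ← IsRegularLocalRing.spanFinrank_maximalIdeal, hn', hn]
      rfl
    have hle := Miracle.ringKrullDim_le_add (R := R ⧸ I) (S := T)
    have hef : ringKrullDim (S ⧸ J) = ringKrullDim (T ⧸ (maximalIdeal (R ⧸ I)).map (algebraMap (R ⧸ I) T)) :=
      @ringKrullDim_eq_of_ringEquiv (S ⧸ J) _ _ _ ef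
    have he := ringKrullDim_eq_of_ringEquiv e
    rw [← hef, he] at hle
    have hdim' : ringKrullDim S = ringKrullDim (R ⧸ I) + ringKrullDim (S ⧸ J) + 1 := by
      rw [hdim, hRdim, add_right_comm]
    obtain ⟨hreg, hcm, hdrop⟩ := Miracle.isCohenMacaulayLocalRing_quotient hy (by
      rw [hdim']; exact add_le_add hle le_rfl)
    have : IsCohenMacaulayLocalRing T := Catenary.isCohenMacaulayLocalRing_of_ringEquiv e.symm
    have hcm' : IsCohenMacaulayLocalRing (T ⧸ (maximalIdeal (R ⧸ I)).map (algebraMap (R ⧸ I) T)) := by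
      refine ih hn' ?_
      rw [← hef, he]
      exact DepthLib.withBot_add_one_cancel (hdrop.trans hdim')
    exact Catenary.isCohenMacaulayLocalRing_of_ringEquiv
      (A := T ⧸ (maximalIdeal (R ⧸ I)).map (algebraMap (R ⧸ I) T)) (B := S ⧸ J) ef.symm

/-- Miracle flatness at a point of a fibre, with the fibre Cohen–Macaulay. -/
theorem flat_and_cm_of_eq {X Y : Scheme.{u}} [IsLocallyNoetherian X] [IsLocallyNoetherian Y] (f : X ⟶ Y) (s : Y)
    (z : f.fiber s) (x : X) (hx : f.fiberι s z = x) (hreg : IsRegularLocalRing (Y.presheaf.stalk (f x)))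
    (hCM : IsCohenMacaulayLocalRing (X.presheaf.stalk x))
    (h : ringKrullDim (X.presheaf.stalk x) =
      ringKrullDim (Y.presheaf.stalk (f x)) + ringKrullDim ((f.fiber s).presheaf.stalk z)) :
    (f.stalkMap x).hom.Flat ∧ IsCohenMacaulayLocalRing ((f.fiber s).presheaf.stalk z) := by
  subst hx
  algebraize [(f.stalkMap (f.fiberι s z)).hom]
  let e : (X.presheaf.stalk (f.fiberι s z) ⧸ (maximalIdeal (Y.presheaf.stalk (f (f.fiberι s z)))).map
      (algebraMap (Y.presheaf.stalk (f (f.fiberι s z))) (X.presheaf.stalk (f.fiberι s z)))) ≃+*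
      (f.fiber s).presheaf.stalk z :=
    (Ideal.quotEquivOfEq (Groth.FlatDescent.ker_stalkMap_fiberι f s z).symm).trans
      (RingHom.quotientKerEquivOfSurjective ((f.fiberι s).stalkMap_surjective z))
  haveI : IsLocalHom (algebraMap (Y.presheaf.stalk (f (f.fiberι s z))) (X.presheaf.stalk (f.fiberι s z))) :=
    inferInstanceAs (IsLocalHom (f.stalkMap (f.fiberι s z)).hom)
  rw [← ringKrullDim_eq_of_ringEquiv e] at h
  haveI := isCohenMacaulay_closedFibre _ rfl h
  exact ⟨Miracle.flat _ rfl h, Catenary.isCohenMacaulayLocalRing_of_ringEquiv e⟩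

end Groth.Agent.GeomUnib.CMFibre
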