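import Groth.Agent.GeomUnib.Necessity
import Groth.Prelude.Def_EGA4b

/-!
# Lengths of chains of primes over affine space
-/

set_option autoImplicit false

universe u

open Order

namespace Groth.Agent.GeomUnib

variable {A B : Type u} [CommRing A] [CommRing B] [Algebra A B] {n : ℕ}

/-- Dimensions of quotients of a local ring at a prime computed by chains below that prime. -/
theorem ringKrullDim_quotient_eq {S : Type u} [CommRing S] [Algebra B S] (q : Ideal B) [q.IsPrime]
    [IsLocalization.AtPrime S q] (P : Ideal S) [P.IsPrime] (M : ℕ)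
    (hle : ∀ l : LTSeries (PrimeSpectrum B), P.under B ≤ l.head.asIdeal → l.last.asIdeal ≤ q → l.length ≤ M)
    (hex : ∃ l : LTSeries (PrimeSpectrum B), P.under B ≤ l.head.asIdeal ∧ l.last.asIdeal ≤ q ∧ M ≤ l.length) :
    ringKrullDim (S ⧸ P) = M := by
  let e := IsLocalization.AtPrime.primeSpectrumOrderIso S q
  have he : ∀ a : PrimeSpectrum S, (e a).1.asIdeal = a.asIdeal.under B := fun a => rfl
  rw [ringKrullDim_quotient]
  haveI : Nonempty (PrimeSpectrum.zeroLocus (R := S) (P : Set S)) := ⟨⟨⟨P, inferInstance⟩, fun _ h => h⟩⟩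
  refine le_antisymm (iSup_le fun l => ?_) ?_
  · let l' : LTSeries (PrimeSpectrum B) :=
      l.map (fun a => (e a.1).1) fun a b h => (e.strictMono h : e a.1 < e b.1)
    have := hle l' (by
      change P.under B ≤ (e l.head.1).1.asIdeal
      rw [he]; exact Ideal.comap_mono l.head.2) (e l.last.1).2
    exact_mod_cast this
  · obtain ⟨l, hl0, hl1, hlen⟩ := hex
    let g : Fin (l.length + 1) → PrimeSpectrum.zeroLocus (R := S) (P : Set S) := fun i =>
      ⟨e.symm ⟨l i, (show (l i).asIdeal ≤ q from (show (l i).asIdeal ≤ l.last.asIdeal from l.monotone (Fin.le_last i)).trans hl1)⟩, by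
        intro z hz
        have h1 : (e ⟨P, inferInstance⟩) ≤ ⟨l i, ((show (l i).asIdeal ≤ l.last.asIdeal from l.monotone (Fin.le_last i)).trans hl1 : (l i).asIdeal ≤ q)⟩ :=
          (hl0.trans (LTSeries.head_le l i) : P.under B ≤ (l i).asIdeal)
        exact (e.le_symm_apply.2 h1) hz⟩
    have hg : StrictMono g := fun i j hij => e.symm.strictMono (l.strictMono hij)
    exact le_trans (by exact_mod_cast hlen) (Order.LTSeries.length_le_krullDim (LTSeries.mk l.length g hg))

/-- Chains below `q` above the generic point of the base are no longer than those below the image in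
affine space, which are realised by generic primes with the lifting property. -/
theorem exists_chain_bound [IsNoetherianRing A] [Algebra.FiniteType A B]
    (φ : MvPolynomial (Fin n) A →ₐ[A] B) (q : Ideal B) [q.IsPrime] (hqf : FibreDim.IsQFAt φ q)
    (η : Ideal A) [η.IsPrime] (hη : ∀ a : Ideal A, a.IsPrime → a ≤ q.under A → η ≤ a) :
    ∃ M : ℕ, (∀ l : LTSeries (PrimeSpectrum B), l.last.asIdeal ≤ q → l.length ≤ M ∧
        (l.head.asIdeal.comap φ.toRingHom ≠ RingHom.ker (MvPolynomial.map (σ := Fin n) (Ideal.Quotient.mk η)) →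
          l.length + 1 ≤ M)) ∧
      ∀ g : PrimeSpectrum B, g.asIdeal ≤ q →
        g.asIdeal.comap φ.toRingHom = RingHom.ker (MvPolynomial.map (σ := Fin n) (Ideal.Quotient.mk η)) →
        (∀ L : Ideal (MvPolynomial (Fin n) A), L.IsPrime → g.asIdeal.comap φ.toRingHom ≤ L →
          L ≤ q.comap φ.toRingHom → ∃ Q : Ideal B, Q.IsPrime ∧ g.asIdeal ≤ Q ∧ Q ≤ q ∧ Q.comap φ.toRingHom = L) →
        ∃ l : LTSeries (PrimeSpectrum B), g ≤ l.head ∧ l.last.asIdeal ≤ q ∧ M ≤ l.length := by
  classical
  haveI : IsNoetherianRing B := Algebra.FiniteType.isNoetherianRing A B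
  letI : Algebra (MvPolynomial (Fin n) A) B := φ.toRingHom.toAlgebra
  haveI : IsScalarTower A (MvPolynomial (Fin n) A) B :=
    IsScalarTower.of_algebraMap_eq fun a => (φ.commutes a).symm
  haveI : Algebra.QuasiFiniteAt (MvPolynomial (Fin n) A) q := hqf
  let μ : MvPolynomial (Fin n) A →+* MvPolynomial (Fin n) (A ⧸ η) := MvPolynomial.map (Ideal.Quotient.mk η)
  have hμ : Function.Surjective μ := MvPolynomial.map_surjective _ Ideal.Quotient.mk_surjective
  have hker : RingHom.ker μ = η.map MvPolynomial.C := by rw [MvPolynomial.ker_map, Ideal.mk_ker]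
  have hle : ∀ Q : Ideal B, Q.IsPrime → Q ≤ q → RingHom.ker μ ≤ Q.comap φ.toRingHom := fun Q hQ hQq => by
    rw [hker, Ideal.map_le_iff_le_comap, Ideal.comap_comap]
    refine hη _ (Ideal.IsPrime.comap _) (Ideal.comap_mono hQq |>.trans ?_)
    intro a ha
    rw [Ideal.mem_comap, RingHom.comp_apply, AlgHom.toRingHom_eq_coe, RingHom.coe_coe,
      ← MvPolynomial.algebraMap_eq, φ.commutes] at ha
    exact ha
  let ξ := (q.comap φ.toRingHom).map μ
  haveI : ξ.IsPrime := Ideal.map_isPrime_of_surjective hμ (hle q inferInstance le_rfl)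
  obtain ⟨l₀, hl₀, hlen₀⟩ := Ideal.exists_ltSeries_length_eq_height ξ
  refine ⟨l₀.length, fun m hm => ?_, fun g hgq hg hlift => ?_⟩
  · have hmq : ∀ i, (m i).asIdeal ≤ q := fun i => (show (m i).asIdeal ≤ m.last.asIdeal from m.monotone (Fin.le_last i)).trans hm
    haveI hprime : ∀ i, (((m i).asIdeal.comap φ.toRingHom).map μ).IsPrime := fun i =>
      Ideal.map_isPrime_of_surjective hμ (hle _ (m i).2 (hmq i))
    have hcm : ∀ i, (((m i).asIdeal.comap φ.toRingHom).map μ).comap μ = (m i).asIdeal.comap φ.toRingHom := fun i => by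
      rw [Ideal.comap_map_of_surjective _ hμ, ← RingHom.ker_eq_comap_bot, sup_eq_left.2 (hle _ (m i).2 (hmq i))]
    let d : Fin (m.length + 1) → PrimeSpectrum (MvPolynomial (Fin n) (A ⧸ η)) := fun i => ⟨_, hprime i⟩
    have hd : StrictMono d := fun i j hij => by
      refine lt_of_le_of_ne (Ideal.map_mono (Ideal.comap_mono (m.monotone hij.le))) fun heq => ?_
      haveI : Algebra.QuasiFiniteAt (MvPolynomial (Fin n) A) (m j).asIdeal := Algebra.QuasiFiniteAt.of_le (hmq j)
      refine (m.strictMono hij).ne (PrimeSpectrum.ext ?_)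
      refine Algebra.QuasiFiniteAt.eq_of_le_of_under_eq (R := MvPolynomial (Fin n) A) (m.monotone hij.le) ?_
      have e := congrArg (fun a => a.asIdeal.comap μ) heq
      simp only [d, hcm] at e
      exact e
    let md : LTSeries (PrimeSpectrum (MvPolynomial (Fin n) (A ⧸ η))) := LTSeries.mk m.length d hd
    have hlastP : md.last ≤ (⟨ξ, inferInstance⟩ : PrimeSpectrum _) :=
      Ideal.map_mono (Ideal.comap_mono hm)
    constructor
    · have h1 := Order.length_le_height hlastP
      rw [← PrimeSpectrum.height_eq_orderHeight, ← hlen₀] at h1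
      exact_mod_cast h1
    · intro hne
      have h0 : (⊥ : Ideal (MvPolynomial (Fin n) (A ⧸ η))) < md.head.asIdeal := by
        refine bot_lt_iff_ne_bot.2 fun h => hne ?_
        have e := congrArg (Ideal.comap μ) h
        change (((m 0).asIdeal.comap φ.toRingHom).map μ).comap μ = _ at e
        rw [hcm, ← RingHom.ker_eq_comap_bot] at e
        exact e
      have h1 := Order.length_le_height (p := md.cons ⟨⊥, Ideal.isPrime_bot⟩ h0)
        (x := (⟨ξ, inferInstance⟩ : PrimeSpectrum _)) (by rw [RelSeries.last_cons]; exact hlastP)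
      rw [← PrimeSpectrum.height_eq_orderHeight, ← hlen₀] at h1
      have h2 : ((md.length + 1 : ℕ) : ℕ∞) ≤ l₀.length := by simpa using h1
      exact_mod_cast h2
  · by_contra hcon
    push Not at hcon
    let c : PrimeSpectrum (MvPolynomial (Fin n) (A ⧸ η)) → PrimeSpectrum (MvPolynomial (Fin n) A) :=
      PrimeSpectrum.comap μ
    have hc : StrictMono c := fun a b hab => lt_of_le_of_ne (Ideal.comap_mono hab.le) fun h =>
      hab.ne (PrimeSpectrum.comap_injective_of_surjective _ hμ h)
    let L₀ : PrimeSpectrum (MvPolynomial (Fin n) A) := PrimeSpectrum.comap φ.toRingHom g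
    have hhead : L₀ ≤ c l₀.head := show g.asIdeal.comap φ.toRingHom ≤ _ from hg ▸ Ideal.comap_mono bot_le
    have hclast : c l₀.last = PrimeSpectrum.comap φ.toRingHom ⟨q, inferInstance⟩ := by
      rw [hl₀]
      refine PrimeSpectrum.ext ?_
      change Ideal.comap μ ξ = _
      rw [Ideal.comap_map_of_surjective _ hμ, ← RingHom.ker_eq_comap_bot, sup_eq_left.2 (hle q inferInstance le_rfl)]
      rfl
    obtain ⟨l, hl0, hlast, hllen⟩ : ∃ l : LTSeries (PrimeSpectrum (MvPolynomial (Fin n) A)), l.head = L₀ ∧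
        l.last ≤ PrimeSpectrum.comap φ.toRingHom ⟨q, inferInstance⟩ ∧ l₀.length ≤ l.length := by
      by_cases h : c l₀.head = L₀
      · exact ⟨l₀.map c hc, by simpa using h, by simpa using hclast.le, by simp⟩
      · have hlt : L₀ < (l₀.map c hc).head := by simpa using lt_of_le_of_ne hhead (Ne.symm h)
        exact ⟨(l₀.map c hc).cons L₀ hlt, RelSeries.head_cons _ _ hlt,
          (RelSeries.last_cons _ _ hlt).trans_le (by simpa using hclast.le), by simp⟩
    have hpos : 0 < l₀.length := by
      have := hcon (RelSeries.singleton _ g) le_rfl (by simpa using hgq)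
      simpa using this
    have := length_le_of_lifts (A := MvPolynomial (Fin n) A) (⟨q, inferInstance⟩ : PrimeSpectrum B) (l₀.length - 1)
      {g} (Set.finite_singleton g)
      (fun m ⟨g', hg', hgm⟩ hm => by
        obtain rfl := Set.mem_singleton_iff.1 hg'
        have := hcon m hgm hm
        omega)
      L₀ 1 (fun h => L₀.2.ne_top ((Ideal.eq_top_iff_one _).2 h))
      (fun g' hg' => by rw [Set.mem_singleton_iff.1 hg']; exact le_rfl)
      (fun p' h1 h2 _ => by
        obtain ⟨Q, hQ, hgQ, hQq, hQL⟩ := hlift p'.asIdeal p'.2 h1 h2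
        exact ⟨g, rfl, ⟨Q, hQ⟩, hgQ, hQq, PrimeSpectrum.ext hQL⟩)
      l hl0 hlast
    omega

end Groth.Agent.GeomUnib
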