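import Groth.Agent.GeomUnib.DimFormula
import Groth.Agent.GeomUnib.EquidimLocal
import Groth.Agent.FibDim.Scheme

/-!
# Codimension and fibre dimension
-/

set_option autoImplicit false

universe u

open CategoryTheory CategoryTheory.Limits AlgebraicGeometry TopologicalSpace Order

namespace Groth.Agent.GeomUnib

open FibreDim

variable {X Y : Scheme.{u}} (f : X ⟶ Y) [LocallyOfFiniteType f]

/-- Saturated chains of generisations inside a fibre. -/
theorem exists_series_fibre {m x' : X} (hmx : m ⤳ x') (hf : f.base m = f.base x') :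
    ∃ a b : ℕ, fdim f m = a ∧ fdim f x' = b ∧
      ∃ l : LTSeries X, l.head = x' ∧ m ⤳ l.last ∧ a ≤ l.length + b := by
  obtain ⟨y, hy⟩ : ∃ y, y = f.base x' := ⟨_, rfl⟩
  obtain ⟨M, rfl⟩ : m ∈ Set.range (f.fiberι y) := by rw [f.range_fiberι]; exact hf.trans hy.symm
  obtain ⟨Q, rfl⟩ : x' ∈ Set.range (f.fiberι y) := by rw [f.range_fiberι]; exact hy.symm
  have hMQ : M ⤳ Q := (f.fiberι y).isEmbedding.toIsInducing.specializes_iff.1 hmx
  haveI : LocallyOfFiniteType (f.fiberToSpecResidueField y) :=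
    MorphismProperty.of_isPullback (P := @LocallyOfFiniteType)
      (IsPullback.of_hasPullback f (Y.fromSpecResidueField y)) ‹_›
  obtain ⟨W, hW, hQW, -⟩ := exists_isAffineOpen_mem_and_subset (X := f.fiber y) (x := Q) (U := ⊤) trivial
  obtain ⟨P, rfl⟩ : M ∈ Set.range hW.fromSpec := by rw [hW.range_fromSpec]; exact hMQ.mem_open W.2 hQW
  obtain ⟨p', rfl⟩ : Q ∈ Set.range hW.fromSpec := by rw [hW.range_fromSpec]; exact hQW
  have hle : P.asIdeal ≤ p'.asIdeal := (PrimeSpectrum.le_iff_specializes P p').2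
    (hW.fromSpec.isOpenEmbedding.toIsInducing.specializes_iff.1 hMQ)
  obtain ⟨ψ, hψ⟩ := Spec.map_surjective (hW.fromSpec ≫ f.fiberToSpecResidueField y)
  letI : Algebra (Y.residueField y) Γ(f.fiber y, W) := ψ.hom.toAlgebra
  haveI : Algebra.FiniteType (Y.residueField y) Γ(f.fiber y, W) :=
    RingHom.finiteType_algebraMap.mp
      ((HasRingHomProperty.Spec_iff (P := @LocallyOfFiniteType)).mp (hψ ▸ inferInstance))
  haveI : (p'.asIdeal.map (Ideal.Quotient.mk P.asIdeal)).IsPrime :=
    Ideal.map_isPrime_of_surjective Ideal.Quotient.mk_surjective (by rwa [Ideal.mk_ker])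
  have hdim : ∀ t : Spec Γ(f.fiber y, W),
      fdim f (f.fiberι y (hW.fromSpec t)) = ringKrullDim (Γ(f.fiber y, W) ⧸ t.asIdeal) := fun t => by
    rw [← dim_closure_fibre f y, FibDim.dim_closure_openImmersion (L := Y.residueField y) hW.fromSpec
      (f.fiberToSpecResidueField y) t]
    exact DimTrdeg.topologicalKrullDim_closure_inter _ t
  obtain ⟨s, r, hs, hr, l, hl, hlen⟩ := exists_series_of_domain (Y.residueField y)
    (Γ(f.fiber y, W) ⧸ P.asIdeal) (p'.asIdeal.map (Ideal.Quotient.mk P.asIdeal))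
  refine ⟨s, r, (hdim P).trans hs, ?_, ?_⟩
  · rw [hdim p', ← hr]
    exact ringKrullDim_eq_of_ringEquiv (DoubleQuot.quotQuotEquivQuotOfLE hle).symm
  let c : PrimeSpectrum (Γ(f.fiber y, W) ⧸ P.asIdeal) → X := fun a =>
    f.fiberι y (hW.fromSpec (PrimeSpectrum.comap (Ideal.Quotient.mk P.asIdeal) a))
  have hinj : Function.Injective c := fun a b h =>
    PrimeSpectrum.comap_injective_of_surjective _ Ideal.Quotient.mk_surjective
      (hW.fromSpec.isOpenEmbedding.injective ((f.fiberι y).isEmbedding.injective h))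
  have hc : ∀ a b, a < b → c b < c a := fun a b hab => by
    have h1 : c a ⤳ c b := (((PrimeSpectrum.le_iff_specializes
      (PrimeSpectrum.comap (Ideal.Quotient.mk P.asIdeal) a)
      (PrimeSpectrum.comap (Ideal.Quotient.mk P.asIdeal) b)).1 (Ideal.comap_mono hab.le)).map
        hW.fromSpec.continuous).map (f.fiberι y).continuous
    exact lt_iff_le_not_ge.2 ⟨h1, fun h => hab.ne (hinj (h1.antisymm h).eq)⟩
  refine ⟨LTSeries.mk l.length (fun i => c (l i.rev)) fun i j hij =>
    hc _ _ (l.strictMono (Fin.rev_lt_rev.2 hij)), ?_, ?_, hlen⟩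
  · show c (l (Fin.rev 0)) = _
    rw [Fin.rev_zero]
    show f.fiberι y (hW.fromSpec (PrimeSpectrum.comap (Ideal.Quotient.mk P.asIdeal) l.last)) = _
    congr 2
    refine PrimeSpectrum.ext ?_
    show l.last.asIdeal.comap (Ideal.Quotient.mk P.asIdeal) = p'.asIdeal
    rw [hl, Ideal.comap_map_of_surjective _ Ideal.Quotient.mk_surjective, ← RingHom.ker_eq_comap_bot,
      Ideal.mk_ker, sup_eq_left.2 hle]
  · show _ ⤳ c (l (Fin.rev (Fin.last l.length)))
    refine (((PrimeSpectrum.le_iff_specializes P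
      (PrimeSpectrum.comap (Ideal.Quotient.mk P.asIdeal) _)).1 ?_).map
        hW.fromSpec.continuous).map (f.fiberι y).continuous
    intro z hz
    show Ideal.Quotient.mk P.asIdeal z ∈ (l _).asIdeal
    rw [Ideal.Quotient.eq_zero_iff_mem.2 hz]
    exact zero_mem _

/-- Components of fibres of open subsets as maximal points in fibres. -/
theorem exists_maximal_of_component (U : X.Opens) (y : Y) {C : Set ↥((U.ι ≫ f).fiber y)}
    (hC : C ∈ irreducibleComponents ↥((U.ι ≫ f).fiber y)) :
    ∃ m ∈ U, f.base m = y ∧ topologicalKrullDim ↥C = fdim f m ∧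
      ∀ b : X, f.base b = f.base m → m ∈ closure {b} → b = m := by
  obtain ⟨c, hc⟩ := QuasiSober.sober hC.1 (isClosed_of_mem_irreducibleComponents _ hC)
  obtain ⟨u, hu⟩ : ∃ u, ((U.ι ≫ f).fiberι y).base c = u := ⟨_, rfl⟩
  have huy : (U.ι ≫ f).base u = y := by
    have : u ∈ Set.range ((U.ι ≫ f).fiberι y) := ⟨c, hu⟩
    rwa [(U.ι ≫ f).range_fiberι] at this
  refine ⟨U.ι.base u, u.2, huy, ?_, fun b hb hbm => ?_⟩
  · rw [← hc.def, FibreDim.dim_closure_fibre, ← hu]
    exact fdim_opens f U _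
  · have hbm' := specializes_iff_mem_closure.2 hbm
    let b₀ : ↥U.toScheme := ⟨b, hbm'.mem_open U.2 u.2⟩
    obtain ⟨d, hd⟩ : b₀ ∈ Set.range ((U.ι ≫ f).fiberι y) := by
      rw [(U.ι ≫ f).range_fiberι]; exact hb.trans huy
    have hdc : d ⤳ c := by
      refine ((U.ι ≫ f).fiberι y).isEmbedding.toIsInducing.specializes_iff.1 ?_
      rw [hd, hu]
      exact U.ι.isOpenEmbedding.toIsInducing.specializes_iff.1 hbm'
    have hsub : C ⊆ closure {d} := hc.def.symm.le.trans
      (closure_minimal (Set.singleton_subset_iff.2 hdc.mem_closure) isClosed_closure)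
    have hcd : c ⤳ d := hc.specializes (hC.2 isIrreducible_singleton.closure hsub (subset_closure rfl))
    rw [← hu, (hcd.antisymm hdc).eq, hd]
    rfl

/-- Facts from equidimensionality over an irreducible base. -/
theorem exists_equidim_data [IrreducibleSpace Y] {x : X} (hf : EGA43.IsEquidimAt f x) :
    ∃ (e : ℕ) (U : X.Opens), x ∈ U ∧ FlatMor.fibreDimAt f x = e ∧
      (∀ z ∈ U, (∀ b : X, b ⤳ z → z ⤳ b) → f.base z = genericPoint Y) ∧
      ∀ m ∈ U, (∀ b : X, f.base b = f.base m → m ∈ closure {b} → b = m) → fdim f m = e := by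
  obtain ⟨e, U, hxU, hcomp, hdim⟩ := hf
  have hm : ∀ m ∈ U, (∀ b : X, f.base b = f.base m → m ∈ closure {b} → b = m) → fdim f m = e := by
    intro m hmU hmax
    let u : ↥U.toScheme := ⟨m, hmU⟩
    obtain ⟨C, hC, m₀, hm₀, hm₀u, hdC⟩ := FibreDim.exists_component_gen (U.ι ≫ f) u
    obtain rfl : m₀ = u := U.ι.isOpenEmbedding.injective
      (hmax _ hm₀ (hm₀u.map U.ι.continuous).mem_closure)
    rw [fdim_opens, hdim _ C hC] at hdC
    exact hdC
  refine ⟨e, U, hxU, ?_, fun z hzU hz => ?_, hm⟩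
  · obtain ⟨n, hn, ⟨w, hw, hwx, hwn⟩, hall⟩ := exists_fibreDimAt_eq f x
    obtain ⟨m, hmy, hmw, hwm, hmax⟩ := exists_maximal_gen f w
    have he := hm m ((hmw.trans hwx).mem_open U.2 hxU) hmax
    refine hn.trans (le_antisymm ?_ ?_)
    · rw [← hwn, ← he]; exact hwm
    · rw [← he]; exact hall m (hmy.trans hw) (hmw.trans hwx)
  · haveI : QuasiSober ↥(U : Set X) := U.2.isOpenEmbedding_subtypeVal.quasiSober
    let u : ↥U.toScheme := ⟨z, hzU⟩
    obtain ⟨c, hc⟩ := QuasiSober.sober (isIrreducible_irreducibleComponent (x := u))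
      isClosed_irreducibleComponent
    have hcu := (hc.specializes mem_irreducibleComponent).map U.ι.continuous
    obtain rfl : c = u := U.ι.isOpenEmbedding.injective (hcu.antisymm (hz _ hcu)).eq
    obtain ⟨W, hW, -, hWeq⟩ := hcomp _ (irreducibleComponent_mem_irreducibleComponents u)
    have := hc.image (U.ι ≫ f).continuous
    rw [hWeq] at this
    rw [irreducibleComponents_eq_singleton, Set.mem_singleton_iff] at hW
    rw [hW] at this
    exact this.eq (genericPoint_spec Y)

/-- The codimension of a point is at least the fibre dimension minus its own, and is larger off the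
generic fibre. -/
theorem coheight_ge [IrreducibleSpace Y] {x x' : X} (hf : EGA43.IsEquidimAt f x) (h : x' ⤳ x) :
    ∃ e b : ℕ, FlatMor.fibreDimAt f x = e ∧ fdim f x' = b ∧
      (e : ℕ∞) ≤ Order.coheight x' + b ∧
      (f.base x' ≠ genericPoint Y → (e : ℕ∞) + 1 ≤ Order.coheight x' + b) := by
  obtain ⟨e, U, hxU, he, hgen, hm⟩ := exists_equidim_data f hf
  obtain ⟨m, hmy, hmx, -, hmax⟩ := exists_maximal_gen f x'
  have hmU : m ∈ U := (hmx.trans h).mem_open U.2 hxU
  obtain ⟨a, b, ha, hb, l, hl, hml, hlen⟩ := exists_series_fibre f hmx hmy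
  have hae : a = e := by exact_mod_cast ha.symm.trans (hm m hmU hmax)
  subst hae
  refine ⟨a, b, he, hb, ?_, fun hne => ?_⟩
  · have h1 := Order.length_le_coheight (p := l) (x := x') hl.ge
    refine le_trans ?_ (add_le_add h1 le_rfl)
    exact_mod_cast hlen
  · obtain ⟨z, hz⟩ := QuasiSober.sober (isIrreducible_irreducibleComponent (x := m))
      isClosed_irreducibleComponent
    have hzm := hz.specializes mem_irreducibleComponent
    have hzη := hgen z (hzm.mem_open U.2 hmU) fun b hb =>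
      maximal_of_component z _ (irreducibleComponent_mem_irreducibleComponents m) hz b hb
    have hlt : l.last < z := by
      refine lt_iff_le_not_ge.2 ⟨hzm.trans hml, fun hzl => hne ?_⟩
      have e1 : z = m := (hzm.antisymm (hml.trans hzl)).eq
      rw [← hmy, ← e1, hzη]
    have h1 := Order.length_le_coheight (p := l.snoc z hlt) (x := x')
      (by rw [RelSeries.head_snoc]; exact hl.ge)
    refine le_trans ?_ (add_le_add h1 le_rfl)
    have : (l.snoc z hlt).length = l.length + 1 := by simp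
    rw [this]
    exact_mod_cast (by omega : a + 1 ≤ l.length + 1 + b)

/-- Equidimensionality of a closed irreducible subset of minimal fibre dimension. -/
theorem isEquidimAt_of_irreducible [IrreducibleSpace Y] [IsLocallyNoetherian Y] (w a₀ : X)
    (ha₀ : ∀ c : X, a₀ ⤳ c) (hη : f.base a₀ = genericPoint Y) {d : ℕ}
    (h₀ : fdim f a₀ = d) (hw : FlatMor.fibreDimAt f w ≤ d) : EGA43.IsEquidimAt f w := by
  obtain ⟨U, hwU, hUle, -⟩ := exists_nhds_fdim_le f w
  haveI : QuasiSober ↥(U : Set X) := U.2.isOpenEmbedding_subtypeVal.quasiSober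
  refine ⟨d, U, hwU, fun Z hZ => ⟨Set.univ, ?_, trivial, ?_⟩, fun x' C hC => ?_⟩
  · rw [irreducibleComponents_eq_singleton]; rfl
  · obtain ⟨c, hc⟩ := QuasiSober.sober hZ.1 (isClosed_of_mem_irreducibleComponents _ hZ)
    let a : ↥U.toScheme := ⟨a₀, (ha₀ _).mem_open U.2 c.2⟩
    have hac : a ⤳ c := U.ι.isOpenEmbedding.toIsInducing.specializes_iff.1 (ha₀ _)
    have hca : c ⤳ a := maximal_of_component (Y := U.toScheme) c Z hZ hc a hac
    have hcη : (U.ι ≫ f).base c = genericPoint Y := by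
      rw [(hca.antisymm hac).eq]; exact hη
    exact (hc.image (U.ι ≫ f).continuous).def.symm.trans
      ((congrArg (fun t : Y => closure ({t} : Set Y)) hcη).trans (genericPoint_spec Y))
  · obtain ⟨m, hmU, -, hmC, hmax⟩ := exists_maximal_of_component f U _ hC
    rw [hmC]
    refine le_antisymm ((hUle m hmU).trans hw) ?_
    rw [← h₀, ← fibreDimAt_of_maximal f m hmax]
    exact fdim_le_fibreDimAt f (ha₀ m)

end Groth.Agent.GeomUnib
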