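import Groth.Agent.GeomUnib.Radical

/-!
# A radicial normalisation makes the local rings geometrically unibranch
-/

set_option autoImplicit false

universe u

open CategoryTheory CategoryTheory.Limits AlgebraicGeometry

namespace Groth.Agent.GeomUnib

theorem isGeomUnibranch_of_radicialAt {A K : Type u} [CommRing A] [IsDomain A] [IsLocalRing A] [Field K]
    [Algebra A K] [IsFractionRing A K] (A'' : Type u) [CommRing A''] [Algebra A A''] [Algebra A'' K]
    [IsScalarTower A A'' K] [IsIntegralClosure A'' A K]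
    (h : RadicialAt A'' (IsLocalRing.maximalIdeal A)) : CAlg2.IsGeomUnibranch A := by
  haveI := IsIntegralClosure.isIntegral_algebra (A := A'') A K
  have hker : RingHom.ker (RingHom.id A) ≤ nilradical A := by
    rw [(RingHom.injective_iff_ker_eq_bot _).1 Function.injective_id]; exact bot_le
  obtain ⟨ψ, hψ, hψc⟩ := exists_surjective_normRed (RingHom.id A) Function.surjective_id hker A'' (K := K)
  let e := RingEquiv.ofBijective ψ hψ
  have hred : IsDomain (CAlg2.red A) := by
    refine (Ideal.Quotient.isDomain_iff_prime _).2 ?_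
    rw [nilradical_eq_zero A]
    exact Ideal.isPrime_bot
  haveI hdom : IsDomain A'' := (IsIntegralClosure.algebraMap_injective A'' A K).isDomain _
  haveI : IsLocalRing A'' := by
    obtain ⟨m, hm⟩ := Ideal.exists_maximal A''
    refine IsLocalRing.of_unique_max_ideal ⟨m, hm, fun m' hm' => ?_⟩
    exact h.uniqueAt m' m hm'.isPrime hm.isPrime
      (IsLocalRing.eq_maximalIdeal (Ideal.isMaximal_comap_of_isIntegral_of_isMaximal (R := A) m'))
      (IsLocalRing.eq_maximalIdeal (Ideal.isMaximal_comap_of_isIntegral_of_isMaximal (R := A) m))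
  refine ⟨⟨hred, e.symm.isLocalRing⟩, fun m' _ x => ?_⟩
  let L₀ := CAlg2.normRed A ⧸ m'
  letI : Field L₀ := Ideal.Quotient.field m'
  let f : A →+* L₀ :=
    (Ideal.Quotient.mk m').comp ((algebraMap (CAlg2.red A) (CAlg2.normRed A)).comp (Ideal.Quotient.mk (nilradical A)))
  let π : A'' →+* L₀ := (Ideal.Quotient.mk m').comp e.symm.toRingHom
  have hπ : Function.Surjective π := Ideal.Quotient.mk_surjective.comp e.symm.surjective
  have hf : f = π.comp (algebraMap A A'') := by
    ext a
    have h1 := RingHom.congr_fun hψc a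
    change Ideal.Quotient.mk m' _ = Ideal.Quotient.mk m' (e.symm _)
    congr 1
    exact (e.eq_symm_apply).2 h1
  have hfint : f.IsIntegral := hf ▸ RingHom.IsIntegral.trans _ _ (algebraMap_isIntegral_iff.2 inferInstance)
    (RingHom.isIntegral_of_surjective π hπ)
  have hker : RingHom.ker f = IsLocalRing.maximalIdeal A := by
    refine IsLocalRing.eq_maximalIdeal ?_
    haveI : (RingHom.ker π).IsMaximal := RingHom.ker_isMaximal_of_surjective π hπ
    rw [hf, ← RingHom.comap_ker]
    exact Ideal.isMaximal_comap_of_isIntegral_of_isMaximal _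
  letI : Algebra (A ⧸ IsLocalRing.maximalIdeal A) L₀ :=
    (Ideal.Quotient.lift _ f fun a ha => RingHom.mem_ker.1 (hker.ge ha)).toAlgebra
  letI : Field (A ⧸ IsLocalRing.maximalIdeal A) := Ideal.Quotient.field _
  haveI : Algebra.IsIntegral (A ⧸ IsLocalRing.maximalIdeal A) L₀ := by
    refine algebraMap_isIntegral_iff.1 ?_
    exact RingHom.IsIntegral.tower_top (Ideal.Quotient.mk _) _
      (by rw [RingHom.algebraMap_toAlgebra, Ideal.Quotient.lift_comp_mk]; exact hfint)
  haveI : IsPurelyInseparable (A ⧸ IsLocalRing.maximalIdeal A) L₀ := by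
    rw [isPurelyInseparable_iff_subsingleton_emb, subsingleton_iff]
    intro σ τ
    refine AlgHom.coe_ringHom_injective ((RingHom.cancel_right hπ).1 (h _ _ _ (RingHom.ext fun a => ?_) ?_))
    · have hs := σ.commutes (Ideal.Quotient.mk _ a)
      have ht := τ.commutes (Ideal.Quotient.mk _ a)
      have hfa : algebraMap (A ⧸ IsLocalRing.maximalIdeal A) L₀ (Ideal.Quotient.mk _ a) = π (algebraMap A A'' a) :=
        RingHom.congr_fun hf a
      change σ (π (algebraMap A A'' a)) = τ (π (algebraMap A A'' a))
      rw [← hfa]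
      exact (σ.commutes _).trans (τ.commutes _).symm
    · rw [RingHom.comp_assoc, ← hf, RingHom.ker_comp_of_injective _ (RingHomClass.toRingHom σ).injective, hker]
  obtain ⟨n, y, hy⟩ := (isPurelyInseparable_iff_pow_mem (A ⧸ IsLocalRing.maximalIdeal A)
    (ringExpChar (A ⧸ IsLocalRing.maximalIdeal A))).1 inferInstance x
  obtain ⟨y, rfl⟩ := Ideal.Quotient.mk_surjective y
  haveI : ExpChar L₀ (ringExpChar (A ⧸ IsLocalRing.maximalIdeal A)) :=
    expChar_of_injective_algebraMap (algebraMap (A ⧸ IsLocalRing.maximalIdeal A) L₀).injective _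
  refine ⟨n, y, ?_⟩
  rw [ringExpChar.eq L₀ (ringExpChar (A ⧸ IsLocalRing.maximalIdeal A))]
  exact hy

theorem isGeomUnibranch_localization {A : Type u} [CommRing A] [IsDomain A] {K : Type u} [Field K]
    [Algebra A K] [IsFractionRing A K] {A' : Type u} [CommRing A'] [Algebra A A'] [Algebra A' K]
    [IsScalarTower A A' K] [IsIntegralClosure A' A K] (p : Ideal A) [p.IsPrime] (h : RadicialAt A' p) :
    CAlg2.IsGeomUnibranch (Localization.AtPrime p) := by
  obtain ⟨A'', _, _, _, _, _, _, _, j, hj, hepi, -⟩ := exists_extend (A' := A') (K := K) p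
  refine isGeomUnibranch_of_radicialAt (K := K) A'' fun L _ χ₁ χ₂ hχ hk => hepi L χ₁ χ₂ (h L _ _ ?_ ?_)
  · rw [RingHom.comp_assoc, RingHom.comp_assoc, hj, ← RingHom.comp_assoc, ← RingHom.comp_assoc, hχ]
  · rw [RingHom.comp_assoc, hj, ← RingHom.comp_assoc, ← RingHom.comap_ker, hk]
    exact Localization.AtPrime.under_maximalIdeal

theorem universallyInjective_iff_radicialAt {A A' : Type u} [CommRing A] [CommRing A'] [Algebra A A'] :
    UniversallyInjective (Spec.map (CommRingCat.ofHom (algebraMap A A'))) ↔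
      ∀ (p : Ideal A) [p.IsPrime], RadicialAt A' p := by
  rw [(tfae_universallyInjective (Spec.map (CommRingCat.ofHom (algebraMap A A')))).out 0 1 rfl rfl]
  constructor
  · intro h p _ L _ χ₁ χ₂ hχ _
    have e := @h L _ (Spec.map (CommRingCat.ofHom χ₁)) (Spec.map (CommRingCat.ofHom χ₂)) (by
      change Spec.map _ ≫ Spec.map _ = Spec.map _ ≫ Spec.map _
      rw [← Spec.map_comp, ← Spec.map_comp, ← CommRingCat.ofHom_comp, ← CommRingCat.ofHom_comp, hχ])
    rw [Spec.map_inj] at e
    exact congrArg CommRingCat.Hom.hom e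
  · intro h L _ α β e
    obtain ⟨a, rfl⟩ := Spec.map_surjective α
    obtain ⟨b, rfl⟩ := Spec.map_surjective β
    change Spec.map _ ≫ Spec.map _ = Spec.map _ ≫ Spec.map _ at e
    rw [← Spec.map_comp, ← Spec.map_comp, Spec.map_inj] at e
    haveI : (RingHom.ker (a.hom.comp (algebraMap A A'))).IsPrime := RingHom.ker_isPrime _
    rw [Spec.map_inj]
    exact CommRingCat.hom_ext (h _ L a.hom b.hom (congrArg CommRingCat.Hom.hom e) rfl)

theorem universallyInjective_of_geomUnibranch {A K A' : Type u} [CommRing A] [IsDomain A] [Field K]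
    [Algebra A K] [IsFractionRing A K] [CommRing A'] [Algebra A A'] [Algebra A' K]
    [IsScalarTower A A' K] [IsIntegralClosure A' A K]
    (h : ∀ (p : Ideal A) [p.IsPrime], CAlg2.IsGeomUnibranch (Localization.AtPrime p)) :
    UniversallyInjective (Spec.map (CommRingCat.ofHom (algebraMap A A'))) :=
  universallyInjective_iff_radicialAt.2 fun p _ =>
    radicialAt_of_localization (K := K) p (h p) (RingHom.id _) Function.surjective_id
      (by rw [(RingHom.injective_iff_ker_eq_bot _).1 Function.injective_id]; exact bot_le)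

end Groth.Agent.GeomUnib
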