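import Groth.Agent.GeomUnib.FibreGen
import Groth.Agent.GeomUnib.Equidim

/-!
# Criteria for universal openness at geometrically unibranch points
-/

set_option autoImplicit false

universe u

open CategoryTheory CategoryTheory.Limits AlgebraicGeometry TopologicalSpace

namespace Groth.Agent.GeomUnib

open FibreDim

variable {X Y : Scheme.{u}} (f : X ⟶ Y)

theorem isOpenAt_of_isUnivOpenAt {x : X} (h : EGA43.IsUnivOpenAt f x) : EGA43.IsOpenAt f.base x :=
  OpenAt.isOpenAt_of_isPullback (IsPullback.of_id_fst : IsPullback (𝟙 X) f f (𝟙 Y)) h x rfl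

/-- Every point of a fibre has a generisation in the fibre that is maximal there. -/
theorem exists_maximal_gen (x : X) :
    ∃ m : X, f.base m = f.base x ∧ m ⤳ x ∧ fdim f x ≤ fdim f m ∧
      ∀ x' : X, f.base x' = f.base m → m ∈ closure {x'} → x' = m := by
  let x' := f.asFiber x
  obtain ⟨m, hm⟩ := QuasiSober.sober (isIrreducible_irreducibleComponent (x := x'))
    isClosed_irreducibleComponent
  have hy : f.base (f.fiberι _ m) = f.base x := by
    have : f.fiberι _ m ∈ Set.range (f.fiberι (f.base x)) := ⟨m, rfl⟩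
    rwa [f.range_fiberι] at this
  have hmx : f.fiberι _ m ⤳ x := by
    have h := (hm.specializes mem_irreducibleComponent).map (f.fiberι (f.base x)).continuous
    exact (f.fiberι_asFiber x).subst (motive := fun z => f.fiberι _ m ⤳ z) h
  refine ⟨_, hy, hmx, fdim_mono f hmx hy, fun z hz hzm => ?_⟩
  obtain ⟨z', rfl⟩ : z ∈ Set.range (f.fiberι (f.base x)) := by
    rw [f.range_fiberι]; exact hz.trans hy
  have hzm' : z' ⤳ m := (f.fiberι _).isEmbedding.toIsInducing.specializes_iff.1 (specializes_iff_mem_closure.2 hzm)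
  have hsub : irreducibleComponent x' ⊆ closure {z'} := hm.def.symm.le.trans
    (closure_minimal (Set.singleton_subset_iff.2 hzm'.mem_closure) isClosed_closure)
  have hz' := (irreducibleComponent_mem_irreducibleComponents x').2 isIrreducible_singleton.closure hsub
    (subset_closure rfl)
  exact congrArg _ ((hm.specializes hz').antisymm hzm').eq.symm

/-- A generic point of the base component through a unibranch point. -/
theorem exists_nhds_of_component [IsLocallyNoetherian Y] {y : Y}
    (hy : CAlg2.IsGeomUnibranch (Y.presheaf.stalk y)) {Y₀ : Set Y} (hY₀ : Y₀ ∈ irreducibleComponents (Y : Type u))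
    (hyY : y ∈ Y₀) {η : Y} (hη : closure ({η} : Set Y) = Y₀) :
    ∃ U₀ : Y.Opens, y ∈ U₀ ∧ (U₀ : Set Y) ⊆ closure {η} :=
  exists_opens_subset_closure y η (specializes_iff_mem_closure.2 (hη.ge hyY))
    (fun η' h => maximal_of_component η Y₀ hY₀ hη η' h) hy.1.1

/-- A component with the right fibre dimension through `x` from a large generisation over `η`. -/
theorem exists_component_of_gen [LocallyOfFiniteType f] (x : X) {η : Y}
    (hη : ∀ η' : Y, η' ⤳ η → η ⤳ η') {v : X} (hvx : v ⤳ x) (hv : f.base v = η)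
    (hdim : FlatMor.fibreDimAt f x ≤ fdim f v) :
    ∃ Z ∈ irreducibleComponents (X : Type u), ∃ hx : x ∈ Z, closure (f.base '' Z) = closure {η} ∧
      ∀ η' : Y, closure ({η'} : Set Y) = closure {η} →
        FlatMor.localDim ↥(Z ∩ f.base ⁻¹' {f.base x}) ⟨x, ⟨hx, rfl⟩⟩ =
          topologicalKrullDim ↥(Z ∩ f.base ⁻¹' {η'}) := by
  obtain ⟨Z, hZ, z, hz, hzv, hfz, hzdim⟩ := exists_component_over f v (fun η' h => hv ▸ hη η' (hv ▸ h))
  have hZc := isClosed_of_mem_irreducibleComponents Z hZ
  have hx : x ∈ Z := (hzv.trans hvx).mem_closed hZc hz.mem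
  refine ⟨Z, hZ, hx, ?_, fun η' hη' => ?_⟩
  · rw [← (hz.image f.continuous).def]
    exact congrArg (fun a => closure ({a} : Set Y)) (hfz.trans hv)
  obtain rfl : η' = f.base z := (IsGenericPoint.eq (show IsGenericPoint η' (closure {η}) from hη')
    isGenericPoint_closure).trans (hfz.trans hv).symm
  rw [show topologicalKrullDim ↥(Z ∩ f.base ⁻¹' {f.base z}) = fdim f z by rw [fdim, hz.def]]
  refine le_antisymm ?_ (fdim_le_localDim f hZc hz.mem (hzv.trans hvx) _ _)
  obtain ⟨n, hn, ⟨w, hwZ, hw, hwx, hwn⟩, -⟩ := exists_localDim_eq f hZc (f.base x) x ⟨hx, rfl⟩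
  obtain ⟨k, hk, -, hall⟩ := exists_fibreDimAt_eq f x
  rw [hn, ← hwn]
  exact ((hall w hw hwx).trans_eq hk.symm).trans (hdim.trans hzdim)

/-- Universal openness from a component of the required dimension. -/
theorem isUnivOpenAt_of_component_data [IsLocallyNoetherian Y] [LocallyOfFiniteType f] (x : X)
    (hy : CAlg2.IsGeomUnibranch (Y.presheaf.stalk (f.base x)))
    {Y₀ : Set Y} (hY₀ : Y₀ ∈ irreducibleComponents (Y : Type u)) (hyY : f.base x ∈ Y₀)
    {Z : Set X} (hZ : Z ∈ irreducibleComponents (X : Type u)) (hx : x ∈ Z)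
    (hcl : closure (f.base '' Z) = Y₀)
    (hdim : ∀ η : Y, closure ({η} : Set Y) = Y₀ →
      FlatMor.localDim ↥(Z ∩ f.base ⁻¹' {f.base x}) ⟨x, ⟨hx, rfl⟩⟩ =
        topologicalKrullDim ↥(Z ∩ f.base ⁻¹' {η})) :
    EGA43.IsUnivOpenAt f x := by
  have hZc := isClosed_of_mem_irreducibleComponents Z hZ
  obtain ⟨z, hz⟩ := QuasiSober.sober hZ.1 hZc
  have hη : closure ({f.base z} : Set Y) = Y₀ := (hz.image f.continuous).def.trans hcl
  obtain ⟨U₀, hyU, hU₀⟩ := exists_nhds_of_component hy hY₀ hyY hη
  refine isUnivOpenAt_of_component f hZc hz hx U₀ hyU hU₀ ?_ hy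
  rw [hdim _ hη, fdim, hz.def]

/-- Universal openness on a fibre from a dense set of points of the fibre. -/
theorem isUnivOpenAt_of_dense (y : Y)
    (h : ∀ O : X.Opens, ((O : Set X) ∩ f.base ⁻¹' {y}).Nonempty →
      ∃ x₀ ∈ O, f.base x₀ = y ∧ EGA43.IsUnivOpenAt f x₀)
    (x : X) (hx : f.base x = y) : EGA43.IsUnivOpenAt f x := by
  intro Y' g x' hx' W hW
  obtain ⟨W', hW'W, hW', hxW'⟩ := mem_nhds_iff.1 hW
  let y' := (pullback.snd f g).base x'
  have hy' : g.base y' = y := by
    have := congrArg (fun k => k.base x') (pullback.condition (f := f) (g := g))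
    simp only [Scheme.Hom.comp_apply] at this
    rw [hx', hx] at this
    exact this.symm
  subst hy'
  have big := (IsPullback.of_hasPullback (pullback.snd f g) (Y'.fromSpecResidueField y')).paste_horiz
    (IsPullback.of_hasPullback f g)
  have small := IsPullback.of_hasPullback f (Y.fromSpecResidueField (g.base y'))
  have e : Y'.fromSpecResidueField y' ≫ g =
      Spec.map (g.residueFieldMap y') ≫ Y.fromSpecResidueField (g.base y') :=
    (g.SpecMap_residueFieldMap_fromSpecResidueField y').symm
  let h' : pullback (pullback.snd f g) (Y'.fromSpecResidueField y') ⟶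
      pullback f (Y.fromSpecResidueField (g.base y')) :=
    pullback.lift (pullback.fst _ _ ≫ pullback.fst f g) (pullback.snd _ _ ≫ Spec.map (g.residueFieldMap y'))
      (by rw [big.w, e, Category.assoc])
  have hh1 : h' ≫ pullback.fst _ _ = pullback.fst _ _ ≫ pullback.fst f g := pullback.lift_fst _ _ _
  have sq : IsPullback h' (pullback.snd _ _) (pullback.snd f (Y.fromSpecResidueField (g.base y')))
      (Spec.map (g.residueFieldMap y')) := by
    refine IsPullback.of_right ?_ (pullback.lift_snd _ _ _) small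
    rw [hh1, ← e]
    exact big
  haveI : UniversallyOpen h' := MorphismProperty.of_isPullback sq.flip (inferInstanceAs
    (UniversallyOpen (Spec.map (g.residueFieldMap y'))))
  obtain ⟨a, ha⟩ : x' ∈ Set.range ((pullback.snd f g).fiberι y') := by
    rw [(pullback.snd f g).range_fiberι]; rfl
  have hfib : ∀ b : ↥(pullback f (Y.fromSpecResidueField (g.base y'))),
      f.base ((pullback.fst f (Y.fromSpecResidueField (g.base y'))).base b) = g.base y' := fun b => by
    have : (f.fiberι (g.base y')).base b ∈ Set.range (f.fiberι (g.base y')) := ⟨b, rfl⟩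
    rw [f.range_fiberι] at this
    exact this
  obtain ⟨O, hO, hO'⟩ := (f.fiberι (g.base y')).isEmbedding.toIsInducing.isOpen_iff.1
    (h'.isOpenMap _ (hW'.preimage ((pullback.snd f g).fiberι y').continuous))
  have haO : (f.fiberι (g.base y')).base (h'.base a) ∈ O :=
    hO'.ge ⟨a, show _ ∈ W' from ha ▸ hxW', rfl⟩
  obtain ⟨x₀, hx₀O, hx₀y, hopen⟩ := h ⟨O, hO⟩ ⟨_, haO, hfib _⟩
  obtain ⟨b, rfl⟩ : x₀ ∈ Set.range (f.fiberι (g.base y')) := by
    rw [f.range_fiberι]; exact hx₀y
  obtain ⟨c, hcW, rfl⟩ := hO'.le (show b ∈ (f.fiberι (g.base y')).base ⁻¹' O from hx₀O)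
  have hc := congrArg (fun k => k.base c) hh1
  simp only [Scheme.Hom.comp_apply] at hc
  have hopen' : EGA43.IsOpenAt (pullback.snd f g).base (((pullback.snd f g).fiberι y').base c) :=
    hopen Y' g _ hc.symm
  have hcy : (pullback.snd f g).base (((pullback.snd f g).fiberι y').base c) = y' := by
    have : ((pullback.snd f g).fiberι y').base c ∈ Set.range ((pullback.snd f g).fiberι y') := ⟨c, rfl⟩
    rw [(pullback.snd f g).range_fiberι] at this
    exact this
  have := hopen' W' (hW'.mem_nhds hcW)
  rw [hcy] at this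
  exact Filter.mem_of_superset this (Set.image_mono hW'W)

end Groth.Agent.GeomUnib
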