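import Groth.Agent.GeomUnib.ComponentDim
import Groth.Agent.GeomUnib.EquidimLocal
import Groth.Agent.GeomUnib.CodimFibre
import Groth.Agent.LocalDim.Closure

/-!
# The dimension formula at a point in terms of generic points of fibre components
-/

set_option autoImplicit false
set_option linter.style.haveILetI false
set_option backward.isDefEq.respectTransparency.types false
set_option linter.unusedSectionVars false
set_option maxHeartbeats 1000000

universe u

open CategoryTheory CategoryTheory.Limits AlgebraicGeometry TopologicalSpace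

namespace Groth.Agent.GeomUnib.DimFormulaPoints

open Groth.Agent.DimFormulaIrr

/-- Finite dimensions are natural numbers. -/
theorem exists_nat_of_le {R : Type u} [CommRing R] [Nontrivial R] {N : ℕ} (h : ringKrullDim R ≤ N) :
    ∃ k : ℕ, ringKrullDim R = k ∧ k ≤ N := by
  obtain ⟨d, hd⟩ := WithBot.ne_bot_iff_exists.1 (ne_bot_of_le_ne_bot (by simp) (ringKrullDim_nonneg_of_nontrivial (R := R)))
  rw [← hd] at h
  have h' : d ≤ (N : ℕ∞) := by exact_mod_cast h
  obtain ⟨k, rfl⟩ := ENat.ne_top_iff_exists.1 (ne_top_of_le_ne_top (ENat.natCast_ne_top N) h')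
  exact ⟨k, hd.symm, by exact_mod_cast h'⟩

/-- Some minimal prime has quotient of full dimension. -/
theorem exists_minimal_full (R : Type u) [CommRing R] [IsLocalRing R] [IsNoetherianRing R] :
    ∃ P : PrimeSpectrum R, P.asIdeal ∈ minimalPrimes R ∧ ringKrullDim (R ⧸ P.asIdeal) = ringKrullDim R := by
  obtain ⟨l, hl, hlen⟩ := Ideal.exists_ltSeries_length_eq_height (IsLocalRing.maximalIdeal R)
  obtain ⟨P, hP, hPle⟩ := Ideal.exists_minimalPrimes_le (bot_le : (⊥ : Ideal R) ≤ l.head.asIdeal)
  refine ⟨⟨P, hP.1.1⟩, hP, le_antisymm (ringKrullDim_quotient_le _) ?_⟩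
  rw [← IsLocalRing.maximalIdeal_height_eq_ringKrullDim, ← hlen]
  have hmem : ∀ i, P ≤ (l i).asIdeal := fun i => hPle.trans (show l.head.asIdeal ≤ (l i).asIdeal from l.monotone (Fin.zero_le i))
  have hc : ∀ i, ((l i).asIdeal.map (Ideal.Quotient.mk P)).comap (Ideal.Quotient.mk P) = (l i).asIdeal := fun i => by
    rw [Ideal.comap_map_of_surjective _ Ideal.Quotient.mk_surjective, ← RingHom.ker_eq_comap_bot, Ideal.mk_ker,
      sup_eq_left.2 (hmem i)]
  let c : Fin (l.length + 1) → PrimeSpectrum (R ⧸ P) := fun i =>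
    ⟨(l i).asIdeal.map (Ideal.Quotient.mk P),
      Ideal.map_isPrime_of_surjective Ideal.Quotient.mk_surjective (by rw [Ideal.mk_ker]; exact hmem i)⟩
  have hsm : StrictMono c := fun i j hij => by
    have h1 : (l i).asIdeal < (l j).asIdeal := l.strictMono hij
    refine lt_of_le_of_ne (Ideal.map_mono h1.le) fun e => h1.ne ?_
    rw [← hc i, ← hc j]
    exact congrArg (fun a => a.asIdeal.comap (Ideal.Quotient.mk P)) e
  exact_mod_cast Order.LTSeries.length_le_krullDim (LTSeries.mk l.length c hsm)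

/-- A prime with quotient of full dimension is minimal. -/
theorem minimal_of_full {R : Type u} [CommRing R] (q : Ideal R) [q.IsPrime] {N : ℕ}
    (hR : ringKrullDim R = N) (hq : ringKrullDim (R ⧸ q) = N) : q ∈ minimalPrimes R := by
  obtain ⟨q₀, hq₀, hle⟩ := Ideal.exists_minimalPrimes_le (bot_le : (⊥ : Ideal R) ≤ q)
  rcases hle.eq_or_lt with rfl | hlt
  · exact hq₀
  exfalso
  have key : ∀ l : LTSeries (PrimeSpectrum (R ⧸ q)), l.length + 1 ≤ N := fun l => by
    let c : PrimeSpectrum (R ⧸ q) → PrimeSpectrum R := PrimeSpectrum.comap (Ideal.Quotient.mk q)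
    have hc : StrictMono c := fun a b hab => lt_of_le_of_ne (Ideal.comap_mono hab.le) fun h =>
      hab.ne (PrimeSpectrum.comap_injective_of_surjective _ Ideal.Quotient.mk_surjective h)
    have hh : (⟨q₀, hq₀.1.1⟩ : PrimeSpectrum R) < (l.map c hc).head :=
      lt_of_lt_of_le (show (⟨q₀, hq₀.1.1⟩ : PrimeSpectrum R) < ⟨q, inferInstance⟩ from hlt) fun x hx => by
        show Ideal.Quotient.mk q x ∈ l.head.asIdeal
        rw [Ideal.Quotient.eq_zero_iff_mem.2 hx]
        exact zero_mem _
    have h := (Order.LTSeries.length_le_krullDim (RelSeries.cons (l.map c hc) ⟨q₀, hq₀.1.1⟩ hh)).trans hR.le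
    rw [RelSeries.cons_length] at h
    exact_mod_cast h
  haveI : Nontrivial (R ⧸ q) := Ideal.Quotient.nontrivial_iff.2 (Ideal.IsPrime.ne_top inferInstance)
  have h0 : 1 ≤ N := (Nat.le_add_left 1 _).trans (key (RelSeries.singleton _ (Classical.arbitrary _)))
  have h1 : ringKrullDim (R ⧸ q) ≤ (N - 1 : ℕ) := iSup_le fun l => by
    have := key l
    exact_mod_cast (show l.length ≤ N - 1 by omega)
  rw [hq] at h1
  have : N ≤ N - 1 := by exact_mod_cast h1
  omega

variable {X Y : Scheme.{u}} (f : X ⟶ Y)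

/-- The image of a point of the spectrum of a stalk. -/
theorem apply_fromSpecStalk (x : X) (P : PrimeSpectrum (X.presheaf.stalk x)) :
    f.base ((X.fromSpecStalk x).base P) =
      (Y.fromSpecStalk (f.base x)).base (PrimeSpectrum.comap (f.stalkMap x).hom P) := by
  show (X.fromSpecStalk x ≫ f) P = (Spec.map (f.stalkMap x) ≫ Y.fromSpecStalk (f x)) P
  rw [Scheme.SpecMap_stalkMap_fromSpecStalk]

/-- A minimal prime of the stalk gives a maximal point. -/
theorem maximal_of_minimal {Z : Scheme.{u}} (x : Z) {P : PrimeSpectrum (Z.presheaf.stalk x)}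
    (hP : P.asIdeal ∈ minimalPrimes (Z.presheaf.stalk x)) : FibDim.IsMax' ((Z.fromSpecStalk x).base P) :=
  fun z hz => (hz.antisymm (maximal_fromSpecStalk x hP z hz)).eq

/-- Dimensions of quotients of stalks at equal points by primes with the same image. -/
theorem dim_quotient_congr {y₁ y₂ : Y} (h : y₁ = y₂) (Q₁ : PrimeSpectrum (Y.presheaf.stalk y₁))
    (Q₂ : PrimeSpectrum (Y.presheaf.stalk y₂)) (hQ : (Y.fromSpecStalk y₁).base Q₁ = (Y.fromSpecStalk y₂).base Q₂) :
    ringKrullDim (Y.presheaf.stalk y₁ ⧸ Q₁.asIdeal) = ringKrullDim (Y.presheaf.stalk y₂ ⧸ Q₂.asIdeal) := by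
  subst h
  rw [(Y.fromSpecStalk y₁).isEmbedding.injective hQ]

variable [IsLocallyNoetherian Y] [LocallyOfFiniteType f]

/-- The numbers attached to a point. -/
theorem exists_numbers (x : X) :
    ∃ n m a b : ℕ, (letI := (f.residueFieldMap x).hom.toAlgebra
      Algebra.trdeg (Y.residueField (f x)) (X.residueField x)) = n ∧
      FibreDim.fdim f x = n ∧ FlatMor.fibreDimAt f x = m ∧ n ≤ m ∧
      ringKrullDim (X.presheaf.stalk x) = a ∧ ringKrullDim (Y.presheaf.stalk (f.base x)) = b ∧
      ringKrullDim ((f.fiber (f.base x)).presheaf.stalk (f.asFiber x)) = (m - n : ℕ) ∧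
      a + n ≤ b + m := by
  haveI := LocallyOfFiniteType.isLocallyNoetherian f
  obtain ⟨n, hn, hn'⟩ := exists_trdeg_fibre f (f x) (f.asFiber x) x (f.fiberι_asFiber x)
  obtain ⟨m, hm, ⟨w, hw, hwx, hwm⟩, hall⟩ := FibreDim.exists_fibreDimAt_eq f x
  obtain ⟨a, -, ha⟩ := exists_coheight_eq x
  obtain ⟨b, -, hb⟩ := exists_coheight_eq (f.base x)
  have hfn : FibreDim.fdim f x = n := by rw [EquidimFlat.fdim_eq_fibre_closure]; exact hn'
  have hnm : n ≤ m := by
    have := hall x rfl specializes_rfl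
    rw [hfn] at this
    exact_mod_cast this
  haveI : LocallyOfFiniteType (f.fiberToSpecResidueField (f x)) :=
    MorphismProperty.of_isPullback (P := @LocallyOfFiniteType) (IsPullback.of_hasPullback f (Y.fromSpecResidueField (f x))) inferInstance
  have hF : ringKrullDim ((f.fiber (f.base x)).presheaf.stalk (f.asFiber x)) + n = (m : WithBot ℕ∞) := by
    rw [← hn', ← LocalDim.localDim_eq_stalk_add_closure (k := Y.residueField (f x)) (f.fiberToSpecResidueField (f x)) (f.asFiber x)]
    exact hm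
  refine ⟨n, m, a, b, hn, hfn, hm, hnm, ha, hb, add_natCast_cancel (n := n) ?_, ?_⟩
  · rw [hF, ← Nat.cast_add, Nat.sub_add_cancel hnm]
  · obtain ⟨P, hP, hPa⟩ := exists_minimal_full (X.presheaf.stalk x)
    obtain ⟨E, hE, hle, -⟩ := ComponentDim.component_dim f x n hn P
    obtain ⟨c, hc, hcb⟩ := exists_nat_of_le ((ringKrullDim_quotient_le (P.asIdeal.comap (f.stalkMap x).hom)).trans hb.le)
    have hEm : FibreDim.fdim f ((X.fromSpecStalk x).base P) ≤ (m : WithBot ℕ∞) :=
      hm ▸ FibreDim.fdim_le_fibreDimAt f (Scheme.range_fromSpecStalk.le ⟨P, rfl⟩)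
    rw [hE] at hEm
    have hEm' : E ≤ m := by exact_mod_cast hEm
    rw [hPa, ha, hc] at hle
    have : a + n ≤ c + E := by exact_mod_cast hle
    omega

/-- The equation at a point in natural numbers. -/
theorem eq_iff {x : X} {n m a b : ℕ} (hnm : n ≤ m) (ha : ringKrullDim (X.presheaf.stalk x) = a)
    (hb : ringKrullDim (Y.presheaf.stalk (f.base x)) = b)
    (hF : ringKrullDim ((f.fiber (f.base x)).presheaf.stalk (f.asFiber x)) = (m - n : ℕ)) :
    ringKrullDim (X.presheaf.stalk x) = ringKrullDim (Y.presheaf.stalk (f.base x)) +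
      ringKrullDim ((f.fiber (f.base x)).presheaf.stalk (f.asFiber x)) ↔ a + n = b + m := by
  rw [ha, hb, hF, ← Nat.cast_add, Nat.cast_inj]
  omega

/-- A component realising the dimension formula dominates with full fibre dimension. -/
theorem component_of_eq (x : X)
    (h : ringKrullDim (X.presheaf.stalk x) = ringKrullDim (Y.presheaf.stalk (f.base x)) +
      ringKrullDim ((f.fiber (f.base x)).presheaf.stalk (f.asFiber x)))
    (P : PrimeSpectrum (X.presheaf.stalk x))
    (hP : ringKrullDim (X.presheaf.stalk x ⧸ P.asIdeal) = ringKrullDim (X.presheaf.stalk x)) :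
    ringKrullDim (Y.presheaf.stalk (f.base x) ⧸ P.asIdeal.comap (f.stalkMap x).hom) =
        ringKrullDim (Y.presheaf.stalk (f.base x)) ∧
      P.asIdeal.comap (f.stalkMap x).hom ∈ minimalPrimes (Y.presheaf.stalk (f.base x)) ∧
      FibDim.IsMax' (f.base ((X.fromSpecStalk x).base P)) ∧
      FibreDim.fdim f ((X.fromSpecStalk x).base P) = FlatMor.fibreDimAt f x := by
  obtain ⟨n, m, a, b, hn, -, hm, hnm, ha, hb, hF, -⟩ := exists_numbers f x
  have heq := (eq_iff f hnm ha hb hF).1 h
  obtain ⟨E, hE, hle, -⟩ := ComponentDim.component_dim f x n hn P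
  obtain ⟨c, hc, hcb⟩ := exists_nat_of_le ((ringKrullDim_quotient_le (P.asIdeal.comap (f.stalkMap x).hom)).trans hb.le)
  have hEm : FibreDim.fdim f ((X.fromSpecStalk x).base P) ≤ (m : WithBot ℕ∞) :=
    hm ▸ FibreDim.fdim_le_fibreDimAt f (Scheme.range_fromSpecStalk.le ⟨P, rfl⟩)
  rw [hE] at hEm
  have hEm' : E ≤ m := by exact_mod_cast hEm
  rw [hP, ha, hc] at hle
  have hle' : a + n ≤ c + E := by exact_mod_cast hle
  obtain rfl : c = b := by omega
  obtain rfl : E = m := by omega
  have hmin := minimal_of_full (P.asIdeal.comap (f.stalkMap x).hom) hb hc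
  refine ⟨hc.trans hb.symm, hmin, ?_, hE.trans hm.symm⟩
  rw [apply_fromSpecStalk]
  exact maximal_of_minimal (f.base x) hmin

/-- The dimension formula from a component, over a universally catenary point. -/
theorem eq_of_component (x : X) (hcat : CAlg.IsUniversallyCatenary (Y.presheaf.stalk (f.base x)))
    (P : PrimeSpectrum (X.presheaf.stalk x))
    (hY : ringKrullDim (Y.presheaf.stalk (f.base x) ⧸ P.asIdeal.comap (f.stalkMap x).hom) =
        ringKrullDim (Y.presheaf.stalk (f.base x)))
    (hd : FibreDim.fdim f ((X.fromSpecStalk x).base P) = FlatMor.fibreDimAt f x) :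
    ringKrullDim (X.presheaf.stalk x) = ringKrullDim (Y.presheaf.stalk (f.base x)) +
      ringKrullDim ((f.fiber (f.base x)).presheaf.stalk (f.asFiber x)) := by
  obtain ⟨n, m, a, b, hn, -, hm, hnm, ha, hb, hF, hab⟩ := exists_numbers f x
  refine (eq_iff f hnm ha hb hF).2 ?_
  obtain ⟨E, hE, -, heq⟩ := ComponentDim.component_dim f x n hn P
  obtain ⟨a', ha', haa⟩ := exists_nat_of_le ((ringKrullDim_quotient_le P.asIdeal).trans ha.le)
  rw [hE, hm] at hd
  obtain rfl : E = m := by exact_mod_cast hd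
  have h1 := heq hcat
  rw [hY, ha', hb] at h1
  have : a' + n = b + E := by exact_mod_cast h1
  omega

/-- Fibre points under a generisation with fibre dimension at least the generic one. -/
theorem exists_fibre_point {ξ x : X} (h : ξ ⤳ x) :
    ∃ w : X, f.base w = f.base x ∧ ξ ⤳ w ∧ w ⤳ x ∧ FibreDim.fdim f ξ ≤ FibreDim.fdim f w := by
  let Z : Closeds X := ⟨closure {ξ}, isClosed_closure⟩
  let I := Scheme.IdealSheafData.vanishingIdeal Z
  let i := I.subschemeι
  have hr : Set.range i = closure {ξ} := by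
    rw [Scheme.IdealSheafData.range_subschemeι]
    exact Scheme.IdealSheafData.coe_support_vanishingIdeal _
  obtain ⟨ξ', hξ'⟩ := hr.ge (subset_closure rfl)
  obtain ⟨x', hx'⟩ := hr.ge h.mem_closure
  have hclemb : Topology.IsClosedEmbedding i := i.isClosedEmbedding
  have hfd : ∀ t, FibreDim.fdim (i ≫ f) t = FibreDim.fdim f (i t) := fun t => by
    rw [FibreDim.fdim, ← FibreDim.dim_image hclemb.isEmbedding]
    refine congrArg (fun s : Set X => topologicalKrullDim ↥s) ?_
    rw [show (i ≫ f).base ⁻¹' {(i ≫ f).base t} = i ⁻¹' (f.base ⁻¹' {f.base (i t)}) from rfl,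
      Set.image_inter_preimage, ← hclemb.closure_image_eq, Set.image_singleton]
  have hsp : ξ' ⤳ x' := hclemb.isEmbedding.toIsInducing.specializes_iff.1 (by rw [hξ', hx']; exact h)
  obtain ⟨m, hm, ⟨w, hw, hwx, hwm⟩, -⟩ := FibreDim.exists_fibreDimAt_eq (i ≫ f) x'
  refine ⟨i w, ?_, specializes_iff_mem_closure.2 (hr.le ⟨w, rfl⟩), hx' ▸ hwx.map i.continuous, ?_⟩
  · rw [← hx']; exact hw
  · rw [← hξ', ← hfd, ← hfd]
    exact (FibreDim.fdim_le_fibreDimAt (i ≫ f) hsp).trans (hm.trans hwm.symm).le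

/-- A point of fibre dimension the local one is maximal in its fibre. -/
theorem maximal_of_fdim {z : X} (h : FibreDim.fdim f z = FlatMor.fibreDimAt f z) :
    ∀ z' : X, f.base z' = f.base z → z' ⤳ z → z' = z := by
  intro z' hz' hzz
  obtain ⟨n, m, a, b, -, hn, hm, -, -, -, hF, -⟩ := exists_numbers f z
  rw [hn, hm] at h
  obtain rfl : n = m := by exact_mod_cast h
  rw [Nat.sub_self, ringKrullDim_stalk_eq_coheight] at hF
  have h0 : Order.coheight (f.asFiber z) = 0 := by exact_mod_cast hF
  obtain ⟨w, rfl⟩ := (f.range_fiberι (f.base z)).ge hz'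
  have hw : w ⤳ f.asFiber z := (f.fiberι _).isEmbedding.toIsInducing.specializes_iff.1 (by
    rw [f.fiberι_asFiber]; exact hzz)
  have hmax : f.asFiber z ⤳ w := (Order.coheight_eq_zero.1 h0) hw
  have h1 := hmax.map (f.fiberι _).continuous
  rw [f.fiberι_asFiber] at h1
  exact (hzz.antisymm h1).eq

/-- The criterion by generic points of fibre components. -/
theorem eq_iff_exists_generic (x : X) (hcat : CAlg.IsUniversallyCatenary (Y.presheaf.stalk (f.base x))) :
    ringKrullDim (X.presheaf.stalk x) = ringKrullDim (Y.presheaf.stalk (f.base x)) +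
        ringKrullDim ((f.fiber (f.base x)).presheaf.stalk (f.asFiber x)) ↔
      ∃ z : X, f.base z = f.base x ∧ z ⤳ x ∧ (∀ z' : X, f.base z' = f.base x → z' ⤳ z → z' = z) ∧
        FlatMor.fibreDimAt f z = FlatMor.fibreDimAt f x ∧
        ringKrullDim (X.presheaf.stalk z) = ringKrullDim (Y.presheaf.stalk (f.base z)) := by
  haveI := LocallyOfFiniteType.isLocallyNoetherian f
  constructor
  · intro h
    obtain ⟨P, -, hP⟩ := exists_minimal_full (X.presheaf.stalk x)
    obtain ⟨hY, -, -, hd⟩ := component_of_eq f x h P hP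
    set ξ := (X.fromSpecStalk x).base P with hξdef
    obtain ⟨w, hw, hξw, hwx, hle⟩ := exists_fibre_point f (Scheme.range_fromSpecStalk.le ⟨P, rfl⟩ : ξ ⤳ x)
    obtain ⟨m, hm, -, hall⟩ := FibreDim.exists_fibreDimAt_eq f x
    obtain ⟨mw, hmw, ⟨v, hv, hvw, hvm⟩, -⟩ := FibreDim.exists_fibreDimAt_eq f w
    have h1 := hall v (hv.trans hw) (hvw.trans hwx)
    have h2 := FibreDim.fdim_le_fibreDimAt f (specializes_rfl : w ⤳ w)
    rw [hd, hm] at hle
    rw [hvm] at h1
    rw [hmw] at h2
    have hfw : FibreDim.fdim f w = FlatMor.fibreDimAt f w :=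
      le_antisymm (hmw ▸ h2) (hmw ▸ h1.trans hle)
    have hwx' : FlatMor.fibreDimAt f w = FlatMor.fibreDimAt f x := by
      rw [hm]; exact le_antisymm (hmw ▸ h1) (hle.trans hfw.le)
    have hmax := maximal_of_fdim f hfw
    refine ⟨w, hw, hwx, fun z' hz' hs => hmax z' (hz'.trans hw.symm) hs, hwx', ?_⟩
    obtain ⟨P', hP'⟩ := Scheme.range_fromSpecStalk.ge hξw
    have h3 := eq_of_component f w (hw ▸ hcat) P' ((dim_quotient_congr hw (PrimeSpectrum.comap (f.stalkMap w).hom P')
      (PrimeSpectrum.comap (f.stalkMap x).hom P)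
        (by rw [← apply_fromSpecStalk, ← apply_fromSpecStalk, hP'])).trans (hY.trans (by rw [hw])))
      (by rw [hP', hd, hwx'])
    obtain ⟨n, m', a, b, -, hn, hm', -, ha, hb, hF, -⟩ := exists_numbers f w
    rw [hn, hm'] at hfw
    obtain rfl : n = m' := by exact_mod_cast hfw
    rw [hF, Nat.sub_self, Nat.cast_zero, add_zero] at h3
    exact h3
  · rintro ⟨z, hz, hzx, hzmax, hzd, hzdim⟩
    have hzf := FibreDim.fibreDimAt_of_maximal f z fun z' hz' hm =>
      hzmax z' (hz'.trans hz) (specializes_iff_mem_closure.2 hm)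
    obtain ⟨n, m, a, b, -, hn, hm, hnm, ha, hb, hF, -⟩ := exists_numbers f z
    rw [hn, hm] at hzf
    obtain rfl : n = m := (by exact_mod_cast hzf.symm)
    obtain ⟨P', -, hP'⟩ := exists_minimal_full (X.presheaf.stalk z)
    obtain ⟨hY, -, -, hd⟩ := component_of_eq f z (by rw [hF, Nat.sub_self, Nat.cast_zero, add_zero]; exact hzdim) P' hP'
    have hsp : (X.fromSpecStalk z).base P' ⤳ z := Scheme.range_fromSpecStalk.le ⟨P', rfl⟩
    obtain ⟨P, hP⟩ := Scheme.range_fromSpecStalk.ge (hsp.trans hzx)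
    refine eq_of_component f x hcat P ((dim_quotient_congr hz.symm (PrimeSpectrum.comap (f.stalkMap x).hom P)
      (PrimeSpectrum.comap (f.stalkMap z).hom P')
        (by rw [← apply_fromSpecStalk, ← apply_fromSpecStalk, hP])).trans (hY.trans (by rw [hz]))) ?_
    rw [hP, hd, hzd]

/-- Over an irreducible base the components through a generic point of a fibre. -/
theorem exists_dominating_component [IrreducibleSpace Y] {z : X}
    (hmax : ∀ z' : X, f.base z' = f.base z → z ∈ closure {z'} → z' = z)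
    (h : ringKrullDim (X.presheaf.stalk z) = ringKrullDim (Y.presheaf.stalk (f.base z))) :
    ∃ ξ : X, FibDim.IsMax' ξ ∧ ξ ⤳ z ∧ f.base ξ = genericPoint Y ∧
      FibreDim.fdim f ξ = FlatMor.fibreDimAt f z := by
  haveI := LocallyOfFiniteType.isLocallyNoetherian f
  obtain ⟨n, m, a, b, -, hn, hm, -, -, -, hF, -⟩ := exists_numbers f z
  have hzf := FibreDim.fibreDimAt_of_maximal f z hmax
  rw [hn, hm] at hzf
  obtain rfl : n = m := (by exact_mod_cast hzf.symm)
  obtain ⟨P, hPmin, hP⟩ := exists_minimal_full (X.presheaf.stalk z)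
  obtain ⟨-, -, hη, hd⟩ := component_of_eq f z (by rw [hF, Nat.sub_self, Nat.cast_zero, add_zero]; exact h) P hP
  exact ⟨_, maximal_of_minimal z hPmin, Scheme.range_fromSpecStalk.le ⟨P, rfl⟩,
    (hη _ (genericPoint_specializes _)).symm, hd⟩

/-- Equality at the generic points of the fibre gives it at all points of the fibre. -/
theorem eq_of_forall_generic (x : X) (hcat : CAlg.IsUniversallyCatenary (Y.presheaf.stalk (f.base x)))
    (hb : ∀ z : X, f.base z = f.base x →
      ringKrullDim ((f.fiber (f.base z)).presheaf.stalk (f.asFiber z)) = 0 →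
      ringKrullDim (X.presheaf.stalk z) = ringKrullDim (Y.presheaf.stalk (f.base z))) :
    ringKrullDim (X.presheaf.stalk x) = ringKrullDim (Y.presheaf.stalk (f.base x)) +
      ringKrullDim ((f.fiber (f.base x)).presheaf.stalk (f.asFiber x)) := by
  obtain ⟨m, hm, ⟨w, hw, hwx, hwm⟩, hall⟩ := FibreDim.exists_fibreDimAt_eq f x
  obtain ⟨z, hzy, hzw, hwz, hmax⟩ := exists_maximal_gen f w
  have h1 := FibreDim.fibreDimAt_of_maximal f z hmax
  have hzd : FibreDim.fdim f z = m := le_antisymm (hall z (hzy.trans hw) (hzw.trans hwx)) (hwm.ge.trans hwz)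
  refine (eq_iff_exists_generic f x hcat).2 ⟨z, hzy.trans hw, hzw.trans hwx,
    fun z' hz' hs => hmax z' (hz'.trans (hzy.trans hw).symm) (specializes_iff_mem_closure.1 hs),
    h1.trans (hzd.trans hm.symm), hb z (hzy.trans hw) ?_⟩
  obtain ⟨n, m', a, b, -, hn, hm', -, -, -, hF, -⟩ := exists_numbers f z
  rw [hn, hm'] at h1
  obtain rfl : n = m' := by exact_mod_cast h1.symm
  rw [hF, Nat.sub_self, Nat.cast_zero]

end Groth.Agent.GeomUnib.DimFormulaPoints
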