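import Groth.Agent.UnivOpen.Core
import Groth.Agent.FibreDim.Chart

/-!
# Lifting generisations bounds dimensions
-/

set_option autoImplicit false

universe u

open Order

namespace Groth.Agent.GeomUnib

variable {A B : Type u} [CommRing A] [CommRing B] [Algebra A B]

/-- Between primes `c0 < c1 < c2` of a Noetherian ring there is a prime avoiding `t ∉ c0`. -/
theorem exists_between_avoiding [IsNoetherianRing A] (c0 c1 c2 : Ideal A) [c0.IsPrime] [c1.IsPrime] [c2.IsPrime]
    (h01 : c0 < c1) (h12 : c1 < c2) {t : A} (ht : t ∉ c0) :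
    ∃ p : Ideal A, p.IsPrime ∧ c0 < p ∧ p < c2 ∧ t ∉ p := by
  by_cases hc : t ∈ c1
  swap
  · exact ⟨c1, inferInstance, h01, h12, hc⟩
  by_contra hcon
  push Not at hcon
  have hk : RingHom.ker (Ideal.Quotient.mk c0) = c0 := Ideal.mk_ker
  have hsurj : Function.Surjective (Ideal.Quotient.mk c0) := Ideal.Quotient.mk_surjective
  haveI h2 : (c2.map (Ideal.Quotient.mk c0)).IsPrime :=
    Ideal.map_isPrime_of_surjective hsurj (by rw [hk]; exact (h01.trans h12).le)
  haveI h1 : (c1.map (Ideal.Quotient.mk c0)).IsPrime :=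
    Ideal.map_isPrime_of_surjective hsurj (by rw [hk]; exact h01.le)
  let D := Localization.AtPrime (c2.map (Ideal.Quotient.mk c0))
  let ι : A →+* D := (algebraMap (A ⧸ c0) D).comp (Ideal.Quotient.mk c0)
  have hinj : Function.Injective (algebraMap (A ⧸ c0) D) :=
    IsLocalization.injective D (c2.map (Ideal.Quotient.mk c0)).primeCompl_le_nonZeroDivisors
  have hιker : RingHom.ker ι = c0 := by rw [RingHom.ker_comp_of_injective _ hinj, hk]
  have hι0 : ι t ≠ 0 := fun h => ht (hιker ▸ RingHom.mem_ker.2 h)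
  have hback : ∀ R : Ideal D, R.IsPrime → R ≠ ⊥ → c0 < R.comap ι ∧ R.comap ι ≤ c2 := by
    intro R hR hR0
    constructor
    · refine lt_of_le_of_ne (fun a ha => ?_) fun heq => hR0 ?_
      · have : ι a = 0 := RingHom.mem_ker.1 (hιker.ge ha)
        rw [Ideal.mem_comap, this]; exact zero_mem _
      · refine (IsLocalization.orderEmbedding (c2.map (Ideal.Quotient.mk c0)).primeCompl D).injective ?_
        change R.comap (algebraMap (A ⧸ c0) D) = Ideal.comap _ ⊥
        refine Ideal.comap_injective_of_surjective _ hsurj ?_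
        change R.comap ι = (Ideal.comap _ ⊥).comap _
        refine heq.symm.trans ?_
        rw [← RingHom.ker_eq_comap_bot, (RingHom.injective_iff_ker_eq_bot _).1 hinj, ← RingHom.ker_eq_comap_bot,
          hk]
    · intro a ha
      have hle : R ≤ IsLocalRing.maximalIdeal D := IsLocalRing.le_maximalIdeal hR.ne_top
      have h : Ideal.Quotient.mk c0 a ∈ c2.map (Ideal.Quotient.mk c0) :=
        (IsLocalization.AtPrime.to_map_mem_maximal_iff D (c2.map (Ideal.Quotient.mk c0)) _).1 (hle ha)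
      rw [← Ideal.mem_comap, Ideal.comap_map_of_surjective _ hsurj, ← RingHom.ker_eq_comap_bot, hk,
        sup_eq_left.2 (h01.trans h12).le] at h
      exact h
  have hall : ∀ R : Ideal D, R.IsPrime → R ≠ ⊥ → ι t ∈ R := by
    intro R hR hR0
    obtain ⟨hlt, hle⟩ := hback R hR hR0
    rcases lt_or_eq_of_le hle with h | h
    · exact hcon (R.comap ι) inferInstance hlt h
    · exact Ideal.mem_comap.1 (h.ge (h12.le hc))
  let R1 := (c1.map (Ideal.Quotient.mk c0)).map (algebraMap (A ⧸ c0) D)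
  have hle1 : c1.map (Ideal.Quotient.mk c0) ≤ c2.map (Ideal.Quotient.mk c0) := Ideal.map_mono h12.le
  have hd : Disjoint ((c2.map (Ideal.Quotient.mk c0)).primeCompl : Set (A ⧸ c0))
      (c1.map (Ideal.Quotient.mk c0)) := Set.disjoint_left.2 fun z hz hz' => hz (hle1 hz')
  have hcomap : R1.comap ι = c1 := by
    change ((Ideal.map _ _).comap (algebraMap (A ⧸ c0) D)).comap (Ideal.Quotient.mk c0) = c1
    rw [show Ideal.comap (algebraMap (A ⧸ c0) D) ((c1.map (Ideal.Quotient.mk c0)).map (algebraMap (A ⧸ c0) D)) =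
      c1.map (Ideal.Quotient.mk c0) from IsLocalization.under_map_of_isPrime_disjoint _ D h1 hd,
      Ideal.comap_map_of_surjective _ hsurj,
      ← RingHom.ker_eq_comap_bot, hk, sup_eq_left.2 h01.le]
  haveI : R1.IsPrime := IsLocalization.isPrime_of_isPrime_disjoint _ D _ h1 hd
  have hR1 : R1 ≠ ⊥ := fun h => h01.ne (by
    rw [← hcomap, h, ← RingHom.ker_eq_comap_bot, hιker])
  have hmax := UnivOpen.eq_maximalIdeal_of_forall_mem hι0 hall inferInstance hR1
  refine h12.ne ?_
  rw [← hcomap, hmax]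
  change ((IsLocalRing.maximalIdeal D).comap (algebraMap (A ⧸ c0) D)).comap (Ideal.Quotient.mk c0) = c2
  rw [← Ideal.under_def, Localization.AtPrime.under_maximalIdeal, Ideal.comap_map_of_surjective _ hsurj,
    ← RingHom.ker_eq_comap_bot, hk, sup_eq_left.2 (h01.trans h12).le]

/-- If all primes between `p₀` and `p` avoiding `s` lift to primes above `G`, chains in `A` are no
longer than chains in `B`. -/
theorem length_le_of_lifts [IsNoetherianRing A] [IsNoetherianRing B] (q : PrimeSpectrum B) :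
    ∀ (n : ℕ) (G : Set (PrimeSpectrum B)), G.Finite →
      (∀ l : LTSeries (PrimeSpectrum B), (∃ g ∈ G, g ≤ l.head) → l.last ≤ q → l.length ≤ n) →
      ∀ (p₀ : PrimeSpectrum A) (s : A), s ∉ p₀.asIdeal →
        (∀ g ∈ G, p₀ ≤ PrimeSpectrum.comap (algebraMap A B) g) →
        (∀ p' : PrimeSpectrum A, p₀ ≤ p' → p' ≤ PrimeSpectrum.comap (algebraMap A B) q → s ∉ p'.asIdeal →
          ∃ g ∈ G, ∃ Q, g ≤ Q ∧ Q ≤ q ∧ PrimeSpectrum.comap (algebraMap A B) Q = p') →
        ∀ l : LTSeries (PrimeSpectrum A), l.head = p₀ → l.last ≤ PrimeSpectrum.comap (algebraMap A B) q →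
          l.length ≤ n := by
  classical
  intro n
  induction n with
  | zero =>
    intro G _ hG p₀ s hs _ hlift l hl0 hlast
    obtain ⟨g, hgG, Q, hgQ, hQq, hQp⟩ := hlift p₀ le_rfl
      ((hl0.symm.le.trans (LTSeries.head_le_last l)).trans hlast) hs
    have hQ : Q = q := by
      by_contra hne
      have := hG ((RelSeries.singleton _ q).cons Q (lt_of_le_of_ne hQq hne)) ⟨g, hgG, by simpa using hgQ⟩
        (by simp)
      simp at this
    subst hQ
    rw [← hQp] at hl0
    by_contra hlen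
    have := (l.strictMono (show (0 : Fin (l.length + 1)) < Fin.last _ from Fin.pos_iff_ne_zero.2 (by
      intro h; apply hlen; simpa [Fin.ext_iff] using (le_of_eq (congrArg Fin.val h)))))
    exact absurd hlast (not_le_of_gt (hl0 ▸ this))
  | succ n ih =>
    intro G hGf hG p₀ s hs hG0 hlift l hl0 hlast
    rcases Nat.lt_or_ge l.length 2 with h2 | h2
    · omega
    -- an element of all the relevant images
    let bad : Set (PrimeSpectrum A) :=
      {a | a ≠ p₀ ∧ p₀ ≤ a ∧ ∃ g ∈ G, PrimeSpectrum.comap (algebraMap A B) g = a}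
    have hbadf : bad.Finite := (hGf.image (PrimeSpectrum.comap (algebraMap A B))).subset
      fun a ⟨_, _, g, hg, e⟩ => ⟨g, hg, e⟩
    obtain ⟨t, ht, hts, htb⟩ : ∃ t, t ∉ p₀.asIdeal ∧ (∀ a : PrimeSpectrum A, s ∈ a.asIdeal → t ∈ a.asIdeal) ∧
        ∀ a ∈ bad, t ∈ a.asIdeal := by
      have : ∀ a : bad, ∃ z ∈ a.1.asIdeal, z ∉ p₀.asIdeal := fun a =>
        Set.not_subset.1 fun h => a.2.1 (le_antisymm h a.2.2.1)
      choose z hz hz' using this
      haveI := hbadf.fintype
      refine ⟨s * ∏ a, z a, fun h => ?_, fun a ha => a.asIdeal.mul_mem_right _ ha, fun a ha => ?_⟩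
      · rcases p₀.2.mem_or_mem h with h | h
        · exact hs h
        · obtain ⟨a, -, ha⟩ := p₀.2.prod_mem_iff.1 h
          exact hz' a ha
      · exact a.asIdeal.mul_mem_left _
          (Ideal.mem_of_dvd _ (Finset.dvd_prod_of_mem z (Finset.mem_univ ⟨a, ha⟩)) (hz ⟨a, ha⟩))
    let c1 := l ⟨1, by omega⟩
    let c2 := l ⟨2, by omega⟩
    have h01 : p₀ < c1 := hl0 ▸ l.strictMono (show (0 : Fin (l.length + 1)) < ⟨1, by omega⟩ from Fin.mk_lt_mk.2 Nat.zero_lt_one)
    have h12 : c1 < c2 := l.strictMono (Fin.mk_lt_mk.2 Nat.one_lt_two)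
    obtain ⟨P, hP, h0P, hP2, htP⟩ := exists_between_avoiding p₀.asIdeal c1.asIdeal c2.asIdeal h01 h12 ht
    let p₁ : PrimeSpectrum A := ⟨P, hP⟩
    let J : PrimeSpectrum B → Ideal B := fun g => g.asIdeal ⊔ P.map (algebraMap A B)
    let G₀ : Set (PrimeSpectrum B) := {g ∈ G | PrimeSpectrum.comap (algebraMap A B) g = p₀}
    let G' : Set (PrimeSpectrum B) := ⋃ g ∈ G₀, {a | a.asIdeal ∈ (J g).minimalPrimes}
    have hG'f : G'.Finite := (hGf.subset (fun g hg => hg.1)).biUnion fun g _ =>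
      Set.Finite.of_finite_image (f := PrimeSpectrum.asIdeal)
        ((Ideal.finite_minimalPrimes_of_isNoetherianRing B (J g)).subset (by rintro _ ⟨a, ha, rfl⟩; exact ha))
        (fun a _ b _ h => PrimeSpectrum.ext h)
    have hmem : ∀ a ∈ G', P ≤ a.asIdeal.comap (algebraMap A B) ∧ ∃ g ∈ G₀, g ≤ a := by
      intro a ha
      obtain ⟨g, hg, hga⟩ := Set.mem_iUnion₂.1 ha
      exact ⟨Ideal.map_le_iff_le_comap.1 (le_sup_right.trans hga.1.2), g, hg, le_sup_left.trans hga.1.2⟩
    have hG' : ∀ l' : LTSeries (PrimeSpectrum B), (∃ g ∈ G', g ≤ l'.head) → l'.last ≤ q → l'.length ≤ n := by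
      intro l' ⟨a, ha, hal⟩ hlast'
      obtain ⟨hPa, g, hg, hga⟩ := hmem a ha
      have hlt : g < l'.head := by
        refine lt_of_le_of_ne (hga.trans hal) fun heq => ?_
        exact h0P.not_ge ((hPa.trans (Ideal.comap_mono (hal.trans heq.symm.le))).trans
          (congrArg PrimeSpectrum.asIdeal hg.2).le)
      have := hG (l'.cons g hlt) ⟨g, hg.1, by simp⟩ (by simpa using hlast')
      simp at this
      omega
    let l₁ : LTSeries (PrimeSpectrum A) := (l.drop ⟨2, by omega⟩).cons p₁ (by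
      simpa using (show p₁ < c2 from hP2))
    have := ih G' hG'f hG' p₁ t htP (fun a ha => (hmem a ha).1) (fun p' hp' hp'q htp' => ?_) l₁ (by simp [l₁]) (by simpa [l₁] using hlast)
    · simp [l₁] at this
      omega
    obtain ⟨g, hg, Q, hgQ, hQq, hQp⟩ := hlift p' (h0P.le.trans hp') hp'q (fun h => htp' (hts p' h))
    have hg0 : g ∈ G₀ := ⟨hg, by_contra fun hne => htp'
      (((Ideal.comap_mono (hgQ : g.asIdeal ≤ Q.asIdeal)).trans (congrArg PrimeSpectrum.asIdeal hQp).le)
        (htb _ ⟨hne, hG0 g hg, g, hg, rfl⟩))⟩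
    have hJ : J g ≤ Q.asIdeal := sup_le hgQ (Ideal.map_le_iff_le_comap.2 (by
      rw [show Q.asIdeal.comap (algebraMap A B) = p'.asIdeal from congrArg PrimeSpectrum.asIdeal hQp]
      exact hp'))
    obtain ⟨a, ha, haQ⟩ := Ideal.exists_minimalPrimes_le hJ
    exact ⟨⟨a, ha.1.1⟩, Set.mem_biUnion hg0 ha, Q, haQ, hQq, hQp⟩

end Groth.Agent.GeomUnib
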