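import Groth.Agent.GeomUnib.Main

/-!
# Universal openness at isolated points of fibres over geometrically unibranch points
-/

set_option autoImplicit false

universe u

open CategoryTheory CategoryTheory.Limits AlgebraicGeometry

namespace Groth.Agent.GeomUnib

theorem universallyOpen_of_isClosedImmersion {X Y : Scheme.{u}} (i : X ⟶ Y) [IsClosedImmersion i] [Surjective i] :
    UniversallyOpen i := by
  refine ⟨MorphismProperty.universally_mk' _ _ fun {T} g _ => fun O hO => ?_⟩
  have hsurj := (pullback.fst g i).surjective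
  rw [← isClosed_compl_iff, ← Set.image_compl_eq ⟨(pullback.fst g i).isClosedEmbedding.injective, hsurj⟩]
  exact (pullback.fst g i).isClosedEmbedding.isClosedMap _ hO.isClosed_compl

variable {X Y : Scheme.{u}} (f : X ⟶ Y) [LocallyOfFiniteType f]

/-- An affine model for a point which is isolated in its fibre, over a locally irreducible base. -/
theorem exists_model (x : X) (hqf : f.QuasiFiniteAt x) (x₀ : X) (hx₀ : x₀ ⤳ x) (U₀ : Y.Opens)
    (hyU : f x ∈ U₀) (hU₀ : (U₀ : Set Y) ⊆ closure {f x₀}) :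
    ∃ (A B : Type u) (_ : CommRing A) (_ : IsDomain A) (_ : CommRing B) (_ : IsDomain B) (_ : Algebra A B)
      (_ : FaithfulSMul A B) (_ : Algebra.FiniteType A B) (q : PrimeSpectrum B)
      (_ : Algebra.QuasiFiniteAt A q.asIdeal)
      (φ : Y.presheaf.stalk (f x) →+* Localization.AtPrime (q.asIdeal.comap (algebraMap A B)))
      (j : Spec (CommRingCat.of B) ⟶ X) (i : Spec (CommRingCat.of A) ⟶ Y),
      Function.Surjective φ ∧ RingHom.ker φ ≤ nilradical _ ∧ UniversallyOpen i ∧
      j ≫ f = Spec.map (CommRingCat.ofHom (algebraMap A B)) ≫ i ∧ j (q : Spec (CommRingCat.of B)) = x := by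
  obtain ⟨_, ⟨U, hU, rfl⟩, hxU, hUU₀⟩ := Y.isBasis_affineOpens.exists_subset_of_mem_open hyU U₀.2
  obtain ⟨_, ⟨V, hV, rfl⟩, hxV, hVU : V ≤ f ⁻¹ᵁ U⟩ :=
    X.isBasis_affineOpens.exists_subset_of_mem_open hxU (f ⁻¹ᵁ U).2
  have hx₀V : x₀ ∈ V := hx₀.mem_open V.2 hxV
  let g := f.appLE U V hVU
  have hft : g.hom.FiniteType := f.finiteType_appLE hU hV hVU
  have hqf' := hqf.quasiFiniteAt hV hU hVU hxV
  algebraize [g.hom]
  let q := hV.primeIdealOf ⟨x, hxV⟩
  let q₀ := hV.primeIdealOf ⟨x₀, hx₀V⟩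
  haveI : Algebra.QuasiFiniteAt Γ(Y, U) q.asIdeal := hqf'
  have hsq : Spec.map g ≫ hU.fromSpec = hV.fromSpec ≫ f :=
    IsAffineOpen.SpecMap_appLE_fromSpec f hU hV hVU
  have hq : hV.fromSpec q = x := hV.fromSpec_primeIdealOf _
  have hq₀ : hV.fromSpec q₀ = x₀ := hV.fromSpec_primeIdealOf _
  let p₀ : Spec Γ(Y, U) := Spec.map g q₀
  let p : Spec Γ(Y, U) := Spec.map g q
  have hp₀ : hU.fromSpec p₀ = f x₀ := by
    rw [← Scheme.Hom.comp_apply, hsq, Scheme.Hom.comp_apply, hq₀]
  have hp : hU.fromSpec p = f x := by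
    rw [← Scheme.Hom.comp_apply, hsq, Scheme.Hom.comp_apply, hq]
  have hmin : ∀ z : PrimeSpectrum Γ(Y, U), p₀.asIdeal ≤ z.asIdeal := fun z => by
    have hz : hU.fromSpec z ∈ closure ({f x₀} : Set Y) :=
      hU₀ (hUU₀ (hU.range_fromSpec.le ⟨z, rfl⟩))
    rw [← specializes_iff_mem_closure, ← hp₀,
      hU.fromSpec.isOpenEmbedding.toIsInducing.specializes_iff] at hz
    exact (PrimeSpectrum.le_iff_specializes p₀ z).2 hz
  have hle : q₀.asIdeal ≤ q.asIdeal := by
    refine (PrimeSpectrum.le_iff_specializes q₀ q).2 ?_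
    refine hV.fromSpec.isOpenEmbedding.toIsInducing.specializes_iff.1 ?_
    rw [hq, hq₀]; exact hx₀
  let A := Γ(Y, U) ⧸ p₀.asIdeal
  let B := Γ(X, V) ⧸ q₀.asIdeal
  letI : Algebra A B := (Ideal.quotientMap q₀.asIdeal g.hom le_rfl).toAlgebra
  haveI : IsScalarTower Γ(Y, U) A B := IsScalarTower.of_algebraMap_eq fun a => rfl
  haveI : FaithfulSMul A B := (faithfulSMul_iff_algebraMap_injective A B).2
    (Ideal.quotientMap_injective' le_rfl)
  haveI : Algebra.FiniteType Γ(Y, U) B :=
    Algebra.FiniteType.of_surjective (Ideal.Quotient.mkₐ Γ(Y, U) q₀.asIdeal) Ideal.Quotient.mk_surjective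
  haveI : Algebra.FiniteType A B := Algebra.FiniteType.of_restrictScalars_finiteType Γ(Y, U) A B
  have hqq : Ideal.comap (Ideal.Quotient.mk q₀.asIdeal) (q.asIdeal.map (Ideal.Quotient.mk q₀.asIdeal)) =
      q.asIdeal := by
    rw [Ideal.comap_map_of_surjective _ Ideal.Quotient.mk_surjective, ← RingHom.ker_eq_comap_bot,
      Ideal.mk_ker, sup_eq_left.2 hle]
  haveI : (q.asIdeal.map (Ideal.Quotient.mk q₀.asIdeal)).IsPrime :=
    Ideal.map_isPrime_of_surjective Ideal.Quotient.mk_surjective (by rwa [Ideal.mk_ker])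
  let qB : PrimeSpectrum B := ⟨q.asIdeal.map (Ideal.Quotient.mk q₀.asIdeal), inferInstance⟩
  haveI : Algebra.QuasiFiniteAt Γ(Y, U) qB.asIdeal :=
    Algebra.QuasiFiniteAt.of_surjectiveOnStalks q.asIdeal (Ideal.Quotient.mkₐ Γ(Y, U) q₀.asIdeal)
      (RingHom.surjectiveOnStalks_of_surjective Ideal.Quotient.mk_surjective) qB.asIdeal hqq.symm
  haveI : Algebra.QuasiFiniteAt A qB.asIdeal := Algebra.QuasiFinite.of_restrictScalars Γ(Y, U) A _
  let pA := qB.asIdeal.comap (algebraMap A B)
  have hpA : pA.comap (Ideal.Quotient.mk p₀.asIdeal) = p.asIdeal := by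
    change (qB.asIdeal.comap _).comap _ = q.asIdeal.comap g.hom
    rw [← hqq, Ideal.comap_comap, Ideal.comap_comap]
    rfl
  -- the comparison of local rings
  have hp' : p = hU.primeIdealOf ⟨f x, hxU⟩ := hU.fromSpec.isOpenEmbedding.injective
    (hp.trans (hU.fromSpec_primeIdealOf ⟨f x, hxU⟩).symm)
  letI : Algebra Γ(Y, U) (Y.presheaf.stalk (f x)) := (Y.presheaf.germ U (f x) hxU).hom.toAlgebra
  haveI : IsLocalization.AtPrime (Y.presheaf.stalk (f x)) p.asIdeal := by
    rw [hp']; exact hU.isLocalization_stalk ⟨f x, hxU⟩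
  let toA : Γ(Y, U) →+* Localization.AtPrime pA :=
    (algebraMap A (Localization.AtPrime pA)).comp (Ideal.Quotient.mk p₀.asIdeal)
  have hu : ∀ s : p.asIdeal.primeCompl, IsUnit (toA s) := fun s =>
    IsLocalization.map_units (M := pA.primeCompl) _
      ⟨_, fun h => s.2 (hpA.le h)⟩
  let φ : Y.presheaf.stalk (f x) →+* Localization.AtPrime pA := IsLocalization.lift hu
  have hφs : Function.Surjective φ := by
    intro z
    obtain ⟨a, ⟨s, hs⟩, rfl⟩ := IsLocalization.exists_mk'_eq pA.primeCompl z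
    obtain ⟨a, rfl⟩ := Ideal.Quotient.mk_surjective a
    obtain ⟨s, rfl⟩ := Ideal.Quotient.mk_surjective s
    refine ⟨IsLocalization.mk' _ a (⟨s, fun h => hs (hpA.ge h)⟩ : p.asIdeal.primeCompl), ?_⟩
    rw [IsLocalization.lift_mk'_spec]
    exact (IsLocalization.mk'_spec'_mk (Localization.AtPrime pA) (Ideal.Quotient.mk p₀.asIdeal a)
      (Ideal.Quotient.mk p₀.asIdeal s) hs).symm
  have hφk : RingHom.ker φ ≤ nilradical _ := by
    intro z hz
    obtain ⟨a, s, rfl⟩ := IsLocalization.exists_mk'_eq p.asIdeal.primeCompl z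
    rw [RingHom.mem_ker, IsLocalization.lift_mk'_spec, mul_zero] at hz
    have hinj : Function.Injective (algebraMap A (Localization.AtPrime pA)) :=
      IsLocalization.injective _ pA.primeCompl_le_nonZeroDivisors
    have ha : Ideal.Quotient.mk p₀.asIdeal a = 0 := hinj (hz.trans (map_zero _).symm)
    have han : IsNilpotent a := nilpotent_iff_mem_prime.2 fun J hJ =>
      hmin ⟨J, hJ⟩ (Ideal.Quotient.eq_zero_iff_mem.1 ha)
    rw [mem_nilradical, IsLocalization.mk'_eq_mul_mk'_one]
    exact Commute.isNilpotent_mul_right (Commute.all _ _) (han.map _)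
  -- the comparison of schemes
  let cA : Spec (CommRingCat.of A) ⟶ Spec Γ(Y, U) :=
    Spec.map (CommRingCat.ofHom (Ideal.Quotient.mk p₀.asIdeal))
  haveI : IsClosedImmersion cA := IsClosedImmersion.spec_of_surjective _ Ideal.Quotient.mk_surjective
  haveI : Surjective cA := ⟨fun z => by
    have : z ∈ Set.range (PrimeSpectrum.comap (Ideal.Quotient.mk p₀.asIdeal)) := by
      rw [range_comap_of_surjective _ _ Ideal.Quotient.mk_surjective, Ideal.mk_ker]
      exact hmin z
    exact this⟩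
  haveI := universallyOpen_of_isClosedImmersion cA
  refine ⟨A, B, inferInstance, inferInstance, inferInstance, inferInstance, inferInstance, inferInstance,
    inferInstance, qB, inferInstance, φ,
    Spec.map (CommRingCat.ofHom (Ideal.Quotient.mk q₀.asIdeal)) ≫ hV.fromSpec, cA ≫ hU.fromSpec,
    hφs, hφk, inferInstance, ?_, ?_⟩
  · rw [Category.assoc, ← hsq, ← Category.assoc, ← Category.assoc, ← Spec.map_comp, ← Spec.map_comp]
    rfl
  · rw [Scheme.Hom.comp_apply]
    exact (congrArg hV.fromSpec (PrimeSpectrum.ext hqq)).trans hq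

/-- The normalisation of a domain in its fraction field. -/
theorem exists_normalisation (A : Type u) [CommRing A] [IsDomain A] :
    IsIntegrallyClosed (integralClosure A (FractionRing A)) ∧
      FaithfulSMul A (integralClosure A (FractionRing A)) :=
  ⟨integralClosure.isIntegrallyClosedOfFiniteExtension (FractionRing A),
    (faithfulSMul_iff_algebraMap_injective A _).2 fun _ _ h =>
    IsFractionRing.injective A (FractionRing A) (congrArg Subtype.val h)⟩

/-- Over a geometrically unibranch point, a point isolated in its fibre having a generisation which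
maps to the generic point of the component of the base is a point of universal openness. -/
theorem isUnivOpenAt_of_quasiFinite (x : X) (hqf : f.QuasiFiniteAt x) (x₀ : X) (hx₀ : x₀ ⤳ x)
    (U₀ : Y.Opens) (hyU : f x ∈ U₀) (hU₀ : (U₀ : Set Y) ⊆ closure {f x₀})
    (hy : CAlg2.IsGeomUnibranch (Y.presheaf.stalk (f x))) : EGA43.IsUnivOpenAt f x := by
  obtain ⟨A, B, _, _, _, _, _, _, _, q, _, φ, j, i, hφ, hker, _, hsq, rfl⟩ :=
    exists_model f x hqf x₀ hx₀ U₀ hyU hU₀
  obtain ⟨_, _⟩ := exists_normalisation A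
  refine OpenAt.isUnivOpenAt_of_comp (f := j) (x := (q : Spec (CommRingCat.of B))) ?_
  rw [hsq]
  exact OpenAt.isUnivOpenAt_comp
    (isUnivOpenAt_of_quasiFiniteAt (integralClosure A (FractionRing A)) q
      (radicialAt_of_localization (K := FractionRing A) _ hy φ hφ hker))
    (isUnivOpenAt_of_universallyOpen _ _)

/-- The unibranch version. -/
theorem isOpenAt_of_quasiFinite (x : X) (hqf : f.QuasiFiniteAt x) (x₀ : X) (hx₀ : x₀ ⤳ x)
    (U₀ : Y.Opens) (hyU : f x ∈ U₀) (hU₀ : (U₀ : Set Y) ⊆ closure {f x₀})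
    (hy : CAlg2.IsUnibranch (Y.presheaf.stalk (f x))) : EGA43.IsOpenAt f.base x := by
  obtain ⟨A, B, _, _, _, _, _, _, _, q, _, φ, j, i, hφ, hker, _, hsq, rfl⟩ :=
    exists_model f x hqf x₀ hx₀ U₀ hyU hU₀
  obtain ⟨_, _⟩ := exists_normalisation A
  refine OpenAt.of_comp j.continuous.continuousAt ?_
  have e : (f.base : X → Y) ∘ j.base =
      i.base ∘ PrimeSpectrum.comap (algebraMap A B) := funext fun z => by
    rw [Function.comp_apply, Function.comp_apply, ← Scheme.Hom.comp_apply, hsq, Scheme.Hom.comp_apply]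
    rfl
  refine cast (congrArg (EGA43.IsOpenAt · q) e.symm) ?_
  exact OpenAt.comp
    (isOpenAt_of_quasiFiniteAt (integralClosure A (FractionRing A)) q
      (uniqueAt_of_localization (K := FractionRing A) _ hy φ hφ hker))
    (fun U hU => i.isOpenMap.image_mem_nhds hU)

end Groth.Agent.GeomUnib

namespace Groth.Agent.GeomUnib

theorem universallyOpen_of_forall {X Y : Scheme.{u}} (f : X ⟶ Y) (h : ∀ x, EGA43.IsUnivOpenAt f x) :
    UniversallyOpen f := by
  refine ⟨MorphismProperty.universally_mk' _ _ fun {T} g _ => ?_⟩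
  intro O hO
  refine isOpen_iff_mem_nhds.2 ?_
  rintro _ ⟨z, hz, rfl⟩
  exact OpenAt.isOpenAt_of_isPullback (IsPullback.of_hasPullback g f).flip (h _) z rfl O (hO.mem_nhds hz)

end Groth.Agent.GeomUnib
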