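import Groth.Agent.GeomUnib.SectionBaseChange
import Groth.Agent.GeomComp.Fin
import Groth.Agent.AbRigid.Basic
import Groth.Agent.S2277

/-!
# The connected components of a section are open in the closures of their points

In a locally Noetherian scheme two points of one connected component of a fibre lie in a
quasi-compact open with connected fibre; the geometric number of connected components of such an
open is then one near the point.
-/

set_option autoImplicit false
set_option linter.style.haveILetI false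
set_option linter.unusedSectionVars false
set_option backward.isDefEq.respectTransparency false

universe u

open CategoryTheory CategoryTheory.Limits AlgebraicGeometry TopologicalSpace
open Groth.Agent.GeomUnib.SectionComp

namespace Groth.Agent.GeomUnib.SectionConnNhd

/-- A compact open meeting a fibre in a preconnected set, around any point of it. -/
theorem exists_open_pre {X Y : Scheme.{u}} (f : X ⟶ Y) [LocallyOfFiniteType f] (y : Y) {z : X}
    (hz : z ∈ f.base ⁻¹' {y}) :
    ∃ W : X.Opens, IsCompact (W : Set X) ∧ z ∈ W ∧ _root_.IsPreconnected ((W : Set X) ∩ f.base ⁻¹' {y}) := by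
  let e := f.fiberι y
  haveI : LocallyOfFiniteType (f.fiberToSpecResidueField y) := MorphismProperty.pullback_snd f _ ‹_›
  haveI : IsLocallyNoetherian (f.fiber y) := LocallyOfFiniteType.isLocallyNoetherian (f.fiberToSpecResidueField y)
  obtain ⟨a, rfl⟩ : z ∈ Set.range e.base := (f.range_fiberι y).ge hz
  obtain ⟨U, hU, haU, -⟩ := exists_isAffineOpen_mem_and_subset (U := (⊤ : (f.fiber y).Opens)) (x := a) trivial
  haveI : IsNoetherianRing Γ(f.fiber y, U) :=
    IsLocallyNoetherian.component_noetherian (X := f.fiber y) ⟨U, hU⟩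
  have hN : NoetherianSpace (Set.range (hU.fromSpec ≫ e).base : Type u) :=
    TopologicalSpace.NoetherianSpace.range _ (hU.fromSpec ≫ e).continuous
  haveI := hN
  obtain ⟨O₀, hO₀, (hO₀U : e.base ⁻¹' O₀ = (U : Set (f.fiber y)))⟩ := e.isEmbedding.isInducing.isOpen_iff.1 U.2
  let R : Set X := Set.range (hU.fromSpec ≫ e).base
  have hR : R = O₀ ∩ f.base ⁻¹' {y} := by
    have h : R = e.base '' Set.range hU.fromSpec.base := by rw [← Set.range_comp]; rfl
    rw [h, hU.range_fromSpec, ← hO₀U, Set.image_preimage_eq_inter_range, f.range_fiberι]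
  have hzR : e.base a ∈ R := hR.ge ⟨show a ∈ e.base ⁻¹' O₀ from hO₀U.symm ▸ haU, (f.range_fiberι y).le ⟨a, rfl⟩⟩
  obtain ⟨V, hV, haV, hVc⟩ := S2277.exists_open_preconnected (⟨e.base a, hzR⟩ : R)
  obtain ⟨O, hO, hOV⟩ := isOpen_induced_iff.1 hV
  have hsub : (Subtype.val '' V : Set X) = (O ∩ O₀) ∩ f.base ⁻¹' {y} := by
    rw [← hOV, Subtype.image_preimage_coe, hR]
    ext w
    simp only [Set.mem_inter_iff]
    tauto
  have hcpt : IsCompact (Subtype.val '' V : Set X) :=
    (NoetherianSpace.isCompact V).image continuous_subtype_val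
  have haff : ∀ w ∈ (Subtype.val '' V : Set X), ∃ T : X.Opens, IsAffineOpen T ∧ w ∈ T ∧ (T : Set X) ⊆ O ∩ O₀ := by
    intro w hw
    obtain ⟨T, hT, hwT, hTle⟩ := exists_isAffineOpen_mem_and_subset (U := ⟨O ∩ O₀, hO.inter hO₀⟩) (x := w)
      ((hsub.le hw).1)
    exact ⟨T, hT, hwT, hTle⟩
  choose T hT hwT hTsub using haff
  obtain ⟨t, ht⟩ := hcpt.elim_finite_subcover (fun w : (Subtype.val '' V : Set X) => (T w.1 w.2 : Set X))
    (fun w => (T w.1 w.2).2) (fun w hw => Set.mem_iUnion.2 ⟨⟨w, hw⟩, hwT w hw⟩)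
  refine ⟨⟨⋃ w ∈ t, (T w.1 w.2 : Set X), isOpen_biUnion fun w _ => (T w.1 w.2).2⟩,
    t.isCompact_biUnion fun w _ => (hT w.1 w.2).isCompact, ht ⟨_, haV, rfl⟩, ?_⟩
  show _root_.IsPreconnected ((⋃ w ∈ t, (T w.1 w.2 : Set X)) ∩ f.base ⁻¹' {y})
  have : (⋃ w ∈ t, (T w.1 w.2 : Set X)) ∩ f.base ⁻¹' {y} = Subtype.val '' V := by
    refine Set.Subset.antisymm (fun w hw => ?_) fun w hw => ⟨ht hw, (hsub.le hw).2⟩
    obtain ⟨i, -, hi⟩ := Set.mem_iUnion₂.1 hw.1
    exact hsub.ge ⟨hTsub i.1 i.2 hi, hw.2⟩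
  rw [this]
  exact hVc.image _ continuous_subtype_val.continuousOn

/-- Two points of a connected component of a subset lie in a compact open meeting the subset in a
preconnected set. -/
theorem exists_open_pre_two {X Y : Scheme.{u}} (f : X ⟶ Y) [LocallyOfFiniteType f] (y : Y) {a b : X}
    (ha : a ∈ f.base ⁻¹' {y}) (hb : b ∈ connectedComponentIn (f.base ⁻¹' {y}) a) :
    ∃ W : X.Opens, IsCompact (W : Set X) ∧ a ∈ W ∧ b ∈ W ∧
      _root_.IsPreconnected ((W : Set X) ∩ f.base ⁻¹' {y}) := by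
  set F : Set X := f.base ⁻¹' {y} with hF
  let S : Set X := {z | z ∈ F ∧
    ∃ W : X.Opens, IsCompact (W : Set X) ∧ a ∈ W ∧ z ∈ W ∧ _root_.IsPreconnected ((W : Set X) ∩ F)}
  have hjoin : ∀ z ∈ F, ∀ U : X.Opens, IsCompact (U : Set X) → z ∈ U →
      _root_.IsPreconnected ((U : Set X) ∩ F) → ((U : Set X) ∩ S).Nonempty → z ∈ S := by
    rintro z hz U hUc hzU hU ⟨s, hsU, hsF, W, hWc, haW, hsW, hW⟩
    refine ⟨hz, W ⊔ U, hWc.union hUc, Or.inl haW, Or.inr hzU, ?_⟩
    show _root_.IsPreconnected (((W : Set X) ∪ U) ∩ F)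
    rw [Set.union_inter_distrib_right]
    exact hW.union s ⟨hsW, hsF⟩ ⟨hsU, hsF⟩ hU
  have haS : a ∈ S := by
    obtain ⟨W, hWc, haW, hW⟩ := exists_open_pre f y ha
    exact ⟨ha, W, hWc, haW, haW, hW⟩
  suffices h : connectedComponentIn F a ⊆ S by
    obtain ⟨-, W, hW⟩ := h hb
    exact ⟨W, hW⟩
  let O₁ : Set X := ⋃ z ∈ S, ⋃ W ∈ {W : X.Opens | IsCompact (W : Set X) ∧ a ∈ W ∧ z ∈ W ∧
    _root_.IsPreconnected ((W : Set X) ∩ F)}, (W : Set X)
  let O₂ : Set X := ⋃ U ∈ {U : X.Opens | Disjoint (U : Set X) S}, (U : Set X)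
  have h1 : O₁ ∩ F ⊆ S := by
    rintro x ⟨hx, hxF⟩
    simp only [O₁, Set.mem_iUnion] at hx
    obtain ⟨z, -, W, ⟨hWc, haW, -, hW⟩, hxW⟩ := hx
    exact ⟨hxF, W, hWc, haW, hxW, hW⟩
  have hcov : F ⊆ O₁ ∪ O₂ := by
    intro x hx
    by_cases hxS : x ∈ S
    · obtain ⟨-, W, hW⟩ := id hxS
      exact Or.inl (Set.mem_biUnion hxS (Set.mem_biUnion (x := W) hW hW.2.2.1))
    · obtain ⟨U, hUc, hxU, hU⟩ := exists_open_pre f y hx
      refine Or.inr (Set.mem_biUnion (x := U) (Set.disjoint_iff_inter_eq_empty.2 ?_) hxU)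
      exact Set.not_nonempty_iff_eq_empty.1 fun hne => hxS (hjoin x hx U hUc hxU hU hne)
  intro x hx
  by_contra hxS
  have hsub := connectedComponentIn_subset F a
  have hx2 : x ∈ O₂ := (hcov (hsub hx)).resolve_left fun h => hxS (h1 ⟨h, hsub hx⟩)
  obtain ⟨p, hp, hp1, hp2⟩ := isPreconnected_connectedComponentIn O₁ O₂
    (isOpen_biUnion fun z _ => isOpen_biUnion fun W _ => W.2) (isOpen_biUnion fun U _ => U.2)
    (hsub.trans hcov) ⟨a, mem_connectedComponentIn ha, by
      obtain ⟨-, W, hW⟩ := id haS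
      exact Set.mem_biUnion haS (Set.mem_biUnion (x := W) hW hW.2.1)⟩ ⟨x, hx, hx2⟩
  simp only [O₂, Set.mem_iUnion] at hp2
  obtain ⟨U, hU, hpU⟩ := hp2
  exact Set.disjoint_left.1 hU hpU (h1 ⟨hp1, hsub hp⟩)

variable {X Y : Scheme.{u}} {f : X ⟶ Y} {g : Y ⟶ X}

lemma range_fiberι_opens (W : X.Opens) (y : Y) :
    Set.range (((W.ι ≫ f).fiberι y ≫ W.ι).base) = (W : Set X) ∩ f.base ⁻¹' {y} := by
  have h : Set.range (((W.ι ≫ f).fiberι y ≫ W.ι).base) = W.ι.base '' Set.range ((W.ι ≫ f).fiberι y).base := by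
    rw [← Set.range_comp]; rfl
  rw [h, Scheme.Hom.range_fiberι]
  show W.ι.base '' (W.ι.base ⁻¹' (f.base ⁻¹' {y})) = _
  rw [Set.image_preimage_eq_range_inter, Scheme.Opens.range_ι]

/-- An open with preconnected fibre through the section has one geometric component. -/
theorem nGeomConnComp_eq_one (hg : g ≫ f = 𝟙 Y) (W : X.Opens) {y : Y} (hgy : g.base y ∈ W)
    (hW : _root_.IsPreconnected ((W : Set X) ∩ f.base ⁻¹' {y})) :
    MoreMor.nGeomConnComp (W.ι ≫ f) y = 1 := by
  let q := (W.ι ≫ f).fiberToSpecResidueField y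
  let e := (W.ι ≫ f).fiberι y ≫ W.ι
  haveI : PreconnectedSpace ↥((W.ι ≫ f).fiber y) := by
    refine ⟨?_⟩
    have he : Topology.IsEmbedding e.base :=
      W.ι.isOpenEmbedding.isEmbedding.comp ((W.ι ≫ f).fiberι y).isEmbedding
    rw [← he.isInducing.isPreconnected_image, Set.image_univ, range_fiberι_opens]
    exact hW
  have hr : Set.range (Y.fromSpecResidueField y ≫ g).base ⊆ Set.range W.ι.base := by
    rintro _ ⟨p, rfl⟩
    rw [Scheme.Opens.range_ι, Scheme.Hom.comp_apply, Scheme.fromSpecResidueField_apply]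
    exact hgy
  let s : Spec (Y.residueField y) ⟶ (W.ι ≫ f).fiber y :=
    pullback.lift (IsOpenImmersion.lift W.ι (Y.fromSpecResidueField y ≫ g) hr) (𝟙 _)
      (by rw [← Category.assoc, IsOpenImmersion.lift_fac, Category.assoc, hg, Category.comp_id, Category.id_comp])
  haveI : ConnectedSpace ↥((W.ι ≫ f).fiber y) :=
    { toNonempty := ⟨s.base (IsLocalRing.closedPoint (IsLocalRing.ResidueField (Y.presheaf.stalk y)))⟩ }
  haveI := SectionBC.geometricallyConnected_id (Spec (Y.residueField y))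
  haveI : GeometricallyConnected q :=
    FieldExtConn.geometricallyConnected_of_hom (k := Y.residueField y) q s (g := 𝟙 _) (pullback.lift_snd _ _ _)
  haveI : Nonempty ↥(Spec (Y.residueField y)) :=
    ⟨IsLocalRing.closedPoint (IsLocalRing.ResidueField (Y.presheaf.stalk y))⟩
  haveI : ConnectedSpace ↥(MoreMor.geomFiber (W.ι ≫ f) y) := by
    have := GeometricallyConnected.connectedSpace_of_subsingleton (pullback.snd q
      (Spec.map (CommRingCat.ofHom (algebraMap (Y.residueField y) (SeparableClosure (Y.residueField y))))))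
    exact this
  show ENat.card (_root_.ConnectedComponents ↥(MoreMor.geomFiber (W.ι ≫ f) y)) = 1
  rw [ENat.card_eq_one_iff_unique]
  exact ⟨{ default := Classical.arbitrary _, uniq := fun a => Subsingleton.elim _ _ }⟩

/-- One geometric component gives a preconnected fibre. -/
theorem isPreconnected_of_nGeomConnComp (W : X.Opens) {y : Y}
    (h : MoreMor.nGeomConnComp (W.ι ≫ f) y = 1) : _root_.IsPreconnected ((W : Set X) ∩ f.base ⁻¹' {y}) := by
  let q := (W.ι ≫ f).fiberToSpecResidueField y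
  let e := Spec.map (CommRingCat.ofHom (algebraMap (Y.residueField y) (SeparableClosure (Y.residueField y))))
  haveI : Surjective e := GeomIrr.surjective_ext (k := Y.residueField y) (SeparableClosure (Y.residueField y))
  have h' : ENat.card (_root_.ConnectedComponents ↥(pullback q e)) = 1 := h
  rw [ENat.card_eq_one_iff_unique] at h'
  haveI : Subsingleton (_root_.ConnectedComponents ↥(pullback q e)) := h'.elim fun u => inferInstance
  haveI : PreconnectedSpace ↥(pullback q e) := by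
    refine preconnectedSpace_iff_connectedComponent.2 fun a => Set.eq_univ_of_forall fun b => ?_
    exact ConnectedComponents.coe_eq_coe'.1 (Subsingleton.elim _ _)
  have hsurj : Function.Surjective (pullback.fst q e).base := (pullback.fst q e).surjective
  have h1 := (isPreconnected_univ (α := ↥(pullback q e))).image
    (((W.ι ≫ f).fiberι y ≫ W.ι).base ∘ (pullback.fst q e).base)
    (((W.ι ≫ f).fiberι y ≫ W.ι).continuous.comp (pullback.fst q e).continuous).continuousOn
  rwa [Set.image_univ, hsurj.range_comp, range_fiberι_opens] at h1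

/-- **The union of the components of a section is, near each of its points, a neighbourhood inside
the closure of the point.** -/
theorem exists_nhds_inter_closure [IsLocallyNoetherian Y] [LocallyOfFiniteType f] (hg : g ≫ f = 𝟙 Y) {x : X}
    (hx : x ∈ MoreMor.sectionComponents f g) :
    ∃ O : Set X, IsOpen O ∧ x ∈ O ∧ O ∩ closure {x} ⊆ MoreMor.sectionComponents f g := by
  haveI : IsLocallyNoetherian X := LocallyOfFiniteType.isLocallyNoetherian f
  obtain ⟨W, hWc, hgW, hxW, hW⟩ := exists_open_pre_two f (f.base x)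
    (section_apply hg (f.base x)) hx
  haveI : CompactSpace ↥(W : Scheme.{u}) := isCompact_iff_compactSpace.1 hWc
  haveI : QuasiCompact (W.ι ≫ f) := inferInstance
  obtain ⟨V, hVsub, hyV, hVo, hV⟩ := GeomComp.exists_const_closure (W.ι ≫ f) (f.base x)
  obtain ⟨V₀, hV₀, hV₀e⟩ := isOpen_induced_iff.1 hVo
  have hyV₀ : f.base x ∈ V₀ := by
    have h1 : (⟨f.base x, subset_closure rfl⟩ : closure ({f.base x} : Set Y)) ∈ Subtype.val ⁻¹' V₀ := by
      rw [hV₀e]; exact hyV
    exact h1
  refine ⟨(W : Set X) ∩ f.base ⁻¹' (V₀ ∩ g.base ⁻¹' (W : Set X)),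
    W.2.inter ((hV₀.inter (W.2.preimage g.continuous)).preimage f.continuous), ⟨hxW, hyV₀, hgW⟩, ?_⟩
  rintro z ⟨⟨hzW, hzV₀, hgzW⟩, hzx⟩
  have hzy : f.base z ∈ closure ({f.base x} : Set Y) :=
    ((specializes_iff_mem_closure.2 hzx).map f.continuous).mem_closure
  have hzV : f.base z ∈ V := by
    have h1 : (⟨f.base z, hzy⟩ : closure ({f.base x} : Set Y)) ∈ Subtype.val ⁻¹' V := by
      rw [← hV₀e]; exact hzV₀
    exact h1
  have hone : MoreMor.nGeomConnComp (W.ι ≫ f) (f.base z) = 1 :=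
    (hV _ hzV).2.trans (nGeomConnComp_eq_one hg W hgW hW)
  exact (isPreconnected_of_nGeomConnComp W hone).subset_connectedComponentIn
    ⟨hgzW, section_apply hg _⟩ Set.inter_subset_right ⟨hzW, rfl⟩

end Groth.Agent.GeomUnib.SectionConnNhd
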