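import Groth.Agent.GeomUnib.SectionComp
import Groth.Agent.GeomUnib.CatenaryFormula
import Groth.Agent.GeomUnib.ValuationFibre
import Groth.Agent.GeomUnib.HyperplaneFibre
import Groth.Agent.S4948

/-!
# The component of a section over a discrete valuation ring

For a morphism with a section whose components `X⁰_y` are geometrically irreducible, and a point
of `Y` with values in a discrete valuation ring, we decide when the generic point of the component
over the generic point specialises to the generic point of the component over the closed point.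
-/

set_option autoImplicit false
set_option linter.style.haveILetI false
set_option linter.unusedSectionVars false
set_option backward.isDefEq.respectTransparency false
set_option maxHeartbeats 800000

universe u

open CategoryTheory CategoryTheory.Limits AlgebraicGeometry

namespace Groth.Agent.GeomUnib.SectionComp

open FibreDim

/-- A flat local algebra over a discrete valuation ring with prime closed fibre is a domain. -/
theorem isDomain_of_flat_prime_span {R B : Type u} [CommRing R] [IsDomain R] [CommRing B] [IsLocalRing B]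
    [IsNoetherianRing B] (φ : R →+* B) (hφ : φ.Flat) {t : R} (ht : t ≠ 0)
    (hp : (Ideal.span {φ t}).IsPrime) : IsDomain B := by
  have hreg : ∀ b, φ t * b = 0 → b = 0 := by
    letI := φ.toAlgebra
    haveI : Module.Flat R B := hφ
    intro b hb
    have h : IsSMulRegular B t := (IsSMulRegular.of_right_eq_zero_of_smul (fun r hr => by
      simpa [ht] using hr) : IsSMulRegular R t).of_flat
    exact h.right_eq_zero_of_smul (by rw [Algebra.smul_def]; exact hb)
  have hpow : ∀ (n : ℕ) b, φ t ^ n * b = 0 → b = 0 := by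
    intro n
    induction n with
    | zero => simp
    | succ n ih => exact fun b hb => ih b (hreg _ (by rw [← mul_assoc, ← pow_succ']; exact hb))
  have hdec : ∀ a : B, a ≠ 0 → ∃ n a', a = φ t ^ n * a' ∧ a' ∉ Ideal.span {φ t} := by
    intro a ha
    by_contra! hne
    have hall : ∀ n, a ∈ Ideal.span {φ t} ^ n := by
      intro n
      induction n with
      | zero => simp
      | succ n ih =>
        rw [Ideal.span_singleton_pow, Ideal.mem_span_singleton'] at ih
        obtain ⟨c, hc⟩ := ih
        rw [pow_succ, ← hc, mul_comm c]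
        refine Ideal.mul_mem_mul ?_ (hne n c (hc ▸ mul_comm _ _))
        exact Ideal.span_singleton_pow (φ t) n ▸ Ideal.mem_span_singleton_self _
    refine ha ((Submodule.mem_bot B).1 ?_)
    rw [← Ideal.iInf_pow_eq_bot_of_isLocalRing _ hp.ne_top]
    exact Submodule.mem_iInf _ |>.2 hall
  haveI : NoZeroDivisors B := ⟨fun {a b} hab => by
    by_contra! hne
    obtain ⟨i, a', rfl, ha'⟩ := hdec a hne.1
    obtain ⟨j, b', rfl, hb'⟩ := hdec b hne.2
    rw [mul_mul_mul_comm, ← pow_add] at hab
    have := hpow _ _ hab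
    exact (hp.mem_or_mem (this ▸ Ideal.zero_mem _)).elim ha' hb'⟩
  haveI : Nontrivial B := IsLocalRing.toNontrivial
  exact NoZeroDivisors.to_isDomain B

/-- A minimal prime over a nonzero principal ideal in a Noetherian domain has height one. -/
theorem height_eq_one {D : Type u} [CommRing D] [IsDomain D] [IsNoetherianRing D] {t : D} (ht : t ≠ 0)
    {q : Ideal D} (hq : q ∈ (Ideal.span {t}).minimalPrimes) : q.height = 1 := by
  haveI := hq.1.1
  refine le_antisymm (Ideal.height_le_one_of_isPrincipal_of_mem_minimalPrimes (Ideal.span {t}) q hq) ?_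
  refine ENat.one_le_iff_ne_zero.2 fun h => ht ?_
  rw [Ideal.height_eq_zero_iff, IsDomain.minimalPrimes_eq_singleton_bot, Set.mem_singleton_iff] at h
  have h1 : t ∈ q := hq.1.2 (Ideal.mem_span_singleton_self t)
  rwa [h, Ideal.mem_bot] at h1

variable {A : Type u} [CommRing A] [IsDomain A] [IsDiscreteValuationRing A]

/-- The generic point of the spectrum of a domain. -/
abbrev genPt (A : Type u) [CommRing A] [IsDomain A] : Spec (CommRingCat.of A) :=
  (⟨⊥, Ideal.isPrime_bot⟩ : PrimeSpectrum A)

lemma genPt_specializes (a : Spec (CommRingCat.of A)) : genPt A ⤳ a :=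
  (PrimeSpectrum.le_iff_specializes (⟨⊥, Ideal.isPrime_bot⟩ : PrimeSpectrum A) _).1 bot_le

lemma eq_genPt_or (a : Spec (CommRingCat.of A)) : a = genPt A ∨ a = IsLocalRing.closedPoint A := by
  rcases eq_or_ne a.asIdeal ⊥ with h | h
  · exact Or.inl (PrimeSpectrum.ext h)
  · exact Or.inr (PrimeSpectrum.ext (IsLocalRing.eq_maximalIdeal (a.isPrime.isMaximal h)))

lemma genPt_ne_closedPoint : genPt A ≠ IsLocalRing.closedPoint A := fun h =>
  IsDiscreteValuationRing.not_a_field A (congrArg PrimeSpectrum.asIdeal h).symm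

lemma eq_genPt_of_specializes {a : Spec (CommRingCat.of A)} (h : a ⤳ genPt A) : a = genPt A :=
  (h.antisymm (genPt_specializes a)).eq

variable {P : Scheme.{u}} (q : P ⟶ Spec (CommRingCat.of A)) [LocallyOfFiniteType q]

/-- A point with reduced irreducible closed fibre at it, flat over the ring, has a domain as local
ring. -/
theorem exists_gen_all {p γ : P} (hp : q.base p = IsLocalRing.closedPoint A)
    (hred : _root_.IsReduced ((q.fiber (q.base p)).presheaf.stalk (q.asFiber p)))
    (hγ : q.base γ = IsLocalRing.closedPoint A) (hγp : γ ⤳ p)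
    (huniq : ∀ z, z ⤳ p → q.base z = IsLocalRing.closedPoint A → γ ⤳ z)
    (hopen : EGA43.IsOpenAt q.base γ) : ∃ M, M ⤳ p ∧ ∀ z, z ⤳ p → M ⤳ z := by
  have hio := (q.fiberι (q.base p)).isEmbedding
  have hflat : (q.stalkMap p).hom.Flat := by
    refine S4948.result q p hp (fun z hz hzmax => ?_) hred
    rw [← specializes_iff_mem_closure, ← hio.isInducing.specializes_iff, Scheme.Hom.fiberι_asFiber] at hz
    have hzy : q.base ((q.fiberι (q.base p)).base z) = q.base p := (q.range_fiberι (q.base p)).le ⟨z, rfl⟩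
    have hγz := huniq _ hz (hzy.trans hp)
    obtain ⟨g, hg⟩ : γ ∈ Set.range (q.fiberι (q.base p)) := (q.range_fiberι (q.base p)).ge (hγ.trans hp.symm)
    have hgz : g = z := hzmax g (specializes_iff_mem_closure.1 (hio.isInducing.specializes_iff.1 (hg ▸ hγz :)))
    rw [show (q.fiberι (q.base p)).base z = γ from hgz ▸ hg]
    exact hopen
  haveI : IsLocallyNoetherian P := LocallyOfFiniteType.isLocallyNoetherian q
  let B := P.presheaf.stalk p
  let O := (Spec (CommRingCat.of A)).presheaf.stalk (q.base p)
  let φ : O →+* B := (q.stalkMap p).hom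
  let I : Ideal B := FlatDescent.maxExt q p
  have hI : I = (IsLocalRing.maximalIdeal O).map φ := rfl
  have hrad : I.IsRadical := by
    have hker := FlatDescent.ker_stalkMap_fiberι q (q.base p) (q.asFiber p)
    haveI := hred
    have h1 : (RingHom.ker ((q.fiberι (q.base p)).stalkMap (q.asFiber p)).hom).IsRadical := fun a ha => by
      obtain ⟨n, hn⟩ := ha
      rw [RingHom.mem_ker, map_pow] at hn
      exact IsReduced.eq_zero _ ⟨n, hn⟩
    rw [hker, Scheme.Hom.fiberι_asFiber] at h1
    exact h1
  have hiff : ∀ Q : PrimeSpectrum B,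
      q.base (P.fromSpecStalk p Q) = IsLocalRing.closedPoint A ↔ I ≤ Q.asIdeal := by
    intro Q
    have h1 : q.base (P.fromSpecStalk p Q) =
        (Spec (CommRingCat.of A)).fromSpecStalk (q.base p) (PrimeSpectrum.comap φ Q) := by
      rw [← Scheme.Hom.comp_apply, ← Scheme.SpecMap_stalkMap_fromSpecStalk]
      rfl
    rw [h1, hI, Ideal.map_le_iff_le_comap, ← hp]
    constructor
    · intro h
      have h2 : PrimeSpectrum.comap φ Q = IsLocalRing.closedPoint O :=
        ((Spec (CommRingCat.of A)).fromSpecStalk (q.base p)).isEmbedding.injective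
          (h.trans Scheme.fromSpecStalk_closedPoint.symm)
      exact (congrArg PrimeSpectrum.asIdeal h2).ge
    · intro h
      rw [show PrimeSpectrum.comap φ Q = IsLocalRing.closedPoint O from PrimeSpectrum.ext
        (le_antisymm (IsLocalRing.le_maximalIdeal (Ideal.IsPrime.ne_top inferInstance)) h)]
      exact Scheme.fromSpecStalk_closedPoint
  let G := genPrime hγp
  have hIG : I = G.asIdeal := by
    refine le_antisymm ((hiff G).1 (by rw [fromSpecStalk_genPrime]; exact hγ)) ?_
    rw [← hrad.radical, Ideal.radical_eq_sInf]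
    refine le_sInf fun J hJ => ?_
    let Q : PrimeSpectrum B := ⟨J, hJ.2⟩
    have h1 := huniq _ (fromSpecStalk_specializes Q) ((hiff Q).2 hJ.1)
    have h2 : G ≤ genPrime (fromSpecStalk_specializes Q) := prime_le_of_specializes hγp _ h1
    rw [genPrime_fromSpecStalk] at h2
    exact h2
  haveI : IsDomain B := by
    obtain ⟨t, ht0, ht⟩ : ∃ t : O, t ≠ 0 ∧ IsLocalRing.maximalIdeal O = Ideal.span {t} := by
      obtain ⟨π, hπ⟩ := IsDiscreteValuationRing.exists_irreducible A
      let ι := (Spec.stalkIso (CommRingCat.of A) (q.base p)).commRingCatIsoToRingEquiv.symm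
      let L := Localization.AtPrime (q.base p).asIdeal
      refine ⟨ι (algebraMap A L π), fun h => hπ.ne_zero ?_, ?_⟩
      · refine IsLocalization.injective L (Ideal.primeCompl_le_nonZeroDivisors (q.base p).asIdeal) ?_
        rw [map_zero]
        exact ι.injective (h.trans (map_zero _).symm)
      · have hc : (q.base p).asIdeal = Ideal.span {π} := by
          rw [hp, ← hπ.maximalIdeal_eq]
          rfl
        have h2 : IsLocalRing.maximalIdeal L = Ideal.span {algebraMap A L π} :=
          (Localization.AtPrime.map_eq_maximalIdeal).symm.trans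
            ((congrArg (Ideal.map (algebraMap A L)) hc).trans (by rw [Ideal.map_span, Set.image_singleton]))
        refine (IsLocalRing.map_ringEquiv_maximalIdeal ι).symm.trans ?_
        rw [h2, Ideal.map_span, Set.image_singleton]
    refine isDomain_of_flat_prime_span φ hflat ht0 ?_
    rw [← Set.image_singleton, ← Ideal.map_span, ← ht, ← hI, hIG]
    exact G.2
  refine ⟨P.fromSpecStalk p ⟨⊥, Ideal.isPrime_bot⟩, fromSpecStalk_specializes _, fun z hz => ?_⟩
  rw [← fromSpecStalk_genPrime hz]
  exact specializes_of_prime_le bot_le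

/-- Below a point over the closed point there is a point over it with the same dimension as a given
generisation in the generic fibre. -/
theorem exists_between {z s : P} (h : z ⤳ s) (hz : q.base z = genPt A)
    (hs : q.base s = IsLocalRing.closedPoint A) :
    ∃ w, z ⤳ w ∧ w ⤳ s ∧ q.base w = IsLocalRing.closedPoint A ∧ fdim q w = fdim q z := by
  obtain ⟨_, ⟨V, hV, rfl⟩, hsV, -⟩ :=
    P.isBasis_affineOpens.exists_subset_of_mem_open (Set.mem_univ s) isOpen_univ
  have hU : IsAffineOpen (⊤ : (Spec (CommRingCat.of A)).Opens) := isAffineOpen_top _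
  have hVU : V ≤ q ⁻¹ᵁ ⊤ := le_top
  letI := (q.appLE ⊤ V hVU).hom.toAlgebra
  let R := Γ(Spec (CommRingCat.of A), ⊤)
  let eA := (Scheme.ΓSpecIso (CommRingCat.of A)).commRingCatIsoToRingEquiv.symm
  haveI : IsDomain R := eA.symm.toMulEquiv.isDomain_iff.2 inferInstance
  haveI : IsPrincipalIdealRing R := IsPrincipalIdealRing.of_surjective eA.toRingHom eA.surjective
  haveI : IsLocalRing R := eA.isLocalRing
  haveI : Algebra.FiniteType R Γ(P, V) := RingHom.finiteType_algebraMap.1 (q.finiteType_appLE hU hV hVU)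
  have hzV : z ∈ V := h.mem_open V.2 hsV
  let g := hV.primeIdealOf ⟨z, hzV⟩
  let r := hV.primeIdealOf ⟨s, hsV⟩
  have key : ∀ t : PrimeSpectrum Γ(P, V),
      hU.fromSpec (PrimeSpectrum.comap (algebraMap R Γ(P, V)) t) = q.base (hV.fromSpec t) := fun t => by
    rw [← Scheme.Hom.comp_apply, ← IsAffineOpen.SpecMap_appLE_fromSpec q hU hV hVU, Scheme.Hom.comp_apply]
    rfl
  have hgr : g.asIdeal ≤ r.asIdeal := by
    refine (PrimeSpectrum.le_iff_specializes g r).2 (hV.fromSpec.isOpenEmbedding.toIsInducing.specializes_iff.1 ?_)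
    rw [hV.fromSpec_primeIdealOf, hV.fromSpec_primeIdealOf]; exact h
  have hg : g.asIdeal.under R = ⊥ := by
    refine le_antisymm ?_ bot_le
    let b : PrimeSpectrum R := ⟨⊥, Ideal.isPrime_bot⟩
    refine (PrimeSpectrum.le_iff_specializes (PrimeSpectrum.comap _ g) b).2
      (hU.fromSpec.isOpenEmbedding.toIsInducing.specializes_iff.1 ?_)
    rw [key, hV.fromSpec_primeIdealOf, hz]
    exact genPt_specializes _
  have hclosed : ∀ t : PrimeSpectrum Γ(P, V), t.asIdeal.under R = IsLocalRing.maximalIdeal R →
      q.base (hV.fromSpec t) = IsLocalRing.closedPoint A := fun t ht => by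
    rw [← key, show PrimeSpectrum.comap (algebraMap R Γ(P, V)) t = IsLocalRing.closedPoint R from
      PrimeSpectrum.ext ht]
    rcases eq_genPt_or (hU.fromSpec (IsLocalRing.closedPoint R)) with h1 | h1
    · exfalso
      have h2 := (IsLocalRing.specializes_closedPoint
        (PrimeSpectrum.comap (algebraMap R Γ(P, V)) r)).map hU.fromSpec.continuous
      rw [key, hV.fromSpec_primeIdealOf] at h2
      change q.base s ⤳ hU.fromSpec (IsLocalRing.closedPoint R) at h2
      rw [h1, hs] at h2
      exact genPt_ne_closedPoint (eq_genPt_of_specializes h2).symm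
    · exact h1
  have hr : r.asIdeal.under R = IsLocalRing.maximalIdeal R := by
    refine le_antisymm (IsLocalRing.le_maximalIdeal (Ideal.IsPrime.ne_top inferInstance)) ?_
    refine (PrimeSpectrum.le_iff_specializes (IsLocalRing.closedPoint R) (PrimeSpectrum.comap _ r)).2
      (hU.fromSpec.isOpenEmbedding.toIsInducing.specializes_iff.1 ?_)
    rw [key, hV.fromSpec_primeIdealOf, hs]
    exact IsLocalRing.specializes_closedPoint _
  obtain ⟨π, hπ⟩ : ∃ π, IsLocalRing.maximalIdeal R = Ideal.span {π} :=
    (IsPrincipalIdealRing.principal (IsLocalRing.maximalIdeal R)).principal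
  have hπ0 : π ≠ 0 := fun h0 => by
    rw [h0, Ideal.span_singleton_eq_bot.2 rfl] at hπ
    exact IsDiscreteValuationRing.not_a_field A (by
      rw [← IsLocalRing.map_ringEquiv_maximalIdeal eA.symm, hπ, Ideal.map_bot])
  let D := Γ(P, V) ⧸ g.asIdeal
  haveI : IsNoetherianRing Γ(P, V) := Algebra.FiniteType.isNoetherianRing R _
  haveI : FaithfulSMul R D := (faithfulSMul_iff_algebraMap_injective R D).2
    ((injective_iff_map_eq_zero _).2 fun a ha => by
      have h0 : algebraMap R Γ(P, V) a ∈ g.asIdeal := Ideal.Quotient.eq_zero_iff_mem.1 ha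
      have h1 : a ∈ g.asIdeal.under R := h0
      rwa [hg, Ideal.mem_bot] at h1)
  haveI : Algebra.FiniteType R D :=
    Algebra.FiniteType.of_surjective (Ideal.Quotient.mkₐ R g.asIdeal) Ideal.Quotient.mk_surjective
  let mk : Γ(P, V) →+* D := Ideal.Quotient.mk g.asIdeal
  let t : D := algebraMap R D π
  have ht : t ≠ 0 := fun h0 => hπ0 (FaithfulSMul.algebraMap_injective R D (h0.trans (map_zero _).symm))
  haveI : (r.asIdeal.map mk).IsPrime :=
    Ideal.map_isPrime_of_surjective Ideal.Quotient.mk_surjective (by rw [Ideal.mk_ker]; exact hgr)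
  have htr : Ideal.span {t} ≤ r.asIdeal.map mk := by
    rw [Ideal.span_le, Set.singleton_subset_iff]
    refine Ideal.mem_map_of_mem mk (?_ : algebraMap R Γ(P, V) π ∈ r.asIdeal)
    have : π ∈ r.asIdeal.under R := by rw [hr, hπ]; exact Ideal.mem_span_singleton_self π
    exact this
  obtain ⟨q', hq', hq'r⟩ := Ideal.exists_minimalPrimes_le htr
  haveI := hq'.1.1
  have hq'R : q'.under R = IsLocalRing.maximalIdeal R := by
    refine le_antisymm (IsLocalRing.le_maximalIdeal (Ideal.IsPrime.ne_top inferInstance)) ?_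
    rw [hπ, Ideal.span_le, Set.singleton_subset_iff]
    exact hq'.1.2 (Ideal.mem_span_singleton_self t)
  have hcat : CAlg.IsUniversallyCatenary (Localization.AtPrime (q'.under R)) := by
    haveI := Catenary.isCohenMacaulayRing_of_isRegularRing R
    refine Catenary.isUniversallyCatenary_of_surjective (algebraMap R (Localization.AtPrime (q'.under R))) ?_
    intro c
    obtain ⟨⟨a, b⟩, rfl⟩ := IsLocalization.mk'_surjective (q'.under R).primeCompl c
    obtain ⟨v, hv⟩ : IsUnit (b : R) := IsLocalRing.notMem_maximalIdeal.1 fun hb => b.2 (hq'R.ge hb)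
    refine ⟨a * (v⁻¹ : Rˣ), ?_⟩
    rw [IsLocalization.eq_mk'_iff_mul_eq, ← map_mul, mul_assoc, ← hv, Units.inv_mul, mul_one]
  obtain ⟨hq, hp, b, e, hhq, hhp, hb, he, hsum⟩ := height_formula (R := R) q' hcat
  have hbe : b = e := by
    have h1 := height_eq_one ht hq'
    have h2 : (q'.under R).height = 1 := by
      refine height_eq_one hπ0 ?_
      rw [← hπ, hq'R]
      exact ⟨⟨inferInstance, le_rfl⟩, fun J hJ _ => hJ.2⟩
    rw [hhq] at h1
    rw [hhp] at h2
    have h3 : hq = 1 := by exact_mod_cast h1
    have h4 : hp = 1 := by exact_mod_cast h2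
    omega
  let wp : PrimeSpectrum Γ(P, V) := ⟨q'.comap mk, inferInstance⟩
  let w := hV.fromSpec wp
  have hwV : w ∈ V := hV.range_fromSpec.le ⟨wp, rfl⟩
  have hwp : hV.primeIdealOf ⟨w, hwV⟩ = wp :=
    hV.fromSpec.isOpenEmbedding.injective (hV.fromSpec_primeIdealOf _)
  refine ⟨w, ?_, ?_, hclosed wp hq'R, ?_⟩
  · have h1 : g ≤ wp := fun c hc => by
      show mk c ∈ q'
      rw [Ideal.Quotient.eq_zero_iff_mem.2 hc]; exact zero_mem _
    have := ((PrimeSpectrum.le_iff_specializes g wp).1 h1).map hV.fromSpec.continuous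
    rwa [hV.fromSpec_primeIdealOf] at this
  · have h1 : wp ≤ r := by
      show q'.comap mk ≤ r.asIdeal
      refine le_trans (Ideal.comap_mono hq'r) (le_of_eq ?_)
      rw [Ideal.comap_map_of_surjective _ Ideal.Quotient.mk_surjective, ← RingHom.ker_eq_comap_bot, Ideal.mk_ker,
        sup_eq_left.2 hgr]
    have := ((PrimeSpectrum.le_iff_specializes wp r).1 h1).map hV.fromSpec.continuous
    rwa [hV.fromSpec_primeIdealOf] at this
  obtain ⟨m, hm, hdm⟩ := exists_dim_chart q hU hV hVU w hwV
  obtain ⟨m', hm', hdm'⟩ := exists_dim_chart q hU hV hVU z hzV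
  obtain ⟨k, hk, hkO⟩ := exists_fdim q w
  obtain ⟨l, hl, hlO⟩ := exists_fdim q z
  rw [hk, hl, ← hkO V V.2 hwV, ← hlO V V.2 hzV, hdm, hdm']
  rw [hwp] at hm
  let E : (Γ(P, V) ⧸ wp.asIdeal) ≃+* D ⧸ q' :=
    (Ideal.quotEquivOfEq (show wp.asIdeal = RingHom.ker ((Ideal.Quotient.mk q').comp mk) by
      rw [← RingHom.comap_ker, Ideal.mk_ker])).trans
      (RingHom.quotientKerEquivOfSurjective (Ideal.Quotient.mk_surjective.comp Ideal.Quotient.mk_surjective))
  have h1 : Algebra.trdeg (R ⧸ wp.asIdeal.under R) (Γ(P, V) ⧸ wp.asIdeal) = Algebra.trdeg (R ⧸ q'.under R) (D ⧸ q') :=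
    trdeg_eq_of_ringEquiv (Ideal.quotEquivOfEq rfl) E fun a => by
      obtain ⟨a, rfl⟩ := Ideal.Quotient.mk_surjective a
      rfl
  have h2 : Algebra.trdeg (R ⧸ g.asIdeal.under R) (Γ(P, V) ⧸ g.asIdeal) = Algebra.trdeg R D :=
    trdeg_eq_of_ringEquiv ((Ideal.quotEquivOfEq hg).trans (RingEquiv.quotientBot R)) (RingEquiv.refl D)
      fun a => by
      obtain ⟨a, rfl⟩ := Ideal.Quotient.mk_surjective a
      rfl
  have h5 : (m : Cardinal) = m' := by rw [← hm, h1, hb, hbe, ← he, ← h2, hm']
  exact_mod_cast h5

end Groth.Agent.GeomUnib.SectionComp
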