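import Groth.Agent.GeomUnib.NormalIdem
import Groth.Agent.GeomUnib.SectionConnNhd
import Groth.Agent.GeomUnib.SectionDvr
import Groth.Agent.GeomComp.Const
import Groth.Agent.VTop.Basic
import Groth.Agent.SpecSp.Constr

/-!
# The components of a section of a flat morphism of finite presentation

Over an arbitrary base the union of the components of a section is stable under generisation
where the fibres are geometrically reduced (valuative argument) and ind-constructible, so it is a
neighbourhood.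
-/

set_option autoImplicit false
set_option linter.style.haveILetI false
set_option linter.unusedSectionVars false
set_option backward.isDefEq.respectTransparency false
set_option maxHeartbeats 1000000
set_option synthInstance.maxHeartbeats 100000

universe u

open CategoryTheory CategoryTheory.Limits AlgebraicGeometry TopologicalSpace Topology
open Groth.Agent.GeomUnib.SectionComp

namespace Groth.Agent.GeomUnib.SectionConnFlat

/-- Idempotents of a localisation at regular elements come from squares equal to multiples. -/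
theorem exists_lift_idempotent {B : Type u} [CommRing B] (M : Submonoid B) (hM : M ≤ nonZeroDivisors B)
    {e : Localization M} (he : IsIdempotentElem e) :
    ∃ (a : B) (t : M), e * algebraMap B _ t = algebraMap B _ a ∧ a * a = (t : B) * a := by
  obtain ⟨⟨a, t⟩, h⟩ := IsLocalization.surj M e
  refine ⟨a, t, h, IsLocalization.injective (Localization M) hM ?_⟩
  rw [map_mul, map_mul, ← h]
  calc e * algebraMap B _ (t : B) * (e * algebraMap B _ (t : B))
      = (e * e) * (algebraMap B _ (t : B) * algebraMap B _ (t : B)) := by ring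
    _ = _ := by rw [he]; ring

/-- A union of connected components of a locally connected space is clopen. -/
theorem isClopen_of_component {α : Type u} [TopologicalSpace α] [LocallyConnectedSpace α] {S : Set α}
    (h : ∀ a b, b ∈ connectedComponent a → (a ∈ S ↔ b ∈ S)) : IsClopen S := by
  constructor
  · refine ⟨isOpen_iff_forall_mem_open.2 fun a ha => ⟨connectedComponent a, fun b hb => ?_,
      isOpen_connectedComponent, mem_connectedComponent⟩⟩
    exact fun hbS => ha ((h a b hb).2 hbS)
  · exact isOpen_iff_forall_mem_open.2 fun a ha => ⟨connectedComponent a, fun b hb => (h a b hb).1 ha,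
      isOpen_connectedComponent, mem_connectedComponent⟩

variable {A : Type u} [CommRing A] [IsDomain A]

lemma genPt_specializes' (a : Spec (CommRingCat.of A)) : genPt A ⤳ a :=
  (PrimeSpectrum.le_iff_specializes _ _).1 bot_le

lemma eq_genPt_of_specializes' {a : Spec (CommRingCat.of A)} (h : a ⤳ genPt A) : a = genPt A :=
  (h.antisymm (genPt_specializes' a)).eq

variable [IsIntegrallyClosed A]

/-- Near a point with geometrically reduced fibre the generic fibre lies on one side of each connected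
component. -/
theorem exists_nhds_one_side {P : Scheme.{u}} (q : P ⟶ Spec (CommRingCat.of A)) [Flat q]
    [LocallyOfFinitePresentation q] {z : P}
    (hz : FBase.IsGeomReducedAt (q.fiberToSpecResidueField (q.base z)) (q.asFiber z)) (b₀ : P) :
    ∃ O : P.Opens, z ∈ O ∧
      ((∀ m ∈ O, q.base m = genPt A → m ∈ connectedComponentIn (q.base ⁻¹' {genPt A}) b₀) ∨
        ∀ m ∈ O, q.base m = genPt A → m ∉ connectedComponentIn (q.base ⁻¹' {genPt A}) b₀) := by
  classical
  let Pη : Set P := q.base ⁻¹' {genPt A}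
  let K : Set P := connectedComponentIn Pη b₀
  have hU : IsAffineOpen (⊤ : (Spec (CommRingCat.of A)).Opens) := isAffineOpen_top _
  obtain ⟨V, hV, hzV, -⟩ := exists_isAffineOpen_mem_and_subset (U := (⊤ : P.Opens)) (x := z) trivial
  have hVU : V ≤ q ⁻¹ᵁ ⊤ := le_top
  letI := (q.appLE ⊤ V hVU).hom.toAlgebra
  let R : Type u := Γ(Spec (CommRingCat.of A), ⊤)
  let eA : A ≃+* R := (Scheme.ΓSpecIso (CommRingCat.of A)).commRingCatIsoToRingEquiv.symm
  haveI : IsDomain R := eA.symm.toMulEquiv.isDomain_iff.2 inferInstance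
  haveI : IsIntegrallyClosed R := IsIntegrallyClosed.of_equiv eA
  let B : Type u := Γ(P, V)
  haveI : Module.Flat R B := q.flat_appLE hU hV hVU
  haveI : Algebra.FinitePresentation R B := q.finitePresentation_appLE hU hV hVU
  have hgr : GRAt R B (hV.primeIdealOf ⟨z, hzV⟩).asIdeal := grAt_of_isGeomReducedAt q hU hV hVU hzV hz
  -- the generic fibre of the chart
  let M : Submonoid B := Algebra.algebraMapSubmonoid B (nonZeroDivisors R)
  have hM : M ≤ nonZeroDivisors B := by
    rintro _ ⟨r, hr, rfl⟩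
    have h : IsSMulRegular B (algebraMap R B r) := (IsSMulRegular.of_right_eq_zero_of_smul (fun x hx => by
      exact (mul_eq_zero.1 hx).resolve_left (nonZeroDivisors.ne_zero hr)) : IsSMulRegular R r).of_flat
    exact mem_nonZeroDivisors_iff_right.2 fun x hx => h.right_eq_zero_of_smul
      (show algebraMap R B r * x = 0 by rw [mul_comm]; exact hx)
  let LB : Type u := Localization M
  haveI : IsNoetherianRing LB := by
    let K₀ := FractionRing R
    letI : Algebra K₀ LB := (IsLocalization.lift (M := nonZeroDivisors R) (g := algebraMap R LB) fun r => by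
      rw [IsScalarTower.algebraMap_apply R B LB]
      exact IsLocalization.map_units LB (⟨_, r, r.2, rfl⟩ : M)).toAlgebra
    haveI : IsScalarTower R K₀ LB := IsScalarTower.of_algebraMap_eq' (IsLocalization.lift_comp _).symm
    haveI : Algebra.EssFiniteType B LB := Algebra.EssFiniteType.of_isLocalization LB M
    haveI : Algebra.EssFiniteType R LB := Algebra.EssFiniteType.comp R B LB
    haveI : Algebra.EssFiniteType K₀ LB := Algebra.EssFiniteType.of_comp R K₀ LB
    exact Algebra.EssFiniteType.isNoetherianRing K₀ LB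
  haveI : LocallyConnectedSpace (PrimeSpectrum LB) :=
    S2277.result _ fun a => ⟨Set.univ, Filter.univ_mem, inferInstance⟩
  let j : PrimeSpectrum LB → P := fun Q => hV.fromSpec.base (PrimeSpectrum.comap (algebraMap B LB) Q)
  have hj : Continuous j := hV.fromSpec.continuous.comp (PrimeSpectrum.continuous_comap _)
  have hqkey : ∀ Q : PrimeSpectrum B,
      hU.fromSpec (PrimeSpectrum.comap (algebraMap R B) Q) = q.base (hV.fromSpec Q) := fun Q => by
    rw [← Scheme.Hom.comp_apply, ← IsAffineOpen.SpecMap_appLE_fromSpec q hU hV hVU, Scheme.Hom.comp_apply]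
    rfl
  have hbot : hU.fromSpec (⟨⊥, Ideal.isPrime_bot⟩ : PrimeSpectrum R) = genPt A := by
    obtain ⟨T, hT⟩ : genPt A ∈ Set.range hU.fromSpec := by rw [hU.range_fromSpec]; trivial
    exact eq_genPt_of_specializes' (hT ▸ ((PrimeSpectrum.le_iff_specializes
      (⟨⊥, Ideal.isPrime_bot⟩ : PrimeSpectrum R) T).1 bot_le).map hU.fromSpec.continuous)
  have hgen : ∀ Q : PrimeSpectrum B, q.base (hV.fromSpec Q) = genPt A ↔
      (Q.asIdeal.comap (algebraMap R B)) = ⊥ := by
    intro Q
    rw [← hqkey, ← hbot, hU.fromSpec.isOpenEmbedding.injective.eq_iff]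
    exact ⟨fun h => congrArg PrimeSpectrum.asIdeal h, fun h => PrimeSpectrum.ext h⟩
  have hjη : ∀ Q, j Q ∈ Pη := fun Q => by
    refine (hgen _).2 (eq_bot_iff.2 fun r hr => ?_)
    by_contra h0
    have h1 : algebraMap B LB (algebraMap R B r) ∈ Q.asIdeal := hr
    exact Q.isPrime.ne_top (Ideal.eq_top_of_isUnit_mem _ h1
      (IsLocalization.map_units LB (⟨_, r, mem_nonZeroDivisors_of_ne_zero h0, rfl⟩ : M)))
  let S : Set (PrimeSpectrum LB) := j ⁻¹' K
  have hS : IsClopen S := isClopen_of_component fun a b hb => by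
    have hsub : j '' connectedComponent a ⊆ connectedComponentIn Pη (j a) :=
      (isPreconnected_connectedComponent.image j hj.continuousOn).subset_connectedComponentIn
        ⟨a, mem_connectedComponent, rfl⟩ (by rintro _ ⟨c, -, rfl⟩; exact hjη c)
    have hba : j b ∈ connectedComponentIn Pη (j a) := hsub ⟨b, hb, rfl⟩
    constructor
    · intro ha
      show j b ∈ connectedComponentIn Pη b₀
      rw [connectedComponentIn_eq (show j a ∈ connectedComponentIn Pη b₀ from ha)]
      exact hba
    · intro hb'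
      show j a ∈ connectedComponentIn Pη b₀
      rw [connectedComponentIn_eq (show j b ∈ connectedComponentIn Pη b₀ from hb'), ← connectedComponentIn_eq hba]
      exact mem_connectedComponentIn (hjη a)
  obtain ⟨e, he, hSe⟩ := PrimeSpectrum.isClopen_iff.1 hS
  obtain ⟨a, ⟨T, hT⟩, hea, haT⟩ := exists_lift_idempotent M hM he
  obtain ⟨r, hr, rfl⟩ := id hT
  obtain ⟨s, hs, hsa⟩ := NormalIdem.exists_mul_mem_span _ hgr (nonZeroDivisors.ne_zero hr) haT
  obtain ⟨d, hd⟩ := Ideal.mem_span_singleton'.1 hsa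
  let zI := (hV.primeIdealOf ⟨z, hzV⟩).asIdeal
  have hdd : d * d = s * d := by
    refine sub_eq_zero.1 ((mem_nonZeroDivisors_iff_right.1 (mul_mem (hM hT) (hM hT))) _ ?_)
    calc (d * d - s * d) * (algebraMap R B r * algebraMap R B r)
        = (d * algebraMap R B r) * (d * algebraMap R B r) - s * (d * algebraMap R B r) * algebraMap R B r := by ring
      _ = s * s * (a * a - algebraMap R B r * a) := by rw [hd]; ring
      _ = 0 := by rw [haT, sub_self, mul_zero]
  -- the generic points of the chart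
  have hlift : ∀ Q' : PrimeSpectrum B, q.base (hV.fromSpec Q') = genPt A →
      ∃ Q : PrimeSpectrum LB, PrimeSpectrum.comap (algebraMap B LB) Q = Q' := by
    intro Q' hQ'
    have hdisj : Disjoint (M : Set B) (Q'.asIdeal : Set B) := by
      rw [Set.disjoint_left]
      rintro _ ⟨x, hx, rfl⟩ hxQ
      exact nonZeroDivisors.ne_zero hx ((Ideal.mem_bot).1 (((hgen Q').1 hQ').le hxQ))
    exact (PrimeSpectrum.localization_comap_range LB M).ge hdisj
  have hside : ∀ Q : PrimeSpectrum LB, algebraMap B LB a ∈ Q.asIdeal ↔ j Q ∉ K := by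
    intro Q
    have h1 : j Q ∈ K ↔ e ∉ Q.asIdeal := by
      show Q ∈ S ↔ _
      rw [hSe]
      rfl
    rw [h1, not_not, ← hea]
    exact Ideal.mul_unit_mem_iff_mem _ (IsLocalization.map_units LB (⟨_, hT⟩ : M))
  have hpt : hV.fromSpec (hV.primeIdealOf ⟨z, hzV⟩) = z := hV.fromSpec_primeIdealOf _
  by_cases hdz : d ∈ zI
  · have hsd : s - d ∉ zI := fun h => hs (by simpa using add_mem h hdz)
    refine ⟨hV.fromSpec ''ᵁ PrimeSpectrum.basicOpen (s * (s - d)),
      ⟨hV.primeIdealOf ⟨z, hzV⟩, fun h => (Ideal.IsPrime.mem_or_mem inferInstance h).elim hs hsd, hpt⟩, Or.inr ?_⟩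
    rintro _ ⟨Q', hQ'w, rfl⟩ hQ'
    obtain ⟨Q, rfl⟩ := hlift Q' hQ'
    refine (hside Q).1 ?_
    let Q'' := (PrimeSpectrum.comap (algebraMap B LB) Q).asIdeal
    have hs'' : s ∉ Q'' := fun h => hQ'w (Ideal.mul_mem_right _ _ h)
    have hd'' : d ∈ Q'' := by
      have h0 : d * (s - d) ∈ Q'' := by
        rw [show d * (s - d) = 0 by rw [mul_sub, hdd, mul_comm, sub_self]]
        exact Q''.zero_mem
      exact ((Ideal.IsPrime.mem_or_mem inferInstance h0).resolve_right
        fun h => hQ'w (Ideal.mul_mem_left _ _ h))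
    have hsa'' : s * a ∈ Q'' := hd ▸ Ideal.mul_mem_right _ _ hd''
    exact (Ideal.IsPrime.mem_or_mem inferInstance hsa'').resolve_left hs''
  · refine ⟨hV.fromSpec ''ᵁ PrimeSpectrum.basicOpen (s * d),
      ⟨hV.primeIdealOf ⟨z, hzV⟩, fun h => (Ideal.IsPrime.mem_or_mem inferInstance h).elim hs hdz, hpt⟩, Or.inl ?_⟩
    rintro _ ⟨Q', hQ'w, rfl⟩ hQ'
    obtain ⟨Q, rfl⟩ := hlift Q' hQ'
    show j Q ∈ K
    by_contra hnK
    let Q'' := (PrimeSpectrum.comap (algebraMap B LB) Q).asIdeal
    have ha : a ∈ Q'' := (hside Q).2 hnK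
    have hdT : d * algebraMap R B r ∈ Q'' := hd ▸ Ideal.mul_mem_left _ _ ha
    rcases Ideal.IsPrime.mem_or_mem inferInstance hdT with h | h
    · exact hQ'w (Ideal.mul_mem_left _ _ h)
    · exact Q.isPrime.ne_top (Ideal.eq_top_of_isUnit_mem _ h (IsLocalization.map_units LB (⟨_, hT⟩ : M)))

variable {X Y : Scheme.{u}} {f : X ⟶ Y} {g : Y ⟶ X} [Flat f] [LocallyOfFinitePresentation f]

/-- **Generisations stay in the components.** -/
theorem mem_sectionComponents_of_gen (hg : g ≫ f = 𝟙 Y) {y : Y} {x x' : X}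
    (hx : x ∈ X0 f g y) (hyp : ∀ a ∈ X0 f g y,
      FBase.IsGeomReducedAt (f.fiberToSpecResidueField (f.base a)) (f.asFiber a))
    (hxx : x' ⤳ x) : x' ∈ MoreMor.sectionComponents f g := by
  have hfx : f.base x = y := apply_of_mem_X0 hx
  obtain ⟨W, _, _, h, hgen, hc⟩ := VTop.exists_valuationRing hxx
  let A : Type u := W
  let h' : Spec (CommRingCat.of A) ⟶ X := h
  let k := h' ≫ f
  let P := pullback f k
  let q : P ⟶ Spec (CommRingCat.of A) := pullback.snd f k
  let ρ : P ⟶ X := pullback.fst f k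
  let σ : Spec (CommRingCat.of A) ⟶ P := pullback.lift (k ≫ g) (𝟙 _)
    (by rw [Category.assoc, hg, Category.comp_id, Category.id_comp])
  let s : Spec (CommRingCat.of A) ⟶ P := pullback.lift h' (𝟙 _) (by rw [Category.id_comp])
  have hσq : σ ≫ q = 𝟙 _ := pullback.lift_snd _ _ _
  have hsq : s ≫ q = 𝟙 _ := pullback.lift_snd _ _ _
  have hσρ : σ ≫ ρ = k ≫ g := pullback.lift_fst _ _ _
  have hsρ : ∀ a, ρ.base (s.base a) = h'.base a := fun a => by
    rw [← Scheme.Hom.comp_apply, pullback.lift_fst]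
  have hpb : IsPullback ρ q f k := IsPullback.of_hasPullback f k
  haveI : LocallyOfFinitePresentation q := MorphismProperty.pullback_snd f k ‹_›
  haveI : Flat q := MorphismProperty.pullback_snd f k ‹_›
  haveI : IsIntegrallyClosed A := inferInstance
  let c := IsLocalRing.closedPoint A
  let η := genPt A
  have hkc : k.base c = y := by
    show f.base (h'.base c) = y
    rw [show h'.base c = x from hc, hfx]
  let C := X0 q σ c
  have hCy : ∀ a ∈ C, ρ.base a ∈ X0 f g y := fun a ha => hkc ▸ SectionBC.mem_X0_map hpb hσρ hσq ha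
  have hsc : s.base c ∈ C := SectionBC.mem_X0_of_map hpb hσρ hσq hg (section_apply hsq c) (by
    rw [hsρ, hkc, show h'.base c = x from hc]; exact hx)
  let K : Set P := connectedComponentIn (q.base ⁻¹' {η}) (σ.base η)
  let Ok : Set P := ⋃ O ∈ {O : P.Opens | ∀ m ∈ O, q.base m = η → m ∈ K}, (O : Set P)
  let Od : Set P := ⋃ O ∈ {O : P.Opens | ∀ m ∈ O, q.base m = η → m ∉ K}, (O : Set P)
  have hgood : C ⊆ Ok ∪ Od := fun a ha => by
    obtain ⟨O, haO, hO | hO⟩ := exists_nhds_one_side q (z := a)
      ((SectionBC.grk_iff q a).1 ((SectionBC.grk_iff_of_isPullback hpb a).2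
        ((SectionBC.grk_iff f _).2 (hyp _ (hCy a ha))))) (σ.base η)
    · exact Or.inl (Set.mem_biUnion (x := O) hO haO)
    · exact Or.inr (Set.mem_biUnion (x := O) hO haO)
  have hσK : σ.base η ∈ K := mem_connectedComponentIn (section_apply hσq η)
  have hσOk : σ.base c ∈ Ok := (hgood (mem_X0 hσq c)).resolve_right fun hd => by
    obtain ⟨O, hO, hcO⟩ := Set.mem_iUnion₂.1 hd
    exact hO _ (((genPt_specializes' c).map σ.continuous).mem_open O.2 hcO) (section_apply hσq η) hσK
  have hsη : s.base η ∈ K := by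
    by_contra hnK
    have hsOd : s.base c ∈ Od := (hgood hsc).resolve_left fun hk => by
      obtain ⟨O, hO, hcO⟩ := Set.mem_iUnion₂.1 hk
      exact hnK (hO _ (((genPt_specializes' c).map s.continuous).mem_open O.2 hcO) (section_apply hsq η))
    obtain ⟨a, haC, hak, had⟩ := isPreconnected_connectedComponentIn (F := q.base ⁻¹' {c}) (x := σ.base c)
      Ok Od (isOpen_biUnion fun O _ => O.2) (isOpen_biUnion fun O _ => O.2) hgood
      ⟨σ.base c, mem_X0 hσq c, hσOk⟩ ⟨s.base c, hsc, hsOd⟩
    obtain ⟨O₁, hO₁, haO₁⟩ := Set.mem_iUnion₂.1 hak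
    obtain ⟨O₂, hO₂, haO₂⟩ := Set.mem_iUnion₂.1 had
    obtain ⟨b, hb, hbη⟩ := Flat.generalizingMap q (genPt_specializes' (q.base a))
    exact hO₂ b (hb.mem_open O₂.2 haO₂) hbη (hO₁ b (hb.mem_open O₁.2 haO₁) hbη)
  have hfin := SectionBC.mem_X0_map hpb hσρ hσq (y := η) (hsη : s.base η ∈ X0 q σ η)
  rw [hsρ, show k.base η = f.base (h'.base η) from rfl, show h'.base η = x' from hgen] at hfin
  exact hfin

/-- A point all whose generisations lie in constructible subsets of a set is interior to it. -/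
theorem mem_interior_of_constructible {R : Type u} [CommRing R] (E : Set (PrimeSpectrum R)) (x : PrimeSpectrum R)
    (h : ∀ z, z ⤳ x → ∃ C : Set (PrimeSpectrum R), IsConstructible C ∧ z ∈ C ∧ C ⊆ E) : x ∈ interior E := by
  classical
  let ι := {C : Set (PrimeSpectrum R) // IsConstructible C ∧ C ⊆ E} ⊕ {g : R // g ∉ x.asIdeal}
  let U : ι → Set (PrimeSpectrum R) := Sum.elim (fun C => C.1) fun g => PrimeSpectrum.zeroLocus {g.1}
  have hU : ∀ i, IsConstructible (U i) := by
    rintro (C | g)
    · exact C.2.1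
    · have := (PrimeSpectrum.isConstructible_basicOpen (f := g.1)).compl
      rwa [PrimeSpectrum.basicOpen_eq_zeroLocus_compl, compl_compl] at this
  obtain ⟨t, ht⟩ := @IsCompact.elim_finite_subcover (PrimeSpectrum R) (constructibleTopology (PrimeSpectrum R))
    Set.univ _ (SpecSp.isCompact_cons (@isClosed_univ _ (constructibleTopology (PrimeSpectrum R)))) U
    (fun i => (SpecSp.isClopen_cons_of_isConstructible (hU i)).2) (fun z _ => by
      by_cases hz : z ⤳ x
      · obtain ⟨C, hC, hzC, hCE⟩ := h z hz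
        exact Set.mem_iUnion.2 ⟨Sum.inl ⟨C, hC, hCE⟩, hzC⟩
      · rw [← PrimeSpectrum.le_iff_specializes] at hz
        obtain ⟨g, hgz, hgx⟩ := SetLike.not_le_iff_exists.1 (show ¬ z.asIdeal ≤ x.asIdeal from hz)
        exact Set.mem_iUnion.2 ⟨Sum.inr ⟨g, hgx⟩, Set.singleton_subset_iff.2 hgz⟩)
  let g : R := ∏ i ∈ t, Sum.elim (fun _ => (1 : R)) (fun g => g.1) i
  have hg : g ∉ x.asIdeal := fun hmem => by
    obtain ⟨i, -, hi⟩ := (Ideal.IsPrime.prod_mem_iff (p := x.asIdeal)).1 hmem
    rcases i with C | g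
    · exact x.isPrime.ne_top ((Ideal.eq_top_iff_one _).2 hi)
    · exact g.2 hi
  refine mem_interior.2 ⟨PrimeSpectrum.basicOpen g, fun z hz => ?_, (PrimeSpectrum.basicOpen g).2, hg⟩
  obtain ⟨i, hit, hzi⟩ := Set.mem_iUnion₂.1 (ht (Set.mem_univ z))
  rcases i with C | g'
  · exact C.2.2 hzi
  · exfalso
    obtain ⟨c, hc⟩ := Finset.dvd_prod_of_mem (Sum.elim (fun _ => (1 : R)) (fun g => g.1)) hit
    refine hz ?_
    show (∏ i ∈ t, Sum.elim (fun _ => (1 : R)) (fun g => g.1) i) ∈ z.asIdeal
    rw [hc]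
    exact Ideal.mul_mem_right _ _ (Set.singleton_subset_iff.1 hzi)

/-- **The union of the components is a neighbourhood**, over an affine base. -/
theorem subset_interior_affine {A : Type u} [CommRing A] {X : Scheme.{u}} [QuasiSeparatedSpace X]
    {f : X ⟶ Spec (CommRingCat.of A)} [Flat f] [LocallyOfFinitePresentation f]
    {g : Spec (CommRingCat.of A) ⟶ X} (hg : g ≫ f = 𝟙 _) {y : Spec (CommRingCat.of A)}
    (hyp : ∀ a ∈ X0 f g y, FBase.IsGeomReducedAt (f.fiberToSpecResidueField (f.base a)) (f.asFiber a)) :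
    X0 f g y ⊆ interior (MoreMor.sectionComponents f g) := by
  intro x hx
  obtain ⟨U, hU, hxU, -⟩ := exists_isAffineOpen_mem_and_subset (U := (⊤ : X.Opens)) (x := x) trivial
  obtain ⟨P, rfl⟩ : x ∈ Set.range hU.fromSpec := by rw [hU.range_fromSpec]; exact hxU
  let E := MoreMor.sectionComponents f g
  suffices h : P ∈ interior (hU.fromSpec.base ⁻¹' E) by
    obtain ⟨O, hOE, hO, hPO⟩ := mem_interior.1 h
    exact mem_interior.2 ⟨hU.fromSpec '' O, Set.image_subset_iff.2 hOE,
      hU.fromSpec.isOpenEmbedding.isOpenMap _ hO, P, hPO, rfl⟩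
  refine mem_interior_of_constructible _ P fun z hz => ?_
  have hzE := mem_sectionComponents_of_gen hg hx hyp (hz.map hU.fromSpec.continuous)
  obtain ⟨W, hWc, hgW, hzW, hW⟩ := SectionConnNhd.exists_open_pre_two f (f.base (hU.fromSpec z))
    (section_apply hg (f.base (hU.fromSpec z))) hzE
  haveI : CompactSpace ↥(W : Scheme.{u}) := isCompact_iff_compactSpace.1 hWc
  haveI : QuasiSeparatedSpace ↥(W : Scheme.{u}) := W.ι.isOpenEmbedding.quasiSeparatedSpace
  haveI : QuasiSeparated (W.ι ≫ f) := QuasiSeparated.of_quasiSeparatedSpace _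
  haveI : QuasiCompact (W.ι ≫ f) := inferInstance
  haveI : QuasiCompact g := inferInstance
  let V₁ : Set (Spec (CommRingCat.of A)) :=
    {y' | (MoreMor.nGeomIrredComp (W.ι ≫ f) y', MoreMor.nGeomConnComp (W.ι ≫ f) y') ∈
      {p : ℕ∞ × ℕ∞ | p.2 = 1}}
  have hV₁ : IsLocallyConstructible V₁ := GeomComp.isLocallyConstructible_counts (W.ι ≫ f) _
  have hV₂ : IsConstructible (g.base ⁻¹' (W : Set X)) :=
    (g.isCompact_preimage hWc).isConstructible (W.2.preimage g.continuous)
  have hW' : IsConstructible (hU.fromSpec.base ⁻¹' (W : Set X)) :=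
    (hU.fromSpec.isCompact_preimage hWc).isConstructible (W.2.preimage hU.fromSpec.continuous)
  refine ⟨hU.fromSpec.base ⁻¹' (W : Set X) ∩
    (hU.fromSpec ≫ f).base ⁻¹' (V₁ ∩ g.base ⁻¹' (W : Set X)), hW'.inter ?_, ⟨hzW, ?_, hgW⟩, ?_⟩
  · exact Scheme.Hom.isConstructible_preimage (hU.fromSpec ≫ f) (hV₁.isConstructible.inter hV₂)
  · exact SectionConnNhd.nGeomConnComp_eq_one hg W hgW hW
  · rintro w ⟨hwW, hw1, hgwW⟩
    exact (SectionConnNhd.isPreconnected_of_nGeomConnComp W hw1).subset_connectedComponentIn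
      ⟨hgwW, section_apply hg _⟩ Set.inter_subset_right ⟨hwW, rfl⟩

/-- **The union of the components is a neighbourhood**, when preimages of affines are quasi-separated. -/
theorem subset_interior {X Y : Scheme.{u}} {f : X ⟶ Y} [Flat f] [LocallyOfFinitePresentation f] {g : Y ⟶ X}
    (hg : g ≫ f = 𝟙 Y) (hqs : ∀ U : Y.Opens, IsAffineOpen U → IsQuasiSeparated (f.base ⁻¹' (U : Set Y))) {y : Y}
    (hyp : ∀ a ∈ X0 f g y, FBase.IsGeomReducedAt (f.fiberToSpecResidueField (f.base a)) (f.asFiber a)) :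
    X0 f g y ⊆ interior (MoreMor.sectionComponents f g) := by
  intro x hx
  obtain ⟨U, hU, hyU, -⟩ := exists_isAffineOpen_mem_and_subset (U := (⊤ : Y.Opens)) (x := y) trivial
  obtain ⟨y', rfl⟩ : y ∈ Set.range hU.fromSpec := by rw [hU.range_fromSpec]; exact hyU
  let π := hU.fromSpec
  let P := pullback f π
  let ρ : P ⟶ X := pullback.fst f π
  let q : P ⟶ Spec Γ(Y, U) := pullback.snd f π
  have hpb : IsPullback ρ q f π := IsPullback.of_hasPullback f π
  let σ : Spec Γ(Y, U) ⟶ P := pullback.lift (π ≫ g) (𝟙 _)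
    (by rw [Category.assoc, hg, Category.comp_id, Category.id_comp])
  have hσq : σ ≫ q = 𝟙 _ := pullback.lift_snd _ _ _
  have hσρ : σ ≫ ρ = π ≫ g := pullback.lift_fst _ _ _
  haveI : Flat q := MorphismProperty.pullback_snd f π ‹_›
  haveI : LocallyOfFinitePresentation q := MorphismProperty.pullback_snd f π ‹_›
  haveI : QuasiSeparatedSpace P := by
    rw [← isQuasiSeparated_univ_iff]
    refine (Topology.IsOpenEmbedding.isQuasiSeparated_iff ρ.isOpenEmbedding).2 ?_
    rw [Set.image_univ, Scheme.Pullback.range_fst, hU.range_fromSpec]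
    exact hqs U hU
  have hfx : f.base x = π.base y' := apply_of_mem_X0 hx
  obtain ⟨x', hx'ρ, hx'q⟩ := Scheme.Pullback.exists_preimage_pullback (f := f) (g := π) x y' hfx
  have hmap : ∀ a, a ∈ X0 q σ y' → ρ.base a ∈ X0 f g (π.base y') := fun a ha =>
    SectionBC.mem_X0_map hpb hσρ hσq ha
  have h := subset_interior_affine (A := Γ(Y, U)) hσq (y := y') (fun a ha =>
      (SectionBC.grk_iff q a).1 ((SectionBC.grk_iff_of_isPullback hpb a).2
        ((SectionBC.grk_iff f _).2 (hyp _ (hmap a ha)))))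
    (SectionBC.mem_X0_of_map hpb hσρ hσq hg hx'q (hx'ρ.symm ▸ hx))
  obtain ⟨O, hOE, hO, hxO⟩ := mem_interior.1 h
  refine mem_interior.2 ⟨ρ.base '' O, ?_, ρ.isOpenEmbedding.isOpenMap _ hO, x', hxO, hx'ρ⟩
  rintro _ ⟨a, ha, rfl⟩
  show ρ.base a ∈ X0 f g (f.base (ρ.base a))
  rw [show f.base (ρ.base a) = π.base (q.base a) from congr($(hpb.w) a)]
  exact SectionBC.mem_X0_map hpb hσρ hσq (hOE ha)

end Groth.Agent.GeomUnib.SectionConnFlat
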