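import Groth.Agent.GeomUnib.FibreGen
import Groth.Agent.GeomUnib.FibreDimNhds
import Groth.Agent.GeomUnib.HyperplaneFibre
import Groth.Agent.GeomUnib.SectionConnFlat
import Groth.Agent.GeomUnib.Scheme
import Groth.Agent.GeomCount.Basic
import Groth.Agent.OpenAt.Basic
import Groth.Agent.BMCoh.Basic
import Groth.Agent.FlatDescent.FibreDepth.TorsionConstr

/-!
# Dominant components
-/

set_option autoImplicit false
set_option linter.style.haveILetI false
set_option linter.unusedSectionVars false
set_option backward.isDefEq.respectTransparency false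

universe u

open CategoryTheory AlgebraicGeometry TopologicalSpace IsLocalRing

namespace Groth.Agent.GeomUnib.DominantComp

open FibreDim

variable {X Y : Scheme.{u}} (f : X ⟶ Y)

/-- Near a point every point has a maximal generisation generising the given one. -/
theorem exists_nhds_maximal_gen [IsLocallyNoetherian X] (x : X) :
    ∃ O : X.Opens, x ∈ O ∧ ∀ x' ∈ O, ∃ ξ : X, ξ ⤳ x' ∧ ξ ⤳ x ∧ closure {ξ} ∈ irreducibleComponents (X : Type u) := by
  classical
  obtain ⟨U, hU, hxU, -⟩ := exists_isAffineOpen_mem_and_subset (U := (⊤ : X.Opens)) (x := x) trivial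
  haveI : IsNoetherianRing Γ(X, U) := IsLocallyNoetherian.component_noetherian ⟨U, hU⟩
  let q := hU.primeIdealOf ⟨x, hxU⟩
  let F := (minimalPrimes.finite_of_isNoetherianRing (R := Γ(X, U))).toFinset.filter fun p => ¬p ≤ q.asIdeal
  choose! s hs hsq using fun p (hp : p ∈ F) => Set.not_subset.1 (Finset.mem_filter.1 hp).2
  let a := ∏ p ∈ F, s p
  refine ⟨hU.fromSpec ''ᵁ PrimeSpectrum.basicOpen a, ⟨q, (fun ha => ?_ : a ∉ q.asIdeal), hU.fromSpec_primeIdealOf _⟩, ?_⟩
  · obtain ⟨p, hp, hp'⟩ := (Ideal.IsPrime.prod_mem_iff (p := q.asIdeal)).1 ha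
    exact hsq p hp hp'
  · rintro _ ⟨P, hP, rfl⟩
    obtain ⟨p, hp, hpP⟩ := Ideal.exists_minimalPrimes_le (I := (⊥ : Ideal Γ(X, U))) (J := P.asIdeal) bot_le
    haveI : p.IsPrime := hp.1.1
    have hpq : p ≤ q.asIdeal := by
      by_contra hne
      have hpF : p ∈ F := Finset.mem_filter.2 ⟨(Set.Finite.mem_toFinset _).2 hp, hne⟩
      exact hP (Ideal.prod_mem P.asIdeal hpF (hpP (hs p hpF)))
    let pt : PrimeSpectrum Γ(X, U) := ⟨p, inferInstance⟩
    have hq : hU.fromSpec q = x := hU.fromSpec_primeIdealOf _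
    refine ⟨hU.fromSpec pt, ((PrimeSpectrum.le_iff_specializes pt P).1 hpP).map hU.fromSpec.continuous,
      hq ▸ ((PrimeSpectrum.le_iff_specializes pt q).1 hpq).map hU.fromSpec.continuous, ?_⟩
    refine ⟨isIrreducible_singleton.closure, fun D hD hle => ?_⟩
    obtain ⟨γ, hγ⟩ := QuasiSober.sober hD.closure isClosed_closure
    have h1 : γ ⤳ hU.fromSpec pt := hγ.specializes (subset_closure (hle (subset_closure rfl)))
    obtain ⟨r, hr⟩ : γ ∈ Set.range hU.fromSpec := by
      rw [hU.range_fromSpec]; exact h1.mem_open U.2 (hU.range_fromSpec.le ⟨pt, rfl⟩)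
    rw [← hr, hU.fromSpec.isOpenEmbedding.toIsInducing.specializes_iff, ← PrimeSpectrum.le_iff_specializes] at h1
    have heq : r = pt := PrimeSpectrum.ext (le_antisymm h1 (hp.2 ⟨r.2, bot_le⟩ h1))
    intro d hd
    rw [← heq]
    exact (hr ▸ hγ.specializes (subset_closure hd)).mem_closure

/-- The dominant component through an open generic point of a fibre. -/
theorem exists_dominant_component [IrreducibleSpace Y] [IsLocallyNoetherian Y] [LocallyOfFiniteType f] {ζ : X}
    (hmax : ∀ x' : X, f.base x' = f.base ζ → ζ ∈ closure {x'} → x' = ζ) (hopen : EGA43.IsOpenAt f.base ζ) :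
    ∃ z : X, closure {z} ∈ irreducibleComponents (X : Type u) ∧ z ⤳ ζ ∧ f.base z = genericPoint Y ∧
      fdim f z = fdim f ζ ∧
      ∀ hζ : ζ ∈ closure {z} ∩ f.base ⁻¹' {f.base ζ},
        FlatMor.localDim ↥(closure ({z} : Set X) ∩ f.base ⁻¹' {f.base ζ}) ⟨ζ, hζ⟩ = fdim f ζ := by
  obtain ⟨w, hwζ, hwη, hle⟩ := exists_gen_of_isOpenAt f ζ hmax hopen (genericPoint Y) (genericPoint_specializes _)
  obtain ⟨Z, hZ, z, hz, hzw, hzη, hwz⟩ := exists_component_over f w fun η' h => hwη.symm ▸ genericPoint_specializes η'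
  have hloc : ∀ hζ : ζ ∈ closure {z} ∩ f.base ⁻¹' {f.base ζ},
      FlatMor.localDim ↥(closure ({z} : Set X) ∩ f.base ⁻¹' {f.base ζ}) ⟨ζ, hζ⟩ = fdim f ζ := by
    intro hζ
    obtain ⟨n, hn, ⟨v, -, hvy, hvζ, hvn⟩, -⟩ := exists_localDim_eq f isClosed_closure (f.base ζ) ζ hζ
    rw [hn, ← hvn, hmax v hvy hvζ.mem_closure]
  refine ⟨z, hz.def ▸ hZ, hzw.trans hwζ, hzη.trans hwη, le_antisymm ?_ (hle.trans hwz), hloc⟩
  rw [← hloc ⟨(hzw.trans hwζ).mem_closure, rfl⟩]
  exact fdim_le_localDim f (Z := closure ({z} : Set X)) isClosed_closure (subset_closure rfl) (hzw.trans hwζ) _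
    ⟨(hzw.trans hwζ).mem_closure, rfl⟩

/-- A finitely presented morphism is universally open where a generisation dominates a base regular of
dimension at most one. -/
theorem isUnivOpenAt_of_gen [IrreducibleSpace Y] [IsLocallyNoetherian Y] [LocallyOfFiniteType f]
    (hY : ∀ y : Y, IsRegularLocalRing (Y.presheaf.stalk y) ∧ ringKrullDim (Y.presheaf.stalk y) ≤ 1)
    {ξ x : X} (hξ : ξ ⤳ x) (hη : f.base ξ = genericPoint Y) : EGA43.IsUnivOpenAt f x := by
  let I := Scheme.IdealSheafData.vanishingIdeal (⟨closure {ξ}, isClosed_closure⟩ : Closeds X)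
  let T := I.subscheme
  let ι : T ⟶ X := I.subschemeι
  haveI : AlgebraicGeometry.IsReduced T := BMCoh.isReduced_vanishingIdeal_subscheme _
  have hr : Set.range ι.base = closure {ξ} := by
    rw [I.range_subschemeι]; rfl
  obtain ⟨a, ha⟩ : ξ ∈ Set.range ι.base := hr.ge (subset_closure rfl)
  have hgen : ∀ b, a ⤳ b := fun b => ι.isEmbedding.toIsInducing.specializes_iff.1
    (ha.symm ▸ specializes_iff_mem_closure.2 (hr.le ⟨b, rfl⟩))
  haveI : IrreducibleSpace ↥T := by
    haveI : Nonempty ↥T := ⟨a⟩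
    haveI : PreirreducibleSpace ↥T := ⟨fun O₁ O₂ hO₁ hO₂ h₁ h₂ => by
      obtain ⟨b₁, -, hb₁⟩ := h₁
      obtain ⟨b₂, -, hb₂⟩ := h₂
      exact ⟨a, trivial, (hgen b₁).mem_open hO₁ hb₁, (hgen b₂).mem_open hO₂ hb₂⟩⟩
    exact ⟨inferInstance⟩
  haveI : IsIntegral T := isIntegral_of_irreducibleSpace_of_isReduced _
  let φ := ι ≫ f
  haveI : IsDominant φ := by
    have h0 : φ a = genericPoint Y := (congrArg f.base ha).trans hη
    refine ⟨fun y => closure_mono (Set.singleton_subset_iff.2 (show genericPoint Y ∈ Set.range φ from ⟨a, h0⟩))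
      (genericPoint_specializes y).mem_closure⟩
  haveI : Flat φ := (Flat.iff_flat_stalkMap φ).2 fun b => by
    let R := Y.presheaf.stalk (φ.base b)
    obtain ⟨hreg, hdim⟩ := hY (φ.base b)
    haveI := hreg
    haveI : IsDomain R := DepthLib.isDomain_of_isRegularLocalRing R
    haveI : IsPrincipalIdealRing R := by
      have h := (tfae_of_isNoetherianRing_of_isLocalRing_of_isDomain R).out 4 0
      refine h.mp ?_
      have h1 := (IsRegularLocalRing.iff_finrank_cotangentSpace R).mp hreg
      rw [← h1] at hdim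
      exact finrank_cotangentSpace_le_one_iff.mp (by exact_mod_cast hdim)
    letI := (φ.stalkMap b).hom.toAlgebra
    haveI : AlgebraicGeometry.IsReduced Y := by
      haveI : ∀ y : Y, _root_.IsReduced (Y.presheaf.stalk y) := fun y => by
        haveI := (hY y).1
        haveI := DepthLib.isDomain_of_isRegularLocalRing (Y.presheaf.stalk y)
        infer_instance
      exact isReduced_of_isReduced_stalk Y
    haveI : IsIntegral Y := isIntegral_of_irreducibleSpace_of_isReduced _
    have hfield : IsField (Y.presheaf.stalk (φ.base a)) := by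
      have h : ∀ y : Y, y = genericPoint Y → IsField (Y.presheaf.stalk y) := by
        rintro _ rfl
        exact Field.toIsField Y.functionField
      exact h _ ((congrArg f.base ha).trans hη)
    have hinj : Function.Injective (φ.stalkMap b).hom := by
      refine (injective_iff_map_eq_zero _).2 fun z hz => ?_
      have h1 := Scheme.Hom.stalkSpecializes_stalkMap_apply φ a b (hgen b) z
      rw [show φ.stalkMap b z = 0 from hz, map_zero] at h1
      letI := hfield.toField
      have h2 : Y.presheaf.stalkSpecializes ((hgen b).map φ.continuous) z = 0 :=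
        (map_eq_zero (φ.stalkMap a).hom).1 h1
      exact FlatDescent.FibreDepth.stalkSpecializes_injective_of_isDomain ((hgen b).map φ.continuous)
        (h2.trans (map_zero _).symm)
    haveI : FaithfulSMul R (T.presheaf.stalk b) := (faithfulSMul_iff_algebraMap_injective R _).2 hinj
    exact RingHom.flat_algebraMap_iff.2 inferInstance
  haveI : UniversallyOpen φ := inferInstance
  obtain ⟨b, hb⟩ : x ∈ Set.range ι.base := hr.ge hξ.mem_closure
  rw [← hb]
  exact OpenAt.isUnivOpenAt_of_comp (GeomCount.isUnivOpenAt φ b)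

/-- Closures of points are monotone. -/
theorem closure_subset_of_mem {α : Type*} [TopologicalSpace α] {a b : α} (h : a ∈ closure ({b} : Set α)) :
    closure ({a} : Set α) ⊆ closure {b} :=
  closure_minimal (Set.singleton_subset_iff.2 h) isClosed_closure

/-- Open sets of a locally Noetherian scheme are locally constructible. -/
theorem isLocallyConstructible_of_isOpen [IsLocallyNoetherian X] {s : Set X} (hs : IsOpen s) :
    Topology.IsLocallyConstructible s := by
  intro x
  obtain ⟨V, hV, hxV, -⟩ := exists_isAffineOpen_mem_and_subset (U := (⊤ : X.Opens)) (x := x) trivial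
  haveI : IsNoetherianRing Γ(X, V) := IsLocallyNoetherian.component_noetherian ⟨V, hV⟩
  haveI : NoetherianSpace ↥(V : Set X) := noetherianSpace_of_isAffineOpen V hV
  exact ⟨V, V.2.mem_nhds hxV, V.2, (NoetherianSpace.isCompact _).isConstructible
    (hs.preimage continuous_subtype_val)⟩

/-- A locally constructible set containing all generisations of a point is a neighbourhood. -/
theorem mem_nhds_of_generisations {T : Set Y} (hT : Topology.IsLocallyConstructible T) {y : Y}
    (h : ∀ η : Y, η ⤳ y → η ∈ T) : T ∈ nhds y := by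
  obtain ⟨U, hU, hyU, -⟩ := exists_isAffineOpen_mem_and_subset (U := (⊤ : Y.Opens)) (x := y) trivial
  have hq : hU.fromSpec (hU.primeIdealOf ⟨y, hyU⟩) = y := hU.fromSpec_primeIdealOf _
  have hc : Topology.IsConstructible (hU.fromSpec.base ⁻¹' T) :=
    (hT.preimage_of_isOpenEmbedding hU.fromSpec.isOpenEmbedding).isConstructible
  have h1 := SectionConnFlat.mem_interior_of_constructible (hU.fromSpec.base ⁻¹' T) (hU.primeIdealOf ⟨y, hyU⟩)
    fun z hz => ⟨_, hc, h _ (hq ▸ hz.map hU.fromSpec.continuous), le_rfl⟩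
  obtain ⟨O, hOT, hO, hqO⟩ := mem_interior.1 h1
  exact mem_nhds_iff.2 ⟨hU.fromSpec '' O, Set.image_subset_iff.2 hOT,
    hU.fromSpec.isOpenEmbedding.isOpenMap _ hO, _, hqO, hq⟩

end Groth.Agent.GeomUnib.DominantComp
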