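import Mathlib
import Groth.Agent.UnivClosed.ProperNhd
import Groth.Agent.ProperOver.Basic
import Groth.Agent.S4367

/-!
# Points over the generic point of a valuation ring, and properness near a point
-/

set_option linter.style.haveILetI false

universe u

namespace Groth.Agent.GeomUnib

open CategoryTheory CategoryTheory.Limits AlgebraicGeometry IsLocalRing

variable {P : Scheme.{u}} {A : Type u} [CommRing A] {K : Type u} [Field K] [Algebra A K]

/-- The morphism `Spec K ⟶ Spec A`. -/
noncomputable abbrev genMap (A : Type u) [CommRing A] (K : Type u) [Field K] [Algebra A K] :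
    Spec (CommRingCat.of K) ⟶ Spec (CommRingCat.of A) :=
  Spec.map (CommRingCat.ofHom (algebraMap A K))

lemma genMap_apply [IsDomain A] [IsFractionRing A K] (p : Spec (CommRingCat.of K)) :
    genMap A K p = genericPoint (Spec (CommRingCat.of A)) := by
  rw [genericPoint_eq_bot_of_affine]
  apply PrimeSpectrum.ext
  change (p.asIdeal).comap (algebraMap A K) = ⊥
  rw [(Ideal.eq_bot_or_top p.asIdeal).resolve_right p.2.ne_top]
  exact (RingHom.injective_iff_ker_eq_bot _).1 (IsFractionRing.injective A K)

lemma exists_spec_map_eq_of_point (σ : Spec (CommRingCat.of K) ⟶ P) {x : P} (h : σ (closedPoint K) = x) :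
    ∃ φ : P.residueField x ⟶ CommRingCat.of K, σ = Spec.map φ ≫ P.fromSpecResidueField x := by
  subst h
  exact ⟨_, (Scheme.descResidueField_stalkClosedPointTo_fromSpecResidueField K P σ).symm⟩

lemma bijective_residueFieldMap_of_gen [IsFractionRing A K] (h : P ⟶ Spec (CommRingCat.of A))
    (σ : Spec (CommRingCat.of K) ⟶ P) (w : σ ≫ h = genMap A K) {x : P} (hx : σ (closedPoint K) = x) :
    Function.Bijective (h.residueFieldMap x).hom := by
  obtain ⟨φ, rfl⟩ := exists_spec_map_eq_of_point σ hx
  rw [Category.assoc, ← Scheme.Hom.SpecMap_residueFieldMap_fromSpecResidueField, ← Spec.map_comp_assoc] at w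
  obtain ⟨u', hu'⟩ := Spec.map_surjective ((Spec (CommRingCat.of A)).fromSpecResidueField (h x))
  rw [← hu', ← Spec.map_comp] at w
  have h2 := Spec.map_injective w
  refine ⟨RingHom.injective _, fun z => ?_⟩
  obtain ⟨a, b, hb, hab⟩ := IsFractionRing.div_surjective (A := A) (φ z)
  have h3 : ∀ c : A, φ ((h.residueFieldMap x) (u' c)) = algebraMap A K c := fun c =>
    congrArg (fun g : CommRingCat.of A ⟶ CommRingCat.of K => g c) h2
  refine ⟨u' a / u' b, φ.hom.injective ?_⟩
  rw [map_div₀, map_div₀, h3, h3, hab]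

lemma exists_gen_point [IsDomain A] [IsFractionRing A K] (h : P ⟶ Spec (CommRingCat.of A)) (x : P)
    (hx : h x = genericPoint (Spec (CommRingCat.of A))) (hbij : Function.Bijective (h.residueFieldMap x).hom) :
    ∃ σ : Spec (CommRingCat.of K) ⟶ P, σ (closedPoint K) = x ∧ σ ≫ h = genMap A K := by
  haveI : IsIso (h.residueFieldMap x) := (ConcreteCategory.isIso_iff_bijective _).2 hbij
  obtain ⟨ψ, hψ⟩ := exists_spec_map_eq_of_point (genMap A K) ((genMap_apply _).trans hx.symm)
  refine ⟨Spec.map (inv (h.residueFieldMap x) ≫ ψ) ≫ P.fromSpecResidueField x, ?_, ?_⟩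
  · rw [Scheme.Hom.comp_apply, Scheme.fromSpecResidueField_apply]
  · rw [Category.assoc, ← Scheme.Hom.SpecMap_residueFieldMap_fromSpecResidueField, ← Spec.map_comp_assoc,
      IsIso.hom_inv_id_assoc, hψ]

lemma gen_point_unique (h : P ⟶ Spec (CommRingCat.of A))
    (σ σ' : Spec (CommRingCat.of K) ⟶ P) {x : P} (hbij : Function.Bijective (h.residueFieldMap x).hom)
    (hσ : σ (closedPoint K) = x) (hσ' : σ' (closedPoint K) = x) (w : σ ≫ h = σ' ≫ h) : σ = σ' := by
  obtain ⟨φ, rfl⟩ := exists_spec_map_eq_of_point σ hσ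
  obtain ⟨φ', rfl⟩ := exists_spec_map_eq_of_point σ' hσ'
  haveI : IsIso (h.residueFieldMap x) := (ConcreteCategory.isIso_iff_bijective _).2 hbij
  rw [Category.assoc, Category.assoc, ← Scheme.Hom.SpecMap_residueFieldMap_fromSpecResidueField,
    ← Spec.map_comp_assoc, ← Spec.map_comp_assoc, cancel_mono] at w
  rw [(cancel_epi _).1 (Spec.map_injective w)]

/-- Properness over an open persists over smaller opens. -/
lemma isProper_restrict_le {X Y : Scheme.{u}} (f : X ⟶ Y) {U V : Y.Opens} (hUV : U ≤ V) [IsProper (f ∣_ V)] :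
    IsProper (f ∣_ U) := by
  have h1 : IsPullback (X.homOfLE (f.preimage_mono hUV)) (f ∣_ U) (f ∣_ V) (Y.homOfLE hUV) := by
    refine IsPullback.of_right ?_ ?_ (isPullback_morphismRestrict f V).flip
    · rw [Scheme.homOfLE_ι, Scheme.homOfLE_ι]
      exact (isPullback_morphismRestrict f U).flip
    · exact (morphismRestrict_homOfLE f U V hUV).symm
  exact MorphismProperty.of_isPullback h1 ‹_›

lemma isReduced_vanishing {X : Scheme.{u}} (C : TopologicalSpace.Closeds X) :
    IsReduced (Scheme.IdealSheafData.vanishingIdeal C).subscheme := by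
  let I := Scheme.IdealSheafData.vanishingIdeal C
  have : ∀ i, IsReduced (I.subschemeCover.openCover.X i) := fun U => by
    change IsReduced (Spec (CommRingCat.of (Γ(X, U.1) ⧸ I.ideal U)))
    have : _root_.IsReduced (Γ(X, U.1) ⧸ I.ideal U) := by
      rw [← Ideal.isRadical_iff_quotient_reduced]
      simp only [I]
      exact PrimeSpectrum.isRadical_vanishingIdeal _
    infer_instance
  exact AlgebraicGeometry.IsReduced.of_openCover (X := _) I.subschemeCover.openCover

/-- A lifting statement for points of the base change over a valuation ring gives lifts of points over its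
fraction field. -/
lemma exists_lift_of_section {X Y : Scheme.{u}} (f : X ⟶ Y) [IsDomain A] [IsFractionRing A K]
    (g : Spec (CommRingCat.of A) ⟶ Y) {Z : Set X}
    (H : ∀ x' : ↥(pullback f g), pullback.fst f g x' ∈ Z →
      pullback.snd f g x' = genericPoint (Spec (CommRingCat.of A)) →
      Function.Bijective ((pullback.snd f g).residueFieldMap x').hom →
      ∃ s : Spec (CommRingCat.of A) ⟶ pullback f g, s ≫ pullback.snd f g = 𝟙 _ ∧ x' ∈ Set.range s)
    (x₀ : Spec (CommRingCat.of K) ⟶ X) (hx₀ : x₀ (closedPoint K) ∈ Z) (w : x₀ ≫ f = genMap A K ≫ g) :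
    ∃ l : Spec (CommRingCat.of A) ⟶ X, genMap A K ≫ l = x₀ ∧ l ≫ f = g := by
  have hσ : pullback.lift x₀ (genMap A K) w ≫ pullback.snd f g = genMap A K := pullback.lift_snd _ _ _
  have hbij := bijective_residueFieldMap_of_gen (pullback.snd f g) (pullback.lift x₀ (genMap A K) w) hσ rfl
  obtain ⟨s, hs, a, ha⟩ := H (pullback.lift x₀ (genMap A K) w (closedPoint K))
    (by rw [← Scheme.Hom.comp_apply, pullback.lift_fst]; exact hx₀)
    (by rw [← Scheme.Hom.comp_apply, hσ, genMap_apply]) hbij
  have hpt : (genMap A K ≫ s) (closedPoint K) = pullback.lift x₀ (genMap A K) w (closedPoint K) := by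
    have h1 : a = genMap A K (closedPoint K) := by
      rw [show a = (s ≫ pullback.snd f g) a by rw [hs]; rfl, Scheme.Hom.comp_apply, ha,
        ← Scheme.Hom.comp_apply, hσ]
    rw [Scheme.Hom.comp_apply, ← h1, ha]
  have h2 : genMap A K ≫ s = pullback.lift x₀ (genMap A K) w :=
    gen_point_unique (pullback.snd f g) _ _ hbij hpt rfl
      (by rw [Category.assoc, hs, Category.comp_id, hσ])
  refine ⟨s ≫ pullback.fst f g, ?_, ?_⟩
  · rw [reassoc_of% h2, pullback.lift_fst]
  · rw [Category.assoc, pullback.condition, reassoc_of% hs]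

end Groth.Agent.GeomUnib
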