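import Mathlib
import Groth.Agent.UnivOpenAt.Scheme
import Groth.Agent.GeomUnib.DvrPoint
import Groth.Agent.GeomUnib.Scheme
import Groth.Agent.CohFinite.ProperSupport

/-!
# Universal openness from dominant components

A morphism locally of finite presentation is universally open as soon as, after every base change to
an irreducible scheme of finite type over the base, every component dominates.
-/

set_option autoImplicit false
set_option linter.style.haveILetI false
set_option linter.unusedSectionVars false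
set_option backward.isDefEq.respectTransparency false
set_option synthInstance.maxHeartbeats 200000
set_option maxHeartbeats 1000000

universe u

open CategoryTheory CategoryTheory.Limits AlgebraicGeometry TopologicalSpace TensorProduct

namespace Groth.Agent.GeomUnib.DominantCrit

/-- The reduced closure of a closed subscheme of an open subscheme. -/
theorem exists_reduced_closure {P : Scheme.{u}} (O : P.Opens) {W : Scheme.{u}} [IsReduced W]
    (m : W ⟶ O.toScheme) [IsClosedImmersion m] :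
    ∃ (Z : Scheme.{u}) (i : Z ⟶ P) (j : W ⟶ Z), IsClosedImmersion i ∧ IsOpenImmersion j ∧
      j ≫ i = m ≫ O.ι ∧ DenseRange j.base := by
  classical
  let C : Closeds P := ⟨closure (Set.range (m ≫ O.ι).base), isClosed_closure⟩
  let I := Scheme.IdealSheafData.vanishingIdeal C
  haveI : IsReduced I.subscheme := isReduced_vanishing C
  let ρ := I.subschemeι ∣_ O
  haveI : IsClosedImmersion ρ := inferInstance
  haveI : IsReduced (I.subschemeι ⁻¹ᵁ O).toScheme := inferInstance
  have hι : Set.range I.subschemeι.base = C := by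
    rw [Scheme.IdealSheafData.range_subschemeι]
    exact congrArg SetLike.coe (show I.support = C from Scheme.IdealSheafData.coe_support_vanishingIdeal _ |> SetLike.coe_injective)
  have hρ : ∀ z, ρ.base z ∈ Set.range m.base := fun z => by
    have h1 : O.ι.base (ρ.base z) ∈ (C : Set P) := by
      rw [← Scheme.Hom.comp_apply, morphismRestrict_ι, Scheme.Hom.comp_apply, ← hι]
      exact ⟨_, rfl⟩
    have h2 : ρ.base z ∈ closure (Set.range m.base) := by
      rw [O.ι.isOpenEmbedding.isInducing.closure_eq_preimage_closure_image, Set.mem_preimage, ← Set.range_comp]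
      exact h1
    rwa [(m.isClosedEmbedding.isClosed_range).closure_eq] at h2
  have hker : ρ.ker ≤ m.ker := by
    refine le_trans ?_ (CohFinite.le_ker_of_isReduced m ⟨Set.range m.base, m.isClosedEmbedding.isClosed_range⟩
      fun z => ⟨z, rfl⟩)
    rw [← Scheme.IdealSheafData.le_support_iff_le_vanishingIdeal]
    rintro _ ⟨z, rfl⟩
    rw [← SetLike.mem_coe, Scheme.Hom.support_ker]
    refine subset_closure ?_
    have h1 : O.ι.base (m.base z) ∈ Set.range I.subschemeι.base := by
      rw [hι]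
      exact subset_closure ⟨z, rfl⟩
    obtain ⟨y, hy⟩ := h1
    refine ⟨⟨y, show I.subschemeι.base y ∈ O from hy ▸ (m.base z).2⟩, O.ι.isOpenEmbedding.injective ?_⟩
    rw [← Scheme.Hom.comp_apply, morphismRestrict_ι]
    exact hy
  let k := IsClosedImmersion.lift ρ m hker
  have hk : k ≫ ρ = m := IsClosedImmersion.lift_fac _ _ _
  haveI : IsClosedImmersion (k ≫ ρ) := by rw [hk]; infer_instance
  haveI : IsClosedImmersion k := IsClosedImmersion.of_comp k ρ
  haveI : Surjective k := ⟨fun z => by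
    obtain ⟨w, hw⟩ := hρ z
    refine ⟨w, ρ.isEmbedding.injective ?_⟩
    rw [← hw, ← Scheme.Hom.comp_apply, hk]⟩
  haveI : IsIso k := isIso_of_isClosedImmersion_of_surjective k
  have hfac : (k ≫ (I.subschemeι ⁻¹ᵁ O).ι) ≫ I.subschemeι = m ≫ O.ι := by
    rw [Category.assoc, ← morphismRestrict_ι, ← Category.assoc, hk]
  refine ⟨I.subscheme, I.subschemeι, k ≫ (I.subschemeι ⁻¹ᵁ O).ι, inferInstance, inferInstance, hfac, fun z => ?_⟩
  rw [I.subschemeι.isEmbedding.isInducing.closure_eq_preimage_closure_image, Set.mem_preimage, ← Set.range_comp]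
  have h2 : I.subschemeι.base ∘ (k ≫ (I.subschemeι ⁻¹ᵁ O).ι).base = (m ≫ O.ι).base := by
    rw [← hfac]; rfl
  rw [h2]
  exact hι.le ⟨z, rfl⟩

variable {X Y : Scheme.{u}} (f : X ⟶ Y)

/-- Torsion vanishes when all components of base changes dominate. -/
theorem torAt_of_dominant
    (h : ∀ (Y' : Scheme.{u}) (g : Y' ⟶ Y) [IrreducibleSpace Y'] [LocallyOfFiniteType g] [QuasiCompact g],
      ∀ Z ∈ irreducibleComponents (↥(pullback f g) : Type u), Dense ((pullback.snd f g).base '' Z))
    {U : Y.Opens} (hU : IsAffineOpen U) {V : X.Opens} (hV : IsAffineOpen V) (hVU : V ≤ f ⁻¹ᵁ U)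
    (p : Ideal Γ(X, V)) :
    letI := (f.appLE U V hVU).hom.toAlgebra
    ∀ (C : Type u) [CommRing C] [IsDomain C] [Algebra Γ(Y, U) C], UnivOpenAt.TorAt (A := Γ(Y, U)) p C := by
  classical
  letI := (f.appLE U V hVU).hom.toAlgebra
  intro W _ _ _ s u hs hsu P hP _
  let B := Γ(X, V)
  let A := Γ(Y, U)
  -- descend to a finitely generated subalgebra
  obtain ⟨W₁, hW₁, hu⟩ := TensorProduct.Algebra.exists_of_fg (R := A) (S := W) (N := B) u
  obtain ⟨u₁, rfl⟩ := hu
  let W₂ := W₁ ⊔ Algebra.adjoin A {s}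
  have hW₂ : W₂.FG := hW₁.sup (Subalgebra.fg_adjoin_finset {s} |> fun h => by simpa using h)
  let s₂ : W₂ := ⟨s, (le_sup_right : Algebra.adjoin A {s} ≤ W₂) (Algebra.self_mem_adjoin_singleton A s)⟩
  let μ : ∀ (D : Subalgebra A W), D ⊗[A] B →ₐ[A] W ⊗[A] B := fun D => Algebra.TensorProduct.map D.val (AlgHom.id A B)
  have hμ : ∀ (D : Subalgebra A W) (z : D ⊗[A] B), μ D z = D.val.toLinearMap.rTensor B z := fun D z => by
    induction z using TensorProduct.induction_on with
    | zero => simp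
    | tmul a b => simp [μ]
    | add a b ha hb => simp only [map_add, ha, hb]
  let ν : ∀ {D D' : Subalgebra A W} (_ : D ≤ D'), D ⊗[A] B →ₐ[A] D' ⊗[A] B := fun h =>
    Algebra.TensorProduct.map (Subalgebra.inclusion h) (AlgHom.id A B)
  have hν : ∀ {D D' : Subalgebra A W} (h : D ≤ D') (z : D ⊗[A] B),
      ν h z = (Subalgebra.inclusion h).toLinearMap.rTensor B z := fun h z => by
    induction z using TensorProduct.induction_on with
    | zero => simp
    | tmul a b => simp [ν]
    | add a b ha hb => simp only [map_add, ha, hb]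
  have hμν : ∀ {D D' : Subalgebra A W} (h : D ≤ D') (z : D ⊗[A] B), μ D' (ν h z) = μ D z := fun h z => by
    induction z using TensorProduct.induction_on with
    | zero => simp
    | tmul a b => simp [μ, ν]
    | add a b ha hb => simp only [map_add, ha, hb]
  let t : W₂ ⊗[A] B := (s₂ ⊗ₜ (1 : B)) * ν (le_sup_left : W₁ ≤ W₂) u₁
  have ht : W₂.val.toLinearMap.rTensor B t = W₂.val.toLinearMap.rTensor B 0 := by
    rw [← hμ, map_zero, map_mul, hμν, hμ W₁, show μ W₂ (s₂ ⊗ₜ (1 : B)) = s ⊗ₜ (1 : B) by simp [μ, s₂]]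
    exact hsu
  obtain ⟨W₀, hle, hW₀, h0⟩ := TensorProduct.Algebra.eq_of_fg_of_subtype_eq hW₂ (t := t) (t' := 0) ht
  rw [← hν, ← hν, map_zero, map_mul] at h0
  haveI : Algebra.FiniteType A W₀ := (Subalgebra.fg_iff_finiteType W₀).1 hW₀
  set u₀ := ν hle (ν (le_sup_left : W₁ ≤ W₂) u₁)
  -- a scheme of finite type over `Y` containing `Spec W₀`
  obtain ⟨n, ψ, hψ⟩ := Algebra.FiniteType.iff_quotient_mvPolynomial''.1 (inferInstance : Algebra.FiniteType A W₀)
  let ι := ULift.{u} (Fin n)
  let ψ' : MvPolynomial ι A →ₐ[A] W₀ := ψ.comp (MvPolynomial.rename ULift.down)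
  have hψ' : Function.Surjective ψ' := hψ.comp (MvPolynomial.rename_surjective _ ULift.down_surjective)
  let e : Spec (CommRingCat.of (MvPolynomial ι A)) ⟶ 𝔸(ι; Y) :=
    (AffineSpace.SpecIso ι (CommRingCat.of A)).inv ≫ AffineSpace.map ι hU.fromSpec
  haveI : IsOpenImmersion (AffineSpace.map ι hU.fromSpec) :=
    MorphismProperty.of_isPullback (AffineSpace.isPullback_map hU.fromSpec).flip inferInstance
  haveI : IsOpenImmersion e := inferInstance
  let m : Spec (CommRingCat.of W₀) ⟶ e.opensRange.toScheme :=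
    Spec.map (CommRingCat.ofHom ψ'.toRingHom) ≫ e.isoOpensRange.hom
  haveI : IsClosedImmersion (Spec.map (CommRingCat.ofHom ψ'.toRingHom)) := IsClosedImmersion.spec_of_surjective _ hψ'
  obtain ⟨Z, i, j, _, _, hji, hdense⟩ := exists_reduced_closure e.opensRange m
  haveI : IrreducibleSpace Z := by
    have h1 : IsIrreducible (Set.range j.base) :=
      Set.image_univ ▸ (IrreducibleSpace.isIrreducible_univ _).image _ j.continuous.continuousOn
    have h2 : IsIrreducible (Set.univ : Set Z) := hdense.closure_range ▸ h1.closure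
    exact { toPreirreducibleSpace := ⟨h2.2⟩, toNonempty := ⟨h2.1.choose⟩ }
  let gZ : Z ⟶ Y := i ≫ (𝔸(ι; Y) ↘ Y)
  have hc : j ≫ gZ = Spec.map (CommRingCat.ofHom (algebraMap A W₀)) ≫ hU.fromSpec := by
    rw [show gZ = i ≫ (𝔸(ι; Y) ↘ Y) from rfl, reassoc_of% hji]
    simp only [m, Category.assoc, Scheme.Hom.isoOpensRange_hom_ι_assoc, e, AffineSpace.map_over,
      AffineSpace.SpecIso_inv_over_assoc]
    rw [← Spec.map_comp_assoc]
    congr 2
    ext a
    exact congrArg Subtype.val (ψ'.commutes a)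
  obtain ⟨Φ, hΦ, -, hsnd, -⟩ := UnivOpenAt.exists_chart f hU hV hVU gZ W₀ j hc
  have hnil : IsNilpotent u₀ := by
    rw [← mem_nilradical, nilradical_eq_sInf]
    refine Submodule.mem_sInf.2 fun Q hQ => ?_
    haveI : Ideal.IsPrime Q := hQ
    obtain ⟨M, hM, hMQ⟩ := Ideal.exists_minimalPrimes_le (I := (⊥ : Ideal (W₀ ⊗[A] B))) (J := Q) bot_le
    refine hMQ ?_
    haveI := hM.1.1
    let M' : PrimeSpectrum (W₀ ⊗[A] B) := ⟨M, hM.1.1⟩
    let ζ := Φ.base M'
    have hcomp : closure {ζ} ∈ irreducibleComponents (↥(pullback f gZ) : Type u) := by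
      refine ⟨isIrreducible_singleton.closure, fun T hT hsub => ?_⟩
      obtain ⟨τ, hτ⟩ := QuasiSober.sober hT.closure isClosed_closure
      have hτζ : τ ⤳ ζ := hτ.specializes (subset_closure (hsub (subset_closure rfl)))
      obtain ⟨R, hR⟩ : ∃ R : PrimeSpectrum (W₀ ⊗[A] B), Φ.base R = τ :=
        hτζ.mem_open Φ.isOpenEmbedding.isOpen_range ⟨M', rfl⟩
      have h1 : R ≤ M' := (PrimeSpectrum.le_iff_specializes R M').2
        (Φ.isOpenEmbedding.isInducing.specializes_iff.1 (hR ▸ hτζ :))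
      have h2 : R = M' := le_antisymm h1 (hM.2 ⟨R.2, bot_le⟩ h1)
      rw [show ζ = τ by rw [← hR, h2], hτ.def]
      exact subset_closure
    have hdz := h Z gZ _ hcomp
    let b : PrimeSpectrum W₀ := ⟨⊥, Ideal.isPrime_bot⟩
    have hinl : PrimeSpectrum.comap (UnivOpenAt.inl A B W₀) M' = b := by
      have hz : (pullback.snd f gZ).base ζ = j.base (PrimeSpectrum.comap (UnivOpenAt.inl A B W₀) M') := hsnd M'
      have h1 : (pullback.snd f gZ).base '' closure {ζ} ⊆ closure {(pullback.snd f gZ).base ζ} := by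
        refine (image_closure_subset_closure_image (pullback.snd f gZ).continuous).trans ?_
        rw [Set.image_singleton]
      have h2 : j.base b ∈ closure {(pullback.snd f gZ).base ζ} := closure_minimal h1 isClosed_closure (hdz _)
      rw [hz, ← specializes_iff_mem_closure, j.isOpenEmbedding.isInducing.specializes_iff,
        ← PrimeSpectrum.le_iff_specializes] at h2
      exact le_antisymm h2 bot_le
    have hs₀ : ν hle (s₂ ⊗ₜ (1 : B)) = Subalgebra.inclusion hle s₂ ⊗ₜ (1 : B) := by simp [ν]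
    have hmem : ν hle (s₂ ⊗ₜ (1 : B)) * u₀ ∈ M := by rw [h0]; exact zero_mem _
    refine (hM.1.1.mem_or_mem hmem).resolve_left fun hs' => hs ?_
    rw [hs₀] at hs'
    have h3 : Subalgebra.inclusion hle s₂ ∈ (PrimeSpectrum.comap (UnivOpenAt.inl A B W₀) M').asIdeal := hs'
    rw [hinl] at h3
    exact congrArg Subtype.val (Ideal.mem_bot.1 h3)
  refine hP.radical ▸ ?_
  obtain ⟨N, hN⟩ := hnil
  refine ⟨N, ?_⟩
  rw [← hμ, ← hμν (le_sup_left : W₁ ≤ W₂), ← hμν hle, ← map_pow]
  change μ W₀ (u₀ ^ N) ∈ P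
  rw [hN, map_zero]
  exact zero_mem _

/-- Universal openness at a point from vanishing torsion, for finitely presented morphisms. -/
theorem isUnivOpenAt_of_torAt_fp [LocallyOfFinitePresentation f]
    {U : Y.Opens} (hU : IsAffineOpen U) {V : X.Opens} (hV : IsAffineOpen V) (hVU : V ≤ f ⁻¹ᵁ U) {x : X} (hx : x ∈ V)
    (h : letI := (f.appLE U V hVU).hom.toAlgebra
      ∀ (C : Type u) [CommRing C] [IsDomain C] [Algebra Γ(Y, U) C],
        UnivOpenAt.TorAt (A := Γ(Y, U)) (hV.primeIdealOf ⟨x, hx⟩).asIdeal C) :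
    EGA43.IsUnivOpenAt f x := by
  letI := (f.appLE U V hVU).hom.toAlgebra
  intro Z g w hw N hN
  haveI : Algebra.FinitePresentation Γ(Y, U) Γ(X, V) :=
    RingHom.finitePresentation_algebraMap.1 (f.finitePresentation_appLE hU hV hVU)
  have hgU : g (pullback.snd f g w) ∈ U := by
    rw [← Scheme.Hom.comp_apply, ← pullback.condition, Scheme.Hom.comp_apply, hw]
    exact hVU hx
  obtain ⟨W, hW, hzW, hWU⟩ := exists_isAffineOpen_mem_and_subset (U := g ⁻¹ᵁ U) (x := pullback.snd f g w) hgU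
  letI := (g.appLE U W hWU).hom.toAlgebra
  obtain ⟨Φ, hΦ, hfst, hsnd, hsurj⟩ := UnivOpenAt.exists_chart f hU hV hVU g Γ(Z, W) hW.fromSpec
    (IsAffineOpen.SpecMap_appLE_fromSpec g hU hW hWU).symm
  obtain ⟨P, rfl⟩ := hsurj w (hw.symm ▸ hx) (hW.range_fromSpec.ge hzW)
  have hPp := (UnivOpenAt.fromSpec_eq_iff hV hx _).1 ((hfst P).symm.trans hw)
  have hN' : Φ ⁻¹' N ∈ nhds P := Φ.continuous.continuousAt.preimage_mem_nhds hN
  obtain ⟨O, ⟨r, rfl⟩, hrP, hrN⟩ := PrimeSpectrum.isTopologicalBasis_basic_opens.mem_nhds_iff.1 hN'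
  have hfp : (UnivOpenAt.inl Γ(Y, U) Γ(X, V) Γ(Z, W)).FinitePresentation :=
    RingHom.finitePresentation_algebraMap.2
      (inferInstance : Algebra.FinitePresentation Γ(Z, W) (Γ(Z, W) ⊗[Γ(Y, U)] Γ(X, V)))
  have hS := UnivOpenAt.mem_nhds_of_isConstructible
    (q := PrimeSpectrum.comap (UnivOpenAt.inl Γ(Y, U) Γ(X, V) Γ(Z, W)) P)
    (PrimeSpectrum.isConstructible_comap_image hfp (PrimeSpectrum.isConstructible_basicOpen (f := r)))
    (fun Q hQ => by
      obtain ⟨P', hP', hle, hc⟩ := UnivOpenAt.exists_le_comap_eq (h (Γ(Z, W) ⧸ Q.asIdeal)) P.asIdeal hPp hQ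
      exact ⟨⟨P', hP'⟩, fun hr => hrP (hle hr), PrimeSpectrum.ext hc⟩)
  rw [hsnd]
  refine Filter.mem_of_superset (hW.fromSpec.isOpenEmbedding.isOpenMap.image_mem_nhds hS) ?_
  rintro _ ⟨_, ⟨P', hP', rfl⟩, rfl⟩
  exact ⟨Φ P', hrN hP', hsnd P'⟩

/-- The criterion. -/
theorem universallyOpen_of_dominant [LocallyOfFinitePresentation f]
    (h : ∀ (Y' : Scheme.{u}) (g : Y' ⟶ Y) [IrreducibleSpace Y'] [LocallyOfFiniteType g] [QuasiCompact g],
      ∀ Z ∈ irreducibleComponents (↥(pullback f g) : Type u), Dense ((pullback.snd f g).base '' Z)) :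
    UniversallyOpen f := by
  refine universallyOpen_of_forall f fun x => ?_
  obtain ⟨U, hU, hxU, -⟩ := exists_isAffineOpen_mem_and_subset (U := (⊤ : Y.Opens)) (x := f.base x) trivial
  obtain ⟨V, hV, hxV, hVU⟩ := exists_isAffineOpen_mem_and_subset (U := f ⁻¹ᵁ U) (x := x) hxU
  exact isUnivOpenAt_of_torAt_fp f hU hV hVU hxV (torAt_of_dominant f h hU hV hVU _)

end Groth.Agent.GeomUnib.DominantCrit
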