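import Groth.Agent.GeomUnib.StalkLength
import Groth.Agent.CohFinite.DevissageGen
import Groth.Agent.AssPoints.Basic

/-!
# Coherent modules flat over a discrete valuation ring: generic against special fibre
-/

set_option linter.unusedSectionVars false
set_option linter.style.haveILetI false

universe u

namespace Groth.Agent.GeomUnib

open CategoryTheory AlgebraicGeometry IsLocalRing TopologicalSpace
open scoped Pointwise

/-- Finitely many maximal points in a closed subset of a Noetherian sober space. -/
lemma finite_maximal_points {α : Type u} [TopologicalSpace α] [NoetherianSpace α] [QuasiSober α] [T0Space α]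
    {T : Set α} (hT : IsClosed T) : {z : α | z ∈ T ∧ ∀ w ∈ T, z ∈ closure {w} → w = z}.Finite := by
  have h1 := NoetherianSpace.finite_irreducibleComponents (α := ↥T)
  have hcl : ∀ {z : α} (hz : z ∈ T), (Subtype.val ⁻¹' closure {z} : Set ↥T) = closure {⟨z, hz⟩} := fun hz => by
    rw [Topology.IsInducing.subtypeVal.closure_eq_preimage_closure_image, Set.image_singleton]
  refine Set.Finite.of_finite_image (f := fun z => (Subtype.val ⁻¹' closure {z} : Set ↥T)) ?_ ?_
  · refine h1.subset ?_
    rintro _ ⟨z, ⟨hz, hmax⟩, rfl⟩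
    refine ⟨?_, fun C hC hle => ?_⟩
    · show IsIrreducible (Subtype.val ⁻¹' closure {z} : Set ↥T)
      rw [hcl hz]
      exact isIrreducible_singleton.closure
    · obtain ⟨w, hw⟩ := QuasiSober.sober (hC.image Subtype.val continuous_subtype_val.continuousOn).closure isClosed_closure
      have hwT : w ∈ T :=
        closure_minimal (by rintro _ ⟨a, -, rfl⟩; exact a.2) hT (hw.def.le (subset_closure rfl))
      have hzw : z ∈ closure {w} :=
        hw.def.ge (subset_closure ⟨⟨z, hz⟩, hle (subset_closure rfl), rfl⟩)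
      intro a ha
      show (a : α) ∈ closure {z}
      rw [← hmax w hwT hzw]
      exact hw.def.ge (subset_closure ⟨a, ha, rfl⟩)
  · intro z hz z' hz' he
    exact hz'.2 z hz.1 ((Set.ext_iff.1 he ⟨z', hz'.1⟩).2 (subset_closure rfl))

section Support

variable {X : Scheme.{u}} [IsLocallyNoetherian X] (M : X.Modules) [M.IsQuasicoherent]

/-- A point of the support has a maximal generisation in the support. -/
lemma exists_maximal_supp (hfin : ∀ x : X, Module.Finite (X.presheaf.stalk x) (M.presheaf.stalk x)) {w : X}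
    (hw : Nontrivial (M.presheaf.stalk w)) :
    ∃ w₀, w₀ ⤳ w ∧ Nontrivial (M.presheaf.stalk w₀) ∧
      ∀ w₁, Nontrivial (M.presheaf.stalk w₁) → w₁ ⤳ w₀ → w₁ = w₀ := by
  haveI := hfin w
  have hne : Module.annihilator (X.presheaf.stalk w) (M.presheaf.stalk w) ≤ maximalIdeal _ := by
    refine le_maximalIdeal fun h => ?_
    haveI : Subsingleton (M.presheaf.stalk w) :=
      ⟨fun a b => by
        rw [← one_smul (X.presheaf.stalk w) a, ← one_smul (X.presheaf.stalk w) b,
          Module.mem_annihilator.1 (h ▸ Submodule.mem_top) a, Module.mem_annihilator.1 (h ▸ Submodule.mem_top) b]⟩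
    exact not_nontrivial _ hw
  obtain ⟨q, hq, -⟩ := Ideal.exists_minimalPrimes_le hne
  let Q : PrimeSpectrum (X.presheaf.stalk w) := ⟨q, hq.isPrime⟩
  have hQ : Q ∈ Module.support _ (M.presheaf.stalk w) := by
    rw [Module.support_eq_zeroLocus, PrimeSpectrum.mem_zeroLocus]; exact hq.le
  refine ⟨X.fromSpecStalk w Q, fromSpecStalk_specializes Q, ?_, fun w₁ hw₁ h₁ => ?_⟩
  · rw [← (lenAt_genPrime M (fromSpecStalk_specializes Q)).2, genPrime_fromSpecStalk]; exact hQ
  · have h2 : w₁ ⤳ w := h₁.trans (fromSpecStalk_specializes Q)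
    have h3 := (lenAt_genPrime M h2).2.2 hw₁
    rw [Module.support_eq_zeroLocus, PrimeSpectrum.mem_zeroLocus] at h3
    have h4 : genPrime h2 ≤ Q := by
      rw [← genPrime_fromSpecStalk Q]; exact prime_le_of_specializes h2 _ h₁
    rw [← fromSpecStalk_genPrime h2, le_antisymm h4 (show Q ≤ genPrime h2 from hq.2 ⟨(genPrime h2).2, h3⟩ h4)]

end Support

variable {A : Type u} [CommRing A] [IsDomain A] [IsDiscreteValuationRing A]

/-- A uniformizer, as a global function. -/
noncomputable def unif (A : Type u) [CommRing A] [IsDomain A] [IsDiscreteValuationRing A] :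
    Γ(Spec (CommRingCat.of A), ⊤) :=
  (Scheme.ΓSpecIso (CommRingCat.of A)).inv (IsDiscreteValuationRing.exists_irreducible A).choose

lemma spec_dvr_cases (p : Spec (CommRingCat.of A)) :
    p = closedPoint A ∨ p = genericPoint (Spec (CommRingCat.of A)) := by
  rw [genericPoint_eq_bot_of_affine]
  by_cases h : p.asIdeal = ⊥
  · exact Or.inr (PrimeSpectrum.ext h)
  · exact Or.inl (PrimeSpectrum.ext (IsLocalRing.eq_maximalIdeal (p.2.isMaximal h)))

lemma mem_basicOpen_unif (p : Spec (CommRingCat.of A)) :
    p ∈ (Spec (CommRingCat.of A)).basicOpen (unif A) ↔ p ≠ closedPoint A := by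
  rw [unif, basicOpen_eq_of_affine]
  let π := (IsDiscreteValuationRing.exists_irreducible A).choose
  have hπ : Irreducible π := (IsDiscreteValuationRing.exists_irreducible A).choose_spec
  show π ∉ p.asIdeal ↔ _
  constructor
  · intro h he
    refine h ?_
    rw [he]
    show π ∈ maximalIdeal A
    rw [(IsDiscreteValuationRing.irreducible_iff_uniformizer π).1 hπ]
    exact Ideal.mem_span_singleton_self π
  · intro h hmem
    refine h (PrimeSpectrum.ext ?_)
    refine IsLocalRing.eq_maximalIdeal (p.2.isMaximal fun hb => hπ.ne_zero ?_)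
    rwa [hb] at hmem

variable {X : Scheme.{u}} (f : X ⟶ Spec (CommRingCat.of A))

/-- The uniformizer in the local rings. -/
noncomputable def unifAt (x : X) : X.presheaf.stalk x :=
  X.presheaf.germ ⊤ x trivial (f.appTop (unif A))

lemma unifAt_eq (x : X) : unifAt f x = f.stalkMap x ((Spec (CommRingCat.of A)).presheaf.germ ⊤ (f x) trivial (unif A)) := by
  rw [Scheme.Hom.germ_stalkMap_apply]; rfl

lemma isUnit_unifAt {x : X} (hx : f x ≠ closedPoint A) : IsUnit (unifAt f x) := by
  rw [unifAt_eq]
  exact (((Spec (CommRingCat.of A)).mem_basicOpen (unif A) (f x) trivial).1 ((mem_basicOpen_unif (f x)).2 hx)).map (f.stalkMap x).hom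

lemma unifAt_mem_maximal {x : X} (hx : f x = closedPoint A) : unifAt f x ∈ maximalIdeal (X.presheaf.stalk x) := by
  rw [unifAt_eq]
  refine map_nonunit (f.stalkMap x).hom _ fun h => ?_
  exact (mem_basicOpen_unif (f x)).1 (((Spec (CommRingCat.of A)).mem_basicOpen (unif A) (f x) trivial).2 h) hx

lemma stalkSpecializes_unifAt {x' z : X} (h : x' ⤳ z) : X.presheaf.stalkSpecializes h (unifAt f z) = unifAt f x' :=
  TopCat.Presheaf.germ_stalkSpecializes_apply _ _ _ _

lemma isSMulRegular_unifAt (F : X.Modules) (hflat : FlatMod.IsFlatOver f F) (x : X) :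
    IsSMulRegular (F.presheaf.stalk x) (unifAt f x) := by
  letI := FlatMod.moduleStalkOver f F x
  haveI : Module.Flat _ (F.presheaf.stalk x) := hflat x
  have hne : (Spec (CommRingCat.of A)).presheaf.germ ⊤ (f x) trivial (unif A) ≠ 0 := by
    rw [ne_eq, map_eq_zero_iff _ (germ_injective_of_isIntegral (X := Spec (CommRingCat.of A)) (f x) (U := ⊤) trivial)]
    intro h
    have h1 := (mem_basicOpen_unif (A := A) (genericPoint _)).2 (fun he => by
      rw [genericPoint_eq_bot_of_affine] at he
      exact IsDiscreteValuationRing.not_isField A (IsLocalRing.isField_iff_maximalIdeal_eq.2 (congrArg PrimeSpectrum.asIdeal he).symm))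
    rw [h, Scheme.basicOpen_zero] at h1
    exact h1
  have h1 := Module.Flat.isSMulRegular_of_nonZeroDivisors (M := F.presheaf.stalk x) (mem_nonZeroDivisors_of_ne_zero hne)
  rw [unifAt_eq]
  exact h1

lemma maxExt_closed {x : X} (hx : f x = closedPoint A) :
    FlatDescent.maxExt f x = Ideal.span {unifAt f x} := by
  have hm : maximalIdeal ((Spec (CommRingCat.of A)).presheaf.stalk (f x)) =
      Ideal.span {(Spec (CommRingCat.of A)).presheaf.germ ⊤ (f x) trivial (unif A)} := by
    refine le_antisymm (fun c hc => ?_) ((Ideal.span_singleton_le_iff_mem _).2 ?_)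
    · obtain ⟨a, s, hs, hcs⟩ := MeroBasic.exists_germ_mul_eq (isAffineOpen_top (Spec (CommRingCat.of A))) (hx := trivial) c
      have hu := (MeroBasic.isUnit_germ_iff (isAffineOpen_top (Spec (CommRingCat.of A))) (hx := (trivial : f x ∈ (⊤ : (Spec (CommRingCat.of A)).Opens))) s).2 hs
      have ha : ¬ IsUnit a := fun ha => by
        have h1 := ha.map ((Spec (CommRingCat.of A)).presheaf.germ ⊤ (f x) trivial).hom
        rw [← hcs, IsUnit.mul_iff] at h1
        exact hc h1.1
      obtain ⟨b, rfl⟩ : unif A ∣ a := by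
        obtain ⟨a', rfl⟩ : ∃ a', (Scheme.ΓSpecIso (CommRingCat.of A)).inv a' = a :=
          (ConcreteCategory.bijective_of_isIso (Scheme.ΓSpecIso (CommRingCat.of A)).inv).2 a
        refine map_dvd _ (Ideal.mem_span_singleton.1 ?_)
        rw [← (IsDiscreteValuationRing.irreducible_iff_uniformizer _).1 (IsDiscreteValuationRing.exists_irreducible A).choose_spec]
        exact fun h => ha (h.map (Scheme.ΓSpecIso (CommRingCat.of A)).inv.hom)
      rw [map_mul] at hcs
      obtain ⟨v, hv⟩ := hu
      rw [show c = (Spec (CommRingCat.of A)).presheaf.germ ⊤ (f x) trivial (unif A) *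
        ((Spec (CommRingCat.of A)).presheaf.germ ⊤ (f x) trivial b * ↑v⁻¹) by
          rw [← mul_assoc, ← hcs, ← hv, mul_assoc, Units.mul_inv, mul_one]]
      exact Ideal.mul_mem_right _ _ (Ideal.mem_span_singleton_self _)
    · exact fun h => (mem_basicOpen_unif (f x)).1 (((Spec (CommRingCat.of A)).mem_basicOpen (unif A) (f x) trivial).2 h) hx
  rw [FlatDescent.maxExt, hm, Ideal.map_span, Set.image_singleton]
  congr 2
  exact (unifAt_eq f x).symm

lemma maxExt_generic {x : X} (hx : f x = genericPoint (Spec (CommRingCat.of A))) :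
    FlatDescent.maxExt f x = ⊥ := by
  rw [FlatDescent.maxExt, show maximalIdeal ((Spec (CommRingCat.of A)).presheaf.stalk (f x)) = ⊥ from ?_, Ideal.map_bot]
  rw [hx]
  exact IsLocalRing.maximalIdeal_eq_bot (R := (Spec (CommRingCat.of A)).functionField)

end Groth.Agent.GeomUnib
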