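import Groth.Agent.GeomUnib.DimIneq
import Groth.Agent.FibreDim.Local

/-!
# Dimension of local rings along a morphism open at generic points of a fibre
-/

set_option autoImplicit false
set_option linter.style.haveILetI false
set_option backward.isDefEq.respectTransparency false
set_option maxHeartbeats 1000000
set_option synthInstance.maxHeartbeats 100000

universe u

open CategoryTheory CategoryTheory.Limits AlgebraicGeometry

namespace Groth.Agent.GeomUnib.OpenDim

open IsLocalRing

/-- A quotient by an element outside all minimal primes drops the dimension. -/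
theorem ringKrullDim_quotient_add_one_le {B : Type u} [CommRing B] {b : B}
    (hb : ∀ Q ∈ minimalPrimes B, b ∉ Q) {n : ℕ} (hn : ringKrullDim B ≤ (n + 1 : ℕ)) :
    ringKrullDim (B ⧸ Ideal.span {b}) ≤ n := by
  refine iSup_le fun l => ?_
  let c : PrimeSpectrum (B ⧸ Ideal.span {b}) → PrimeSpectrum B := PrimeSpectrum.comap (Ideal.Quotient.mk _)
  have hc : StrictMono c := fun p q hpq => lt_of_le_of_ne (Ideal.comap_mono hpq.le) fun h =>
    hpq.ne (PrimeSpectrum.comap_injective_of_surjective _ Ideal.Quotient.mk_surjective h)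
  let l' := l.map c hc
  obtain ⟨Q, hQ, hQle⟩ := Ideal.exists_minimalPrimes_le (bot_le : (⊥ : Ideal B) ≤ l'.head.asIdeal)
  have hbh : b ∈ l'.head.asIdeal := by
    show Ideal.Quotient.mk _ b ∈ l.head.asIdeal
    rw [Ideal.Quotient.eq_zero_iff_mem.2 (Ideal.mem_span_singleton_self b)]
    exact zero_mem _
  have hlt : (⟨Q, hQ.1.1⟩ : PrimeSpectrum B) < l'.head :=
    lt_of_le_of_ne hQle fun h => hb Q hQ (by
      have h1 := congrArg PrimeSpectrum.asIdeal h
      exact h1.ge hbh)
  have h := (Order.LTSeries.length_le_krullDim (RelSeries.cons l' ⟨Q, hQ.1.1⟩ hlt)).trans hn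
  simp only [RelSeries.cons_length] at h
  have h2 : l'.length + 1 ≤ n + 1 := WithBot.coe_le_coe.1 h |> fun h => by exact_mod_cast h
  exact_mod_cast (show l.length ≤ n from Nat.le_of_succ_le_succ h2)

/-- Surjectivity on spectra with a closed fibre reduced to the closed point bounds the dimension. -/
theorem ringKrullDim_le_of_surjective_comap (n : ℕ) : ∀ {A B : Type u} [CommRing A] [CommRing B] [IsNoetherianRing A]
    [IsNoetherianRing B] [IsLocalRing A] [IsLocalRing B] (φ : A →+* B),
    Function.Surjective (PrimeSpectrum.comap φ) →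
    (∀ Q : Ideal B, Q.IsPrime → Q.comap φ = maximalIdeal A → Q = maximalIdeal B) →
    ringKrullDim B ≤ n → ringKrullDim A ≤ n := by
  induction n with
  | zero =>
    intro A B _ _ _ _ _ _ φ hs hf hn
    haveI : Ring.KrullDimLE 0 B := Ring.krullDimLE_iff.2 hn
    refine Ring.krullDimLE_iff.1 (Ring.KrullDimLE.mk₀ fun p hp => ?_)
    obtain ⟨Q, hQ⟩ := hs ⟨p, hp⟩
    obtain ⟨Q₀, hQ₀⟩ := hs ⟨maximalIdeal A, inferInstance⟩
    have h1 : Q = Q₀ := PrimeSpectrum.ext ((eq_maximalIdeal (Ideal.isMaximal_of_isPrime Q.asIdeal)).trans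
      (eq_maximalIdeal (Ideal.isMaximal_of_isPrime Q₀.asIdeal)).symm)
    have h2 : p = maximalIdeal A := congrArg PrimeSpectrum.asIdeal (hQ.symm.trans ((congrArg _ h1).trans hQ₀))
    rw [h2]
    infer_instance
  | succ n ih =>
    intro A B _ _ _ _ _ _ φ hs hf hn
    classical
    by_cases hA : ∀ p : Ideal A, p.IsPrime → p = maximalIdeal A
    · haveI : Ring.KrullDimLE 0 A := Ring.KrullDimLE.mk₀ fun p hp => by rw [hA p hp]; infer_instance
      exact (Ring.krullDimLE_iff.1 this).trans (by exact_mod_cast Nat.zero_le _)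
    have hne : ∀ Q ∈ minimalPrimes B, Q.comap φ ≠ maximalIdeal A := fun Q hQ h => hA fun p hp => by
      have hQm := hf Q hQ.1.1 h
      obtain ⟨Q', hQ'⟩ := hs ⟨p, hp⟩
      have hQ'm : Q'.asIdeal = maximalIdeal B :=
        le_antisymm (le_maximalIdeal Q'.2.ne_top) (hQm ▸ hQ.2 ⟨Q'.2, bot_le⟩ (hQm ▸ le_maximalIdeal Q'.2.ne_top))
      rw [← show Q'.asIdeal.comap φ = p from congrArg PrimeSpectrum.asIdeal hQ', hQ'm, ← hQm, h]
    let S := (Ideal.finite_minimalPrimes_of_isNoetherianRing B ⊥).toFinset
    obtain ⟨a, ha, haS⟩ : ∃ a ∈ maximalIdeal A, ∀ Q ∈ S, a ∉ Q.comap φ := by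
      by_contra hcon
      push Not at hcon
      have hsub : (maximalIdeal A : Set A) ⊆ ⋃ Q ∈ (S : Set (Ideal B)), (Q.comap φ : Set A) := fun a ha => by
        obtain ⟨Q, hQ, haQ⟩ := hcon a ha
        exact Set.mem_biUnion hQ haQ
      obtain ⟨Q, hQ, hle⟩ := (Ideal.subset_union_prime ⊥ ⊥ fun Q hQ _ _ => by
        haveI := ((Set.Finite.mem_toFinset _).1 hQ).1.1
        infer_instance).1 hsub
      have hQ' := (Set.Finite.mem_toFinset _).1 hQ
      haveI := hQ'.1.1
      exact hne Q hQ' (le_antisymm (le_maximalIdeal (Ideal.IsPrime.ne_top inferInstance)) hle)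
    let I := Ideal.span ({a} : Set A)
    let J := Ideal.span ({φ a} : Set B)
    have hIm : I ≤ maximalIdeal A := (Ideal.span_singleton_le_iff_mem _).2 ha
    have hJm : J ≤ maximalIdeal B := by
      obtain ⟨Q, hQ⟩ := hs ⟨maximalIdeal A, inferInstance⟩
      refine (Ideal.span_singleton_le_iff_mem _).2 (le_maximalIdeal Q.2.ne_top ?_)
      exact (congrArg PrimeSpectrum.asIdeal hQ).ge ha
    haveI : Nontrivial (A ⧸ I) := Ideal.Quotient.nontrivial_iff.2 (ne_top_of_le_ne_top (Ideal.IsPrime.ne_top inferInstance) hIm)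
    haveI : Nontrivial (B ⧸ J) := Ideal.Quotient.nontrivial_iff.2 (ne_top_of_le_ne_top (Ideal.IsPrime.ne_top inferInstance) hJm)
    haveI : IsLocalRing (A ⧸ I) := IsLocalRing.of_surjective' _ Ideal.Quotient.mk_surjective
    haveI : IsLocalRing (B ⧸ J) := IsLocalRing.of_surjective' _ Ideal.Quotient.mk_surjective
    let ψ : A ⧸ I →+* B ⧸ J := Ideal.quotientMap J φ ((Ideal.span_singleton_le_iff_mem _).2 (Ideal.mem_span_singleton_self _))
    have hψ : ψ.comp (Ideal.Quotient.mk I) = (Ideal.Quotient.mk J).comp φ := Ideal.quotientMap_comp_mk _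
    have hmA : (maximalIdeal (A ⧸ I)).comap (Ideal.Quotient.mk I) = maximalIdeal A :=
      eq_maximalIdeal (Ideal.comap_isMaximal_of_surjective _ Ideal.Quotient.mk_surjective)
    have hmB : (maximalIdeal (B ⧸ J)).comap (Ideal.Quotient.mk J) = maximalIdeal B :=
      eq_maximalIdeal (Ideal.comap_isMaximal_of_surjective _ Ideal.Quotient.mk_surjective)
    have h1 : ringKrullDim (A ⧸ I) ≤ n := by
      refine ih ψ (fun p => ?_) (fun Q hQ hQm => ?_) ?_
      · obtain ⟨Q, hQ⟩ := hs (PrimeSpectrum.comap (Ideal.Quotient.mk I) p)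
        have hQ' : Q.asIdeal.comap φ = p.asIdeal.comap (Ideal.Quotient.mk I) := congrArg PrimeSpectrum.asIdeal hQ
        have hJQ : J ≤ Q.asIdeal := (Ideal.span_singleton_le_iff_mem _).2 (hQ'.ge (by
          rw [Ideal.mem_comap, Ideal.Quotient.eq_zero_iff_mem.2 (Ideal.mem_span_singleton_self a)]
          exact zero_mem _))
        haveI : (Q.asIdeal.map (Ideal.Quotient.mk J)).IsPrime :=
          Ideal.map_isPrime_of_surjective Ideal.Quotient.mk_surjective (by rwa [Ideal.mk_ker])
        refine ⟨⟨_, this⟩, PrimeSpectrum.ext (Ideal.comap_injective_of_surjective _ Ideal.Quotient.mk_surjective ?_)⟩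
        show ((Q.asIdeal.map (Ideal.Quotient.mk J)).comap ψ).comap (Ideal.Quotient.mk I) = _
        rw [Ideal.comap_comap, hψ, ← Ideal.comap_comap,
          Ideal.comap_map_of_surjective _ Ideal.Quotient.mk_surjective, ← RingHom.ker_eq_comap_bot, Ideal.mk_ker,
          sup_eq_left.2 hJQ, hQ']
      · refine Ideal.comap_injective_of_surjective _ Ideal.Quotient.mk_surjective ?_
        rw [hmB]
        refine hf _ inferInstance ?_
        rw [Ideal.comap_comap, ← hψ, ← Ideal.comap_comap, hQm, hmA]
      · exact ringKrullDim_quotient_add_one_le (fun Q hQ => haS Q ((Set.Finite.mem_toFinset _).2 hQ)) hn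
    have h2 := ringKrullDim_le_ringKrullDim_quotient_add_encard ({a} : Set A)
      (Set.singleton_subset_iff.2 (by
        rw [SetLike.mem_coe, ← Ideal.jacobson_bot]
        exact IsLocalRing.maximalIdeal_le_jacobson _ ha))
    rw [Set.encard_singleton] at h2
    refine h2.trans ?_
    push_cast
    gcongr

variable {X Y : Scheme.{u}} (f : X ⟶ Y)

/-- Generisations of the image lift at points of openness. -/
theorem exists_generisation_of_isOpenAt [IsLocallyNoetherian X] {z : X} (hz : EGA43.IsOpenAt f.base z) {y' : Y}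
    (hy' : y' ⤳ f.base z) : ∃ z' : X, z' ⤳ z ∧ f.base z' = y' := by
  obtain ⟨_, ⟨V, hV, rfl⟩, hzV, -⟩ :=
    X.isBasis_affineOpens.exists_subset_of_mem_open (Set.mem_univ z) isOpen_univ
  let S : Set X := f.base ⁻¹' {y'} ∩ V
  have hcl : z ∈ closure S := by
    rw [mem_closure_iff]
    intro O hO hzO
    have hN := hz (O ∩ V) ((hO.inter V.2).mem_nhds ⟨hzO, hzV⟩)
    obtain ⟨w, ⟨hwO, hwV⟩, hw⟩ := mem_of_mem_nhds ((specializes_iff_nhds.1 hy') hN)
    exact ⟨w, hwO, hw, hwV⟩
  haveI : IsNoetherianRing Γ(X, V) := IsLocallyNoetherian.component_noetherian ⟨V, hV⟩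
  haveI : TopologicalSpace.NoetherianSpace ↥(V : Set X) := noetherianSpace_of_isAffineOpen _ hV
  haveI : TopologicalSpace.NoetherianSpace S :=
    TopologicalSpace.NoetherianSpace.of_subset (W := (V : Set X)) fun a ha => ha.2
  haveI : QuasiSober S := by
    haveI := FibreDim.quasiSober_fibre f y'
    refine Topology.IsOpenEmbedding.quasiSober (f := Set.inclusion (Set.inter_subset_left : S ⊆ f.base ⁻¹' {y'}))
      ⟨Topology.IsEmbedding.inclusion _, ?_⟩
    rw [Set.range_inclusion]
    exact ⟨(V : Set X), V.2, by ext a; exact ⟨fun ha => ⟨a.2, ha⟩, fun ha => ha.2⟩⟩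
  have hfin := TopologicalSpace.NoetherianSpace.finite_irreducibleComponents (α := S)
  have hS : S = ⋃ C ∈ irreducibleComponents S, Subtype.val '' C := by
    rw [← Set.image_iUnion₂, ← Set.sUnion_eq_biUnion, sUnion_irreducibleComponents, Set.image_univ, Subtype.range_val]
  rw [hS, hfin.closure_biUnion] at hcl
  obtain ⟨C, hC, hzC⟩ := Set.mem_iUnion₂.1 hcl
  obtain ⟨ξ, hξ⟩ := QuasiSober.sober hC.1 (isClosed_of_mem_irreducibleComponents C hC)
  refine ⟨ξ.1, specializes_iff_mem_closure.2 (closure_minimal ?_ isClosed_closure hzC), ξ.2.1⟩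
  rintro _ ⟨w, hw, rfl⟩
  exact ((hξ.specializes hw).map continuous_subtype_val).mem_closure

/-- At a generic point of a fibre where the morphism is open, the local ring of the source has at least the
dimension of the local ring of the target. -/
theorem coheight_le_of_isOpenAt [IsLocallyNoetherian X] [IsLocallyNoetherian Y] {z : X}
    (hmax : ∀ z' : X, f.base z' = f.base z → z' ⤳ z → z' = z) (hz : EGA43.IsOpenAt f.base z) :
    Order.coheight (f.base z) ≤ Order.coheight z := by
  obtain ⟨n, hn, hn'⟩ := exists_coheight_eq z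
  have hinj := (Y.fromSpecStalk (f.base z)).isEmbedding.injective
  have hcomm : ∀ Q, f.base ((X.fromSpecStalk z).base Q) =
      (Y.fromSpecStalk (f.base z)).base (PrimeSpectrum.comap (f.stalkMap z).hom Q) := fun Q =>
    (congrArg (fun m : Spec (X.presheaf.stalk z) ⟶ Y => m.base Q) (Scheme.SpecMap_stalkMap_fromSpecStalk (f := f))).symm
  have h := ringKrullDim_le_of_surjective_comap n (f.stalkMap z).hom (fun p => ?_) (fun Q hQ hQm => ?_) hn'.le
  · rw [ringKrullDim_stalk_eq_coheight] at h
    rw [hn]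
    exact_mod_cast h
  · obtain ⟨z', hz', hfz'⟩ := exists_generisation_of_isOpenAt f hz (Y.range_fromSpecStalk.le ⟨p, rfl⟩)
    obtain ⟨Q, rfl⟩ := X.range_fromSpecStalk.ge hz'
    exact ⟨Q, hinj ((hcomm Q).symm.trans hfz')⟩
  · have h1 : (X.fromSpecStalk z).base ⟨Q, hQ⟩ = z := by
      refine hmax _ ?_ (X.range_fromSpecStalk.le ⟨_, rfl⟩)
      rw [hcomm, show PrimeSpectrum.comap (f.stalkMap z).hom ⟨Q, hQ⟩ = IsLocalRing.closedPoint _ from
        PrimeSpectrum.ext hQm]
      exact Scheme.fromSpecStalk_closedPoint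
    exact congrArg PrimeSpectrum.asIdeal
      ((X.fromSpecStalk z).isEmbedding.injective (h1.trans Scheme.fromSpecStalk_closedPoint.symm))

/-- Lengths of chains add to codimensions. -/
theorem coheight_add_length_le {α β : Type u} [Preorder α] [Preorder β] (c : α → β) (hc : StrictMono c)
    (l : LTSeries α) : Order.coheight (c l.last) + l.length ≤ Order.coheight (c l.head) := by
  have key : ∀ i : ℕ, ∀ hi : i < l.length + 1, Order.coheight (c (l ⟨i, hi⟩)) + i ≤ Order.coheight (c l.head) := by
    intro i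
    induction i with
    | zero => intro hi; simp [RelSeries.head]
    | succ i ih =>
      intro hi
      refine le_trans ?_ (ih (by omega))
      push_cast
      rw [add_comm (i : ℕ∞) 1, ← add_assoc]
      gcongr
      exact Order.coheight_add_one_le (hc (l.step ⟨i, by omega⟩))
  exact key l.length (by omega)

/-- The lower bound for the dimension. -/
theorem add_le_ringKrullDim_stalk [IsLocallyNoetherian X] [IsLocallyNoetherian Y] (x : X)
    (h : ∀ z : ↥(f.fiber (f.base x)), f.asFiber x ∈ closure {z} →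
      (∀ z' : ↥(f.fiber (f.base x)), z ∈ closure {z'} → z' = z) →
      EGA43.IsOpenAt f.base ((f.fiberι (f.base x)).base z)) :
    ringKrullDim (Y.presheaf.stalk (f.base x)) +
      ringKrullDim ((f.fiber (f.base x)).presheaf.stalk (f.asFiber x)) ≤ ringKrullDim (X.presheaf.stalk x) := by
  set y := f.base x with hy
  let c : ↥(f.fiber y) → X := (f.fiberι y).base
  have hc : StrictMono c := strictMono_of_injective (f.fiberι y) (f.fiberι y).isEmbedding.injective
  have hcx : c (f.asFiber x) = x := f.fiberι_asFiber x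
  obtain ⟨N, hN, -⟩ := exists_coheight_eq x
  have hw : Order.coheight (f.asFiber x) ≤ N :=
    (Order.coheight_le_coheight_apply_of_strictMono c hc _).trans (hcx.symm ▸ hN.le)
  obtain ⟨m, hm⟩ := ENat.ne_top_iff_exists.1 (ne_top_of_le_ne_top (ENat.coe_ne_top N) hw)
  obtain ⟨l, hl, hlm⟩ := Order.exists_series_of_coheight_eq_coe _ hm.symm
  obtain ⟨ξ, hξ⟩ := QuasiSober.sober (isIrreducible_irreducibleComponent (x := l.last))
    isClosed_irreducibleComponent
  have hξl : ξ ⤳ l.last := hξ.specializes mem_irreducibleComponent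
  have hlx : l.last ⤳ f.asFiber x := hl ▸ l.monotone (Fin.zero_le _)
  have hmax : ∀ z' : ↥(f.fiber y), ξ ∈ closure {z'} → z' = ξ := fun z' hz' => by
    have hsub : irreducibleComponent l.last ⊆ closure {z'} := hξ.def ▸ closure_minimal (Set.singleton_subset_iff.2 hz') isClosed_closure
    have heq := (irreducibleComponent_mem_irreducibleComponents l.last).2
      (isIrreducible_singleton.closure) hsub
    exact ((specializes_iff_mem_closure.2 hz').antisymm
      (hξ.specializes (heq (subset_closure rfl)))).eq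
  have hfc : ∀ w, f.base (c w) = y := fun w => (f.range_fiberι y).le ⟨w, rfl⟩
  have hz := coheight_le_of_isOpenAt f (z := c ξ) (fun z' hz' hsp => by
    obtain ⟨w, rfl⟩ := (f.range_fiberι y).ge (hz'.trans (hfc ξ))
    exact congrArg c (hmax w ((f.fiberι y).isEmbedding.toIsInducing.specializes_iff.1 hsp).mem_closure))
    (h ξ (hξl.trans hlx).mem_closure hmax)
  rw [hfc] at hz
  have h1 := coheight_add_length_le c hc l
  rw [hl, hcx, hlm] at h1
  rw [ringKrullDim_stalk_eq_coheight, ringKrullDim_stalk_eq_coheight, ringKrullDim_stalk_eq_coheight,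
    ← WithBot.coe_add, WithBot.coe_le_coe, ← hm]
  refine le_trans (add_le_add (hz.trans ?_) le_rfl) h1
  exact Order.coheight_anti (hξl.map (f.fiberι y).continuous)

end Groth.Agent.GeomUnib.OpenDim
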