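import Groth.Agent.GeomUnib.DimFormulaPoints
import Groth.Agent.GeomUnib.OpenDim
import Groth.Agent.S3447

/-!
# Equidimensionality from the components through a point
-/

set_option autoImplicit false
set_option linter.style.haveILetI false
set_option linter.unusedSectionVars false
set_option backward.isDefEq.respectTransparency.types false

universe u

open CategoryTheory CategoryTheory.Limits AlgebraicGeometry TopologicalSpace

namespace Groth.Agent.GeomUnib.EquidimComponents

variable {X Y : Scheme.{u}} [IsLocallyNoetherian Y] (f : X ⟶ Y) [LocallyOfFiniteType f]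

/-- Equidimensionality when every component through the point dominates a component of the base with
fibre dimension the local one. -/
theorem isEquidimAt_of_components (x : X)
    (h : ∀ ξ : X, FibDim.IsMax' ξ → ξ ⤳ x →
      FibDim.IsMax' (f.base ξ) ∧ FibreDim.fdim f ξ = FlatMor.fibreDimAt f x) :
    EGA43.IsEquidimAt f x := by
  haveI := LocallyOfFiniteType.isLocallyNoetherian f
  obtain ⟨U, hxU, hUle, hUgen⟩ := exists_nhds_fdim_le f x
  obtain ⟨n, hn, -, -⟩ := FibreDim.exists_fibreDimAt_eq f x
  haveI : QuasiSober ↥(U : Set X) := U.2.isOpenEmbedding_subtypeVal.quasiSober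
  refine ⟨n, U, hxU, fun C hC => ?_, fun x' C hC => ?_⟩
  · obtain ⟨c, hc⟩ := QuasiSober.sober hC.1 (isClosed_of_mem_irreducibleComponents _ hC)
    have hmax : ∀ z' : X, z' ⤳ U.ι.base c → U.ι.base c ⤳ z' := fun z' h' =>
      (maximal_of_component (Y := U.toScheme) c C hC hc ⟨z', h'.mem_open U.2 c.2⟩
        (U.ι.isOpenEmbedding.toIsInducing.specializes_iff.1 h')).map U.ι.continuous
    have hcx := hUgen _ c.2 hmax
    obtain ⟨hfc, -⟩ := h _ (fun z hz => (hz.antisymm (hmax z hz)).eq) hcx
    exact ⟨closure {f.base (U.ι.base c)}, FibDim.closure_mem_components hfc, (hcx.map f.continuous).mem_closure,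
      (hc.image (U.ι ≫ f).continuous).def.symm⟩
  · obtain ⟨m, hmU, -, hmC, hmax⟩ := exists_maximal_of_component f U _ hC
    rw [hmC]
    obtain ⟨ξ, hξm, hξ⟩ := FibDim.exists_isMax'_specializes m
    have hξU : ξ ∈ U := hξm.mem_open U.2 hmU
    obtain ⟨-, hd⟩ := h ξ hξ (hUgen ξ hξU fun z hz => (hξ z hz).symm ▸ specializes_rfl)
    refine le_antisymm ((hUle m hmU).trans hn.le) ?_
    rw [← hn, ← hd, ← FibreDim.fibreDimAt_of_maximal f m hmax]
    exact FibreDim.fdim_le_fibreDimAt f hξm

/-- The dimension formula with equidimensional local rings gives equidimensionality. -/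
theorem isEquidimAt_of_eq (x : X) (hX : EGA4.IsEquidim (X.presheaf.stalk x))
    (h : ringKrullDim (X.presheaf.stalk x) = ringKrullDim (Y.presheaf.stalk (f.base x)) +
      ringKrullDim ((f.fiber (f.base x)).presheaf.stalk (f.asFiber x))) :
    EGA43.IsEquidimAt f x := by
  haveI := LocallyOfFiniteType.isLocallyNoetherian f
  refine isEquidimAt_of_components f x fun ξ hξ hξx => ?_
  obtain ⟨P, hP, rfl⟩ := exists_minimalPrime_of_maximal x hξx fun z hz => (hξ z hz).symm ▸ specializes_rfl
  obtain ⟨-, -, h1, h2⟩ := DimFormulaPoints.component_of_eq f x h P (hX _ hP)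
  exact ⟨h1, h2⟩

end Groth.Agent.GeomUnib.EquidimComponents
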