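import Groth.Agent.GeomUnib.CodimFibre
import Groth.Agent.GeomUnib.FibreDimSemi
import Groth.Agent.GeomUnib.FibreGen
import Groth.Agent.GeomUnib.Irred
import Groth.Agent.BMCoh.Basic

/-!
# A criterion for equidimensionality of an irreducible scheme over an arbitrary base
-/

set_option autoImplicit false

universe u

open CategoryTheory CategoryTheory.Limits AlgebraicGeometry TopologicalSpace Order

namespace Groth.Agent.GeomUnib

open FibreDim

variable {X Y : Scheme.{u}} (f : X ⟶ Y) [LocallyOfFiniteType f]

/-- A scheme with a generic point over a maximal point of the base is equidimensional at every point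
whose fibre dimension does not exceed that at the generic point. No Noetherian hypothesis. -/
theorem isEquidimAt_of_generic (w a₀ : X) (ha₀ : ∀ c : X, a₀ ⤳ c)
    (hη : ∀ y : Y, y ⤳ f.base a₀ → f.base a₀ ⤳ y)
    (hw : FlatMor.fibreDimAt f w ≤ fdim f a₀) : EGA43.IsEquidimAt f w := by
  obtain ⟨d, hd, -⟩ := exists_fdim f a₀
  obtain ⟨U, hwU, hUle⟩ := exists_nhds_fibreDimAt_le f w
  refine ⟨d, U, hwU, fun Z hZ => ⟨closure {f.base a₀}, ?_, ?_, ?_⟩, fun x' C hC => ?_⟩
  · refine ⟨isIrreducible_singleton.closure, fun T hT hsub => ?_⟩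
    obtain ⟨t, ht⟩ := QuasiSober.sober hT.closure isClosed_closure
    have h1 : f.base a₀ ⤳ t := hη t (ht.specializes (subset_closure (hsub (subset_closure rfl))))
    exact subset_closure.trans (ht.def.symm.le.trans
      (closure_minimal (Set.singleton_subset_iff.2 h1.mem_closure) isClosed_closure))
  · exact ((ha₀ w).map f.continuous).mem_closure
  · haveI : QuasiSober ↥(U : Set X) := U.2.isOpenEmbedding_subtypeVal.quasiSober
    obtain ⟨c, hc⟩ := QuasiSober.sober hZ.1 (isClosed_of_mem_irreducibleComponents _ hZ)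
    let a : ↥U.toScheme := ⟨a₀, (ha₀ _).mem_open U.2 c.2⟩
    have hac : a ⤳ c := U.ι.isOpenEmbedding.toIsInducing.specializes_iff.1 (ha₀ _)
    have hca : c ⤳ a := maximal_of_component (Y := U.toScheme) c Z hZ hc a hac
    exact (hc.image (U.ι ≫ f).continuous).def.symm.trans
      (congrArg (fun t : ↥U.toScheme => closure ({(U.ι ≫ f).base t} : Set Y)) (hca.antisymm hac).eq)
  · obtain ⟨m, hmU, -, hmC, hmax⟩ := exists_maximal_of_component f U _ hC
    rw [hmC]
    refine le_antisymm ?_ ?_
    · rw [← fibreDimAt_of_maximal f m hmax, ← hd]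
      exact (hUle m hmU).trans hw
    · rw [← hd, ← fibreDimAt_of_maximal f m hmax]
      exact fdim_le_fibreDimAt f (ha₀ m)

/-- The reduced closure of a point over a maximal point of the base is equidimensional where its
dimension over that point dominates the fibre dimension of the ambient scheme. -/
theorem isEquidimAt_closure (ξ x : X) (W : TopologicalSpace.Closeds X)
    (hW : closure ({ξ} : Set X) = (W : Set X)) (hx : ξ ⤳ x)
    (hη : ∀ y : Y, y ⤳ f.base ξ → f.base ξ ⤳ y)
    (hd : FlatMor.fibreDimAt f x ≤ fdim f ξ) :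
    ∃ w : ↥((Scheme.IdealSheafData.vanishingIdeal W).subscheme),
      (Scheme.IdealSheafData.vanishingIdeal W).subschemeι.base w = x ∧
      EGA43.IsEquidimAt ((Scheme.IdealSheafData.vanishingIdeal W).subschemeι ≫ f) w := by
  let I := Scheme.IdealSheafData.vanishingIdeal W
  have hr : Set.range I.subschemeι.base = (W : Set X) := by rw [I.range_subschemeι]; rfl
  obtain ⟨w, hw⟩ := hr.ge (hW.le hx.mem_closure)
  obtain ⟨a, ha⟩ := hr.ge (hW.le (subset_closure rfl))
  refine ⟨w, hw, isEquidimAt_of_generic (I.subschemeι ≫ f) w a (fun c => ?_) ?_ ?_⟩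
  · refine I.subschemeι.isClosedEmbedding.isEmbedding.toIsInducing.specializes_iff.1 ?_
    rw [ha]
    exact specializes_iff_mem_closure.2 (hW.ge (hr.le ⟨c, rfl⟩))
  · rw [show (I.subschemeι ≫ f).base a = f.base ξ from congrArg f.base ha]
    exact hη
  · obtain ⟨n, hn, ⟨u, -, huw, hun⟩, -⟩ := exists_fibreDimAt_eq (I.subschemeι ≫ f) w
    rw [hn, ← hun, fdim_comp_closedImmersion, fdim_comp_closedImmersion, ha]
    exact (hw ▸ fdim_le_fibreDimAt f (huw.map I.subschemeι.continuous)).trans hd

end Groth.Agent.GeomUnib
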