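import Mathlib
import Groth.Agent.GeomUnib.FlatGrade

/-!
# Elements regular on the closed fibre of a flat local algebra
-/

set_option linter.unusedSectionVars false
set_option linter.style.haveILetI false

universe u

namespace Groth.Agent.GeomUnib

open IsLocalRing TensorProduct

variable {A B : Type u} [CommRing A] [CommRing B] [Algebra A B] [IsLocalRing A] [IsNoetherianRing A]

local notation "𝔪" => maximalIdeal A

lemma mulIdeal_smul (J : Ideal A) (c : B) (w : B ⊗[A] J) : mulIdeal J (c • w) = c * mulIdeal J w := by
  induction w using TensorProduct.induction_on with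
  | zero => simp
  | tmul b j => rw [TensorProduct.smul_tmul', mulIdeal_tmul, mulIdeal_tmul, smul_eq_mul, mul_smul_comm]
  | add a b ha hb => rw [smul_add, map_add, map_add, ha, hb, mul_add]

lemma exists_mulIdeal_eq (J : Ideal A) {x : B} (hx : x ∈ J.map (algebraMap A B)) :
    ∃ w, mulIdeal J w = x := by
  refine Submodule.span_induction ?_ ⟨0, map_zero _⟩ ?_ ?_ hx
  · rintro _ ⟨a, ha, rfl⟩
    exact ⟨1 ⊗ₜ ⟨a, ha⟩, by rw [mulIdeal_tmul, Algebra.smul_def, mul_one]⟩
  · rintro a b _ _ ⟨u, rfl⟩ ⟨v, rfl⟩
    exact ⟨u + v, map_add _ _ _⟩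
  · rintro r _ _ ⟨u, rfl⟩
    exact ⟨r • u, mulIdeal_smul J r u⟩

lemma mulIdeal_mem (J : Ideal A) (w : B ⊗[A] J) : mulIdeal J w ∈ J.map (algebraMap A B) := by
  induction w using TensorProduct.induction_on with
  | zero => simp
  | tmul b j =>
    rw [mulIdeal_tmul, Algebra.smul_def]
    exact Ideal.mul_mem_right _ _ (Ideal.mem_map_of_mem _ j.2)
  | add a b ha hb => rw [map_add]; exact add_mem ha hb

/-- An element regular on the closed fibre of a flat local algebra is regular. -/
theorem eq_zero_of_regular_fibre [IsNoetherianRing B] [IsLocalRing B] [IsLocalHom (algebraMap A B)]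
    [Module.Flat A B] {c : B}
    (hc : ∀ b : B, c * b ∈ Ideal.map (algebraMap A B) 𝔪 → b ∈ Ideal.map (algebraMap A B) 𝔪)
    {x : B} (hx : c * x = 0) : x = 0 := by
  classical
  letI : Field (A ⧸ 𝔪) := Ideal.Quotient.field 𝔪
  have hstep : ∀ n : ℕ, x ∈ (𝔪 ^ n).map (algebraMap A B) := by
    intro n
    induction n with
    | zero => simp [Ideal.map_top]
    | succ n ih =>
      obtain ⟨w, rfl⟩ := exists_mulIdeal_eq (𝔪 ^ n) ih
      have hinj : Function.Injective (mulIdeal (B := B) (𝔪 ^ n)) :=
        (TensorProduct.rid A _).injective.comp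
          (Module.Flat.lTensor_preserves_injective_linearMap _ (Submodule.injective_subtype _))
      have hcw : c • w = 0 := hinj (by rw [mulIdeal_smul, hx, map_zero])
      let bs := Module.finBasis (A ⧸ 𝔪) ((𝔪 ^ n : Ideal A) ⧸ (𝔪 • ⊤ : Submodule A (𝔪 ^ n : Ideal A)))
      let r := Module.finrank (A ⧸ 𝔪) ((𝔪 ^ n : Ideal A) ⧸ (𝔪 • ⊤ : Submodule A (𝔪 ^ n : Ideal A)))
      let γ : (𝔪 ^ n : Ideal A) →ₗ[A] (Fin r → A ⧸ 𝔪) :=
        (bs.equivFun.restrictScalars A).toLinearMap ∘ₗ Submodule.mkQ _
      have hγ : LinearMap.ker γ = (𝔪 • ⊤ : Submodule A (𝔪 ^ n : Ideal A)) := by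
        rw [LinearMap.ker_comp, LinearEquiv.ker, Submodule.comap_bot, Submodule.ker_mkQ]
      have hγs : Function.Surjective γ :=
        (bs.equivFun.restrictScalars A).surjective.comp (Submodule.mkQ_surjective _)
      have h4 : γ.lTensor B w = 0 := by
        refine (TensorProduct.piRight A A B (fun _ : Fin r => A ⧸ 𝔪)).injective ?_
        rw [map_zero]
        ext i
        have key : ∀ z, TensorProduct.piRight A A B (fun _ : Fin r => A ⧸ 𝔪) (γ.lTensor B z) i =
            ((LinearMap.proj i).comp γ).lTensor B z := fun z => by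
          induction z using TensorProduct.induction_on with
          | zero => simp
          | tmul b j => simp
          | add a b ha hb => simp only [map_add, Pi.add_apply, ha, hb]
        refine (key w).trans ?_
        let g := (LinearMap.proj i).comp γ
        let T := TensorProduct.tensorQuotEquivQuotSMul B 𝔪
        obtain ⟨d, hd⟩ := Submodule.Quotient.mk_surjective _ (T (g.lTensor B w))
        have hT : ∀ (b : B) (t : B ⊗[A] (A ⧸ 𝔪)) (e : B),
            T t = Submodule.Quotient.mk e → T (b • t) = Submodule.Quotient.mk (b * e) := by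
          intro b t
          induction t using TensorProduct.induction_on with
          | zero =>
            intro e he
            rw [map_zero, eq_comm, Submodule.Quotient.mk_eq_zero, Ideal.smul_top_eq_map] at he
            rw [smul_zero, map_zero, eq_comm, Submodule.Quotient.mk_eq_zero, Ideal.smul_top_eq_map]
            exact Ideal.mul_mem_left _ _ he
          | tmul u a =>
            intro e he
            obtain ⟨a, rfl⟩ := Ideal.Quotient.mk_surjective a
            rw [TensorProduct.smul_tmul', TensorProduct.tensorQuotEquivQuotSMul_tmul_mk] at *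
            rw [Submodule.Quotient.eq, Ideal.smul_top_eq_map] at he ⊢
            rw [smul_eq_mul, ← mul_smul_comm, ← mul_sub]
            exact Ideal.mul_mem_left _ b he
          | add s t hs ht =>
            intro e he
            obtain ⟨es, hes⟩ := Submodule.Quotient.mk_surjective _ (T s)
            obtain ⟨et, het⟩ := Submodule.Quotient.mk_surjective _ (T t)
            rw [map_add, ← hes, ← het, ← Submodule.Quotient.mk_add, Submodule.Quotient.eq,
              Ideal.smul_top_eq_map] at he
            rw [smul_add, map_add, hs es hes.symm, ht et het.symm, ← Submodule.Quotient.mk_add, ← mul_add,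
              Submodule.Quotient.eq, Ideal.smul_top_eq_map, ← mul_sub]
            exact Ideal.mul_mem_left _ b he
        have hgc : g.lTensor B (c • w) = c • g.lTensor B w := by
          generalize w = z
          induction z using TensorProduct.induction_on with
          | zero => simp
          | tmul b j => rw [TensorProduct.smul_tmul', LinearMap.lTensor_tmul, LinearMap.lTensor_tmul, TensorProduct.smul_tmul']
          | add a b ha hb => simp only [smul_add, map_add, ha, hb]
        have h5 := hT c _ d hd.symm
        rw [← hgc, hcw, map_zero, map_zero, eq_comm, Submodule.Quotient.mk_eq_zero, Ideal.smul_top_eq_map] at h5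
        have h6 : T (g.lTensor B w) = 0 := by
          rw [← hd, Submodule.Quotient.mk_eq_zero, Ideal.smul_top_eq_map]
          exact hc d h5
        exact T.injective (h6.trans (map_zero T).symm)
      obtain ⟨v, rfl⟩ := (lTensor_exact B (LinearMap.exact_subtype_ker_map γ) hγs w).1 h4
      clear h4 hcw hx ih
      induction v using TensorProduct.induction_on with
      | zero => simp
      | add a b ha hb => rw [map_add, map_add]; exact add_mem ha hb
      | tmul b j =>
        obtain ⟨j, hj⟩ := j
        rw [LinearMap.lTensor_tmul, mulIdeal_tmul, Algebra.smul_def]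
        refine Ideal.mul_mem_right _ _ (Ideal.mem_map_of_mem _ ?_)
        rw [hγ, Submodule.mem_smul_top_iff, smul_eq_mul, ← pow_succ'] at hj
        exact hj
  have hle : Ideal.map (algebraMap A B) 𝔪 ≤ maximalIdeal B :=
    Ideal.map_le_iff_le_comap.2 fun a ha => map_nonunit _ a ha
  refine (Submodule.mem_bot B).1 ?_
  rw [← Ideal.iInf_pow_eq_bot_of_isLocalRing _ (ne_top_of_le_ne_top (maximalIdeal.isMaximal B).ne_top hle)]
  exact Submodule.mem_iInf _ |>.2 fun n => (Ideal.map_pow (algebraMap A B) 𝔪 n) ▸ hstep n

end Groth.Agent.GeomUnib
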