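import Mathlib
import Groth.Agent.GeomUnib.Radical
import Groth.Agent.HenselLib.EtaleNormal
import Groth.Agent.AICPoint.Root

/-!
# Etale algebras over affine space at points over radicial points of the base

If the normalisation `A'` of the domain `A` is radicial over `p` and `E` is etale over `A[T]`, then the
local rings of `E` at the points over `p` are domains.
-/

set_option autoImplicit false
set_option linter.unusedSectionVars false
set_option linter.style.haveILetI false
set_option maxHeartbeats 1000000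

universe u

namespace Groth.Agent.GeomUnib

open TensorProduct

/-- Minimal primes of a flat algebra over a domain meet the base in zero. -/
lemma comap_minimalPrime_eq_bot {R S : Type u} [CommRing R] [IsDomain R] [CommRing S] [Algebra R S]
    [Module.Flat R S] (M : Ideal S) (hM : M ∈ minimalPrimes S) : M.comap (algebraMap R S) = ⊥ := by
  haveI := hM.1.1
  haveI : M.LiesOver (M.comap (algebraMap R S)) := ⟨rfl⟩
  obtain ⟨P, hP, hPp, hPo⟩ := Ideal.exists_ideal_le_liesOver_of_le (p := (⊥ : Ideal R))
    (q := M.comap (algebraMap R S)) M bot_le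
  rw [← le_antisymm hP (hM.2 ⟨hPp, bot_le⟩ hP)]
  exact hPo.over.symm

/-- In an etale algebra over a normal domain, two minimal primes below one point agree. -/
lemma minimalPrime_eq_of_etale {R S : Type u} [CommRing R] [IsDomain R] [IsIntegrallyClosed R] [CommRing S]
    [Algebra R S] [Algebra.Etale R S] (Q M₁ M₂ : Ideal S) [hQ : Q.IsPrime] (h₁ : M₁ ∈ minimalPrimes S)
    (h₂ : M₂ ∈ minimalPrimes S) (h₁Q : M₁ ≤ Q) (h₂Q : M₂ ≤ Q) : M₁ = M₂ := by
  suffices h : M₁ ≤ M₂ from le_antisymm h (h₂.2 ⟨h₁.1.1, bot_le⟩ h)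
  haveI := h₁.1.1
  intro t ht
  obtain ⟨e, z, c, hc, he, het, htz⟩ := HenselLib.exists_idempotent_mul R S t
  have hce : algebraMap R S c * e ∈ M₁ := htz ▸ M₁.mul_mem_right z ht
  have heM : e ∈ M₁ := (h₁.1.1.mem_or_mem hce).resolve_left fun h =>
    hc ((Ideal.mem_bot).1 ((comap_minimalPrime_eq_bot M₁ h₁).le h))
  have h0 : (1 - e) * t = 0 := by rw [sub_mul, one_mul, het, sub_self]
  refine (h₂.1.1.mem_or_mem (h0 ▸ M₂.zero_mem)).resolve_left fun h => ?_
  exact hQ.one_notMem (by simpa using Q.add_mem (h₂Q h) (h₁Q heM))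

/-- A reduced ring all of whose minimal primes below `Q` agree has a domain as local ring at `Q`. -/
lemma isDomain_localization_of_minimal {E : Type u} [CommRing E] [IsReduced E] (Q : Ideal E) [Q.IsPrime]
    (h : ∀ M₁ M₂ : Ideal E, M₁ ∈ minimalPrimes E → M₂ ∈ minimalPrimes E → M₁ ≤ Q → M₂ ≤ Q → M₁ = M₂) :
    IsDomain (Localization.AtPrime Q) := by
  obtain ⟨M, hM, hMQ⟩ := Ideal.exists_minimalPrimes_le (bot_le : (⊥ : Ideal E) ≤ Q)
  haveI := hM.1.1
  have hkill : ∀ z ∈ M.map (algebraMap E (Localization.AtPrime Q)), z = 0 := by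
    intro z hz
    refine IsReduced.eq_zero _ ?_
    rw [← mem_nilradical, nilradical_eq_sInf, Ideal.mem_sInf]
    intro N hN
    haveI : N.IsPrime := hN
    obtain ⟨M', hM', hM'N⟩ := Ideal.exists_minimalPrimes_le
      (bot_le : (⊥ : Ideal E) ≤ N.comap (algebraMap E (Localization.AtPrime Q)))
    have hNQ : N.comap (algebraMap E (Localization.AtPrime Q)) ≤ Q := fun c hc =>
      (IsLocalization.AtPrime.to_map_mem_maximal_iff (Localization.AtPrime Q) Q c).1
        (IsLocalRing.le_maximalIdeal hN.ne_top hc)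
    rw [h M M' hM hM' hMQ (hM'N.trans hNQ)] at hz
    exact Ideal.map_le_iff_le_comap.2 hM'N hz
  haveI := Ideal.isPrime_map_of_isLocalizationAtPrime (S := Localization.AtPrime Q) Q hMQ
  have hbot : M.map (algebraMap E (Localization.AtPrime Q)) = ⊥ := eq_bot_iff.2 fun z hz => hkill z hz
  exact IsDomain.of_bot_isPrime (hbp := hbot ▸ inferInstance) _

/-- Local rings of etale algebras over affine space over a radicial point are domains. -/
theorem isDomain_localization_of_radicialAt {A : Type u} [CommRing A] [IsDomain A] {A' : Type u} [CommRing A']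
    [IsDomain A'] [IsIntegrallyClosed A'] [Algebra A A'] [Algebra.IsIntegral A A']
    (hinj : Function.Injective (algebraMap A A')) {n : ℕ} {E : Type u} [CommRing E] [Algebra A E]
    [Algebra (MvPolynomial (Fin n) A) E] [IsScalarTower A (MvPolynomial (Fin n) A) E]
    [Algebra.Etale (MvPolynomial (Fin n) A) E] (Q : Ideal E) [Q.IsPrime]
    (hr : RadicialAt A' (Q.comap (algebraMap A E))) : IsDomain (Localization.AtPrime Q) := by
  classical
  haveI : IsReduced E := HenselLib.isReduced_of_etale (MvPolynomial (Fin n) A) E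
  refine isDomain_localization_of_minimal Q fun M₁ M₂ h₁ h₂ h₁Q h₂Q => ?_
  let R' := MvPolynomial (Fin n) A'
  letI : Algebra (MvPolynomial (Fin n) A) R' := (MvPolynomial.map (algebraMap A A')).toAlgebra
  haveI : IsIntegrallyClosed R' := AICPoint.isIntegrallyClosed_mvPolynomial A' n
  let E' := R' ⊗[MvPolynomial (Fin n) A] E
  letI : CommRing E' := Algebra.TensorProduct.instCommRing
  let ι : E →+* E' := (Algebra.TensorProduct.includeRight (R := MvPolynomial (Fin n) A) (A := R')).toRingHom
  have hι : Function.Injective ι :=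
    Algebra.TensorProduct.includeRight_injective (MvPolynomial.map_injective _ hinj)
  haveI : Algebra.IsIntegral (MvPolynomial (Fin n) A) R' := ⟨fun w => by
    induction w using MvPolynomial.induction_on with
    | C a =>
      obtain ⟨P, hP, hPa⟩ := Algebra.IsIntegral.isIntegral (R := A) a
      refine ⟨P.map MvPolynomial.C, hP.map _, ?_⟩
      rw [Polynomial.eval₂_map, show (algebraMap (MvPolynomial (Fin n) A) R').comp MvPolynomial.C =
        (MvPolynomial.C).comp (algebraMap A A') from RingHom.ext fun c => MvPolynomial.map_C _ c,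
        ← Polynomial.hom_eval₂, hPa, map_zero]
    | add p q hp hq => exact hp.add hq
    | mul_X p i hp =>
      refine hp.mul ?_
      rw [show (MvPolynomial.X i : R') = algebraMap (MvPolynomial (Fin n) A) R' (MvPolynomial.X i) from
        (MvPolynomial.map_X _ i).symm]
      exact isIntegral_algebraMap⟩
  have hint : ι.IsIntegral := by
    intro z
    let cm := Algebra.TensorProduct.comm (MvPolynomial (Fin n) A) E R'
    obtain ⟨w, rfl⟩ := cm.surjective z
    obtain ⟨P, hP, hPw⟩ := Algebra.IsIntegral.isIntegral (R := E) w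
    refine ⟨P, hP, ?_⟩
    have h := congrArg cm.toRingEquiv.toRingHom hPw
    rw [Polynomial.hom_eval₂, map_zero] at h
    rw [show ι = cm.toRingEquiv.toRingHom.comp (algebraMap E (E ⊗[MvPolynomial (Fin n) A] R')) from
      RingHom.ext fun e => (Algebra.TensorProduct.comm_tmul (MvPolynomial (Fin n) A) e (1 : R')).symm]
    exact h
  -- lifts
  have hlift : ∀ M ∈ minimalPrimes E, M ≤ Q →
      ∃ M' Q' : Ideal E', M' ∈ minimalPrimes E' ∧ Q'.IsPrime ∧ M' ≤ Q' ∧ M'.comap ι = M ∧ Q'.comap ι = Q := by
    intro M hM hMQ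
    obtain ⟨N, hN, hNM⟩ := Ideal.exists_comap_eq_of_mem_minimalPrimes_of_injective hι M hM
    obtain ⟨M', hM', hM'N⟩ := Ideal.exists_minimalPrimes_le (bot_le : (⊥ : Ideal E') ≤ N)
    haveI := hM'.1.1
    haveI := hM.1.1
    have hM'c : M'.comap ι = M :=
      le_antisymm (hNM ▸ Ideal.comap_mono hM'N) (hM.2 ⟨inferInstance, bot_le⟩ (hNM ▸ Ideal.comap_mono hM'N))
    letI := ι.toAlgebra
    haveI : Algebra.IsIntegral E E' := ⟨hint⟩
    obtain ⟨Q', hQ'le, hQ', hQ'c⟩ := Ideal.exists_ideal_over_prime_of_isIntegral Q M' (hM'c.le.trans hMQ)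
    exact ⟨M', Q', hM', hQ', hQ'le, hM'c, hQ'c⟩
  obtain ⟨M₁', Q₁, hM₁', hQ₁, hle₁, hc₁, hQc₁⟩ := hlift M₁ h₁ h₁Q
  obtain ⟨M₂', Q₂, hM₂', hQ₂, hle₂, hc₂, hQc₂⟩ := hlift M₂ h₂ h₂Q
  have hQQ : Q₁ = Q₂ := by
    obtain ⟨L, _, σ, τ, hστ⟩ := exists_amalgam (Ideal.ResidueField.map Q Q₁ ι hQc₁.symm)
      (Ideal.ResidueField.map Q Q₂ ι hQc₂.symm)
    let χ₁ : E' →+* L := σ.comp (algebraMap E' Q₁.ResidueField)
    let χ₂ : E' →+* L := τ.comp (algebraMap E' Q₂.ResidueField)
    have hE : ∀ e, χ₁ (ι e) = χ₂ (ι e) := fun e => by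
      have h := RingHom.congr_fun hστ (algebraMap E Q.ResidueField e)
      simp only [RingHom.comp_apply, Ideal.ResidueField.map_algebraMap] at h
      exact h
    have hR : ∀ w : R', χ₁ (algebraMap R' E' w) = χ₂ (algebraMap R' E' w) := by
      have hP : ∀ f : MvPolynomial (Fin n) A, algebraMap R' E' (algebraMap (MvPolynomial (Fin n) A) R' f) =
          ι (algebraMap (MvPolynomial (Fin n) A) E f) := fun f =>
        ((Algebra.TensorProduct.includeLeft (R := MvPolynomial (Fin n) A) (S := MvPolynomial (Fin n) A)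
          (A := R') (B := E)).commutes f).trans
          ((Algebra.TensorProduct.includeRight (R := MvPolynomial (Fin n) A) (A := R') (B := E)).commutes f).symm
      have hA : ∀ a : A, algebraMap R' E' (MvPolynomial.C (algebraMap A A' a)) = ι (algebraMap A E a) := fun a => by
        rw [← MvPolynomial.map_C (algebraMap A A'), IsScalarTower.algebraMap_apply A (MvPolynomial (Fin n) A) E]
        exact hP (MvPolynomial.C a)
      have hk : χ₁.comp ((algebraMap R' E').comp MvPolynomial.C) = χ₂.comp ((algebraMap R' E').comp MvPolynomial.C) := by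
        refine hr L _ _ (RingHom.ext fun a => ?_) ?_
        · show χ₁ (algebraMap R' E' (MvPolynomial.C (algebraMap A A' a))) =
            χ₂ (algebraMap R' E' (MvPolynomial.C (algebraMap A A' a)))
          rw [hA, hE]
        · ext a
          show χ₁ (algebraMap R' E' (MvPolynomial.C (algebraMap A A' a))) = 0 ↔ algebraMap A E a ∈ Q
          rw [hA, ← hQc₁]
          exact (map_eq_zero σ).trans Ideal.algebraMap_residueField_eq_zero
      refine RingHom.congr_fun (MvPolynomial.ringHom_ext (f := χ₁.comp (algebraMap R' E'))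
        (g := χ₂.comp (algebraMap R' E')) (fun a => RingHom.congr_fun hk a) fun i => ?_)
      show χ₁ (algebraMap R' E' (MvPolynomial.X i)) = χ₂ (algebraMap R' E' (MvPolynomial.X i))
      rw [← MvPolynomial.map_X (algebraMap A A') i]
      show χ₁ (algebraMap R' E' (algebraMap (MvPolynomial (Fin n) A) R' (MvPolynomial.X i))) = χ₂ _
      rw [hP, hE]
      exact congrArg χ₂ (hP _).symm
    have heq : ∀ z : E', χ₁ z = χ₂ z := fun z => by
      induction z using TensorProduct.induction_on with
      | zero => simp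
      | add a b ha hb => rw [map_add, map_add, ha, hb]
      | tmul w e =>
        have hwe : w ⊗ₜ[MvPolynomial (Fin n) A] e = algebraMap R' E' w * ι e := by
          show _ = (w ⊗ₜ[MvPolynomial (Fin n) A] (1 : E)) * ((1 : R') ⊗ₜ e)
          rw [Algebra.TensorProduct.tmul_mul_tmul, mul_one, one_mul]
        rw [hwe, map_mul, map_mul, hR, hE]
    ext z
    have h1 : χ₁ z = 0 ↔ z ∈ Q₁ := (map_eq_zero σ).trans Ideal.algebraMap_residueField_eq_zero
    have h2 : χ₂ z = 0 ↔ z ∈ Q₂ := (map_eq_zero τ).trans Ideal.algebraMap_residueField_eq_zero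
    rw [← h1, ← h2, heq]
  subst hQQ
  rw [← hc₁, ← hc₂, minimalPrime_eq_of_etale (R := R') Q₁ M₁' M₂' hM₁' hM₂' hle₁ hle₂]

end Groth.Agent.GeomUnib
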