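import Mathlib
import Groth.Agent.GeomUnib.FlatFibre
import Groth.Agent.GeomUnib.FlatRegular
import Groth.Agent.GeomUnib.UnibDomain

/-!
# Local rings over geometrically unibranch points with integral, geometrically reduced fibres
-/

set_option autoImplicit false
set_option linter.unusedSectionVars false
set_option linter.style.haveILetI false
set_option maxHeartbeats 1000000
set_option synthInstance.maxHeartbeats 200000

universe u

namespace Groth.Agent.GeomUnib

open IsLocalRing TensorProduct UnivOpenAt

/-- The unique point of the fibre ring over a prime. -/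
lemma exists_fiber_point {A C : Type u} [CommRing A] [CommRing C] [Algebra A C] (qx : Ideal C) [qx.IsPrime]
    (p : Ideal A) [p.IsPrime] [qx.LiesOver p] :
    ∃ P : Ideal (p.ResidueField ⊗[A] C), ∃ _ : P.IsPrime, P.comap (inr A C p.ResidueField) = qx ∧
      ∀ (P' : Ideal (p.ResidueField ⊗[A] C)), P'.IsPrime → P'.comap (inr A C p.ResidueField) = qx → P' = P := by
  let e := PrimeSpectrum.preimageOrderIsoFiber A C ⟨p, inferInstance⟩
  let q₀ : (PrimeSpectrum.comap (algebraMap A C) ⁻¹' {⟨p, inferInstance⟩} : Set _) :=
    ⟨⟨qx, inferInstance⟩, PrimeSpectrum.ext (qx.over_def p).symm⟩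
  have hval : ∀ (P : PrimeSpectrum (p.ResidueField ⊗[A] C)),
      (e.symm P).1.asIdeal = P.asIdeal.comap (inr A C p.ResidueField) := fun P => rfl
  refine ⟨(e q₀).asIdeal, (e q₀).2, ?_, fun P' hP' h => ?_⟩
  · rw [← hval, e.symm_apply_apply]
  · have : e.symm ⟨P', hP'⟩ = q₀ := Subtype.ext (PrimeSpectrum.ext ((hval _).trans h))
    rw [← this, e.apply_symm_apply]

/-- `p C_qx` is prime if the fibre is integral at `qx`. -/
theorem isPrime_map_of_isDomain {A C : Type u} [CommRing A] [CommRing C] [Algebra A C] (qx : Ideal C)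
    [qx.IsPrime] (p : Ideal A) [p.IsPrime] [qx.LiesOver p]
    (hdom : ∀ (P : Ideal (p.ResidueField ⊗[A] C)) [P.IsPrime],
      P.comap (inr A C p.ResidueField) = qx → IsDomain (Localization.AtPrime P)) :
    (p.map (algebraMap A (Localization.AtPrime qx))).IsPrime := by
  obtain ⟨P, _, hP, huniq⟩ := exists_fiber_point qx p
  haveI := hdom P hP
  let B := Localization.AtPrime qx
  let J := p.map (algebraMap A B)
  have hJ : J ≤ maximalIdeal B := Ideal.map_le_iff_le_comap.2 fun a ha => by
    show algebraMap A B a ∈ maximalIdeal B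
    rw [IsScalarTower.algebraMap_apply A C B, IsLocalization.AtPrime.to_map_mem_maximal_iff B qx]
    exact (qx.over_def p).le ha
  haveI : Nontrivial (B ⧸ J) := Ideal.Quotient.nontrivial_iff.2 (ne_top_of_le_ne_top (maximalIdeal.isMaximal B).ne_top hJ)
  haveI : IsLocalRing (B ⧸ J) := .of_surjective' _ Ideal.Quotient.mk_surjective
  let r : p.ResidueField →+* B ⧸ J := Ideal.ResidueField.lift p (algebraMap A (B ⧸ J))
    (fun a ha => Ideal.Quotient.eq_zero_iff_mem.2 (Ideal.mem_map_of_mem _ ha))
    (fun a ha => by
      show IsUnit (algebraMap A (B ⧸ J) a)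
      rw [IsScalarTower.algebraMap_apply A B (B ⧸ J)]
      refine IsUnit.map _ ?_
      rw [IsScalarTower.algebraMap_apply A C B]
      exact IsLocalization.map_units B (⟨algebraMap A C a, fun h => ha ((qx.over_def p).ge h)⟩ : qx.primeCompl))
  let rA : p.ResidueField →ₐ[A] B ⧸ J := { r with commutes' := fun a => Ideal.ResidueField.lift_algebraMap _ _ _ _ a }
  let ψ : p.ResidueField ⊗[A] C →ₐ[A] B ⧸ J :=
    Algebra.TensorProduct.lift rA (IsScalarTower.toAlgHom A C (B ⧸ J)) fun _ _ => .all _ _
  have hψ : ∀ c : C, ψ (inr A C p.ResidueField c) = algebraMap C (B ⧸ J) c := fun c => by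
    refine (Algebra.TensorProduct.lift_tmul rA (IsScalarTower.toAlgHom A C (B ⧸ J)) _ 1 c).trans ?_
    rw [map_one, one_mul]
    rfl
  have hψP : (maximalIdeal (B ⧸ J)).comap ψ.toRingHom = P := by
    refine huniq _ inferInstance ?_
    rw [Ideal.comap_comap, show ψ.toRingHom.comp (inr A C p.ResidueField) = algebraMap C (B ⧸ J) from
      RingHom.ext hψ, IsScalarTower.algebraMap_eq C B (B ⧸ J), ← Ideal.comap_comap,
      Ideal.Quotient.algebraMap_eq]
    haveI := IsLocalHom.of_surjective (Ideal.Quotient.mk J) Ideal.Quotient.mk_surjective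
    rw [((IsLocalRing.local_hom_TFAE (Ideal.Quotient.mk J)).out 0 4 rfl rfl).mp inferInstance]
    exact IsLocalization.AtPrime.comap_maximalIdeal B qx
  have hu : ∀ u : P.primeCompl, IsUnit (ψ.toRingHom u) := fun u =>
    IsLocalRing.notMem_maximalIdeal.1 fun h => u.2 (hψP.le h)
  let back : Localization.AtPrime P →+* B ⧸ J := IsLocalization.lift hu
  let fwd : B →+* Localization.AtPrime P := IsLocalization.lift (M := qx.primeCompl)
    (g := (algebraMap _ (Localization.AtPrime P)).comp (inr A C p.ResidueField)) fun y =>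
      IsLocalization.map_units (Localization.AtPrime P) (⟨_, fun h => y.2 (hP.le h)⟩ : P.primeCompl)
  have hcomp : back.comp fwd = Ideal.Quotient.mk J := IsLocalization.ringHom_ext qx.primeCompl
    (RingHom.ext fun c => by
      show back (fwd (algebraMap C B c)) = Ideal.Quotient.mk J (algebraMap C B c)
      rw [IsLocalization.lift_eq]
      show back (algebraMap _ (Localization.AtPrime P) (inr A C p.ResidueField c)) = _
      rw [IsLocalization.lift_eq]
      exact hψ c)
  have hker : RingHom.ker fwd = J := by
    refine le_antisymm (fun z hz => Ideal.Quotient.eq_zero_iff_mem.1 ?_) (Ideal.map_le_iff_le_comap.2 fun a ha => ?_)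
    · rw [← hcomp, RingHom.comp_apply, show fwd z = 0 from hz, map_zero]
    · show fwd (algebraMap A B a) = 0
      rw [IsScalarTower.algebraMap_apply A C B, IsLocalization.lift_eq]
      show algebraMap _ (Localization.AtPrime P) ((1 : p.ResidueField) ⊗ₜ[A] algebraMap A C a) = 0
      rw [Algebra.algebraMap_eq_smul_one a, ← TensorProduct.smul_tmul, ← Algebra.algebraMap_eq_smul_one,
        Ideal.algebraMap_residueField_eq_zero.2 ha, TensorProduct.zero_tmul, map_zero]
  show J.IsPrime
  exact hker ▸ RingHom.ker_isPrime fwd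

/-- Local rings over radicial points with integral, geometrically reduced fibre are domains. -/
theorem isDomain_of_geomIntegral {A C : Type u} [CommRing A] [IsNoetherianRing A] [IsDomain A] [CommRing C]
    [Algebra A C] [Algebra.FiniteType A C] (qx : Ideal C) [qx.IsPrime] (p : Ideal A) [p.IsPrime]
    [qx.LiesOver p]
    (hred : ∀ (P : Ideal (AlgebraicClosure p.ResidueField ⊗[A] C)) [P.IsPrime],
      P.comap (inr A C (AlgebraicClosure p.ResidueField)) = qx → IsReduced (Localization.AtPrime P))
    (hdom : ∀ (P : Ideal (p.ResidueField ⊗[A] C)) [P.IsPrime],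
      P.comap (inr A C p.ResidueField) = qx → IsDomain (Localization.AtPrime P))
    (htor : ∀ (q : Ideal C) [q.IsPrime], q ≤ qx → q ∈ (p.map (algebraMap A C)).minimalPrimes →
      ∀ (W : Type u) [CommRing W] [IsDomain W] [Algebra A W], TorAt (A := A) q W)
    {A' : Type u} [CommRing A'] [IsDomain A'] [IsIntegrallyClosed A'] [Algebra A A'] [Algebra.IsIntegral A A']
    (hinj : Function.Injective (algebraMap A A')) (hr : RadicialAt A' p) :
    IsDomain (Localization.AtPrime qx) := by
  classical
  let B := Localization.AtPrime qx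
  haveI hJ : (p.map (algebraMap A B)).IsPrime := isPrime_map_of_isDomain qx p hdom
  let q := (p.map (algebraMap A B)).comap (algebraMap C B)
  have hqx : q ≤ qx := fun c hc =>
    (IsLocalization.AtPrime.to_map_mem_maximal_iff B qx c).1 (IsLocalRing.le_maximalIdeal hJ.ne_top hc)
  have hmin : q ∈ (p.map (algebraMap A C)).minimalPrimes := by
    refine ⟨⟨inferInstance, ?_⟩, fun M hM hMq => ?_⟩
    · rw [← Ideal.map_le_iff_le_comap, Ideal.map_map, ← IsScalarTower.algebraMap_eq]
    · haveI := hM.1
      have h : p.map (algebraMap A B) ≤ M.map (algebraMap C B) := by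
        rw [IsScalarTower.algebraMap_eq A C B, ← Ideal.map_map]
        exact Ideal.map_mono hM.2
      exact (Ideal.comap_mono h).trans (le_of_eq (Ideal.under_map_of_isLocalizationAtPrime qx (hMq.trans hqx)))
  haveI : q.LiesOver p := ⟨le_antisymm (Ideal.map_le_iff_le_comap.1 hmin.1.2)
    ((Ideal.comap_mono hqx).trans (qx.over_def p).ge)⟩
  letI := Localization.AtPrime.algebraOfLiesOver p q
  obtain ⟨hmax, hgr⟩ := residue_props qx p hred q hqx hmin
  haveI := hgr
  obtain ⟨n, E, _, _, _, _, _, Q, _, hQp, -, ⟨ε⟩⟩ := exists_model_of_torAt q p hmax (htor q hqx hmin)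
  haveI := isDomain_localization_of_radicialAt (A' := A') hinj (n := n) Q (hQp ▸ hr)
  haveI : IsDomain (Localization.AtPrime q) := ε.symm.toMulEquiv.isDomain (Localization.AtPrime Q)
  -- elements outside `q` are regular
  haveI : Module.Flat A B := flat_of_geomReduced qx p hred htor
  letI := Localization.AtPrime.algebraOfLiesOver p qx
  haveI : IsNoetherianRing (Localization.AtPrime p) :=
    IsLocalization.isNoetherianRing p.primeCompl _ inferInstance
  haveI : IsNoetherianRing C := Algebra.FiniteType.isNoetherianRing A C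
  haveI : IsNoetherianRing B := IsLocalization.isNoetherianRing qx.primeCompl B inferInstance
  haveI : Module.Flat (Localization.AtPrime p) B :=
    (Module.flat_iff_of_isLocalization (Localization.AtPrime p) p.primeCompl B).2 inferInstance
  have hmB : (maximalIdeal (Localization.AtPrime p)).map (algebraMap (Localization.AtPrime p) B) =
      p.map (algebraMap A B) := by
    rw [← Localization.AtPrime.map_eq_maximalIdeal, Ideal.map_map, ← IsScalarTower.algebraMap_eq]
  have hreg : ∀ c : C, c ∉ q → ∀ z : B, algebraMap C B c * z = 0 → z = 0 := fun c hc z hz =>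
    eq_zero_of_regular_fibre (A := Localization.AtPrime p) (fun b hb => by
      rw [hmB] at hb ⊢
      exact (hJ.mem_or_mem hb).resolve_left hc) hz
  let g : B →+* Localization.AtPrime q := IsLocalization.map (Localization.AtPrime q) (RingHom.id C)
    (show qx.primeCompl ≤ q.primeCompl.comap (RingHom.id C) from fun c hc h => hc (hqx h))
  refine Function.Injective.isDomain g ((injective_iff_map_eq_zero g).2 fun z hz => ?_)
  obtain ⟨⟨c, s⟩, rfl⟩ := IsLocalization.mk'_surjective qx.primeCompl z
  change g (IsLocalization.mk' B c s) = 0 at hz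
  rw [IsLocalization.map_mk', IsLocalization.mk'_eq_zero_iff] at hz
  obtain ⟨⟨t, ht⟩, htc⟩ := hz
  refine hreg t ht _ ?_
  rw [IsLocalization.mul_mk'_eq_mk'_of_mul, show t * c = 0 from htc, IsLocalization.mk'_zero]

end Groth.Agent.GeomUnib
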