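import Groth.Agent.GeomUnib.EquidimLocal
import Groth.Agent.FibDim.Scheme

/-!
# Components and fibre components under flat base change
-/

set_option autoImplicit false

universe u

open CategoryTheory CategoryTheory.Limits AlgebraicGeometry TopologicalSpace

namespace Groth.Agent.GeomUnib

open FibreDim

variable {X Y Y' : Scheme.{u}} (f : X ⟶ Y) (g : Y' ⟶ Y)

/-- Maximal points lie over maximal points under generalising maps. -/
theorem maximal_map [Flat g] {z' : Y'} (h : ∀ a : Y', a ⤳ z' → a = z') (a : Y) (ha : a ⤳ g.base z') :
    a = g.base z' := by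
  obtain ⟨a', ha', rfl⟩ := Flat.generalizingMap g ha
  exact congrArg _ (h a' ha')

/-- A maximal point of a flat base change lying over the generic point of a component of the base
has maximal image in the new base. -/
theorem maximal_snd (z' : ↥(pullback f g)) (h : ∀ a : ↥(pullback f g), a ⤳ z' → a = z')
    (hη : ∀ a : Y, a ⤳ f.base ((pullback.fst f g).base z') → a = f.base ((pullback.fst f g).base z'))
    (γ : Y') (hγ : γ ⤳ (pullback.snd f g).base z') : γ = (pullback.snd f g).base z' := by
  set η := f.base ((pullback.fst f g).base z') with hη'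
  have hgy : g.base ((pullback.snd f g).base z') = η := by
    rw [hη', ← Scheme.Hom.comp_apply, ← Scheme.Hom.comp_apply, pullback.condition]
  have hgγ : g.base γ = η := hη _ (by rw [← hgy]; exact hγ.map g.continuous)
  have big := (IsPullback.of_hasPullback (pullback.snd f g) (g.fiberι η)).paste_horiz
    (IsPullback.of_hasPullback f g)
  have small := IsPullback.of_hasPullback f (Y.fromSpecResidueField η)
  have e : g.fiberι η ≫ g = g.fiberToSpecResidueField η ≫ Y.fromSpecResidueField η :=
    pullback.condition (f := g) (g := Y.fromSpecResidueField η)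
  let h' : pullback (pullback.snd f g) (g.fiberι η) ⟶ pullback f (Y.fromSpecResidueField η) :=
    pullback.lift (pullback.fst _ _ ≫ pullback.fst f g) (pullback.snd _ _ ≫ g.fiberToSpecResidueField η)
      (by rw [big.w, e, Category.assoc])
  have sq : IsPullback h' (pullback.snd _ _) (f.fiberToSpecResidueField η)
      (g.fiberToSpecResidueField η) := by
    refine IsPullback.of_right ?_ (pullback.lift_snd _ _ _) small
    rw [show h' ≫ pullback.fst _ _ = pullback.fst _ _ ≫ pullback.fst f g from pullback.lift_fst _ _ _, ← e]
    exact big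
  haveI : Flat (pullback.snd (pullback.snd f g) (g.fiberι η)) :=
    MorphismProperty.of_isPullback (P := @Flat) sq inferInstance
  obtain ⟨γ₁, rfl⟩ : γ ∈ Set.range (g.fiberι η) := by rw [g.range_fiberι]; exact hgγ
  obtain ⟨y₁, hy₁⟩ : (pullback.snd f g).base z' ∈ Set.range (g.fiberι η) := by
    rw [g.range_fiberι]; exact hgy
  obtain ⟨z₁, hz₁, hz₁'⟩ := Scheme.exists_preimage_of_isPullback
    (IsPullback.of_hasPullback (pullback.snd f g) (g.fiberι η)) z' y₁ hy₁.symm
  have hγy : γ₁ ⤳ (pullback.snd (pullback.snd f g) (g.fiberι η)).base z₁ := by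
    rw [hz₁']
    exact (g.fiberι η).isEmbedding.toIsInducing.specializes_iff.1 (hy₁.symm ▸ hγ)
  obtain ⟨a, ha, hag⟩ := Flat.generalizingMap (pullback.snd (pullback.snd f g) (g.fiberι η)) hγy
  have haz : (pullback.fst (pullback.snd f g) (g.fiberι η)).base a = z' :=
    h _ (hz₁ ▸ ha.map (pullback.fst (pullback.snd f g) (g.fiberι η)).continuous)
  rw [← haz, ← hag, ← Scheme.Hom.comp_apply, ← Scheme.Hom.comp_apply, pullback.condition]

/-- Maximal points of fibres of a base change lie over maximal points of fibres, of the same
dimension. -/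
theorem fdim_fst_of_maximal [LocallyOfFiniteType f] (m' : ↥(pullback f g))
    (hmax : ∀ b : ↥(pullback f g), (pullback.snd f g).base b = (pullback.snd f g).base m' → b ⤳ m' → b = m') :
    (∀ c : X, f.base c = f.base ((pullback.fst f g).base m') → c ⤳ (pullback.fst f g).base m' →
      c = (pullback.fst f g).base m') ∧
      fdim (pullback.snd f g) m' = fdim f ((pullback.fst f g).base m') := by
  obtain ⟨y', hy'⟩ : ∃ y', y' = (pullback.snd f g).base m' := ⟨_, rfl⟩
  have hfy : f.base ((pullback.fst f g).base m') = g.base y' := by
    rw [hy', ← Scheme.Hom.comp_apply, ← Scheme.Hom.comp_apply, pullback.condition]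
  have big := (IsPullback.of_hasPullback (pullback.snd f g) (Y'.fromSpecResidueField y')).paste_horiz
    (IsPullback.of_hasPullback f g)
  have small := IsPullback.of_hasPullback f (Y.fromSpecResidueField (g.base y'))
  have e : Y'.fromSpecResidueField y' ≫ g =
      Spec.map (g.residueFieldMap y') ≫ Y.fromSpecResidueField (g.base y') :=
    (g.SpecMap_residueFieldMap_fromSpecResidueField y').symm
  let h' : pullback (pullback.snd f g) (Y'.fromSpecResidueField y') ⟶
      pullback f (Y.fromSpecResidueField (g.base y')) :=
    pullback.lift (pullback.fst _ _ ≫ pullback.fst f g) (pullback.snd _ _ ≫ Spec.map (g.residueFieldMap y'))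
      (by rw [big.w, e, Category.assoc])
  have hh1 : h' ≫ f.fiberι (g.base y') = (pullback.snd f g).fiberι y' ≫ pullback.fst f g :=
    pullback.lift_fst _ _ _
  have sq : IsPullback h' ((pullback.snd f g).fiberToSpecResidueField y')
      (f.fiberToSpecResidueField (g.base y')) (Spec.map (g.residueFieldMap y')) := by
    refine IsPullback.of_right ?_ (pullback.lift_snd _ _ _) small
    rw [show h' ≫ pullback.fst _ _ = pullback.fst _ _ ≫ pullback.fst f g from hh1, ← e]
    exact big
  obtain ⟨η, hη⟩ : m' ∈ Set.range ((pullback.snd f g).fiberι y') := by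
    rw [(pullback.snd f g).range_fiberι]; exact hy'.symm
  have hfib : ∀ b : ↥((pullback.snd f g).fiber y'),
      (pullback.snd f g).base (((pullback.snd f g).fiberι y').base b) = y' := fun b => by
    have : ((pullback.snd f g).fiberι y').base b ∈ Set.range ((pullback.snd f g).fiberι y') := ⟨b, rfl⟩
    rwa [(pullback.snd f g).range_fiberι] at this
  haveI : LocallyOfFiniteType (f.fiberToSpecResidueField (g.base y')) :=
    MorphismProperty.of_isPullback (P := @LocallyOfFiniteType) small ‹_›
  obtain ⟨hm, hd⟩ := FibDim.dim_closure_of_isPullback (L := Y.residueField (g.base y'))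
    (K := Y'.residueField y') (f.fiberToSpecResidueField (g.base y')) (g.residueFieldMap y') sq η
    (fun η' h => ((pullback.snd f g).fiberι y').isEmbedding.injective (hη.symm ▸
      hmax _ ((hfib η').trans hy') (hη ▸ h.map ((pullback.snd f g).fiberι y').continuous)))
  have hc := congrArg (fun k => k.base η) hh1
  simp only [Scheme.Hom.comp_apply] at hc
  change (f.fiberι (g.base y')).base (h'.base η) = (pullback.fst f g).base (((pullback.snd f g).fiberι y').base η) at hc
  rw [hη] at hc
  refine ⟨fun c hc' hcm => ?_, ?_⟩
  · obtain ⟨d, rfl⟩ : c ∈ Set.range (f.fiberι (g.base y')) := by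
      rw [f.range_fiberι]; exact hc'.trans hfy
    rw [← hc] at hcm ⊢
    exact congrArg _ (hm d ((f.fiberι _).isEmbedding.toIsInducing.specializes_iff.1 hcm))
  · rw [← hη, ← dim_closure_fibre (pullback.snd f g) y' η]
    refine hd.trans ((dim_closure_fibre f (g.base y') (h'.base η)).trans ?_)
    rw [hη]
    exact congrArg (fdim f) hc

end Groth.Agent.GeomUnib
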