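import Mathlib

/-!
# Absolutely irreducible polynomials stay irreducible over a dense open of the base
-/

set_option autoImplicit false
set_option linter.style.haveILetI false
set_option maxHeartbeats 1000000

universe u

namespace Groth.Agent.GeomUnib.IntegralSpread

open TensorProduct

/-- A finite type algebra without points in the algebraic closure of the fraction field is killed by
a nonzero element of the base. -/
theorem exists_eq_zero_of_no_geometric_point {A C : Type u} (K : Type u) [CommRing A] [IsDomain A]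
    [Field K] [Algebra A K] [IsFractionRing A K] [CommRing C]
    [Algebra A C] [Algebra.FiniteType A C]
    (h : ∀ φ : C →+* AlgebraicClosure K,
      φ.comp (algebraMap A C) ≠ algebraMap A (AlgebraicClosure K)) :
    ∃ a : A, a ≠ 0 ∧ algebraMap A C a = 0 := by
  classical
  by_contra! hne
  let S : Submonoid C := (nonZeroDivisors A).map (algebraMap A C)
  have h0 : Disjoint ((⊥ : Ideal C) : Set C) S := by
    refine Set.disjoint_left.2 ?_
    rintro c hc ⟨a, ha, rfl⟩
    exact hne a (nonZeroDivisors.ne_zero ha) (by simpa using hc)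
  obtain ⟨Q, hQ, -, hdisj⟩ := Ideal.exists_le_prime_disjoint ⊥ S h0
  let D := C ⧸ Q
  have hinj : Function.Injective (algebraMap A D) := (injective_iff_map_eq_zero _).2 fun a ha => by
    by_contra ha0
    exact Set.disjoint_left.1 hdisj (Ideal.Quotient.eq_zero_iff_mem.1 ha : algebraMap A C a ∈ Q)
      ⟨a, mem_nonZeroDivisors_of_ne_zero ha0, rfl⟩
  haveI : FaithfulSMul A D := (faithfulSMul_iff_algebraMap_injective A D).2 hinj
  let L := FractionRing D
  haveI : FaithfulSMul A L := (faithfulSMul_iff_algebraMap_injective A L).2 (by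
    rw [IsScalarTower.algebraMap_eq A D L]
    exact (IsFractionRing.injective D L).comp hinj)
  letI : Algebra K L :=
    (IsFractionRing.lift (g := algebraMap A L) (FaithfulSMul.algebraMap_injective A L)).toAlgebra
  haveI : IsScalarTower A K L := IsScalarTower.of_algebraMap_eq fun a =>
    (IsFractionRing.lift_algebraMap (FaithfulSMul.algebraMap_injective A L) a).symm
  let T := K ⊗[A] C
  haveI : Nontrivial T := by
    let g : C →ₐ[A] L := (IsScalarTower.toAlgHom A D L).comp (Ideal.Quotient.mkₐ A Q)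
    let m := Algebra.TensorProduct.lift (IsScalarTower.toAlgHom A K L) g fun _ _ => .all _ _
    exact m.toRingHom.domain_nontrivial
  obtain ⟨M, hM⟩ := Ideal.exists_maximal T
  letI : Field (T ⧸ M) := Ideal.Quotient.field M
  haveI : Algebra.FiniteType K (T ⧸ M) :=
    Algebra.FiniteType.of_surjective (Ideal.Quotient.mkₐ K M) Ideal.Quotient.mk_surjective
  haveI : Module.Finite K (T ⧸ M) := finite_of_finite_type_of_isJacobsonRing K (T ⧸ M)
  let e : (T ⧸ M) →ₐ[K] AlgebraicClosure K := IsAlgClosed.lift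
  let φ : C →ₐ[A] AlgebraicClosure K :=
    (e.restrictScalars A).comp (((Ideal.Quotient.mkₐ K M).restrictScalars A).comp Algebra.TensorProduct.includeRight)
  exact h φ.toRingHom φ.comp_algebraMap

variable {A : Type u} [CommRing A] {σ : Type} [Finite σ]

/-- A nonconstant monomial occurs in a nonunit nonzero polynomial over a field. -/
lemma exists_support_ne_zero {k : Type u} [Field k] {g : MvPolynomial σ k} (hg : ¬ IsUnit g) (h0 : g ≠ 0) :
    ∃ m ∈ g.support, m ≠ 0 := by
  by_contra! h
  refine hg ?_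
  rw [MvPolynomial.isUnit_iff]
  have hc : g.coeff 0 ≠ 0 := fun hc => h0 (MvPolynomial.ext _ _ fun m => by
    rcases eq_or_ne m 0 with rfl | hm
    · rw [hc, MvPolynomial.coeff_zero]
    · rw [MvPolynomial.coeff_zero, MvPolynomial.notMem_support_iff.1 fun hm' => hm (h m hm')])
  refine ⟨isUnit_iff_ne_zero.2 hc, fun m hm => ?_⟩
  rw [MvPolynomial.notMem_support_iff.1 fun hm' => hm (h m hm')]
  exact IsNilpotent.zero

/-- An absolutely irreducible polynomial has irreducible specialisations over a dense open. -/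
theorem exists_irreducible_map [IsDomain A] (K : Type u) [Field K] [Algebra A K] [IsFractionRing A K] (F : MvPolynomial σ A)
    (hF : Irreducible (F.map (algebraMap A (AlgebraicClosure K)))) :
    ∃ a : A, a ≠ 0 ∧ ∀ (k : Type u) [Field k] (φ : A →+* k), φ a ≠ 0 → Irreducible (F.map φ) := by
  classical
  haveI := Fintype.ofFinite σ
  let Ω := AlgebraicClosure K
  let N := F.totalDegree
  let mon : (σ → Fin (N + 1)) → (σ →₀ ℕ) := fun i => Finsupp.equivFunOnFinite.symm fun s => (i s : ℕ)
  have hmon : Function.Injective mon := fun i j hij => funext fun s => Fin.ext <| by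
    simpa [mon] using DFunLike.congr_fun hij s
  -- the coefficient ring of factorisations
  let V := (σ → Fin (N + 1)) ⊕ (σ → Fin (N + 1)) ⊕ Unit
  let R := MvPolynomial V A
  let G : MvPolynomial σ R := ∑ i, MvPolynomial.monomial (mon i) (MvPolynomial.X (Sum.inl i))
  let H : MvPolynomial σ R := ∑ i, MvPolynomial.monomial (mon i) (MvPolynomial.X (Sum.inr (Sum.inl i)))
  let J : (σ → Fin (N + 1)) → (σ → Fin (N + 1)) → Ideal R := fun i j =>
    Ideal.span (insert (MvPolynomial.X (Sum.inl i) - 1)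
      (insert (MvPolynomial.X (Sum.inr (Sum.inr ())) * MvPolynomial.X (Sum.inr (Sum.inl j)) - 1)
        (Set.range fun d => (G * H - F.map MvPolynomial.C).coeff d)))
  have hmap : ∀ {S : Type u} [CommRing S] (ψ : R →+* S) (e : (σ → Fin (N + 1)) → V) (i : σ → Fin (N + 1)),
      ((∑ i, MvPolynomial.monomial (mon i) (MvPolynomial.X (e i)) : MvPolynomial σ R).map ψ).coeff (mon i) =
        ψ (MvPolynomial.X (e i)) := by
    intro S _ ψ e i
    rw [MvPolynomial.coeff_map, MvPolynomial.coeff_sum, Finset.sum_eq_single i]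
    · rw [MvPolynomial.coeff_monomial, if_pos rfl]
    · exact fun j _ hj => by rw [MvPolynomial.coeff_monomial, if_neg fun h => hj (hmon h)]
    · exact fun h => absurd (Finset.mem_univ i) h
  have key : ∀ i j, mon i ≠ 0 → mon j ≠ 0 →
      ∃ a : A, a ≠ 0 ∧ algebraMap A (R ⧸ J i j) a = 0 := by
    intro i j hi hj
    refine exists_eq_zero_of_no_geometric_point K fun χ hχ => ?_
    let ψ : R →+* Ω := χ.comp (Ideal.Quotient.mk (J i j))
    have hJ : ∀ r ∈ J i j, ψ r = 0 := fun r hr => by
      show χ (Ideal.Quotient.mk (J i j) r) = 0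
      rw [Ideal.Quotient.eq_zero_iff_mem.2 hr, map_zero]
    have hψC : ψ.comp MvPolynomial.C = algebraMap A Ω := by
      rw [← hχ]
      rfl
    have hfac : G.map ψ * H.map ψ = F.map (algebraMap A Ω) := by
      rw [← map_mul]
      ext d
      have h1 := hJ _ (Ideal.subset_span (Set.mem_insert_of_mem _ (Set.mem_insert_of_mem _ ⟨d, rfl⟩)))
      dsimp only at h1
      rw [MvPolynomial.coeff_sub, map_sub, sub_eq_zero] at h1
      rw [MvPolynomial.coeff_map, h1, ← MvPolynomial.coeff_map, MvPolynomial.map_map, hψC]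
    have hi1 : (G.map ψ).coeff (mon i) = 1 := by
      rw [hmap ψ Sum.inl i]
      have := hJ _ (Ideal.subset_span (Set.mem_insert _ _))
      rwa [map_sub, map_one, sub_eq_zero] at this
    have hj1 : (H.map ψ).coeff (mon j) ≠ 0 := fun h0 => by
      rw [hmap ψ (fun i => Sum.inr (Sum.inl i)) j] at h0
      have := hJ _ (Ideal.subset_span (Set.mem_insert_of_mem _ (Set.mem_insert _ _)))
      rw [map_sub, map_mul, h0, mul_zero, map_one, zero_sub, neg_eq_zero] at this
      exact one_ne_zero this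
    rcases hF.isUnit_or_isUnit hfac.symm with hu | hu
    · have := ((MvPolynomial.isUnit_iff).1 hu).2 (mon i) hi
      rw [hi1] at this
      exact one_ne_zero this.eq_zero
    · exact hj1 (((MvPolynomial.isUnit_iff).1 hu).2 (mon j) hj).eq_zero
  choose! a ha ha' using key
  have hF0 : F.map (algebraMap A Ω) ≠ 0 := hF.ne_zero
  obtain ⟨m₀, hm₀, hm₀'⟩ := exists_support_ne_zero hF.not_isUnit hF0
  have hc₀ : F.coeff m₀ ≠ 0 := fun h => MvPolynomial.mem_support_iff.1 hm₀ (by rw [MvPolynomial.coeff_map, h, map_zero])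
  let P := Finset.univ.filter fun p : (σ → Fin (N + 1)) × (σ → Fin (N + 1)) => mon p.1 ≠ 0 ∧ mon p.2 ≠ 0
  refine ⟨F.coeff m₀ * ∏ p ∈ P, a p.1 p.2, mul_ne_zero hc₀ (Finset.prod_ne_zero_iff.2 fun p hp =>
    ha _ _ (Finset.mem_filter.1 hp).2.1 (Finset.mem_filter.1 hp).2.2), fun k _ φ hφ => ?_⟩
  rw [map_mul, mul_ne_zero_iff, map_prod, Finset.prod_ne_zero_iff] at hφ
  have hne : F.map φ ≠ 0 := fun h => hφ.1 (by rw [← MvPolynomial.coeff_map, h, MvPolynomial.coeff_zero])
  refine ⟨fun hu => ?_, fun g₁ h₁ hgh => ?_⟩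
  · have := ((MvPolynomial.isUnit_iff).1 hu).2 m₀ hm₀'
    rw [MvPolynomial.coeff_map] at this
    exact hφ.1 this.eq_zero
  by_contra! hun
  have hg0 : g₁ ≠ 0 := fun h => hne (by rw [hgh, h, zero_mul])
  have hh0 : h₁ ≠ 0 := fun h => hne (by rw [hgh, h, mul_zero])
  have hdeg : g₁.totalDegree + h₁.totalDegree ≤ N := by
    rw [← MvPolynomial.totalDegree_mul_of_isDomain hg0 hh0, ← hgh]
    exact Finset.sup_mono (MvPolynomial.support_map_subset φ F)
  have hidx : ∀ g : MvPolynomial σ k, g.totalDegree ≤ N → ∀ m ∈ g.support, ∃ i, mon i = m := fun g hg m hm =>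
    ⟨fun s => ⟨m s, Nat.lt_succ_iff.2 (((Finsupp.le_degree s m)).trans ((MvPolynomial.le_totalDegree hm).trans hg))⟩,
      Finsupp.ext fun s => by simp [mon]⟩
  obtain ⟨m₁, hm₁, hm₁'⟩ := exists_support_ne_zero hun.1 hg0
  obtain ⟨m₂, hm₂, hm₂'⟩ := exists_support_ne_zero hun.2 hh0
  obtain ⟨i, rfl⟩ := hidx g₁ (by omega) m₁ hm₁
  obtain ⟨j, rfl⟩ := hidx h₁ (by omega) m₂ hm₂
  let c := g₁.coeff (mon i)
  have hc : c ≠ 0 := MvPolynomial.mem_support_iff.1 hm₁
  let v : V → k := Sum.elim (fun i' => c⁻¹ * g₁.coeff (mon i'))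
    (Sum.elim (fun j' => c * h₁.coeff (mon j')) fun _ => (c * h₁.coeff (mon j))⁻¹)
  let ψ : R →+* k := MvPolynomial.eval₂Hom φ v
  have hψX : ∀ x : V, ψ (MvPolynomial.X x) = v x := fun x => MvPolynomial.eval₂_X φ v x
  have hval : ∀ (g : MvPolynomial σ k), g.totalDegree ≤ N →
      ∑ i, MvPolynomial.monomial (mon i) (g.coeff (mon i)) = g := fun g hg => by
    ext d
    rw [MvPolynomial.coeff_sum]
    by_cases hd : ∃ i, mon i = d
    · obtain ⟨i, rfl⟩ := hd
      rw [Finset.sum_eq_single i]
      · rw [MvPolynomial.coeff_monomial, if_pos rfl]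
      · exact fun j _ hj => by rw [MvPolynomial.coeff_monomial, if_neg fun h => hj (hmon h)]
      · exact fun h => absurd (Finset.mem_univ i) h
    · rw [Finset.sum_eq_zero fun i _ => by rw [MvPolynomial.coeff_monomial, if_neg fun h => hd ⟨i, h⟩],
        MvPolynomial.notMem_support_iff.1 fun h => hd (hidx g hg d h)]
  have hG : G.map ψ = MvPolynomial.C c⁻¹ * g₁ := by
    conv_rhs => rw [← hval g₁ (by omega), Finset.mul_sum]
    rw [map_sum]
    exact Finset.sum_congr rfl fun i _ => by
      rw [MvPolynomial.map_monomial, MvPolynomial.C_mul_monomial, hψX]; rfl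
  have hH : H.map ψ = MvPolynomial.C c * h₁ := by
    conv_rhs => rw [← hval h₁ (by omega), Finset.mul_sum]
    rw [map_sum]
    exact Finset.sum_congr rfl fun i _ => by
      rw [MvPolynomial.map_monomial, MvPolynomial.C_mul_monomial, hψX]; rfl
  have hψC : ψ.comp MvPolynomial.C = φ := RingHom.ext fun x => MvPolynomial.eval₂_C φ v x
  have hker : J i j ≤ RingHom.ker ψ := by
    refine Ideal.span_le.2 ?_
    rintro r (rfl | rfl | ⟨d, rfl⟩)
    · rw [SetLike.mem_coe, RingHom.mem_ker, map_sub, map_one, sub_eq_zero]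
      rw [hψX]
      exact inv_mul_cancel₀ hc
    · rw [SetLike.mem_coe, RingHom.mem_ker, map_sub, map_one, sub_eq_zero, map_mul]
      rw [hψX, hψX]
      exact inv_mul_cancel₀ (mul_ne_zero hc (MvPolynomial.mem_support_iff.1 hm₂))
    · dsimp only
      rw [SetLike.mem_coe, RingHom.mem_ker, MvPolynomial.coeff_sub, map_sub, ← MvPolynomial.coeff_map,
        ← MvPolynomial.coeff_map, MvPolynomial.map_map, hψC, map_mul, hG, hH, mul_mul_mul_comm, ← map_mul,
        inv_mul_cancel₀ hc, map_one, one_mul, ← hgh, sub_self]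
  have h2 := hker (Ideal.Quotient.eq_zero_iff_mem.1 (ha' i j hm₁' hm₂') : algebraMap A R (a i j) ∈ J i j)
  rw [RingHom.mem_ker, MvPolynomial.algebraMap_eq, ← RingHom.comp_apply, hψC] at h2
  exact hφ.2 (i, j) (Finset.mem_filter.2 ⟨Finset.mem_univ _, hm₁', hm₂'⟩) h2

end Groth.Agent.GeomUnib.IntegralSpread
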