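import Mathlib
import Groth.Agent.GeomUnib.IrredPolySpread
import Groth.Agent.EGA41Lib.Separable
import Groth.Agent.FlatDescent.Generic

/-!
# Geometric integrality of the fibres near the generic point

For a domain `B` of finite type over a Noetherian domain `A` whose fraction field is a regular
extension of that of `A`, all fibres over a dense open of `Spec A` are domains (or zero).
-/

set_option autoImplicit false
set_option linter.style.haveILetI false
set_option linter.unusedSectionVars false
set_option maxHeartbeats 2000000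
set_option synthInstance.maxHeartbeats 200000

universe u

namespace Groth.Agent.GeomUnib.IntegralSpread

open TensorProduct

/-- A finitely generated separably generated extension is birational to a hypersurface, with
equations over a given subring. -/
theorem exists_hypersurface {A K L : Type u} [CommRing A] [IsDomain A] [Field K] [Algebra A K]
    [IsFractionRing A K] [Field L] [Algebra A L] [Algebra K L] [IsScalarTower A K L]
    [Algebra.EssFiniteType K L] [Algebra.IsGeometricallyReduced K L] :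
    ∃ (n : ℕ) (π : MvPolynomial (Option (Fin n)) A →ₐ[A] L) (F : MvPolynomial (Option (Fin n)) A),
      F ≠ 0 ∧ RingHom.ker π = Ideal.span {F} ∧
      RingHom.ker (MvPolynomial.aeval (R := K) fun o => π (MvPolynomial.X o)) =
        Ideal.span {F.map (algebraMap A K)} ∧
      ∀ z : L, ∃ p q, π q ≠ 0 ∧ z * π q = π p := by
  classical
  obtain ⟨t, ht, hsep⟩ : ∃ t : Finset L, IsTranscendenceBasis K ((↑) : t → L) ∧
      Algebra.IsSeparable (IntermediateField.adjoin K (t : Set L)) L := by
    obtain _ | ⟨c, hc, hck⟩ := CharP.exists' K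
    · exact exists_isTranscendenceBasis_and_isSeparable_of_perfectField K L
    · have : CharP L c := charP_of_injective_algebraMap (algebraMap K L).injective c
      exact exists_isTranscendenceBasis_and_isSeparable_of_linearIndepOn_pow_of_essFiniteType c hc.out
        fun s hs => EGA41Lib.frobLI_of_isGeometricallyReduced (p := c) _ hs
  let n := t.card
  let x : Fin n → L := fun i => (t.equivFin.symm i : L)
  have hx : AlgebraicIndependent K x := ht.1.comp _ t.equivFin.symm.injective
  have hrange : Set.range x = (t : Set L) := by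
    ext z
    simp only [x, Set.mem_range, Finset.mem_coe]
    exact ⟨fun ⟨i, hi⟩ => hi ▸ (t.equivFin.symm i).2, fun hz => ⟨t.equivFin ⟨z, hz⟩, by simp⟩⟩
  let F0 := IntermediateField.adjoin K (Set.range x)
  haveI : Algebra.IsSeparable F0 L := by
    rw [show F0 = IntermediateField.adjoin K (t : Set L) by simp only [F0, hrange]]
    exact hsep
  haveI : Algebra.EssFiniteType F0 L := Algebra.EssFiniteType.of_comp K F0 L
  haveI : Module.Finite F0 L := Algebra.finite_of_essFiniteType_of_isAlgebraic
  obtain ⟨θ, hθ⟩ := Field.exists_primitive_element F0 L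
  have hθi : IsIntegral F0 θ := Algebra.IsIntegral.isIntegral θ
  let R0 := MvPolynomial (Fin n) A
  let ev : R0 →ₐ[A] L := MvPolynomial.aeval x
  have hev : ∀ p : R0, ev p = MvPolynomial.aeval x (p.map (algebraMap A K)) := fun p =>
    (MvPolynomial.aeval_map_algebraMap K x p).symm
  have hevinj : Function.Injective ev := fun p q hpq => by
    rw [hev, hev] at hpq
    exact MvPolynomial.map_injective _ (IsFractionRing.injective A K) (hx hpq)
  have hclearK : ∀ p : MvPolynomial (Fin n) K, ∃ (c : A) (p₀ : R0), c ≠ 0 ∧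
      p₀.map (algebraMap A K) = MvPolynomial.C (algebraMap A K c) * p := by
    intro p
    letI := (MvPolynomial.map (σ := Fin n) (algebraMap A K)).toAlgebra
    haveI : IsLocalization ((nonZeroDivisors A).map (MvPolynomial.C (σ := Fin n))) (MvPolynomial (Fin n) K) :=
      MvPolynomial.isLocalization (nonZeroDivisors A) K
    obtain ⟨⟨p₀, _, c, hc, rfl⟩, h⟩ := IsLocalization.surj ((nonZeroDivisors A).map (MvPolynomial.C (σ := Fin n))) p
    refine ⟨c, p₀, nonZeroDivisors.ne_zero hc, ?_⟩
    change p * MvPolynomial.map (algebraMap A K) (MvPolynomial.C c) = p₀.map (algebraMap A K) at h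
    rw [← h, MvPolynomial.map_C, mul_comm]
  have hF0 : ∀ z ∈ F0, ∃ r s : R0, s ≠ 0 ∧ z * ev s = ev r := by
    intro z hz
    obtain ⟨r, s, rfl⟩ := (IntermediateField.mem_adjoin_range_iff K x z).1 hz
    obtain ⟨c, r₀, hc, hr⟩ := hclearK r
    obtain ⟨c', s₀, hc', hs⟩ := hclearK s
    by_cases hs0 : MvPolynomial.aeval x s = 0
    · exact ⟨0, 1, one_ne_zero, by rw [hs0, div_zero, zero_mul, map_zero]⟩
    · refine ⟨MvPolynomial.C c' * r₀, MvPolynomial.C c * s₀, ?_, ?_⟩
      · refine mul_ne_zero (fun h => hc (MvPolynomial.C_eq_zero.1 h)) fun h => hs0 ?_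
        rw [h, map_zero] at hs
        have hne : (MvPolynomial.C (algebraMap A K c') : MvPolynomial (Fin n) K) ≠ 0 := by
          simpa using hc'
        rw [(mul_eq_zero.1 hs.symm).resolve_left hne, map_zero]
      · simp only [hev, map_mul, MvPolynomial.map_C, hr, hs, MvPolynomial.aeval_C]
        field_simp
  let p := minpoly F0 θ
  let D := p.natDegree
  choose r s hs hrs using fun j : ℕ => hF0 _ (p.coeff j).2
  let d : R0 := ∏ j ∈ Finset.range D, s j
  have hd : d ≠ 0 := Finset.prod_ne_zero_iff.2 fun j _ => hs j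
  have hcd : ∀ j, ∃ r' : R0, j < D → ((p.coeff j : F0) : L) * ev d = ev r' := by
    intro j
    by_cases hj : j < D
    · refine ⟨r j * ∏ i ∈ (Finset.range D).erase j, s i, fun _ => ?_⟩
      rw [map_mul, ← hrs, mul_assoc, ← map_mul, Finset.mul_prod_erase _ _ (Finset.mem_range.2 hj)]
    · exact ⟨0, fun h => absurd h hj⟩
  choose r' hr' using hcd
  let θ' := ev d * θ
  let low : Polynomial R0 := ∑ j ∈ Finset.range D, Polynomial.C (r' j * d ^ (D - j - 1)) * Polynomial.X ^ j
  let f : Polynomial R0 := Polynomial.X ^ D + low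
  have hlow : low.degree < D := by
    refine lt_of_le_of_lt (Polynomial.degree_sum_le _ _) ((Finset.sup_lt_iff (WithBot.bot_lt_coe _)).2 fun j hj => ?_)
    exact lt_of_le_of_lt (Polynomial.degree_C_mul_X_pow_le j _) (by exact_mod_cast Finset.mem_range.1 hj)
  have hmonic : f.Monic := Polynomial.monic_X_pow_add hlow
  have hfdeg : f.degree = D := by
    rw [Polynomial.degree_add_eq_left_of_degree_lt (by rwa [Polynomial.degree_X_pow]), Polynomial.degree_X_pow]
  have hfθ : f.eval₂ ev.toRingHom θ' = 0 := by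
    have h0 : Polynomial.aeval θ p = 0 := minpoly.aeval _ _
    rw [Polynomial.aeval_eq_sum_range, Finset.sum_range_succ] at h0
    rw [show p.coeff p.natDegree = 1 from (minpoly.monic hθi), one_smul] at h0
    simp only [f, low, Polynomial.eval₂_add, Polynomial.eval₂_X_pow, Polynomial.eval₂_finset_sum,
      Polynomial.eval₂_mul, Polynomial.eval₂_C, AlgHom.toRingHom_eq_coe, RingHom.coe_coe]
    rw [← mul_zero (ev d ^ D), ← h0, mul_add, Finset.mul_sum, add_comm]
    refine congrArg₂ (· + ·) (Finset.sum_congr rfl fun j hj => ?_) (mul_pow _ _ _)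
    have hj' : j < D := Finset.mem_range.1 hj
    rw [IntermediateField.smul_def, map_mul, ← hr' j hj', map_pow]
    obtain ⟨m, hm⟩ : ∃ m, D = j + m + 1 := ⟨D - j - 1, by omega⟩
    rw [hm, show j + m + 1 - j - 1 = m by omega]
    simp only [θ', smul_eq_mul]
    ring
  have hdd : ev d ≠ 0 := fun h => hd (hevinj (h.trans (map_zero _).symm))
  let evF : R0 →+* F0 := ev.toRingHom.codRestrict F0.toSubfield.toSubring fun p => by
    show ev p ∈ F0
    rw [hev]
    exact (IntermediateField.mem_adjoin_range_iff K x _).2 ⟨p.map (algebraMap A K), 1, by rw [map_one, div_one]⟩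
  have hdiv : ∀ G : Polynomial R0, G.eval₂ ev.toRingHom θ' = 0 → f ∣ G := by
    intro G hG
    refine (Polynomial.modByMonic_eq_zero_iff_dvd hmonic).1 ?_
    let r₀ := G %ₘ f
    have hr0 : r₀.eval₂ ev.toRingHom θ' = 0 := by
      have := congrArg (Polynomial.eval₂ ev.toRingHom θ') (Polynomial.modByMonic_add_div G f)
      rw [Polynomial.eval₂_add, Polynomial.eval₂_mul, hfθ, zero_mul, add_zero, hG] at this
      exact this
    by_contra hne
    let q : Polynomial F0 := Polynomial.C (evF d) * Polynomial.X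
    have hq : Polynomial.aeval θ ((r₀.map evF).comp q) = 0 := by
      rw [Polynomial.aeval_comp, Polynomial.aeval_def, Polynomial.eval₂_map]
      simp only [q, map_mul, Polynomial.aeval_C, Polynomial.aeval_X]
      exact hr0
    have hevF : Function.Injective evF := fun a b h => hevinj (congrArg Subtype.val h)
    have hne' : (r₀.map evF).comp q ≠ 0 := by
      rw [Ne, Polynomial.comp_eq_zero_iff]
      push Not
      refine ⟨(Polynomial.map_ne_zero_iff hevF).2 hne, fun _ h => ?_⟩
      have h1 := congrArg (fun g => Polynomial.coeff g 1) h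
      simp only [q, Polynomial.coeff_C_mul, Polynomial.coeff_X_one, mul_one, Polynomial.coeff_C, if_neg one_ne_zero] at h1
      exact hdd (congrArg Subtype.val h1)
    have h2 := minpoly.degree_le_of_ne_zero F0 θ hne' hq
    have h3 : ((r₀.map evF).comp q).natDegree < D := by
      refine lt_of_le_of_lt Polynomial.natDegree_comp_le ?_
      have hq1 : q.natDegree ≤ 1 := (Polynomial.natDegree_C_mul_le _ _).trans Polynomial.natDegree_X_le
      refine lt_of_le_of_lt ((Nat.mul_le_mul le_rfl hq1).trans_eq (mul_one _)) ?_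
      rw [Polynomial.natDegree_map_eq_of_injective hevF, ← WithBot.coe_lt_coe]
      refine lt_of_eq_of_lt (Polynomial.degree_eq_natDegree hne).symm ?_
      exact lt_of_lt_of_eq (Polynomial.degree_modByMonic_lt G hmonic) hfdeg
    rw [Polynomial.degree_eq_natDegree hne', Polynomial.degree_eq_natDegree (minpoly.ne_zero hθi)] at h2
    have h4 : p.natDegree ≤ ((r₀.map evF).comp q).natDegree := by exact_mod_cast h2
    exact absurd h3 (not_lt.2 h4)
  let e := MvPolynomial.optionEquivLeft A (Fin n)
  let π : MvPolynomial (Option (Fin n)) A →ₐ[A] L := MvPolynomial.aeval fun o => o.elim θ' x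
  have hπe : ∀ G, π G = (e G).eval₂ ev.toRingHom θ' := by
    intro G
    refine RingHom.congr_fun (f := π.toRingHom)
      (g := (Polynomial.eval₂RingHom ev.toRingHom θ').comp e.toRingEquiv.toRingHom)
      (MvPolynomial.ringHom_ext (fun a => ?_) fun o => ?_) G
    · simp [π, e, ev]
      exact (MvPolynomial.aeval_C x a).symm
    · cases o with
      | none => simp [π, e, ev, θ']
      | some i => simp [π, e, ev, θ']; exact (MvPolynomial.aeval_X x i).symm
  have hkerπ : RingHom.ker π = Ideal.span {e.symm f} := by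
    refine le_antisymm (fun G hG => ?_) ?_
    · obtain ⟨H, hH⟩ := hdiv (e G) ((hπe G).symm.trans hG)
      exact Ideal.mem_span_singleton'.2 ⟨e.symm H, by rw [← map_mul, mul_comm, ← hH, e.symm_apply_apply]⟩
    · rw [Ideal.span_le, Set.singleton_subset_iff, SetLike.mem_coe, RingHom.mem_ker, hπe, e.apply_symm_apply]
      exact hfθ
  refine ⟨n, π, e.symm f, fun h => hmonic.ne_zero (e.symm.injective (h.trans (map_zero _).symm)), hkerπ, ?_, ?_⟩
  · set πK := MvPolynomial.aeval (R := K) fun o => π (MvPolynomial.X o)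
    have hmap : ∀ G : MvPolynomial (Option (Fin n)) A, πK (G.map (algebraMap A K)) = π G := fun G => by
      rw [MvPolynomial.aeval_map_algebraMap]
      exact DFunLike.congr_fun (MvPolynomial.aeval_unique π).symm G
    refine le_antisymm (fun G hG => ?_) ?_
    · letI := (MvPolynomial.map (σ := Option (Fin n)) (algebraMap A K)).toAlgebra
      haveI : IsLocalization ((nonZeroDivisors A).map (MvPolynomial.C (σ := Option (Fin n))))
          (MvPolynomial (Option (Fin n)) K) := MvPolynomial.isLocalization (nonZeroDivisors A) K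
      obtain ⟨⟨G₀, _, c, hc, rfl⟩, h⟩ :=
        IsLocalization.surj ((nonZeroDivisors A).map (MvPolynomial.C (σ := Option (Fin n)))) G
      change G * MvPolynomial.map (algebraMap A K) (MvPolynomial.C c) = G₀.map (algebraMap A K) at h
      have h0 : π G₀ = 0 := by rw [← hmap, ← h, map_mul, RingHom.mem_ker.1 hG, zero_mul]
      obtain ⟨H, hH⟩ := Ideal.mem_span_singleton'.1 (hkerπ.le h0)
      have hu : IsUnit (MvPolynomial.map (σ := Option (Fin n)) (algebraMap A K) (MvPolynomial.C c)) := by
        rw [MvPolynomial.map_C]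
        exact (isUnit_iff_ne_zero.2 (IsFractionRing.to_map_ne_zero_of_mem_nonZeroDivisors hc)).map MvPolynomial.C
      rw [← Ideal.mul_unit_mem_iff_mem _ hu, h, ← hH, map_mul]
      exact Ideal.mul_mem_left _ _ (Ideal.mem_span_singleton_self _)
    · rw [Ideal.span_le, Set.singleton_subset_iff, SetLike.mem_coe, RingHom.mem_ker, hmap]
      exact hkerπ.ge (Ideal.mem_span_singleton_self _)
  · -- fractions
    let S : Subfield L := Subfield.closure (π.range : Set L)
    have hπS : ∀ G, π G ∈ S := fun G => Subfield.subset_closure ⟨G, rfl⟩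
    have hK : ∀ c : K, algebraMap K L c ∈ S := fun c => by
      obtain ⟨a, b, -, rfl⟩ := IsFractionRing.div_surjective (A := A) c
      rw [map_div₀, ← IsScalarTower.algebraMap_apply, ← IsScalarTower.algebraMap_apply, ← π.commutes, ← π.commutes]
      exact div_mem (hπS _) (hπS _)
    have hxS : ∀ i, x i ∈ S := fun i => by
      simpa [π] using hπS (MvPolynomial.X (some i))
    let S' : IntermediateField K L := S.toIntermediateField hK
    have hF0S : F0 ≤ S' := IntermediateField.adjoin_le_iff.2 (Set.range_subset_iff.2 hxS)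
    have hθS : θ ∈ S := by
      have hd' : ev d ∈ S := hF0S (evF d).2
      rw [show θ = θ' / ev d by simp only [θ']; field_simp]
      exact div_mem (by simpa [π] using hπS (MvPolynomial.X none)) hd'
    have htop : ∀ z : L, z ∈ S := fun z => by
      have h1 : IntermediateField.adjoin F0 {θ} ≤ IntermediateField.extendScalars hF0S :=
        IntermediateField.adjoin_le_iff.2 (Set.singleton_subset_iff.2 hθS)
      exact h1 (hθ ▸ IntermediateField.mem_top)
    intro z
    obtain ⟨a, ha, b, hb, rfl⟩ := Subfield.mem_closure_iff.1 (htop z)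
    have hrg : Subring.closure (π.range : Set L) ≤ π.range.toSubring := Subring.closure_le.2 fun w hw => hw
    obtain ⟨p, rfl⟩ : ∃ p, π p = a := (AlgHom.mem_range π).1 (hrg ha)
    obtain ⟨q, rfl⟩ : ∃ q, π q = b := (AlgHom.mem_range π).1 (hrg hb)
    by_cases hq : π q = 0
    · refine ⟨0, 1, by rw [map_one]; exact one_ne_zero, ?_⟩
      rw [hq, div_zero, zero_mul, map_zero]
    · exact ⟨p, q, hq, div_mul_cancel₀ _ hq⟩

/-- A nonzero element is a nonzero divisor on the fibres over a dense open. -/
theorem exists_regular_fibre {A B : Type u} [CommRing A] [IsDomain A] [IsNoetherianRing A] [CommRing B]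
    [IsDomain B] [Algebra A B] [Algebra.FiniteType A B] {w : B} (hw : w ≠ 0) :
    ∃ a : A, a ≠ 0 ∧ ∀ (k : Type u) [Field k] [Algebra A k], algebraMap A k a ≠ 0 →
      ∀ z : k ⊗[A] B, (1 ⊗ₜ w) * z = 0 → z = 0 := by
  obtain ⟨a, ha, hflat⟩ := FlatDescent.exists_flatOn (D := A) (C := B) (B ⧸ Ideal.span {w})
  refine ⟨a, ha, fun k _ _ hak z hz => ?_⟩
  by_cases ha0 : algebraMap A B a = 0
  · have h1 : (1 : k ⊗[A] B) = 0 := by
      refine (((Ne.isUnit hak).map (Algebra.TensorProduct.includeLeftRingHom (R := A) (A := k) (B := B)))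
        |>.mul_right_eq_zero).1 ?_
      rw [mul_one]
      show algebraMap A k a ⊗ₜ[A] (1 : B) = 0
      rw [Algebra.algebraMap_eq_smul_one, TensorProduct.smul_tmul, ← Algebra.algebraMap_eq_smul_one, ha0,
        TensorProduct.tmul_zero]
    rw [← one_mul z, h1, zero_mul]
  let S : Submonoid B := Submonoid.powers (algebraMap A B a)
  let Ba := Localization.Away (algebraMap A B a)
  haveI := (FlatDescent.flatOn_powers_iff (A := A) (M := B ⧸ Ideal.span {w}) (algebraMap A B a)).1 hflat
  haveI : IsDomain Ba := IsLocalization.isDomain_localization (powers_le_nonZeroDivisors_of_noZeroDivisors ha0)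
  let f1 := Algebra.linearMap B Ba
  let f3 := LocalizedModule.mkLinearMap S (B ⧸ Ideal.span {w})
  let g : B →ₗ[B] B ⧸ Ideal.span {w} := Submodule.mkQ _
  let m : B →ₗ[B] B := LinearMap.lsmul B B w
  have hex : Function.Exact m g := fun b => by
    show Submodule.Quotient.mk b = 0 ↔ _
    rw [Submodule.Quotient.mk_eq_zero, Ideal.mem_span_singleton']
    exact ⟨fun ⟨c, hc⟩ => ⟨c, by simp [m, ← hc, mul_comm]⟩, fun ⟨c, hc⟩ => ⟨c, by simp [m, ← hc, mul_comm]⟩⟩
  have hm' : IsLocalizedModule.map S f1 f1 m = LinearMap.lsmul B Ba w := by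
    refine IsLocalizedModule.ext S f1 (IsLocalizedModule.map_units f1) ?_
    ext
    show IsLocalizedModule.map S f1 f1 m (f1 1) = _
    rw [IsLocalizedModule.map_apply]
    simp [m, f1, Algebra.smul_def]
  have hex' : Function.Exact (LinearMap.lsmul B Ba w) (IsLocalizedModule.map S f1 f3 g) :=
    hm' ▸ IsLocalizedModule.map_exact S f1 f1 f3 m g hex
  have hwBa : algebraMap B Ba w ≠ 0 := fun h => hw
    (IsLocalization.injective Ba (powers_le_nonZeroDivisors_of_noZeroDivisors ha0) (h.trans (map_zero _).symm))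
  have hinj : Function.Injective (((LinearMap.lsmul B Ba w).restrictScalars A).lTensor k) := by
    refine LinearMap.lTensor_injective_of_exact_of_flat ((IsLocalizedModule.map S f1 f3 g).restrictScalars A)
      (IsLocalizedModule.map_surjective S f1 f3 g (Submodule.mkQ_surjective _)) _ ?_ hex' k
    intro u v huv
    simp only [LinearMap.restrictScalars_apply, LinearMap.lsmul_apply, Algebra.smul_def] at huv
    exact mul_left_cancel₀ hwBa huv
  let μ : k ⊗[A] B →ₐ[A] k ⊗[A] Ba := Algebra.TensorProduct.map (AlgHom.id A k) (IsScalarTower.toAlgHom A B Ba)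
  letI : Algebra (k ⊗[A] B) (k ⊗[A] Ba) := μ.toRingHom.toAlgebra
  haveI : IsScalarTower k (k ⊗[A] B) (k ⊗[A] Ba) := .of_algebraMap_eq fun c => by
    show algebraMap k (k ⊗[A] Ba) c = μ (algebraMap k (k ⊗[A] B) c)
    simp [μ]
    rfl
  haveI hloc := IsLocalization.tensorProduct_tensorProduct_right A k S Ba (RingHom.ext fun b => by
    show μ (1 ⊗ₜ b) = 1 ⊗ₜ algebraMap B Ba b
    simp [μ])
  have hμ : Function.Injective μ := by
    refine IsLocalization.injective (k ⊗[A] Ba) (M := S.map Algebra.TensorProduct.includeRight) ?_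
    rintro _ ⟨_, ⟨j, rfl⟩, rfl⟩
    refine IsUnit.mem_nonZeroDivisors ?_
    show IsUnit ((Algebra.TensorProduct.includeRight : B →ₐ[A] k ⊗[A] B) (algebraMap A B a ^ j))
    rw [map_pow, AlgHom.commutes, IsScalarTower.algebraMap_apply A k (k ⊗[A] B)]
    exact ((Ne.isUnit hak).map _).pow j
  refine hμ ?_
  rw [map_zero]
  refine hinj ?_
  rw [map_zero]
  have : ∀ y : k ⊗[A] Ba, ((LinearMap.lsmul B Ba w).restrictScalars A).lTensor k y =
      (1 ⊗ₜ algebraMap B Ba w) * y := fun y => by
    induction y using TensorProduct.induction_on with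
    | zero => simp
    | add u v hu hv => rw [map_add, hu, hv, mul_add]
    | tmul c b => simp [Algebra.smul_def]
  rw [this, show (1 ⊗ₜ algebraMap B Ba w : k ⊗[A] Ba) = μ (1 ⊗ₜ w) by simp [μ], ← map_mul, hz, map_zero]

section

variable {A R T k : Type u} [CommRing A] [CommRing R] [Algebra A R] [CommRing T] [Algebra R T] [Algebra A T]
  [IsScalarTower A R T] [CommRing k] [Algebra A k] (r : R) [IsLocalization.Away r T]

/-- Base change of a localisation away from an element. -/
theorem tensor_away (hreg : ∀ z : k ⊗[A] R, (1 ⊗ₜ r) * z = 0 → z = 0) :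
    Function.Injective (Algebra.TensorProduct.map (AlgHom.id A k) (IsScalarTower.toAlgHom A R T)) := by
  let μ : k ⊗[A] R →ₐ[A] k ⊗[A] T := Algebra.TensorProduct.map (AlgHom.id A k) (IsScalarTower.toAlgHom A R T)
  letI : Algebra (k ⊗[A] R) (k ⊗[A] T) := μ.toRingHom.toAlgebra
  haveI : IsScalarTower k (k ⊗[A] R) (k ⊗[A] T) := .of_algebraMap_eq fun c => by
    show algebraMap k (k ⊗[A] T) c = μ (algebraMap k (k ⊗[A] R) c)
    simp [μ]
  haveI hloc := IsLocalization.tensorProduct_tensorProduct_right A k (Submonoid.powers r) T (RingHom.ext fun b => by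
    show μ (1 ⊗ₜ b) = 1 ⊗ₜ algebraMap R T b
    simp [μ])
  refine IsLocalization.injective (k ⊗[A] T) (M := (Submonoid.powers r).map Algebra.TensorProduct.includeRight) ?_
  rintro _ ⟨_, ⟨j, rfl⟩, rfl⟩
  show (Algebra.TensorProduct.includeRight : R →ₐ[A] k ⊗[A] R) (r ^ j) ∈ nonZeroDivisors (k ⊗[A] R)
  rw [map_pow]
  refine pow_mem (mem_nonZeroDivisors_iff_right.2 fun z hz => hreg z ?_) j
  rwa [mul_comm]

include r in
/-- No zero divisors in a base changed localisation. -/
theorem noZeroDivisors_tensor_away [NoZeroDivisors (k ⊗[A] R)] : NoZeroDivisors (k ⊗[A] T) := by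
  let μ : k ⊗[A] R →ₐ[A] k ⊗[A] T := Algebra.TensorProduct.map (AlgHom.id A k) (IsScalarTower.toAlgHom A R T)
  letI : Algebra (k ⊗[A] R) (k ⊗[A] T) := μ.toRingHom.toAlgebra
  haveI : IsScalarTower k (k ⊗[A] R) (k ⊗[A] T) := .of_algebraMap_eq fun c => by
    show algebraMap k (k ⊗[A] T) c = μ (algebraMap k (k ⊗[A] R) c)
    simp [μ]
  haveI hloc := IsLocalization.tensorProduct_tensorProduct_right A k (Submonoid.powers r) T (RingHom.ext fun b => by
    show μ (1 ⊗ₜ b) = 1 ⊗ₜ algebraMap R T b
    simp [μ])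
  refine ⟨fun {u v} huv => ?_⟩
  obtain ⟨a, s, rfl⟩ := IsLocalization.exists_mk'_eq ((Submonoid.powers r).map (Algebra.TensorProduct.includeRight : R →ₐ[A] k ⊗[A] R)) u
  obtain ⟨b, t, rfl⟩ := IsLocalization.exists_mk'_eq ((Submonoid.powers r).map (Algebra.TensorProduct.includeRight : R →ₐ[A] k ⊗[A] R)) v
  rw [← IsLocalization.mk'_mul, IsLocalization.mk'_eq_zero_iff] at huv
  obtain ⟨c, hc⟩ := huv
  rcases mul_eq_zero.1 hc with h | h
  · exact Or.inl ((IsLocalization.mk'_eq_zero_iff _ _).2 ⟨c, by rw [h, zero_mul]⟩)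
  · rcases mul_eq_zero.1 h with h | h <;> [left; right] <;>
      exact (IsLocalization.mk'_eq_zero_iff _ _).2 ⟨c, by rw [h, mul_zero]⟩

end

/-- A subalgebra of a field as a localisation. -/
theorem isLocalization_away_of_range {A R L : Type u} [CommRing A] [CommRing R] [Field L] [Algebra A R]
    [Algebra A L] (ι : R →ₐ[A] L) (hι : Function.Injective ι) (r : R) (hr : ι r ≠ 0) (T : Subalgebra A L)
    (h1 : ∀ z, ι z ∈ T) (h2 : (ι r)⁻¹ ∈ T) (h3 : ∀ t ∈ T, ∃ (m : ℕ) (b : R), t * ι r ^ m = ι b) :
    letI := (ι.codRestrict T h1).toRingHom.toAlgebra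
    IsLocalization.Away r T := by
  letI := (ι.codRestrict T h1).toRingHom.toAlgebra
  constructor
  refine ⟨?_, ?_, ?_⟩
  · rintro ⟨_, j, rfl⟩
    show IsUnit ((ι.codRestrict T h1) (r ^ j))
    rw [map_pow]
    exact (IsUnit.of_mul_eq_one (⟨_, h2⟩ : T) (Subtype.ext (mul_inv_cancel₀ hr))).pow j
  · rintro ⟨t, ht⟩
    obtain ⟨m, b, hb⟩ := h3 t ht
    refine ⟨⟨b, ⟨_, m, rfl⟩⟩, Subtype.ext ?_⟩
    show t * ι (r ^ m) = ι b
    rw [map_pow]; exact hb
  · intro x y h
    exact ⟨1, by rw [hι (congrArg Subtype.val h : ι x = ι y)]⟩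

/-- **Geometric integrality spreads out.** -/
theorem exists_noZeroDivisors_fibre {A B : Type u} [CommRing A] [IsDomain A] [IsNoetherianRing A] [CommRing B]
    [IsDomain B] [Algebra A B] [Algebra.FiniteType A B] (K L : Type u) [Field K] [Algebra A K]
    [IsFractionRing A K] [Field L] [Algebra B L] [IsFractionRing B L] [Algebra A L] [IsScalarTower A B L]
    [Algebra K L] [IsScalarTower A K L] [Algebra.IsGeometricallyReduced K L]
    [Subsingleton (PrimeSpectrum (AlgebraicClosure K ⊗[K] L))] :
    ∃ a : A, a ≠ 0 ∧ ∀ (k : Type u) [Field k] [Algebra A k], algebraMap A k a ≠ 0 →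
      NoZeroDivisors (k ⊗[A] B) := by
  classical
  haveI : Algebra.EssFiniteType B L := Algebra.EssFiniteType.of_isLocalization L (nonZeroDivisors B)
  haveI : Algebra.EssFiniteType A L := Algebra.EssFiniteType.comp A B L
  haveI : Algebra.EssFiniteType K L := Algebra.EssFiniteType.of_comp A K L
  obtain ⟨n, π, F, hF0, hker, hkerK, hfrac⟩ := exists_hypersurface (A := A) (K := K) (L := L)
  let Ω := AlgebraicClosure K
  -- absolute irreducibility
  haveI : Nontrivial (Ω ⊗[K] L) := (Algebra.TensorProduct.includeRight_injective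
    (RingHom.injective (algebraMap K Ω))).nontrivial
  haveI : IsReduced (Ω ⊗[K] L) := inferInstance
  haveI hdom : IsDomain (Ω ⊗[K] L) := by
    haveI : Nonempty (PrimeSpectrum (Ω ⊗[K] L)) := inferInstance
    have hp : (nilradical (Ω ⊗[K] L)).IsPrime := by
      obtain ⟨P⟩ := ‹Nonempty (PrimeSpectrum (Ω ⊗[K] L))›
      have : nilradical (Ω ⊗[K] L) = P.asIdeal := by
        rw [nilradical_eq_sInf]
        exact le_antisymm (sInf_le P.2) (le_sInf fun J hJ =>
          (congrArg PrimeSpectrum.asIdeal (Subsingleton.elim P ⟨J, hJ⟩)).le)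
      exact this ▸ P.2
    rw [nilradical_eq_zero] at hp
    haveI : (⊥ : Ideal (Ω ⊗[K] L)).IsPrime := hp
    exact (RingEquiv.quotientBot (Ω ⊗[K] L)).toMulEquiv.isDomain_iff.1 inferInstance
  have hirr : Irreducible (F.map (algebraMap A Ω)) := by
    let πK := MvPolynomial.aeval (R := K) fun o => π (MvPolynomial.X o)
    let J := RingHom.ker πK
    let mkJ := Ideal.Quotient.mkₐ K J
    let Φ : Ω ⊗[K] MvPolynomial (Option (Fin n)) K →ₐ[K] Ω ⊗[K] L := Algebra.TensorProduct.map (AlgHom.id K Ω) πK
    have hΦ : RingHom.ker Φ = Ideal.span {(1 : Ω) ⊗ₜ F.map (algebraMap A K)} := by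
      have h1 : Φ = (Algebra.TensorProduct.map (AlgHom.id K Ω) (Ideal.kerLiftAlg πK)).comp
          (Algebra.TensorProduct.map (AlgHom.id K Ω) mkJ) := by
        rw [← Algebra.TensorProduct.map_comp]
        rfl
      have h2 : Function.Injective (Algebra.TensorProduct.map (AlgHom.id K Ω) (Ideal.kerLiftAlg πK)) :=
        Module.Flat.lTensor_preserves_injective_linearMap (M := Ω) (Ideal.kerLiftAlg πK).toLinearMap
          (Ideal.kerLiftAlg_injective πK)
      have h3 := Algebra.TensorProduct.lTensor_ker (A := Ω) mkJ Ideal.Quotient.mk_surjective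
      have h4 : RingHom.ker Φ = RingHom.ker (Algebra.TensorProduct.map (AlgHom.id K Ω) mkJ) := by
        ext z
        rw [RingHom.mem_ker, RingHom.mem_ker, h1, AlgHom.comp_apply, map_eq_zero_iff _ h2]
      rw [h4, h3, show RingHom.ker mkJ = J from Ideal.mk_ker, show J = _ from hkerK, Ideal.map_span,
        Set.image_singleton]
      rfl
    have hprime : (Ideal.span {F.map (algebraMap A Ω)}).IsPrime := by
      let e := MvPolynomial.algebraTensorAlgEquiv (R := K) (σ := Option (Fin n)) (A := Ω)
      have h5 : Ideal.span {F.map (algebraMap A Ω)} = (RingHom.ker Φ).map e.toRingEquiv := by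
        rw [hΦ, Ideal.map_span, Set.image_singleton]
        refine congrArg (fun z => Ideal.span {z}) ?_
        show _ = e ((1 : Ω) ⊗ₜ F.map (algebraMap A K))
        rw [MvPolynomial.algebraTensorAlgEquiv_tmul, one_smul, MvPolynomial.map_map, ← IsScalarTower.algebraMap_eq]
      rw [h5]
      haveI : (RingHom.ker Φ).IsPrime := RingHom.ker_isPrime Φ
      exact Ideal.map_isPrime_of_equiv e.toRingEquiv
    have hAΩ : Function.Injective (algebraMap A Ω) := by
      rw [IsScalarTower.algebraMap_eq A K Ω]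
      exact (algebraMap K Ω).injective.comp (IsFractionRing.injective A K)
    have hne : F.map (algebraMap A Ω) ≠ 0 := fun h =>
      hF0 (MvPolynomial.map_injective _ hAΩ (h.trans (map_zero _).symm))
    exact ((Ideal.span_singleton_prime hne).1 hprime).irreducible
  obtain ⟨a₁, ha₁, hirr'⟩ := exists_irreducible_map K F hirr
  -- the birational map
  let ι : B →ₐ[A] L := IsScalarTower.toAlgHom A B L
  have hι : Function.Injective ι := IsFractionRing.injective B L
  obtain ⟨G, hG⟩ := (inferInstance : Algebra.FiniteType A B).out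
  choose pz qz hqz hpq using hfrac
  let e₀ : MvPolynomial (Option (Fin n)) A := ∏ b ∈ G, qz (ι b)
  have he₀ : π e₀ ≠ 0 := by
    rw [map_prod]; exact Finset.prod_ne_zero_iff.2 fun b _ => hqz _
  have hfracB : ∀ z : L, ∃ c d : B, ι d ≠ 0 ∧ z * ι d = ι c := fun z => by
    obtain ⟨c, d, hd, rfl⟩ := IsFractionRing.div_surjective (A := B) z
    have : ι d ≠ 0 := fun h => nonZeroDivisors.ne_zero hd (hι (h.trans (map_zero _).symm))
    exact ⟨c, d, this, div_mul_cancel₀ _ this⟩
  choose cz dz hdz hcd using hfracB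
  let w₀ : B := ∏ o, dz (π (MvPolynomial.X o))
  have hw₀ : ι w₀ ≠ 0 := by
    rw [map_prod]; exact Finset.prod_ne_zero_iff.2 fun o _ => hdz _
  let U : ∀ {R : Type u} [CommRing R] [Algebra A R] (φ : R →ₐ[A] L), R → Subalgebra A L := fun {R} _ _ φ r =>
    { carrier := {t | ∃ (m : ℕ) (b : R), t * φ r ^ m = φ b}
      mul_mem' := by
        rintro _ _ ⟨m, b, hb⟩ ⟨m', b', hb'⟩
        exact ⟨m + m', b * b', by rw [map_mul, ← hb, ← hb']; ring⟩
      add_mem' := by
        rintro _ _ ⟨m, b, hb⟩ ⟨m', b', hb'⟩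
        exact ⟨m + m', b * r ^ m' + b' * r ^ m, by rw [map_add, map_mul, map_mul, ← hb, ← hb', map_pow, map_pow]; ring⟩
      algebraMap_mem' := fun c => ⟨0, algebraMap A R c, by rw [φ.commutes, pow_zero, mul_one]⟩ }
  have hBU : ∀ b, ι b ∈ U π e₀ := by
    intro b
    have : (⊤ : Subalgebra A B).map ι ≤ U π e₀ := by
      rw [← hG, AlgHom.map_adjoin, Algebra.adjoin_le_iff]
      rintro _ ⟨c, hc, rfl⟩
      refine ⟨1, pz (ι c) * ∏ b ∈ G.erase c, qz (ι b), ?_⟩
      rw [pow_one, map_mul, ← hpq, mul_assoc, ← map_mul]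
      congr 2
      exact (Finset.mul_prod_erase G (fun b => qz (ι b)) hc).symm
    exact this ⟨b, trivial, rfl⟩
  have hPU : ∀ p, π p ∈ U ι w₀ := by
    intro p
    have : (⊤ : Subalgebra A (MvPolynomial (Option (Fin n)) A)).map π ≤ U ι w₀ := by
      rw [← MvPolynomial.adjoin_range_X, AlgHom.map_adjoin, Algebra.adjoin_le_iff]
      rintro _ ⟨_, ⟨o, rfl⟩, rfl⟩
      refine ⟨1, cz (π (MvPolynomial.X o)) * ∏ o' ∈ Finset.univ.erase o, dz (π (MvPolynomial.X o')), ?_⟩
      rw [pow_one, map_mul, ← hcd, mul_assoc, ← map_mul, Finset.mul_prod_erase Finset.univ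
        (fun o' => dz (π (MvPolynomial.X o'))) (Finset.mem_univ o)]
    exact this ⟨p, trivial, rfl⟩
  obtain ⟨N, b₁, hb₁⟩ := hPU e₀
  obtain ⟨M, p₁, hp₁⟩ := hBU w₀
  let w : B := w₀ * b₁
  let e : MvPolynomial (Option (Fin n)) A := e₀ * p₁
  have hb₁' : ι b₁ ≠ 0 := hb₁ ▸ mul_ne_zero he₀ (pow_ne_zero _ hw₀)
  have hp₁' : π p₁ ≠ 0 := hp₁ ▸ mul_ne_zero hw₀ (pow_ne_zero _ he₀)
  have hw : ι w ≠ 0 := by rw [map_mul]; exact mul_ne_zero hw₀ hb₁'
  have he : π e ≠ 0 := by rw [map_mul]; exact mul_ne_zero he₀ hp₁'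
  let T : Subalgebra A L := Algebra.adjoin A (Set.range ι ∪ Set.range π ∪ {(π e₀)⁻¹, (ι w₀)⁻¹})
  have hιT : ∀ z, ι z ∈ T := fun z => Algebra.subset_adjoin (Or.inl (Or.inl ⟨z, rfl⟩))
  have hπT : ∀ z, π z ∈ T := fun z => Algebra.subset_adjoin (Or.inl (Or.inr ⟨z, rfl⟩))
  have heT : (π e₀)⁻¹ ∈ T := Algebra.subset_adjoin (Or.inr (Or.inl rfl))
  have hwT : (ι w₀)⁻¹ ∈ T := Algebra.subset_adjoin (Or.inr (Or.inr rfl))
  have hTw : T ≤ U ι w := by
    refine Algebra.adjoin_le_iff.2 ?_
    rintro z ((⟨b, rfl⟩ | ⟨p, rfl⟩) | rfl | rfl)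
    · exact ⟨0, b, by rw [pow_zero, mul_one]⟩
    · obtain ⟨m, b, hb⟩ := hPU p
      exact ⟨m, b * b₁ ^ m, by rw [map_mul, map_mul, map_pow, ← hb, mul_pow, mul_assoc]⟩
    · refine ⟨1, w₀ ^ (N + 1), ?_⟩
      rw [pow_one, map_mul, ← hb₁, map_pow, pow_succ']
      field_simp
    · refine ⟨1, b₁, ?_⟩
      rw [pow_one, map_mul]
      field_simp
  have hTe : T ≤ U π e := by
    refine Algebra.adjoin_le_iff.2 ?_
    rintro z ((⟨b, rfl⟩ | ⟨p, rfl⟩) | rfl | rfl)
    · obtain ⟨m, q, hq⟩ := hBU b
      exact ⟨m, q * p₁ ^ m, by rw [map_mul, map_mul, map_pow, ← hq, mul_pow, mul_assoc]⟩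
    · exact ⟨0, p, by rw [pow_zero, mul_one]⟩
    · refine ⟨1, p₁, ?_⟩
      rw [pow_one, map_mul]
      field_simp
    · refine ⟨1, e₀ ^ (M + 1), ?_⟩
      rw [pow_one, map_mul, ← hp₁, map_pow, pow_succ']
      field_simp
  have hwinv : (ι w)⁻¹ ∈ T := by
    rw [map_mul, ← hb₁, mul_inv, mul_inv, ← inv_pow]
    exact mul_mem hwT (mul_mem heT (pow_mem hwT _))
  have heinv : (π e)⁻¹ ∈ T := by
    rw [map_mul, ← hp₁, mul_inv, mul_inv, ← inv_pow]
    exact mul_mem heT (mul_mem hwT (pow_mem heT _))
  letI : Algebra B T := (ι.codRestrict T hιT).toRingHom.toAlgebra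
  haveI : IsScalarTower A B T := .of_algebraMap_eq fun c => ((ι.codRestrict T hιT).commutes c).symm
  haveI : IsLocalization.Away w T := isLocalization_away_of_range ι hι w hw T hιT hwinv fun t ht => hTw ht
  let E := π.range
  let ιE : E →ₐ[A] L := E.val
  have hET : ∀ z : E, ιE z ∈ T := fun ⟨_, p, rfl⟩ => hπT p
  letI : Algebra E T := (ιE.codRestrict T hET).toRingHom.toAlgebra
  haveI : IsScalarTower A E T := .of_algebraMap_eq fun c => ((ιE.codRestrict T hET).commutes c).symm
  haveI : IsLocalization.Away (π.rangeRestrict e) T :=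
    isLocalization_away_of_range ιE Subtype.val_injective _ he T hET heinv fun t ht => by
      obtain ⟨m, q, hq⟩ := hTe ht
      exact ⟨m, π.rangeRestrict q, hq⟩
  have hwB : w ≠ 0 := fun h => hw (by rw [h, map_zero])
  obtain ⟨a₂, ha₂, hreg⟩ := exists_regular_fibre (A := A) hwB
  refine ⟨a₁ * a₂, mul_ne_zero ha₁ ha₂, fun k _ _ hk => ?_⟩
  rw [map_mul, mul_ne_zero_iff] at hk
  have hFk := hirr' k (algebraMap A k) hk.1
  haveI : NoZeroDivisors (k ⊗[A] E) := by
    let ψ := Algebra.TensorProduct.map (AlgHom.id k k) π.rangeRestrict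
    have hψ : Function.Surjective ψ := fun z => by
      induction z using TensorProduct.induction_on with
      | zero => exact ⟨0, map_zero _⟩
      | tmul c x =>
        obtain ⟨y, rfl⟩ := π.rangeRestrict_surjective x
        exact ⟨c ⊗ₜ y, Algebra.TensorProduct.map_tmul _ _ c y⟩
      | add u v hu hv =>
        obtain ⟨u, rfl⟩ := hu
        obtain ⟨v, rfl⟩ := hv
        exact ⟨u + v, map_add _ _ _⟩
    let P := MvPolynomial (Option (Fin n)) k
    let eP := MvPolynomial.algebraTensorAlgEquiv (R := A) (σ := Option (Fin n)) (A := k)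
    have hk' : RingHom.ker (ψ.comp eP.symm.toAlgHom) = Ideal.span {F.map (algebraMap A k)} := by
      have h3 := Algebra.TensorProduct.lTensor_ker (A := k) π.rangeRestrict π.rangeRestrict_surjective
      have hkr : RingHom.ker π.rangeRestrict = Ideal.span {F} := by
        rw [← hker]
        ext z
        rw [RingHom.mem_ker, RingHom.mem_ker]
        exact ⟨fun h => congrArg Subtype.val h, fun h => Subtype.ext h⟩
      rw [hkr, Ideal.map_span, Set.image_singleton] at h3
      have : F.map (algebraMap A k) = eP (1 ⊗ₜ F) := by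
        rw [MvPolynomial.algebraTensorAlgEquiv_tmul, one_smul]
      rw [this]
      ext z
      rw [RingHom.mem_ker, AlgHom.comp_apply, Ideal.mem_span_singleton']
      constructor
      · intro hz
        obtain ⟨c, hc⟩ := Ideal.mem_span_singleton'.1 (h3.le hz)
        exact ⟨eP c, by rw [← map_mul]; exact (congrArg eP hc).trans (eP.apply_symm_apply z)⟩
      · rintro ⟨c, rfl⟩
        refine h3.ge (Ideal.mem_span_singleton'.2 ⟨eP.symm c, ?_⟩)
        show _ = eP.symm (c * eP _)
        rw [map_mul, eP.symm_apply_apply]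
        rfl
    haveI : (RingHom.ker (ψ.comp eP.symm.toAlgHom)).IsPrime := by
      rw [hk', Ideal.span_singleton_prime hFk.ne_zero]
      exact UniqueFactorizationMonoid.irreducible_iff_prime.1 hFk
    haveI : (RingHom.ker (ψ.comp eP.symm.toAlgHom).toRingHom).IsPrime :=
      (inferInstance : (RingHom.ker (ψ.comp eP.symm.toAlgHom)).IsPrime)
    have := (RingHom.quotientKerEquivOfSurjective
      (f := (ψ.comp eP.symm.toAlgHom).toRingHom) (hψ.comp eP.symm.surjective)).toMulEquiv.isDomain_iff.1
        (Ideal.Quotient.isDomain _)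
    infer_instance
  haveI : NoZeroDivisors (k ⊗[A] T) := noZeroDivisors_tensor_away (A := A) (π.rangeRestrict e)
  exact (tensor_away (A := A) (T := T) w (hreg k hk.2)).noZeroDivisors _ (map_zero _) (map_mul _)

end Groth.Agent.GeomUnib.IntegralSpread
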