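import Groth.Agent.GeomUnib.SectionComp
import Groth.Agent.GeomUnib.GeomRedFibre
import Groth.Agent.GeomUnib.FlatFibre
import Groth.Agent.GeomUnib.IntegralSpread

/-!
# The components of a section near a point inside the closure of a point

If `x'` lies on the component of the section and the fibre is geometrically reduced there, then the
specialisations of `x'` near `x'` lie on components of the section, by spreading out geometric
integrality of the fibres.
-/

set_option autoImplicit false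
set_option linter.style.haveILetI false
set_option linter.unusedSectionVars false
set_option backward.isDefEq.respectTransparency false
set_option maxHeartbeats 1000000
set_option synthInstance.maxHeartbeats 200000

universe u

open CategoryTheory CategoryTheory.Limits AlgebraicGeometry TensorProduct

namespace Groth.Agent.GeomUnib.SectionComp

section Algebra

variable {A C : Type u} [CommRing A] [CommRing C] [Algebra A C] [Algebra.FiniteType A C] [IsNoetherianRing A]
  (p : Ideal A) [p.IsPrime] (q : Ideal C) [q.IsPrime] [q.LiesOver p]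
  [Algebra (Localization.AtPrime p) (Localization.AtPrime q)] [Localization.AtPrime.IsLiesOverAlgebra p q]

/-- Over a dense open of the closure of `p`, the closure of `q` has integral fibres, meeting a given
open subset. -/
theorem exists_generic_fibre_prime [Algebra.IsGeometricallyReduced p.ResidueField q.ResidueField]
    [Subsingleton (PrimeSpectrum (AlgebraicClosure p.ResidueField ⊗[p.ResidueField] q.ResidueField))]
    {c : C} (hc : c ∉ q) :
    ∃ a : A, a ∉ p ∧ ∀ (P : Ideal A) [P.IsPrime], p ≤ P → a ∉ P →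
      (∃ R : Ideal C, R.IsPrime ∧ q ≤ R ∧ R.comap (algebraMap A C) = P) →
      ∃ η : Ideal C, η.IsPrime ∧ q ≤ η ∧ η.comap (algebraMap A C) = P ∧ c ∉ η ∧
        ∀ (R : Ideal C) [R.IsPrime], q ≤ R → R.comap (algebraMap A C) = P → η ≤ R := by
  classical
  letI : Algebra (A ⧸ p) q.ResidueField :=
    ((algebraMap (C ⧸ q) q.ResidueField).comp (algebraMap (A ⧸ p) (C ⧸ q))).toAlgebra
  haveI : IsScalarTower (A ⧸ p) (C ⧸ q) q.ResidueField := .of_algebraMap_eq fun _ => rfl
  haveI : IsScalarTower (A ⧸ p) p.ResidueField q.ResidueField := .of_algebraMap_eq fun a => by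
    obtain ⟨a, rfl⟩ := Ideal.Quotient.mk_surjective a
    show algebraMap C q.ResidueField (algebraMap A C a) =
      algebraMap p.ResidueField q.ResidueField (algebraMap A p.ResidueField a)
    rw [← IsScalarTower.algebraMap_apply, ← IsScalarTower.algebraMap_apply]
  haveI : IsScalarTower A (A ⧸ p) (C ⧸ q) := .of_algebraMap_eq fun _ => rfl
  haveI : Algebra.FiniteType A (C ⧸ q) :=
    Algebra.FiniteType.of_surjective (Ideal.Quotient.mkₐ A q) Ideal.Quotient.mk_surjective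
  haveI : Algebra.FiniteType (A ⧸ p) (C ⧸ q) := Algebra.FiniteType.of_restrictScalars_finiteType A _ _
  obtain ⟨a₁, ha₁, h₁⟩ := IntegralSpread.exists_noZeroDivisors_fibre (A := A ⧸ p) (B := C ⧸ q)
    p.ResidueField q.ResidueField
  obtain ⟨a₂, ha₂, h₂⟩ := IntegralSpread.exists_regular_fibre (A := A ⧸ p) (B := C ⧸ q)
    (w := Ideal.Quotient.mk q c) (fun h => hc (Ideal.Quotient.eq_zero_iff_mem.1 h))
  obtain ⟨a, ha⟩ := Ideal.Quotient.mk_surjective (a₁ * a₂)
  refine ⟨a, fun h => ?_, fun P _ hpP haP hR => ?_⟩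
  · exact mul_ne_zero ha₁ ha₂ (ha ▸ Ideal.Quotient.eq_zero_iff_mem.2 h)
  let k := P.ResidueField
  letI : Algebra (A ⧸ p) k := (Ideal.Quotient.lift p (algebraMap A k) fun b hb =>
    Ideal.algebraMap_residueField_eq_zero.2 (hpP hb)).toAlgebra
  have hkmk : ∀ b : A, algebraMap (A ⧸ p) k (Ideal.Quotient.mk p b) = algebraMap A k b := fun b => rfl
  have hak : algebraMap (A ⧸ p) k (a₁ * a₂) ≠ 0 := by
    rw [← ha, hkmk]
    exact fun h => haP (Ideal.algebraMap_residueField_eq_zero.1 h)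
  rw [map_mul, mul_ne_zero_iff] at hak
  haveI : NoZeroDivisors (k ⊗[A ⧸ p] (C ⧸ q)) := h₁ k hak.1
  have hreg := h₂ k hak.2
  let ιC : C →+* k ⊗[A ⧸ p] (C ⧸ q) :=
    (Algebra.TensorProduct.includeRight (R := A ⧸ p) (A := k)).toRingHom.comp (Ideal.Quotient.mk q)
  -- points of the fibre give homomorphisms
  have hhom : ∀ (R : Ideal C) [R.IsPrime], q ≤ R → R.comap (algebraMap A C) = P →
      ∃ χ : k ⊗[A ⧸ p] (C ⧸ q) →+* R.ResidueField, ∀ x, χ (ιC x) = algebraMap C R.ResidueField x := by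
    intro R _ hqR hRP
    obtain ⟨χ, hχ, -⟩ := exists_tensor_lift (P := A ⧸ p) (Ideal.ResidueField.map P R (algebraMap A C) hRP.symm)
      (Ideal.Quotient.lift q (algebraMap C R.ResidueField) fun b hb => Ideal.algebraMap_residueField_eq_zero.2 (hqR hb))
      (fun b => by
        obtain ⟨b, rfl⟩ := Ideal.Quotient.mk_surjective b
        rw [hkmk, Ideal.ResidueField.map_algebraMap]
        rfl)
    exact ⟨χ, fun x => hχ (Ideal.Quotient.mk q x)⟩
  obtain ⟨R, hR, hqR, hRP⟩ := hR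
  obtain ⟨χ, hχ⟩ := hhom R hqR hRP
  haveI : Nontrivial (k ⊗[A ⧸ p] (C ⧸ q)) := χ.domain_nontrivial
  haveI : IsDomain (k ⊗[A ⧸ p] (C ⧸ q)) := NoZeroDivisors.to_isDomain _
  refine ⟨RingHom.ker ιC, RingHom.ker_isPrime _, fun x hx => ?_, ?_, fun h => ?_, fun R' _ hqR' hRP' x hx => ?_⟩
  · show ιC x = 0
    simp only [ιC, RingHom.comp_apply, Ideal.Quotient.eq_zero_iff_mem.2 hx, map_zero]
  · ext b
    have h1 : ιC (algebraMap A C b) = algebraMap k (k ⊗[A ⧸ p] (C ⧸ q)) (algebraMap A k b) := by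
      rw [← hkmk]
      exact (Algebra.TensorProduct.includeRight (R := A ⧸ p) (A := k) (B := C ⧸ q)).commutes (Ideal.Quotient.mk p b)
    rw [Ideal.mem_comap, RingHom.mem_ker, h1, map_eq_zero_iff _ (algebraMap k (k ⊗[A ⧸ p] (C ⧸ q))).injective,
      Ideal.algebraMap_residueField_eq_zero]
  · exact one_ne_zero (hreg 1 (by rw [mul_one]; exact h))
  · obtain ⟨χ', hχ'⟩ := hhom R' hqR' hRP'
    rw [← Ideal.algebraMap_residueField_eq_zero, ← hχ', RingHom.mem_ker.1 hx, map_zero]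

/-- If the points over `q` of the base change to the algebraic closure have a common generisation
among them, the base change of the residue field has one prime. -/
theorem subsingleton_tensor_of_least {A C : Type u} [CommRing A] [CommRing C] [Algebra A C] (p : Ideal A) [p.IsPrime]
    (q : Ideal C) [q.IsPrime] [q.LiesOver p]
    [Algebra (Localization.AtPrime p) (Localization.AtPrime q)] [Localization.AtPrime.IsLiesOverAlgebra p q]
    (Pγ : Ideal (AlgebraicClosure p.ResidueField ⊗[A] C)) [Pγ.IsPrime]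
    (hPγq : Pγ.comap (UnivOpenAt.inr A C (AlgebraicClosure p.ResidueField)) = q)
    (hmin : ∀ Q : Ideal (AlgebraicClosure p.ResidueField ⊗[A] C), Q.IsPrime →
      Q.comap (UnivOpenAt.inr A C (AlgebraicClosure p.ResidueField)) = q → Pγ ≤ Q) :
    Subsingleton (PrimeSpectrum (AlgebraicClosure p.ResidueField ⊗[p.ResidueField] q.ResidueField)) := by
  classical
  let K := p.ResidueField
  let L := q.ResidueField
  let Ω := AlgebraicClosure K
  let m : Ω ⊗[A] C →+* Ω ⊗[K] L :=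
    (Algebra.TensorProduct.lift ((Algebra.TensorProduct.includeLeft : Ω →ₐ[K] Ω ⊗[K] L).restrictScalars A)
      (((Algebra.TensorProduct.includeRight : L →ₐ[K] Ω ⊗[K] L).restrictScalars A).comp
        (IsScalarTower.toAlgHom A C L)) fun _ _ => .all _ _).toRingHom
  have hm : ∀ (w : Ω) (x : C), m (w ⊗ₜ x) = w ⊗ₜ algebraMap C L x := fun w x => by simp [m]
  have hinr : ∀ x, m (UnivOpenAt.inr A C Ω x) = (1 : Ω) ⊗ₜ algebraMap C L x := fun x =>
    hm 1 x
  -- every element is a unit times an element of the image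
  have hsurj : ∀ t, ∃ w u, IsUnit u ∧ t * u = m w ∧ ∃ u', m u' = u := by
    intro t
    induction t using TensorProduct.induction_on with
    | zero => exact ⟨0, 1, isUnit_one, by rw [zero_mul, map_zero], 1, map_one m⟩
    | add a b ha hb =>
      obtain ⟨wa, ua, hua, ha, va, rfl⟩ := ha
      obtain ⟨wb, ub, hub, hb, vb, rfl⟩ := hb
      refine ⟨wa * vb + wb * va, m va * m vb, hua.mul hub, ?_, va * vb, map_mul m _ _⟩
      rw [map_add, map_mul, map_mul, ← ha, ← hb]; ring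
    | tmul w l =>
      obtain ⟨a, b, hb, rfl⟩ := IsFractionRing.div_surjective (A := C ⧸ q) l
      obtain ⟨a, rfl⟩ := Ideal.Quotient.mk_surjective a
      obtain ⟨b, rfl⟩ := Ideal.Quotient.mk_surjective b
      have hb' : algebraMap C L b ≠ 0 := fun h => nonZeroDivisors.ne_zero hb
        (Ideal.Quotient.eq_zero_iff_mem.2 (Ideal.algebraMap_residueField_eq_zero.1 h))
      refine ⟨w ⊗ₜ a, (1 : Ω) ⊗ₜ algebraMap C L b, ?_, ?_, _, hm 1 b⟩
      · exact (isUnit_iff_ne_zero.2 hb').map (Algebra.TensorProduct.includeRight (R := K) (A := Ω))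
      · rw [hm, Algebra.TensorProduct.tmul_mul_tmul, mul_one]
        congr 1
        exact div_mul_cancel₀ _ hb'
  have hmono : ∀ P P' : Ideal (Ω ⊗[K] L), P'.IsPrime → P.comap m ≤ P'.comap m → P ≤ P' := by
    intro P P' hP' h t ht
    obtain ⟨w, u, hu, htu, -⟩ := hsurj t
    have h1 : t * u ∈ P' := htu ▸ h (show m w ∈ P from htu ▸ P.mul_mem_right u ht)
    exact (hP'.mem_or_mem h1).resolve_right fun h2 => hP'.ne_top (Ideal.eq_top_of_isUnit_mem _ h2 hu)
  -- the generic prime comes from the tensor product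
  have hcomap : ∀ P : Ideal (Ω ⊗[K] L), P.IsPrime →
      (P.comap m).comap (UnivOpenAt.inr A C Ω) = q := by
    intro P hP
    ext x
    rw [Ideal.mem_comap, Ideal.mem_comap, hinr]
    constructor
    · intro h
      by_contra hx
      refine hP.ne_top (Ideal.eq_top_of_isUnit_mem _ h ?_)
      exact (isUnit_iff_ne_zero.2 fun h0 => hx (Ideal.algebraMap_residueField_eq_zero.1 h0)).map
        (Algebra.TensorProduct.includeRight (R := K) (A := Ω))
    · intro h
      rw [Ideal.algebraMap_residueField_eq_zero.2 h, TensorProduct.tmul_zero]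
      exact zero_mem _
  obtain ⟨P₀, hP₀, hP₀m⟩ : ∃ P₀ : Ideal (Ω ⊗[K] L), P₀.IsPrime ∧ P₀.comap m = Pγ := by
    let fL : L →+* Pγ.ResidueField :=
      Ideal.ResidueField.map q Pγ (UnivOpenAt.inr A C Ω) hPγq.symm
    let fΩ : Ω →+* Pγ.ResidueField :=
      (algebraMap (Ω ⊗[A] C) Pγ.ResidueField).comp (Algebra.TensorProduct.includeLeftRingHom)
    obtain ⟨χ, hχR, hχL⟩ := exists_tensor_lift (P := K) fΩ fL (fun b => by
      refine RingHom.congr_fun (f := fΩ.comp (algebraMap K Ω)) (g := fL.comp (algebraMap K L))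
        (Ideal.ResidueField.ringHom_ext (RingHom.ext fun a => ?_)) b
      show fΩ (algebraMap K Ω (algebraMap A K a)) = fL (algebraMap K L (algebraMap A K a))
      rw [← IsScalarTower.algebraMap_apply, ← IsScalarTower.algebraMap_apply,
        IsScalarTower.algebraMap_apply A C L, Ideal.ResidueField.map_algebraMap]
      exact congrArg (algebraMap (Ω ⊗[A] C) Pγ.ResidueField)
        ((Algebra.TensorProduct.includeLeft (R := A) (S := A) (A := Ω) (B := C)).commutes a
          |>.trans ((Algebra.TensorProduct.includeRight (R := A) (A := Ω) (B := C)).commutes a).symm))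
    refine ⟨RingHom.ker χ, RingHom.ker_isPrime _, ?_⟩
    have : χ.comp m = algebraMap (Ω ⊗[A] C) Pγ.ResidueField := by
      refine RingHom.ext fun t => ?_
      induction t using TensorProduct.induction_on with
      | zero => simp
      | add a b ha hb => rw [map_add, map_add, ha, hb]
      | tmul w x =>
        rw [RingHom.comp_apply, hm, show w ⊗ₜ[K] algebraMap C L x = (w ⊗ₜ (1 : L)) * ((1 : Ω) ⊗ₜ algebraMap C L x) by
          simp, map_mul, hχR, hχL, Ideal.ResidueField.map_algebraMap,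
          show w ⊗ₜ[A] x = (w ⊗ₜ (1 : C)) * ((1 : Ω) ⊗ₜ x) by simp, map_mul]
        rfl
    rw [RingHom.comap_ker, this]
    exact Ideal.ker_algebraMap_residueField _
  haveI : Algebra.IsIntegral K Ω := Algebra.isAlgebraic_iff_isIntegral.1 inferInstance
  refine ⟨fun P P' => ?_⟩
  suffices h : ∀ P : PrimeSpectrum (Ω ⊗[K] L), P.asIdeal = P₀ from PrimeSpectrum.ext ((h P).trans (h P').symm)
  intro P
  have hle : P₀ ≤ P.asIdeal := by
    exact hmono _ _ P.2 (hP₀m.le.trans (hmin (P.asIdeal.comap m) inferInstance (hcomap _ P.2)))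
  let ιL : L →+* Ω ⊗[K] L := (Algebra.TensorProduct.includeRight (R := K) (A := Ω) (B := L)).toRingHom
  have hint : ιL.IsIntegral := by
    intro t
    induction t using TensorProduct.induction_on with
    | zero => exact ιL.isIntegralElem_zero
    | add a b ha hb => exact ha.add _ hb
    | tmul w l =>
      rw [show w ⊗ₜ[K] l = (w ⊗ₜ[K] (1 : L)) * ιL l by simp [ιL]]
      refine RingHom.IsIntegralElem.mul _ ?_ ιL.isIntegralElem_map
      obtain ⟨G, hG, hG0⟩ := Algebra.IsIntegral.isIntegral (R := K) w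
      refine ⟨G.map (algebraMap K L), hG.map _, ?_⟩
      rw [Polynomial.eval₂_map, show ιL.comp (algebraMap K L) =
          (Algebra.TensorProduct.includeLeftRingHom : Ω →+* Ω ⊗[K] L).comp (algebraMap K Ω) from
          RingHom.ext fun b => by simp [ιL, Algebra.TensorProduct.tmul_one_eq_one_tmul],
        show w ⊗ₜ[K] (1 : L) = (Algebra.TensorProduct.includeLeftRingHom : Ω →+* Ω ⊗[K] L) w from rfl,
        ← Polynomial.hom_eval₂, hG0, map_zero]
  haveI := hP₀
  exact ((Ideal.isMaximal_of_isIntegral_of_isMaximal_comap' ιL hint P₀ (by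
    rw [Ideal.eq_bot_of_prime (P₀.comap ιL)]; exact Ideal.bot_isMaximal)).eq_of_le P.2.ne_top hle).symm

end Algebra

variable {X Y : Scheme.{u}} {f : X ⟶ Y} {g : Y ⟶ X}

/-- The function field of a component stays a field after base change to the algebraic closure. -/
theorem subsingleton_tensor_of_geomIrred [LocallyOfFiniteType f] (hg : g ≫ f = 𝟙 Y)
    {U : Y.Opens} (hU : IsAffineOpen U) {V : X.Opens} (hV : IsAffineOpen V) (hVU : V ≤ f ⁻¹ᵁ U)
    {ξ : X} (hirr : GeomIrredAt f g (f.base ξ)) (hξV : ξ ∈ V) (hξX : ξ ∈ X0 f g (f.base ξ))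
    (hgen : ∀ x ∈ X0 f g (f.base ξ), ξ ⤳ x) :
    letI := (f.appLE U V hVU).hom.toAlgebra
    ∀ [(hV.primeIdealOf ⟨ξ, hξV⟩).asIdeal.LiesOver (hU.primeIdealOf ⟨f.base ξ, hVU hξV⟩).asIdeal]
      [Algebra (Localization.AtPrime (hU.primeIdealOf ⟨f.base ξ, hVU hξV⟩).asIdeal)
        (Localization.AtPrime (hV.primeIdealOf ⟨ξ, hξV⟩).asIdeal)]
      [Localization.AtPrime.IsLiesOverAlgebra (hU.primeIdealOf ⟨f.base ξ, hVU hξV⟩).asIdeal
        (hV.primeIdealOf ⟨ξ, hξV⟩).asIdeal],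
      Subsingleton (PrimeSpectrum (AlgebraicClosure (hU.primeIdealOf ⟨f.base ξ, hVU hξV⟩).asIdeal.ResidueField
        ⊗[(hU.primeIdealOf ⟨f.base ξ, hVU hξV⟩).asIdeal.ResidueField]
          (hV.primeIdealOf ⟨ξ, hξV⟩).asIdeal.ResidueField)) := by
  classical
  letI := (f.appLE U V hVU).hom.toAlgebra
  intro _ _ _
  let p := (hU.primeIdealOf ⟨f.base ξ, hVU hξV⟩).asIdeal
  let q := (hV.primeIdealOf ⟨ξ, hξV⟩).asIdeal
  let K := p.ResidueField
  let L := q.ResidueField
  let Ω := AlgebraicClosure K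
  let g₀ : Spec (CommRingCat.of Ω) ⟶ Y := Spec.map (CommRingCat.ofHom (algebraMap Γ(Y, U) Ω)) ≫ hU.fromSpec
  obtain ⟨Φ, hΦ, hfst, hsnd, hall⟩ :=
    UnivOpenAt.exists_chart f hU hV hVU g₀ Ω (𝟙 _) (by rw [Category.id_comp])
  have hz : ∀ z : Spec (CommRingCat.of Ω), g₀.base z = f.base ξ := fun z => by
    refine (congrArg hU.fromSpec (?_ : PrimeSpectrum.comap (algebraMap Γ(Y, U) Ω) z =
      hU.primeIdealOf ⟨f.base ξ, hVU hξV⟩)).trans (hU.fromSpec_primeIdealOf ⟨f.base ξ, hVU hξV⟩)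
    refine PrimeSpectrum.ext ?_
    ext b
    show algebraMap Γ(Y, U) Ω b ∈ z.asIdeal ↔ b ∈ p
    rw [Ideal.eq_bot_of_prime z.asIdeal, Ideal.mem_bot, IsScalarTower.algebraMap_apply Γ(Y, U) K Ω, map_eq_zero,
      Ideal.algebraMap_residueField_eq_zero]
  let z₀ : Spec (CommRingCat.of Ω) := IsLocalRing.closedPoint Ω
  obtain ⟨γ, hγs, hγX, hγgen, hγ, -, -⟩ := exists_generic_bc_at hg g₀ (z := z₀) (by rw [hz]; exact hirr)
  rw [hz] at hγX hγgen hγ
  have hγξ : (pullback.fst f g₀).base γ = ξ := ((hγgen ξ hξX).antisymm (hgen _ hγX)).eq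
  obtain ⟨Pγ, hPγ⟩ := hall γ (by rw [hγξ]; exact hξV) ⟨z₀, hγs.symm⟩
  have hPγq : Pγ.asIdeal.comap (UnivOpenAt.inr Γ(Y, U) Γ(X, V) Ω) = q := by
    have h1 := hfst Pγ
    rw [hPγ] at h1
    exact congrArg PrimeSpectrum.asIdeal (hV.fromSpec.isOpenEmbedding.injective
      ((h1.symm.trans hγξ).trans (hV.fromSpec_primeIdealOf ⟨ξ, hξV⟩).symm))
  refine subsingleton_tensor_of_least p q Pγ.asIdeal hPγq fun Q hQp hQq => ?_
  let QP : PrimeSpectrum (Ω ⊗[Γ(Y, U)] Γ(X, V)) := ⟨Q, hQp⟩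
  have hQ : (pullback.fst f g₀).base (Φ QP) = ξ := by
    rw [hfst, show PrimeSpectrum.comap (UnivOpenAt.inr Γ(Y, U) Γ(X, V) Ω) QP = hV.primeIdealOf ⟨ξ, hξV⟩ from
      PrimeSpectrum.ext hQq]
    exact hV.fromSpec_primeIdealOf ⟨ξ, hξV⟩
  have h1 := hγ (Φ QP) (Subsingleton.elim _ _) (by rw [hQ]; exact hξX)
  rw [← hPγ] at h1
  exact (PrimeSpectrum.le_iff_specializes Pγ QP).2 (Φ.isOpenEmbedding.toIsInducing.specializes_iff.1 h1)

/-- The evaluation at a point, and the residue field in a chart. -/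
theorem exists_residue_hom {W : X.Opens} (hW : IsAffineOpen W) {ξ : X} (hξW : ξ ∈ W) :
    ∃ θ : (hW.primeIdealOf ⟨ξ, hξW⟩).asIdeal.ResidueField →+* X.residueField ξ, Function.Bijective θ ∧
      ∀ a, θ (algebraMap Γ(X, W) _ a) = X.residue ξ (X.presheaf.germ W ξ hξW a) := by
  let q := (hW.primeIdealOf ⟨ξ, hξW⟩).asIdeal
  letI := X.presheaf.algebra_section_stalk ⟨ξ, hξW⟩
  haveI : IsLocalization.AtPrime (X.presheaf.stalk ξ) q := hW.isLocalization_stalk ⟨ξ, hξW⟩
  let ev : Γ(X, W) →+* X.residueField ξ := (X.residue ξ).hom.comp (X.presheaf.germ W ξ hξW).hom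
  have hev : ∀ a, ev a = 0 ↔ a ∈ q := fun a => by
    rw [← IsLocalization.AtPrime.to_map_mem_maximal_iff (X.presheaf.stalk ξ) q a]
    exact IsLocalRing.residue_eq_zero_iff _
  let θ := Ideal.ResidueField.lift q ev (fun a ha => (hev a).2 ha) fun a ha =>
    isUnit_iff_ne_zero.2 fun h => ha ((hev a).1 h)
  have hθ : ∀ a, θ (algebraMap Γ(X, W) q.ResidueField a) = ev a := fun a =>
    Ideal.ResidueField.lift_algebraMap q ev _ _ a
  refine ⟨θ, ⟨RingHom.injective _, fun z => ?_⟩, fun a => hθ a⟩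
  obtain ⟨z, rfl⟩ := IsLocalRing.residue_surjective (R := X.presheaf.stalk ξ) z
  obtain ⟨a, ⟨b, hb⟩, rfl⟩ := IsLocalization.exists_mk'_eq q.primeCompl z
  refine ⟨algebraMap Γ(X, W) q.ResidueField a / algebraMap Γ(X, W) q.ResidueField b, ?_⟩
  rw [map_div₀, hθ, hθ, div_eq_iff (fun h => hb ((hev b).1 h))]
  exact ((map_mul (IsLocalRing.residue (X.presheaf.stalk ξ)) _ _).symm.trans
    (congrArg _ (IsLocalization.mk'_spec _ a ⟨b, hb⟩))).symm

/-- Over a dense open of the closure of `f ξ`, the closure of `ξ` has integral fibres in an affine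
chart. -/
theorem exists_open_generic [IsLocallyNoetherian Y] [LocallyOfFiniteType f] (hg : g ≫ f = 𝟙 Y)
    {U : Y.Opens} (hU : IsAffineOpen U) {W : X.Opens} (hW : IsAffineOpen W)
    (hWU : W ≤ f ⁻¹ᵁ U) {ξ : X} (hirr : GeomIrredAt f g (f.base ξ)) (hξW : ξ ∈ W) (hξX : ξ ∈ X0 f g (f.base ξ))
    (hgen : ∀ x ∈ X0 f g (f.base ξ), ξ ⤳ x) {c : Γ(X, W)} (hξc : ξ ∈ X.basicOpen c) :
    letI := (f.appLE U W hWU).hom.toAlgebra
    ∀ [(hW.primeIdealOf ⟨ξ, hξW⟩).asIdeal.LiesOver (hU.primeIdealOf ⟨f.base ξ, hWU hξW⟩).asIdeal]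
      [Algebra (Localization.AtPrime (hU.primeIdealOf ⟨f.base ξ, hWU hξW⟩).asIdeal)
        (Localization.AtPrime (hW.primeIdealOf ⟨ξ, hξW⟩).asIdeal)]
      [Localization.AtPrime.IsLiesOverAlgebra (hU.primeIdealOf ⟨f.base ξ, hWU hξW⟩).asIdeal
        (hW.primeIdealOf ⟨ξ, hξW⟩).asIdeal]
      [Algebra.IsGeometricallyReduced (hU.primeIdealOf ⟨f.base ξ, hWU hξW⟩).asIdeal.ResidueField
        (hW.primeIdealOf ⟨ξ, hξW⟩).asIdeal.ResidueField],
      ∃ N : Y.Opens, f.base ξ ∈ N ∧ ∀ z ∈ N, ∀ w ∈ W, f.base w = z → ξ ⤳ w →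
        ∃ η ∈ X.basicOpen c, f.base η = z ∧ ξ ⤳ η ∧ ∀ w ∈ W, f.base w = z → ξ ⤳ w → η ⤳ w := by
  classical
  letI := (f.appLE U W hWU).hom.toAlgebra
  intro _ _ _ _
  haveI : IsNoetherianRing Γ(Y, U) := IsLocallyNoetherian.component_noetherian (X := Y) ⟨U, hU⟩
  haveI : Algebra.FiniteType Γ(Y, U) Γ(X, W) := f.finiteType_appLE hU hW hWU
  let p := (hU.primeIdealOf ⟨f.base ξ, hWU hξW⟩).asIdeal
  let q := (hW.primeIdealOf ⟨ξ, hξW⟩).asIdeal
  have key : ∀ t : PrimeSpectrum Γ(X, W),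
      hU.fromSpec (PrimeSpectrum.comap (algebraMap Γ(Y, U) Γ(X, W)) t) = f.base (hW.fromSpec t) := fun t => by
    rw [← Scheme.Hom.comp_apply, ← IsAffineOpen.SpecMap_appLE_fromSpec f hU hW hWU, Scheme.Hom.comp_apply]
    rfl
  haveI := subsingleton_tensor_of_geomIrred hg hU hW hWU hirr hξW hξX hgen
  have hcq : c ∉ q := by
    obtain ⟨t, htc, ht⟩ := (hW.fromSpec_image_basicOpen c).ge hξc
    have e : t = hW.primeIdealOf ⟨ξ, hξW⟩ :=
      hW.fromSpec.isOpenEmbedding.injective (ht.trans (hW.fromSpec_primeIdealOf ⟨ξ, hξW⟩).symm)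
    rw [e] at htc
    exact htc
  obtain ⟨a, hap, ha⟩ := exists_generic_fibre_prime p q hcq
  refine ⟨hU.fromSpec ''ᵁ PrimeSpectrum.basicOpen a,
    ⟨hU.primeIdealOf ⟨f.base ξ, hWU hξW⟩, hap, hU.fromSpec_primeIdealOf _⟩, ?_⟩
  rintro _ ⟨P, haP, rfl⟩ w hwW hwz hξw
  have hqR : ∀ t : PrimeSpectrum Γ(X, W), ξ ⤳ hW.fromSpec t → q ≤ t.asIdeal := fun t ht => by
    refine (PrimeSpectrum.le_iff_specializes (hW.primeIdealOf ⟨ξ, hξW⟩) t).2
      (hW.fromSpec.isOpenEmbedding.toIsInducing.specializes_iff.1 ?_)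
    rw [hW.fromSpec_primeIdealOf]; exact ht
  have hRP : ∀ t : PrimeSpectrum Γ(X, W), f.base (hW.fromSpec t) = hU.fromSpec P →
      t.asIdeal.comap (algebraMap Γ(Y, U) Γ(X, W)) = P.asIdeal := fun t ht => by
    rw [← key] at ht
    exact congrArg PrimeSpectrum.asIdeal (hU.fromSpec.isOpenEmbedding.injective
      (a₁ := PrimeSpectrum.comap (algebraMap Γ(Y, U) Γ(X, W)) t) ht)
  let R := hW.primeIdealOf ⟨w, hwW⟩
  have hR1 : q ≤ R.asIdeal := hqR R (by rw [hW.fromSpec_primeIdealOf]; exact hξw)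
  have hR2 := hRP R (by rw [hW.fromSpec_primeIdealOf]; exact hwz)
  obtain ⟨η, hη, hqη, hηP, hcη, hηle⟩ := ha P.asIdeal
    ((q.over_def p).le.trans ((Ideal.comap_mono hR1).trans hR2.le)) haP ⟨R.asIdeal, R.2, hR1, hR2⟩
  let η' : PrimeSpectrum Γ(X, W) := ⟨η, hη⟩
  refine ⟨hW.fromSpec η', (hW.fromSpec_image_basicOpen c).le ⟨η', hcη, rfl⟩, ?_, ?_, fun v hv hvz hξv => ?_⟩
  · rw [← key]
    exact congrArg hU.fromSpec (PrimeSpectrum.ext hηP)
  · have := ((PrimeSpectrum.le_iff_specializes (hW.primeIdealOf ⟨ξ, hξW⟩) η').1 hqη).map hW.fromSpec.continuous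
    rwa [hW.fromSpec_primeIdealOf] at this
  · have h1 := hηle (hW.primeIdealOf ⟨v, hv⟩).asIdeal (hqR _ (by rw [hW.fromSpec_primeIdealOf]; exact hξv))
      (hRP _ (by rw [hW.fromSpec_primeIdealOf]; exact hvz))
    have := ((PrimeSpectrum.le_iff_specializes η' (hW.primeIdealOf ⟨v, hv⟩)).1 h1).map hW.fromSpec.continuous
    rwa [hW.fromSpec_primeIdealOf] at this

/-- Near `x'` the specialisations of `x'` lie on components of the section. -/
theorem exists_nhds_closure_subset_at [IsLocallyNoetherian Y] [LocallyOfFiniteType f] (hg : g ≫ f = 𝟙 Y)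
    {x' : X} (hirr : GeomIrredAt f g (f.base x')) (hx' : x' ∈ X0 f g (f.base x'))
    (hred : FBase.IsGeomReducedAt (f.fiberToSpecResidueField (f.base x')) (f.asFiber x')) :
    ∃ O : X.Opens, x' ∈ O ∧ ∀ x ∈ O, x' ⤳ x → x ∈ X0 f g (f.base x) := by
  classical
  set y' := f.base x'
  obtain ⟨ξ, hξy, hξ, hspec, -, hmax⟩ := exists_generic_at hg hirr
  obtain ⟨U, hU, hyU, -⟩ := exists_isAffineOpen_mem_and_subset (U := (⊤ : Y.Opens)) (x := y') trivial
  obtain ⟨V, hV, hxV, hVU⟩ := exists_isAffineOpen_mem_and_subset (U := f ⁻¹ᵁ U) (x := x') hyU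
  obtain ⟨V', hV', hgV', hV'U⟩ := exists_isAffineOpen_mem_and_subset (U := f ⁻¹ᵁ U) (x := g.base y')
    (by show f.base (g.base y') ∈ U; rw [section_apply hg]; exact hyU)
  have hξV : ξ ∈ V := (hspec x' hx').mem_open V.2 hxV
  have hξV' : ξ ∈ V' := (hspec _ (mem_X0 hg y')).mem_open V'.2 hgV'
  obtain ⟨c, hcV', hξc⟩ := hV.exists_basicOpen_le ⟨ξ, hξV'⟩ hξV
  let p := (hU.primeIdealOf ⟨f.base ξ, hVU hξV⟩).asIdeal
  let q := (hV.primeIdealOf ⟨ξ, hξV⟩).asIdeal
  let q' := (hV'.primeIdealOf ⟨ξ, hξV'⟩).asIdeal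
  let qx := (hV.primeIdealOf ⟨x', hxV⟩).asIdeal
  -- the two charts
  obtain ⟨θ, hθ, hθa⟩ := exists_residue_hom hV hξV
  obtain ⟨θ', hθ', hθa'⟩ := exists_residue_hom hV' hξV'
  have hgerm : ∀ (W : X.Opens) (hWU : W ≤ f ⁻¹ᵁ U) (h : ξ ∈ W) (b : Γ(Y, U)),
      X.presheaf.germ W ξ h (f.appLE U W hWU b) = X.presheaf.germ (f ⁻¹ᵁ U) ξ (hWU h) (f.app U b) := by
    intro W hWU h b
    rw [Scheme.Hom.appLE, CommRingCat.comp_apply]
    exact X.presheaf.germ_res_apply _ _ _ _
  letI algV := (f.appLE U V hVU).hom.toAlgebra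
  letI algV' := (f.appLE U V' hV'U).hom.toAlgebra
  haveI : Algebra.FiniteType Γ(Y, U) Γ(X, V) := f.finiteType_appLE hU hV hVU
  haveI : q.LiesOver p := ⟨congr($(IsAffineOpen.comap_primeIdealOf_appLE U hU V hV hVU hξV).1).symm⟩
  haveI : q'.LiesOver p := ⟨congr($(IsAffineOpen.comap_primeIdealOf_appLE U hU V' hV' hV'U hξV').1).symm⟩
  haveI : qx.LiesOver p := ⟨by
    have h := congr($(IsAffineOpen.comap_primeIdealOf_appLE U hU V hV hVU hxV).1).symm
    rw [show p = (hU.primeIdealOf ⟨f.base x', hVU hxV⟩).asIdeal from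
      congrArg (fun t => (hU.primeIdealOf t).asIdeal) (Subtype.ext hξy)]
    exact h⟩
  letI := Localization.AtPrime.algebraOfLiesOver p q
  letI := Localization.AtPrime.algebraOfLiesOver p q'
  have hqx : q ≤ qx := by
    refine (PrimeSpectrum.le_iff_specializes (hV.primeIdealOf ⟨ξ, hξV⟩) (hV.primeIdealOf ⟨x', hxV⟩)).2
      (hV.fromSpec.isOpenEmbedding.toIsInducing.specializes_iff.1 ?_)
    rw [hV.fromSpec_primeIdealOf, hV.fromSpec_primeIdealOf]
    exact hspec x' hx'
  have hmin : q ∈ (p.map (algebraMap Γ(Y, U) Γ(X, V))).minimalPrimes := by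
    refine ⟨⟨inferInstance, Ideal.map_le_iff_le_comap.2 (q.over_def p).le⟩, fun M hM hMq => ?_⟩
    haveI := hM.1
    let M' : PrimeSpectrum Γ(X, V) := ⟨M, hM.1⟩
    have h1 : hV.fromSpec M' ⤳ ξ := by
      have := ((PrimeSpectrum.le_iff_specializes M' (hV.primeIdealOf ⟨ξ, hξV⟩)).1 hMq).map hV.fromSpec.continuous
      rwa [hV.fromSpec_primeIdealOf] at this
    have h2 : f.base (hV.fromSpec M') = y' := by
      rw [← Scheme.Hom.comp_apply, ← IsAffineOpen.SpecMap_appLE_fromSpec f hU hV hVU, Scheme.Hom.comp_apply]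
      refine (congrArg hU.fromSpec (?_ : PrimeSpectrum.comap (algebraMap Γ(Y, U) Γ(X, V)) M' =
        hU.primeIdealOf ⟨f.base ξ, hVU hξV⟩)).trans ((hU.fromSpec_primeIdealOf _).trans hξy)
      exact PrimeSpectrum.ext (le_antisymm ((Ideal.comap_mono hMq).trans (q.over_def p).ge)
        (Ideal.map_le_iff_le_comap.1 hM.2))
    have h3 : M' = hV.primeIdealOf ⟨ξ, hξV⟩ := hV.fromSpec.isOpenEmbedding.injective
      ((hmax _ h2 h1).trans (hV.fromSpec_primeIdealOf ⟨ξ, hξV⟩).symm)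
    exact (congrArg PrimeSpectrum.asIdeal h3).ge
  obtain ⟨-, hgr⟩ := residue_props qx p (fun P _ hP =>
    isReduced_localization_tensor f hU hV hVU hxV hred (AlgebraicClosure p.ResidueField) (by
      ext a
      rw [RingHom.mem_ker, IsScalarTower.algebraMap_apply Γ(Y, U) p.ResidueField (AlgebraicClosure p.ResidueField),
        map_eq_zero, Ideal.algebraMap_residueField_eq_zero]
      rw [show p = (hU.primeIdealOf ⟨f.base x', hVU hxV⟩).asIdeal from
        congrArg (fun t => (hU.primeIdealOf t).asIdeal) (Subtype.ext hξy)]) P hP) q hqx hmin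
  haveI := hgr
  haveI : Algebra.IsGeometricallyReduced p.ResidueField q'.ResidueField := by
    let e := RingEquiv.ofBijective θ hθ
    let ψ : q'.ResidueField →+* q.ResidueField := e.symm.toRingHom.comp θ'
    let ψK : q'.ResidueField →ₐ[p.ResidueField] q.ResidueField :=
      { ψ with
        commutes' := fun z => RingHom.congr_fun (Ideal.ResidueField.ringHom_ext
          (f := ψ.comp (algebraMap p.ResidueField q'.ResidueField)) (g := algebraMap p.ResidueField q.ResidueField)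
          (RingHom.ext fun b => by
            show e.symm (θ' (algebraMap p.ResidueField q'.ResidueField (algebraMap Γ(Y, U) p.ResidueField b))) =
              algebraMap p.ResidueField q.ResidueField (algebraMap Γ(Y, U) p.ResidueField b)
            refine e.symm_apply_eq.2 ?_
            show _ = θ _
            rw [← IsScalarTower.algebraMap_apply, ← IsScalarTower.algebraMap_apply,
              IsScalarTower.algebraMap_apply Γ(Y, U) Γ(X, V') q'.ResidueField,
              IsScalarTower.algebraMap_apply Γ(Y, U) Γ(X, V) q.ResidueField, hθa, hθa']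
            exact congrArg (X.residue ξ) ((hgerm V' hV'U hξV' b).trans (hgerm V hVU hξV b).symm))) z }
    exact Algebra.IsGeometricallyReduced.of_injective ψK (RingHom.injective ψ)
  obtain ⟨N, hyN, hN⟩ := exists_open_generic hg hU hV hVU (hξy.symm ▸ hirr) hξV (hξy.symm ▸ hξ) (hξy.symm ▸ hspec) hξc
  obtain ⟨N', hyN', hN'⟩ := exists_open_generic hg hU hV' hV'U (hξy.symm ▸ hirr) hξV' (hξy.symm ▸ hξ) (hξy.symm ▸ hspec)
    (c := 1) (by rw [Scheme.basicOpen_of_isUnit _ isUnit_one]; exact hξV')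
  rw [hξy] at hyN hyN'
  let O : X.Opens := V ⊓ f ⁻¹ᵁ (N ⊓ N' ⊓ g ⁻¹ᵁ V')
  refine ⟨O, ⟨hxV, ⟨hyN, hyN'⟩, hgV'⟩, fun x ⟨hxV₁, ⟨hxN, hxN'⟩, hxg⟩ hsp => ?_⟩
  have hξx : ξ ⤳ x := (hspec x' hx').trans hsp
  obtain ⟨η, hηc, hηz, hξη, hη⟩ := hN _ hxN x hxV₁ rfl hξx
  have hξg : ξ ⤳ g.base (f.base x) :=
    (hspec _ (mem_X0 hg y')).trans ((hsp.map f.continuous).map g.continuous)
  obtain ⟨η', -, hη'z, hξη', hη'⟩ := hN' _ hxN' (g.base (f.base x)) hxg (section_apply hg _) hξg
  have h1 : η' ∈ X0 f g (f.base x) :=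
    mem_X0_of_specializes hη'z (mem_X0 hg _) (hη' _ hxg (section_apply hg _) hξg)
  have h2 : η ∈ X0 f g (f.base x) := mem_X0_of_closure hηz
    (closure_mono (Set.singleton_subset_iff.2 h1) (hη' _ (hcV' hηc) hηz hξη).mem_closure)
  exact mem_X0_of_closure rfl (closure_mono (Set.singleton_subset_iff.2 h2) (hη x hxV₁ rfl hξx).mem_closure)

theorem exists_nhds_closure_subset [IsLocallyNoetherian Y] [LocallyOfFiniteType f] (hg : g ≫ f = 𝟙 Y)
    (hirr : GeomIrred f g) {x' : X} (hx' : x' ∈ X0 f g (f.base x'))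
    (hred : FBase.IsGeomReducedAt (f.fiberToSpecResidueField (f.base x')) (f.asFiber x')) :
    ∃ O : X.Opens, x' ∈ O ∧ ∀ x ∈ O, x' ⤳ x → x ∈ X0 f g (f.base x) :=
  exists_nhds_closure_subset_at hg (hirr _) hx' hred

end Groth.Agent.GeomUnib.SectionComp
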