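import Groth.Agent.GeomUnib.SectionSemi
import Groth.Agent.GeomUnib.SectionSpread

/-!
# Openness of the union of the components of a section
-/

set_option autoImplicit false
set_option linter.style.haveILetI false
set_option linter.unusedSectionVars false
set_option backward.isDefEq.respectTransparency false

universe u

open CategoryTheory CategoryTheory.Limits AlgebraicGeometry TopologicalSpace

namespace Groth.Agent.GeomUnib.SectionComp

/-- A set stable under generisation which is a neighbourhood of each of its points inside the closure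
of that point is open, in a Noetherian sober space. -/
theorem isOpen_of_noetherian {α : Type u} [TopologicalSpace α] [NoetherianSpace α] [QuasiSober α] {S : Set α}
    (hgen : ∀ x y : α, y ⤳ x → x ∈ S → y ∈ S)
    (hloc : ∀ x ∈ S, ∃ O : Set α, IsOpen O ∧ x ∈ O ∧ O ∩ closure {x} ⊆ S) : IsOpen S := by
  rw [← isClosed_compl_iff]
  suffices h : ∀ T : Closeds α, IsClosed ((T : Set α) \ S) by
    have h' := h ⊤
    rwa [Closeds.coe_top, ← Set.compl_eq_univ_diff] at h'
  intro T
  refine WellFoundedLT.induction (motive := fun T : Closeds α => IsClosed ((T : Set α) \ S)) T fun T ih => ?_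
  by_cases hirr : IsIrreducible (T : Set α)
  · obtain ⟨ξ, hξ⟩ := QuasiSober.sober hirr T.isClosed
    by_cases hξS : ξ ∈ S
    · obtain ⟨O, hO, hξO, hOS⟩ := hloc ξ hξS
      let T' : Closeds α := ⟨(T : Set α) ∩ Oᶜ, T.isClosed.inter hO.isClosed_compl⟩
      have hlt : T' < T := by
        refine lt_of_le_of_ne (fun a ha => ha.1) fun e => ?_
        have h1 : ξ ∈ (T' : Set α) := e ▸ hξ.mem
        exact h1.2 hξO
      have he : (T : Set α) \ S = (T' : Set α) \ S := by
        ext a
        exact ⟨fun ⟨ha, haS⟩ => ⟨⟨ha, fun haO => haS (hOS ⟨haO, hξ.def.symm ▸ ha⟩)⟩, haS⟩,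
          fun ⟨ha, haS⟩ => ⟨ha.1, haS⟩⟩
      rw [he]
      exact ih T' hlt
    · have he : (T : Set α) \ S = T := by
        ext a
        exact ⟨fun h => h.1, fun ha => ⟨ha, fun haS => hξS (hgen a ξ (hξ.specializes ha) haS)⟩⟩
      rw [he]
      exact T.isClosed
  · rcases (T : Set α).eq_empty_or_nonempty with h0 | hne
    · rw [h0, Set.empty_sdiff]; exact isClosed_empty
    · have hnp : ¬ IsPreirreducible (T : Set α) := fun h => hirr ⟨hne, h⟩
      rw [isPreirreducible_iff_isClosed_union_isClosed] at hnp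
      push Not at hnp
      obtain ⟨C₁, C₂, hC₁, hC₂, hsub, h1, h2⟩ := hnp
      let T₁ : Closeds α := ⟨(T : Set α) ∩ C₁, T.isClosed.inter hC₁⟩
      let T₂ : Closeds α := ⟨(T : Set α) ∩ C₂, T.isClosed.inter hC₂⟩
      have he : (T : Set α) \ S = ((T₁ : Set α) \ S) ∪ ((T₂ : Set α) \ S) := by
        ext a
        exact ⟨fun ⟨ha, haS⟩ => (hsub ha).imp (fun h => ⟨⟨ha, h⟩, haS⟩) fun h => ⟨⟨ha, h⟩, haS⟩,
          fun h => h.elim (fun h => ⟨h.1.1, h.2⟩) fun h => ⟨h.1.1, h.2⟩⟩
      rw [he]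
      refine (ih T₁ ?_).union (ih T₂ ?_)
      · exact lt_of_le_of_ne (fun a ha => ha.1) fun e => h1 fun a ha =>
          (show a ∈ (T₁ : Set α) from e.symm ▸ ha).2
      · exact lt_of_le_of_ne (fun a ha => ha.1) fun e => h2 fun a ha =>
          (show a ∈ (T₂ : Set α) from e.symm ▸ ha).2

/-- The same criterion on a locally Noetherian scheme. -/
theorem isOpen_of_locallyNoetherian {X : Scheme.{u}} [IsLocallyNoetherian X] {S : Set X}
    (hgen : ∀ x y : X, y ⤳ x → x ∈ S → y ∈ S)
    (hloc : ∀ x ∈ S, ∃ O : X.Opens, x ∈ O ∧ ∀ z ∈ O, x ⤳ z → z ∈ S) : IsOpen S := by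
  refine isOpen_iff_forall_mem_open.2 fun x hx => ?_
  obtain ⟨U, hU, hxU, -⟩ := exists_isAffineOpen_mem_and_subset (U := (⊤ : X.Opens)) (x := x) trivial
  haveI : IsNoetherianRing Γ(X, U) := IsLocallyNoetherian.component_noetherian (X := X) ⟨U, hU⟩
  let S' : Set (PrimeSpectrum Γ(X, U)) := hU.fromSpec ⁻¹' S
  have h : IsOpen S' := by
    refine isOpen_of_noetherian (fun a b hba ha => hgen _ _ (hba.map hU.fromSpec.continuous) ha) fun a ha => ?_
    obtain ⟨O, haO, hO⟩ := hloc _ ha
    exact ⟨hU.fromSpec ⁻¹' (O : Set X), O.isOpen.preimage hU.fromSpec.continuous, haO, fun b hb =>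
      hO _ hb.1 ((specializes_iff_mem_closure.2 hb.2 : a ⤳ b).map hU.fromSpec.continuous)⟩
  refine ⟨hU.fromSpec '' S', Set.image_preimage_subset _ _, hU.fromSpec.isOpenEmbedding.isOpenMap _ h, ?_⟩
  exact ⟨hU.primeIdealOf ⟨x, hxU⟩, by
    show hU.fromSpec (hU.primeIdealOf ⟨x, hxU⟩) ∈ S
    rw [hU.fromSpec_primeIdealOf]; exact hx, hU.fromSpec_primeIdealOf _⟩

variable {X Y : Scheme.{u}} {f : X ⟶ Y} {g : Y ⟶ X} [LocallyOfFiniteType f] [IsLocallyNoetherian Y]

/-- Generisations of geometrically reduced points of the components stay on the components when the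
dimension is constant along them. -/
theorem mem_X0_of_gen_at (hg : g ≫ f = 𝟙 Y) {x z : X} (hirrx : GeomIrredAt f g (f.base x))
    (hirrz : GeomIrredAt f g (f.base z)) (hzx : z ⤳ x)
    (hx : x ∈ X0 f g (f.base x)) (hd : d0 f g (f.base z) = d0 f g (f.base x))
    (hred : FBase.IsGeomReducedAt (f.fiberToSpecResidueField (f.base x)) (f.asFiber x)) :
    z ∈ X0 f g (f.base z) := by
  rcases eq_or_ne z x with rfl | hne
  · exact hx
  haveI : IsLocallyNoetherian X := LocallyOfFiniteType.isLocallyNoetherian f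
  obtain ⟨A, _, _, _, v, hvc, hvg⟩ := exists_dvr_pt hzx hne
  let s : Spec (CommRingCat.of A) ⟶ pullback f (v ≫ f) := pullback.lift v (𝟙 _) (by rw [Category.id_comp])
  have hs1 : ∀ b, (pullback.fst f (v ≫ f)).base (s.base b) = v.base b := fun b => by
    rw [← Scheme.Hom.comp_apply, pullback.lift_fst]
  have hs2 : ∀ b, (pullback.snd f (v ≫ f)).base (s.base b) = b := fun b => by
    rw [← Scheme.Hom.comp_apply, pullback.lift_snd]; rfl
  have hkey : Key f g (v ≫ f) := key_of_d0_eq_at hg (v ≫ f) (by rw [Scheme.Hom.comp_apply, hvc]; exact hirrx)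
    (by rw [Scheme.Hom.comp_apply, hvg]; exact hirrz) (by
    rw [Scheme.Hom.comp_apply, Scheme.Hom.comp_apply, hvg, hvc]; exact hd)
  subst hvc hvg
  have h := mem_X0_gen_of_key hg (v ≫ f) hkey (p := s.base (IsLocalRing.closedPoint A)) (hs2 _)
    (by rw [hs1, Scheme.Hom.comp_apply]; exact hx) ((hs1 (IsLocalRing.closedPoint A)).symm ▸ hred)
    (z := s.base (genPt A)) ((genPt_specializes _).map s.continuous) (hs2 _)
  rwa [hs1, Scheme.Hom.comp_apply] at h

theorem mem_X0_of_gen (hg : g ≫ f = 𝟙 Y) (hirr : GeomIrred f g) {x z : X} (hzx : z ⤳ x)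
    (hx : x ∈ X0 f g (f.base x)) (hd : d0 f g (f.base z) = d0 f g (f.base x))
    (hred : FBase.IsGeomReducedAt (f.fiberToSpecResidueField (f.base x)) (f.asFiber x)) :
    z ∈ X0 f g (f.base z) :=
  mem_X0_of_gen_at hg (hirr _) (hirr _) hzx hx hd hred

end Groth.Agent.GeomUnib.SectionComp
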