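import Groth.Agent.GeomUnib.GeomRedSpread
import Groth.Agent.GeomUnib.SectionOpen
import Groth.Agent.FppfSource.Algebra

/-!
# Geometric reducedness of fibres of flat algebras of finite presentation

`GRAt` is invariant under base change, so flat algebras of finite presentation reduce to a finitely
generated base.
-/

set_option autoImplicit false
set_option linter.unusedSectionVars false
set_option linter.style.haveILetI false
set_option maxHeartbeats 1000000
set_option synthInstance.maxHeartbeats 200000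

universe u

namespace Groth.Agent.GeomUnib

open IsLocalRing TensorProduct UnivOpenAt

section baseChange

variable {A₀ A C₀ : Type u} [CommRing A₀] [CommRing A] [CommRing C₀] [Algebra A₀ A] [Algebra A₀ C₀]

/-- Geometric reducedness of fibres is invariant under base change. -/
theorem grAt_tensor_iff (q : Ideal (A ⊗[A₀] C₀)) [q.IsPrime] :
    GRAt A (A ⊗[A₀] C₀) q ↔ GRAt A₀ C₀ (q.comap (inr A₀ C₀ A)) := by
  classical
  let q₀ := q.comap (inr A₀ C₀ A)
  have hcompat : ∀ r : A₀, inr A₀ C₀ A (algebraMap A₀ C₀ r) = algebraMap A (A ⊗[A₀] C₀) (algebraMap A₀ A r) := by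
    intro r
    simp [inr, Algebra.TensorProduct.algebraMap_apply, ← Algebra.TensorProduct.algebraMap_apply']
  have hp : q₀.comap (algebraMap A₀ C₀) = (q.comap (algebraMap A (A ⊗[A₀] C₀))).comap (algebraMap A₀ A) := by
    ext r
    simp only [q₀, Ideal.mem_comap, hcompat]
  constructor
  · intro h K₀ _ _ hK P₀ hP₀ hP₀q w hw
    let κ₀ := q₀.ResidueField
    letI : Algebra κ₀ P₀.ResidueField := (Ideal.ResidueField.map q₀ P₀ (inr A₀ C₀ K₀) hP₀q.symm).toAlgebra
    letI : Algebra κ₀ q.ResidueField := (Ideal.ResidueField.map q₀ q (inr A₀ C₀ A) rfl).toAlgebra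
    obtain ⟨L, _, ⟨π⟩⟩ : ∃ (L : Type u) (_ : Field L), Nonempty (P₀.ResidueField ⊗[κ₀] q.ResidueField →+* L) := by
      haveI : Nontrivial (P₀.ResidueField ⊗[κ₀] q.ResidueField) :=
        (Algebra.TensorProduct.includeLeft_injective (R := κ₀) (S := κ₀) (B := q.ResidueField)
          (A := P₀.ResidueField) (algebraMap κ₀ q.ResidueField).injective).nontrivial
      obtain ⟨M, hM⟩ := Ideal.exists_maximal (P₀.ResidueField ⊗[κ₀] q.ResidueField)
      exact ⟨_, Ideal.Quotient.field M, ⟨Ideal.Quotient.mk M⟩⟩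
    let a : K₀ ⊗[A₀] C₀ →+* L := (π.comp
      (Algebra.TensorProduct.includeLeftRingHom)).comp (algebraMap (K₀ ⊗[A₀] C₀) P₀.ResidueField)
    let b : A ⊗[A₀] C₀ →+* L := (π.comp
      (Algebra.TensorProduct.includeRight (R := κ₀) (A := P₀.ResidueField)).toRingHom).comp
        (algebraMap (A ⊗[A₀] C₀) q.ResidueField)
    have hab : ∀ c, a (inr A₀ C₀ K₀ c) = b (inr A₀ C₀ A c) := by
      intro c
      show π (algebraMap (K₀ ⊗[A₀] C₀) P₀.ResidueField (inr A₀ C₀ K₀ c) ⊗ₜ 1) =
        π ((1 : P₀.ResidueField) ⊗ₜ algebraMap _ q.ResidueField (inr A₀ C₀ A c))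
      rw [← Ideal.ResidueField.map_algebraMap q₀ P₀ (inr A₀ C₀ K₀) hP₀q.symm c,
        ← Ideal.ResidueField.map_algebraMap q₀ q (inr A₀ C₀ A) rfl c]
      change π (algebraMap κ₀ P₀.ResidueField _ ⊗ₜ 1) =
        π (1 ⊗ₜ algebraMap κ₀ q.ResidueField _)
      exact congrArg π (Algebra.TensorProduct.tmul_one_eq_one_tmul _)
    have hkera : RingHom.ker a = P₀ := by
      ext x
      show π (algebraMap _ P₀.ResidueField x ⊗ₜ 1) = 0 ↔ _
      exact (((π.comp (Algebra.TensorProduct.includeLeftRingHom :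
        P₀.ResidueField →+* P₀.ResidueField ⊗[κ₀] q.ResidueField)).injective).eq_iff'
          (map_zero _)).trans Ideal.algebraMap_residueField_eq_zero
    have hkerb : RingHom.ker b = q := by
      ext x
      show π ((1 : P₀.ResidueField) ⊗ₜ algebraMap _ q.ResidueField x) = 0 ↔ _
      exact (((π.comp (Algebra.TensorProduct.includeRight :
        q.ResidueField →ₐ[κ₀] P₀.ResidueField ⊗[κ₀] q.ResidueField).toRingHom).injective).eq_iff'
          (map_zero _)).trans Ideal.algebraMap_residueField_eq_zero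
    letI : Algebra A L := (b.comp (algebraMap A (A ⊗[A₀] C₀))).toAlgebra
    letI : Algebra A₀ L := (b.comp ((algebraMap A (A ⊗[A₀] C₀)).comp (algebraMap A₀ A))).toAlgebra
    haveI : IsScalarTower A₀ A L := .of_algebraMap_eq fun r => rfl
    letI : Algebra K₀ L := (a.comp (algebraMap K₀ (K₀ ⊗[A₀] C₀))).toAlgebra
    haveI : IsScalarTower A₀ K₀ L := .of_algebraMap_eq fun r => by
      show b (algebraMap A (A ⊗[A₀] C₀) (algebraMap A₀ A r)) = a (algebraMap K₀ (K₀ ⊗[A₀] C₀) (algebraMap A₀ K₀ r))
      rw [← hcompat, ← hab]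
      congr 1
      simp [inr, Algebra.TensorProduct.algebraMap_apply, ← Algebra.TensorProduct.algebraMap_apply']
    let bA : A ⊗[A₀] C₀ →ₐ[A] L := { b with commutes' := fun r => rfl }
    let ev : L ⊗[A] (A ⊗[A₀] C₀) →ₐ[A] L :=
      Algebra.TensorProduct.lift (AlgHom.id A L) bA fun _ _ => Commute.all _ _
    let e := Algebra.TensorProduct.cancelBaseChange A₀ A L L C₀
    let P := RingHom.ker ev.toRingHom
    haveI : P.IsPrime := RingHom.ker_isPrime _
    have hPq : P.comap (inr A (A ⊗[A₀] C₀) L) = q := by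
      rw [← hkerb]
      ext x
      show ev (1 ⊗ₜ x) = 0 ↔ b x = 0
      simp [ev, bA]
    have hkL : RingHom.ker (algebraMap A L) = q.comap (algebraMap A (A ⊗[A₀] C₀)) := by
      rw [← hkerb, RingHom.comap_ker]
      rfl
    let μ := Algebra.TensorProduct.map (IsScalarTower.toAlgHom A₀ K₀ L) (AlgHom.id A₀ C₀)
    obtain ⟨t, ht, htw⟩ := h L hkL P inferInstance hPq (e.symm (μ w)) ((hw.map μ).map e.symm)
    have ht' : e t ∉ P.comap (e.symm : L ⊗[A₀] C₀ ≃ₐ[L] _).toRingEquiv.toRingHom := by
      show e.symm (e t) ∉ P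
      rwa [AlgEquiv.symm_apply_apply]
    have htw' : e t * μ w = 0 := by
      have := congrArg e htw
      rwa [map_mul, AlgEquiv.apply_symm_apply, map_zero] at this
    obtain ⟨t₁, ht₁, ht₁w⟩ := (exists_notMem_comap_mul_eq_zero K₀ L).2 _ _ _ ht' htw'
    refine ⟨t₁, fun h' => ht₁ ?_, ht₁w⟩
    show ev (e.symm (μ t₁)) = 0
    have hev : ∀ z, ev (e.symm (μ z)) = a z := by
      intro z
      induction z using TensorProduct.induction_on with
      | zero => simp
      | add x y hx hy => rw [map_add μ, map_add e.symm, map_add ev, map_add a, hx, hy]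
      | tmul k c =>
        have hk : (k ⊗ₜ[A₀] c : K₀ ⊗[A₀] C₀) = algebraMap K₀ (K₀ ⊗[A₀] C₀) k * inr A₀ C₀ K₀ c := by
          simp [inr, Algebra.TensorProduct.algebraMap_apply]
        rw [hk, map_mul a, hab]
        simp [μ, e, ev, bA, inr, Algebra.TensorProduct.algebraMap_apply]
        exact Or.inl rfl
    rw [hev]
    exact hkera.ge h'
  · intro h K _ _ hK P hP hPq w hw
    letI : Algebra A₀ K := ((algebraMap A K).comp (algebraMap A₀ A)).toAlgebra
    haveI : IsScalarTower A₀ A K := .of_algebraMap_eq fun r => rfl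
    let e := Algebra.TensorProduct.cancelBaseChange A₀ A K K C₀
    have hk : RingHom.ker (algebraMap A₀ K) = q₀.comap (algebraMap A₀ C₀) := by
      rw [hp, ← hK, RingHom.comap_ker]
      rfl
    obtain ⟨t, ht, htw⟩ := h K hk (P.comap e.symm.toRingEquiv.toRingHom) inferInstance (by
      ext c
      rw [Ideal.mem_comap, Ideal.mem_comap, Ideal.mem_comap, ← hPq, Ideal.mem_comap]
      show e.symm ((1 : K) ⊗ₜ c) ∈ P ↔ (1 : K) ⊗ₜ ((1 : A) ⊗ₜ c) ∈ P
      simp [e]) (e w) (hw.map e)
    refine ⟨e.symm t, ht, ?_⟩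
    have := congrArg e.symm htw
    rwa [map_mul, AlgEquiv.symm_apply_apply, map_zero] at this

end baseChange

/-- Geometric reducedness of fibres is invariant under isomorphisms of algebras. -/
theorem grAt_algEquiv {A C C' : Type u} [CommRing A] [CommRing C] [CommRing C'] [Algebra A C] [Algebra A C']
    (e : C' ≃ₐ[A] C) (q : Ideal C) : GRAt A C q ↔ GRAt A C' (q.comap e.toRingEquiv.toRingHom) := by
  suffices key : ∀ {D D' : Type u} [CommRing D] [CommRing D'] [Algebra A D] [Algebra A D'] (e : D' ≃ₐ[A] D)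
      (q : Ideal D), GRAt A D q → GRAt A D' (q.comap e.toRingEquiv.toRingHom) by
    refine ⟨key e q, fun h => ?_⟩
    have := key e.symm _ h
    rwa [show (q.comap e.toRingEquiv.toRingHom).comap e.symm.toRingEquiv.toRingHom = q by
      ext; simp] at this
  intro D D' _ _ _ _ e q h K _ _ hK P hP hPq w hw
  let E : K ⊗[A] D' ≃ₐ[A] K ⊗[A] D := Algebra.TensorProduct.congr AlgEquiv.refl e
  have hk : RingHom.ker (algebraMap A K) = q.comap (algebraMap A D) := by
    rw [hK]; ext r; simp
  obtain ⟨t, ht, htw⟩ := h K hk (P.comap E.symm.toRingEquiv.toRingHom) inferInstance (by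
    ext d
    rw [Ideal.mem_comap, Ideal.mem_comap]
    have h1 : E.symm ((1 : K) ⊗ₜ d) ∈ P ↔ e.symm d ∈ q.comap e.toRingEquiv.toRingHom := by
      rw [← hPq, Ideal.mem_comap]
      simp [E, inr]
    simpa using h1) (E w) (hw.map E)
  refine ⟨E.symm t, ht, ?_⟩
  have := congrArg E.symm htw
  rwa [map_mul, AlgEquiv.symm_apply_apply, map_zero] at this

/-- Torsion vanishes for flat algebras. -/
theorem torAt_of_flatAlg {A C : Type u} [CommRing A] [CommRing C] [Algebra A C] [Module.Flat A C]
    (p : Ideal C) (W : Type u) [CommRing W] [IsDomain W] [Algebra A W] : TorAt (A := A) p W := by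
  intro s u hs hsu P _ _
  have hinj : Function.Injective (LinearMap.rTensor C (LinearMap.mulLeft A s)) :=
    Module.Flat.rTensor_preserves_injective_linearMap _ (mul_right_injective₀ hs)
  have key : ∀ z : W ⊗[A] C, LinearMap.rTensor C (LinearMap.mulLeft A s) z = (s ⊗ₜ[A] (1 : C)) * z := by
    intro z
    induction z using TensorProduct.induction_on with
    | zero => simp
    | add x y hx hy => rw [map_add, mul_add, hx, hy]
    | tmul w c => simp
  rw [show u = 0 from hinj (by rw [key, hsu, map_zero])]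
  exact P.zero_mem

open AlgebraicGeometry in
/-- For a flat algebra of finite type over a Noetherian ring the geometrically reduced locus is open. -/
theorem isOpen_grAt_of_noetherian {A C : Type u} [CommRing A] [IsNoetherianRing A] [CommRing C] [Algebra A C]
    [Algebra.FiniteType A C] [Module.Flat A C] :
    IsOpen {q : PrimeSpectrum C | GRAt A C q.asIdeal} := by
  haveI : IsNoetherianRing C := Algebra.FiniteType.isNoetherianRing A C
  refine SectionComp.isOpen_of_locallyNoetherian (X := Spec (CommRingCat.of C))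
    (S := {q : PrimeSpectrum C | GRAt A C q.asIdeal}) (fun x y h hx => ?_) fun x hx => ?_
  · exact grAt_of_le hx (fun q₀ _ _ _ _ W _ _ _ => torAt_of_flatAlg q₀ W) ((PrimeSpectrum.le_iff_specializes y x).2 h)
  · obtain ⟨c, hc, h⟩ := exists_notMem_grAt x.asIdeal hx
    exact ⟨PrimeSpectrum.basicOpen c, hc, fun z hz hxz =>
      h z.asIdeal z.2 ((PrimeSpectrum.le_iff_specializes x z).2 hxz) hz⟩

/-- A flat algebra of finite presentation comes from a finitely generated subring of the base,
compatibly with geometric reducedness of fibres. -/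
theorem exists_grAt_model (A C : Type u) [CommRing A] [CommRing C] [Algebra A C]
    [Algebra.FinitePresentation A C] [Module.Flat A C] :
    ∃ (A₀ : Subalgebra ℤ A) (C₀ : Type u) (_ : CommRing C₀) (_ : Algebra A₀ C₀) (φ : C₀ →+* C),
      A₀.FG ∧ Module.Flat A₀ C₀ ∧ Algebra.FiniteType A₀ C₀ ∧
      φ.comp (algebraMap A₀ C₀) = (algebraMap A C).comp A₀.val.toRingHom ∧
      ∀ q : Ideal C, q.IsPrime → (GRAt A C q ↔ GRAt A₀ C₀ (q.comap φ)) := by
  obtain ⟨A₀, C₀, _, _, hfg, hflat, hfp, ⟨e⟩⟩ := FppfSource.exists_subalgebra_fg_flat_int A C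
  refine ⟨A₀, C₀, inferInstance, inferInstance,
    e.symm.toRingEquiv.toRingHom.comp (inr A₀ C₀ A), hfg, hflat, inferInstance, ?_, fun q hq => ?_⟩
  · ext r
    show e.symm ((1 : A) ⊗ₜ algebraMap A₀ C₀ r) = algebraMap A C r
    rw [← e.symm.commutes]
    simp [Algebra.TensorProduct.algebraMap_apply, ← Algebra.TensorProduct.algebraMap_apply']
  · refine (grAt_algEquiv e.symm q).trans ?_
    exact grAt_tensor_iff _

end Groth.Agent.GeomUnib
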