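import Groth.Agent.GeomUnib.SectionDvr

/-!
# Dimension of the components of a section along discrete valuation rings
-/

set_option autoImplicit false
set_option linter.style.haveILetI false
set_option linter.unusedSectionVars false
set_option backward.isDefEq.respectTransparency false

universe u

open CategoryTheory CategoryTheory.Limits AlgebraicGeometry

namespace Groth.Agent.GeomUnib.SectionComp

open FibreDim

variable {X Y : Scheme.{u}} {f : X ⟶ Y} {g : Y ⟶ X}

/-- The fibres of a base change are reduced where the fibres are geometrically reduced. -/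
theorem isReduced_fiber_of_geomReduced {Z : Scheme.{u}} (g₀ : Z ⟶ Y) (p : ↥(pullback f g₀)) {y : Y}
    (hy : y = g₀.base ((pullback.snd f g₀).base p)) (a : ↥(f.fiber y))
    (ha : (f.fiberι y).base a = (pullback.fst f g₀).base p)
    (hred : FBase.IsGeomReducedAt (f.fiberToSpecResidueField y) a) :
    _root_.IsReduced (((pullback.snd f g₀).fiber ((pullback.snd f g₀).base p)).presheaf.stalk
      ((pullback.snd f g₀).asFiber p)) := by
  subst hy
  let z := (pullback.snd f g₀).base p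
  letI : Algebra (IsLocalRing.ResidueField (Y.presheaf.stalk (g₀.base z))) (Z.residueField z) :=
    (g₀.residueFieldMap z).hom.toAlgebra
  have hsq : Spec.map (g₀.residueFieldMap z) ≫ Y.fromSpecResidueField (g₀.base z) =
      Z.fromSpecResidueField z ≫ g₀ := Scheme.Hom.SpecMap_residueFieldMap_fromSpecResidueField _ _
  let Ψ := pullbackLeftPullbackSndIso f g₀ (Z.fromSpecResidueField z) ≪≫ pullback.congrHom rfl hsq.symm ≪≫
    (pullbackLeftPullbackSndIso f (Y.fromSpecResidueField (g₀.base z)) (Spec.map (g₀.residueFieldMap z))).symm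
  have hΨ : Ψ.hom ≫ FBase.bcπ (f.fiberToSpecResidueField (g₀.base z)) (Z.residueField z) ≫ f.fiberι (g₀.base z) =
      (pullback.snd f g₀).fiberι z ≫ pullback.fst f g₀ := by
    show Ψ.hom ≫ pullback.fst (pullback.snd f (Y.fromSpecResidueField (g₀.base z)))
      (Spec.map (g₀.residueFieldMap z)) ≫ pullback.fst f (Y.fromSpecResidueField (g₀.base z)) =
        pullback.fst (pullback.snd f g₀) (Z.fromSpecResidueField z) ≫ pullback.fst f g₀
    simp [Ψ]
  have h1 : (FBase.bcπ (f.fiberToSpecResidueField (g₀.base z)) (Z.residueField z)).base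
      (Ψ.hom.base ((pullback.snd f g₀).asFiber p)) = a := by
    refine (f.fiberι (g₀.base z)).isEmbedding.injective ?_
    refine (congr($hΨ ((pullback.snd f g₀).asFiber p)) : _).trans ?_
    rw [Scheme.Hom.comp_apply, Scheme.Hom.fiberι_asFiber]
    exact ha.symm
  haveI : _root_.IsReduced ((pullback (pullback.snd f (Y.fromSpecResidueField (g₀.base z)))
      (Spec.map (g₀.residueFieldMap z))).presheaf.stalk (Ψ.hom.base ((pullback.snd f g₀).asFiber p))) :=
    hred (Z.residueField z) _ h1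
  exact isReduced_of_injective
    (asIso (Ψ.hom.stalkMap ((pullback.snd f g₀).asFiber p))).commRingCatIsoToRingEquiv.symm
    (asIso (Ψ.hom.stalkMap ((pullback.snd f g₀).asFiber p))).commRingCatIsoToRingEquiv.symm.injective

variable {A : Type u} [CommRing A] [IsDomain A] [IsDiscreteValuationRing A]

variable (f g) in
/-- The generic point of the component over the generic point specialises to that over the closed
point. -/
def Key (g₀ : Spec (CommRingCat.of A) ⟶ Y) : Prop :=
  ∃ γ₀ γ₁ : ↥(pullback f g₀), γ₁ ⤳ γ₀ ∧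
    (pullback.snd f g₀).base γ₀ = IsLocalRing.closedPoint A ∧ (pullback.snd f g₀).base γ₁ = genPt A ∧
    (pullback.fst f g₀).base γ₀ ∈ X0 f g (g₀.base (IsLocalRing.closedPoint A)) ∧
    (pullback.fst f g₀).base γ₁ ∈ X0 f g (g₀.base (genPt A)) ∧
    (∀ w, (pullback.snd f g₀).base w = IsLocalRing.closedPoint A →
      (pullback.fst f g₀).base w ∈ X0 f g (g₀.base (IsLocalRing.closedPoint A)) → γ₀ ⤳ w) ∧
    (∀ b, (pullback.snd f g₀).base b = genPt A → b ⤳ γ₁ → b = γ₁)

variable [LocallyOfFiniteType f]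

section

variable (hg : g ≫ f = 𝟙 Y) (hirr : GeomIrred f g) (g₀ : Spec (CommRingCat.of A) ⟶ Y)

include hg

lemma exists_section_pt (a : Spec (CommRingCat.of A)) :
    ∃ s : Spec (CommRingCat.of A) ⟶ pullback f g₀, (pullback.snd f g₀).base (s.base a) = a ∧
      (pullback.fst f g₀).base (s.base a) = g.base (g₀.base a) ∧
      (∀ b, (pullback.snd f g₀).base (s.base b) = b) ∧
      ∀ b, (pullback.fst f g₀).base (s.base b) = g.base (g₀.base b) := by
  let σ : Spec (CommRingCat.of A) ⟶ pullback f g₀ := pullback.lift (g₀ ≫ g) (𝟙 _)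
    (by rw [Category.assoc, hg, Category.comp_id, Category.id_comp])
  have h1 : ∀ b, (pullback.snd f g₀).base (σ.base b) = b := fun b => by
    rw [← Scheme.Hom.comp_apply, pullback.lift_snd]; rfl
  have h2 : ∀ b, (pullback.fst f g₀).base (σ.base b) = g.base (g₀.base b) := fun b => by
    rw [← Scheme.Hom.comp_apply, pullback.lift_fst]; rfl
  exact ⟨σ, h1 a, h2 a, h1, h2⟩

include hirr

/-- Openness at the generic point and geometric reducedness at the section give the specialisation. -/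
theorem key_of_geomReduced
    (hopen : ∀ ξ ∈ X0 f g (g₀.base (IsLocalRing.closedPoint A)),
      X0 f g (g₀.base (IsLocalRing.closedPoint A)) ⊆ closure {ξ} → EGA43.IsUnivOpenAt f ξ)
    (hred : FBase.IsGeomReducedAt (f.fiberToSpecResidueField (f.base (g.base (g₀.base (IsLocalRing.closedPoint A)))))
      (f.asFiber (g.base (g₀.base (IsLocalRing.closedPoint A))))) : Key f g g₀ := by
  let q := pullback.snd f g₀
  obtain ⟨γ₀, hγ₀s, hγ₀X, hγ₀gen, hγ₀, -, -⟩ := exists_generic_bc hg hirr g₀ (IsLocalRing.closedPoint A)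
  obtain ⟨γ₁, hγ₁s, hγ₁X, -, hγ₁, hγ₁max, -⟩ := exists_generic_bc hg hirr g₀ (genPt A)
  obtain ⟨σ, hs0, hs0f, hσs, hσf⟩ := exists_section_pt hg g₀ (IsLocalRing.closedPoint A)
  let s := σ.base (IsLocalRing.closedPoint A)
  have hγ₀s' : γ₀ ⤳ s := hγ₀ s hs0 (hs0f ▸ mem_X0 hg _)
  have hs1 : σ.base (genPt A) ⤳ s := (genPt_specializes _).map σ.continuous
  obtain ⟨M, hMs, hM⟩ := exists_gen_all q hs0
    (isReduced_fiber_of_geomReduced g₀ s
      ((congrArg f.base hs0f.symm).trans
        (by rw [← Scheme.Hom.comp_apply, pullback.condition, Scheme.Hom.comp_apply]))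
      (f.asFiber (g.base (g₀.base (IsLocalRing.closedPoint A))))
      ((f.fiberι_asFiber _).trans hs0f.symm) hred)
    hγ₀s hγ₀s'
    (fun z hz hzc => hγ₀ z hzc (mem_X0_of_specializes (by
      rw [← Scheme.Hom.comp_apply, pullback.condition, Scheme.Hom.comp_apply]
      exact congrArg g₀.base hzc) (hs0f ▸ mem_X0 hg _) (hz.map (pullback.fst f g₀).continuous)))
    (hopen _ hγ₀X (fun x hx => (hγ₀gen x hx).mem_closure) _ g₀ γ₀ rfl)
  have hMgen : q.base M = genPt A :=
    eq_genPt_of_specializes ((hσs (genPt A)) ▸ ((hM _ hs1).map q.continuous))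
  have hMX : (pullback.fst f g₀).base M ∈ X0 f g (g₀.base (genPt A)) :=
    mem_X0_of_specializes (by
      rw [← Scheme.Hom.comp_apply, pullback.condition, Scheme.Hom.comp_apply]
      exact congrArg g₀.base hMgen) (mem_X0 hg _) (hσf (genPt A) ▸ (hM _ hs1).map (pullback.fst f g₀).continuous)
  have hγ₁s1 : γ₁ ⤳ σ.base (genPt A) := hγ₁ _ (hσs _) (by rw [hσf]; exact mem_X0 hg _)
  have hMeq : M = γ₁ := hγ₁max M (hMgen.trans hγ₁s.symm) (hM _ (hγ₁s1.trans hs1))
  exact ⟨γ₀, γ₁, hMeq ▸ hM γ₀ hγ₀s', hγ₀s, hγ₁s, hγ₀X, hγ₁X, hγ₀, fun b hb => hγ₁max b (hb.trans hγ₁s.symm)⟩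

omit hirr in
/-- Equal dimensions give the specialisation. -/
theorem key_of_d0_eq_at (hirr₀ : GeomIrredAt f g (g₀.base (IsLocalRing.closedPoint A)))
    (hirr₁ : GeomIrredAt f g (g₀.base (genPt A))) (hd : d0 f g (g₀.base (genPt A)) = d0 f g (g₀.base (IsLocalRing.closedPoint A))) :
    Key f g g₀ := by
  obtain ⟨γ₀, hγ₀s, hγ₀X, -, hγ₀, -, hd₀⟩ := exists_generic_bc_at hg g₀ hirr₀
  obtain ⟨γ₁, hγ₁s, hγ₁X, -, hγ₁, hγ₁max, hd₁⟩ := exists_generic_bc_at hg g₀ hirr₁
  obtain ⟨σ, hs0, hs0f, hσs, hσf⟩ := exists_section_pt hg g₀ (IsLocalRing.closedPoint A)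
  let s := σ.base (IsLocalRing.closedPoint A)
  have hs1 : σ.base (genPt A) ⤳ s := (genPt_specializes _).map σ.continuous
  have hγ₁s1 : γ₁ ⤳ σ.base (genPt A) := hγ₁ _ (hσs _) (by rw [hσf]; exact mem_X0 hg _)
  obtain ⟨w, hzw, hws, hwc, hwd⟩ := exists_between (pullback.snd f g₀) (hγ₁s1.trans hs1) hγ₁s hs0
  have hwX : (pullback.fst f g₀).base w ∈ X0 f g (g₀.base (IsLocalRing.closedPoint A)) :=
    mem_X0_of_specializes (by
      rw [← Scheme.Hom.comp_apply, pullback.condition, Scheme.Hom.comp_apply]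
      exact congrArg g₀.base hwc) (mem_X0 hg _) (hs0f ▸ hws.map (pullback.fst f g₀).continuous)
  have h0w : γ₀ ⤳ w := hγ₀ w hwc hwX
  rcases eq_or_ne w γ₀ with he | hne
  · exact ⟨γ₀, γ₁, he ▸ hzw, hγ₀s, hγ₁s, hγ₀X, hγ₁X, hγ₀, fun b hb => hγ₁max b (hb.trans hγ₁s.symm)⟩
  · exfalso
    obtain ⟨a, ha, -⟩ := exists_fdim (pullback.snd f g₀) w
    obtain ⟨b, hb, -⟩ := exists_fdim (pullback.snd f g₀) γ₀
    have h1 := fdim_add_one_le (pullback.snd f g₀) h0w (hγ₀s.trans hwc.symm) hne ha hb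
    have h2 : (a : WithBot ℕ∞) = b := by rw [← ha, ← hb, hwd, hd₁, hd₀, hd]
    have h3 : a = b := by exact_mod_cast h2
    omega

theorem key_of_d0_eq (hd : d0 f g (g₀.base (genPt A)) = d0 f g (g₀.base (IsLocalRing.closedPoint A))) :
    Key f g g₀ :=
  key_of_d0_eq_at hg g₀ (hirr _) (hirr _) hd

/-- The specialisation bounds the dimension. -/
theorem d0_le_of_key (h : Key f g g₀) :
    d0 f g (g₀.base (IsLocalRing.closedPoint A)) ≤ d0 f g (g₀.base (genPt A)) := by
  obtain ⟨γ₀, γ₁, hsp, h0, h1, hX0, hX1, hgen0, hmax1⟩ := h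
  obtain ⟨δ₀, hδ₀s, hδ₀X, -, hδ₀, hδ₀max, hd₀⟩ := exists_generic_bc hg hirr g₀ (IsLocalRing.closedPoint A)
  obtain ⟨δ₁, hδ₁s, hδ₁X, -, hδ₁, -, hd₁⟩ := exists_generic_bc hg hirr g₀ (genPt A)
  have e0 : γ₀ = δ₀ := hδ₀max γ₀ (h0.trans hδ₀s.symm) (hgen0 δ₀ hδ₀s hδ₀X)
  have e1 : δ₁ = γ₁ := hmax1 δ₁ hδ₁s (hδ₁ γ₁ h1 hX1)
  rw [← hd₀, ← hd₁, ← e0, e1]
  exact fdim_le_of_valuationRing (pullback.snd f g₀) hsp h0 h1

omit hirr in
/-- With the specialisation the generic component passes through every generisation of a point of the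
closed component at which the fibre is geometrically reduced. -/
theorem mem_X0_gen_of_key (h : Key f g g₀) {p : ↥(pullback f g₀)}
    (hp : (pullback.snd f g₀).base p = IsLocalRing.closedPoint A)
    (hpX : (pullback.fst f g₀).base p ∈ X0 f g (g₀.base (IsLocalRing.closedPoint A)))
    (hred : FBase.IsGeomReducedAt (f.fiberToSpecResidueField (f.base ((pullback.fst f g₀).base p)))
      (f.asFiber ((pullback.fst f g₀).base p))) {z : ↥(pullback f g₀)} (hz : z ⤳ p)
    (hzg : (pullback.snd f g₀).base z = genPt A) : (pullback.fst f g₀).base z ∈ X0 f g (g₀.base (genPt A)) := by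
  obtain ⟨γ₀, γ₁, hsp, h0, h1, hX0, hX1, hgen0, hmax1⟩ := h
  have hopen : EGA43.IsOpenAt (pullback.snd f g₀).base γ₀ := by
    intro O hO
    obtain ⟨O', hO'O, hO', hγO⟩ := mem_nhds_iff.1 hO
    refine Filter.mem_of_superset Filter.univ_mem fun a _ => ?_
    rcases eq_genPt_or a with rfl | rfl
    · exact ⟨γ₁, hO'O (hsp.mem_open hO' hγO), h1⟩
    · exact ⟨γ₀, hO'O hγO, h0⟩
  obtain ⟨M, hMp, hM⟩ := exists_gen_all (pullback.snd f g₀) hp
    (isReduced_fiber_of_geomReduced g₀ p
      (by rw [← Scheme.Hom.comp_apply, pullback.condition, Scheme.Hom.comp_apply])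
      (f.asFiber ((pullback.fst f g₀).base p)) (f.fiberι_asFiber _) hred)
    h0 (hgen0 p hp hpX)
    (fun w hw hwc => hgen0 w hwc (mem_X0_of_specializes (by
      rw [← Scheme.Hom.comp_apply, pullback.condition, Scheme.Hom.comp_apply]
      exact congrArg g₀.base hwc) hpX (hw.map (pullback.fst f g₀).continuous)))
    hopen
  have hMz : M ⤳ z := hM z hz
  have hMγ : M ⤳ γ₁ := hM γ₁ (hsp.trans (hgen0 p hp hpX))
  have hMgen : (pullback.snd f g₀).base M = genPt A :=
    eq_genPt_of_specializes (h1 ▸ hMγ.map (pullback.snd f g₀).continuous)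
  have hMeq : M = γ₁ := hmax1 M hMgen hMγ
  refine mem_X0_of_closure ?_ ?_
  · rw [← Scheme.Hom.comp_apply, pullback.condition, Scheme.Hom.comp_apply]
    exact congrArg g₀.base hzg
  · exact closure_mono (Set.singleton_subset_iff.2 hX1)
      ((hMeq ▸ hMz).map (pullback.fst f g₀).continuous).mem_closure

omit hg hirr in
/-- With the specialisation every point of the closed component has a generisation off the closed
fibre. -/
theorem exists_gen_of_key (h : Key f g g₀) {p : ↥(pullback f g₀)}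
    (hp : (pullback.snd f g₀).base p = IsLocalRing.closedPoint A)
    (hpX : (pullback.fst f g₀).base p ∈ X0 f g (g₀.base (IsLocalRing.closedPoint A))) :
    ∃ z, z ⤳ p ∧ (pullback.snd f g₀).base z ≠ IsLocalRing.closedPoint A := by
  obtain ⟨γ₀, γ₁, hsp, h0, h1, hX0, hX1, hgen0, hmax1⟩ := h
  exact ⟨γ₁, hsp.trans (hgen0 p hp hpX), h1 ▸ genPt_ne_closedPoint⟩

end

end Groth.Agent.GeomUnib.SectionComp
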