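import Groth.Agent.GeomUnib.GeomRedUnivOpen
import Groth.Agent.GeomUnib.SectionKey
import Groth.Agent.GeomUnib.FlatBC
import Groth.Agent.GeomUnib.FibreDimNhds
import Groth.Agent.GeomUnib.EquidimLocal
import Groth.Agent.GeomUnib.FibreGenGeneral
import Groth.Agent.SectExt.Basic
import Groth.Agent.S4948

/-!
# Equidimensionality from geometrically reduced fibres
-/

set_option autoImplicit false
set_option linter.style.haveILetI false
set_option linter.unusedSectionVars false
set_option backward.isDefEq.respectTransparency false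
set_option maxHeartbeats 1000000

universe u

open CategoryTheory CategoryTheory.Limits AlgebraicGeometry

namespace Groth.Agent.GeomUnib.GeomRedEquidim

open FibreDim SectionComp

/-- In a Noetherian local ring with a regular element whose quotient is reduced, every minimal prime lies
in some minimal prime of that element. -/
theorem exists_minimal_over_of_regular {B : Type u} [CommRing B] [IsLocalRing B] [IsNoetherianRing B] {π : B}
    (hπ : ¬ IsUnit π) (hreg : ∀ b, π * b = 0 → b = 0) (hrad : (Ideal.span {π}).IsRadical) {P : Ideal B}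
    (hP : P ∈ minimalPrimes B) : ∃ Q ∈ (Ideal.span {π}).minimalPrimes, P ≤ Q := by
  have hass : P ∈ associatedPrimes B B := by
    refine Module.associatedPrimes.minimalPrimes_annihilator_subset_associatedPrimes B B ?_
    rwa [Module.annihilator_eq_bot.2 inferInstance]
  obtain ⟨hPp, x, hx⟩ := isAssociatedPrime_iff.1 hass
  have hPx : ∀ p ∈ P, p * x = 0 := fun p hp => by
    rw [hx, Submodule.mem_colon_singleton] at hp
    simpa using hp
  have hx0 : x ≠ 0 := fun h0 => hPp.ne_top <| by
    rw [hx, h0, Ideal.eq_top_iff_one, Submodule.mem_colon_singleton]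
    simp
  obtain ⟨c, hc, hcπ⟩ : ∃ c, (∀ p ∈ P, p * c = 0) ∧ c ∉ Ideal.span {π} := by
    by_contra! hall
    refine hx0 ((Submodule.mem_bot B).1 ?_)
    rw [← Ideal.iInf_pow_eq_bot_of_isLocalRing (Ideal.span {π}) (by rwa [Ne, Ideal.span_singleton_eq_top])]
    refine Submodule.mem_iInf _ |>.2 fun n => ?_
    suffices h : ∃ c, x = π ^ n * c ∧ ∀ p ∈ P, p * c = 0 by
      obtain ⟨c, hc, -⟩ := h
      rw [Ideal.span_singleton_pow, Ideal.mem_span_singleton]
      exact ⟨c, hc⟩
    induction n with
    | zero => exact ⟨x, by simp, hPx⟩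
    | succ n ih =>
      obtain ⟨c, hc, hcP⟩ := ih
      obtain ⟨d, rfl⟩ := Ideal.mem_span_singleton.1 (hall c hcP)
      exact ⟨d, by rw [hc, pow_succ, mul_assoc], fun p hp => hreg _ (by rw [mul_left_comm]; exact hcP p hp)⟩
  rw [← hrad.radical, ← Ideal.sInf_minimalPrimes, Ideal.mem_sInf] at hcπ
  push Not at hcπ
  obtain ⟨Q, hQ, hcQ⟩ := hcπ
  refine ⟨Q, hQ, fun p hp => ?_⟩
  exact (hQ.1.1.mem_or_mem (show p * c ∈ Q by rw [hc p hp]; exact zero_mem _)).resolve_right hcQ

variable {A : Type u} [CommRing A] [IsDomain A] [IsDiscreteValuationRing A]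
variable {P : Scheme.{u}} (q : P ⟶ Spec (CommRingCat.of A)) [LocallyOfFiniteType q]

/-- A maximal point below a point of the closed fibre at which the closed fibre is reduced and the
morphism flat passes through a maximal point of the closed fibre. -/
theorem exists_maximal_between {p z : P} (hp : q.base p = IsLocalRing.closedPoint A)
    (hred : _root_.IsReduced ((q.fiber (q.base p)).presheaf.stalk (q.asFiber p)))
    (hflat : (q.stalkMap p).hom.Flat) (hz : z ⤳ p) (hzmax : ∀ z' : P, z' ⤳ z → z' = z) :
    ∃ m, z ⤳ m ∧ m ⤳ p ∧ q.base m = IsLocalRing.closedPoint A ∧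
      ∀ m', q.base m' = q.base m → m' ⤳ m → m' = m := by
  have hio := (q.fiberι (q.base p)).isEmbedding
  haveI : IsLocallyNoetherian P := LocallyOfFiniteType.isLocallyNoetherian q
  let B := P.presheaf.stalk p
  let O := (Spec (CommRingCat.of A)).presheaf.stalk (q.base p)
  let φ : O →+* B := (q.stalkMap p).hom
  let I : Ideal B := FlatDescent.maxExt q p
  have hI : I = (IsLocalRing.maximalIdeal O).map φ := rfl
  have hrad : I.IsRadical := by
    have hker := FlatDescent.ker_stalkMap_fiberι q (q.base p) (q.asFiber p)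
    haveI := hred
    have h1 : (RingHom.ker ((q.fiberι (q.base p)).stalkMap (q.asFiber p)).hom).IsRadical := fun a ha => by
      obtain ⟨n, hn⟩ := ha
      rw [RingHom.mem_ker, map_pow] at hn
      exact IsReduced.eq_zero _ ⟨n, hn⟩
    rw [hker, Scheme.Hom.fiberι_asFiber] at h1
    exact h1
  have hiff : ∀ Q : PrimeSpectrum B,
      q.base (P.fromSpecStalk p Q) = IsLocalRing.closedPoint A ↔ I ≤ Q.asIdeal := by
    intro Q
    have h1 : q.base (P.fromSpecStalk p Q) =
        (Spec (CommRingCat.of A)).fromSpecStalk (q.base p) (PrimeSpectrum.comap φ Q) := by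
      rw [← Scheme.Hom.comp_apply, ← Scheme.SpecMap_stalkMap_fromSpecStalk]
      rfl
    rw [h1, hI, Ideal.map_le_iff_le_comap, ← hp]
    constructor
    · intro h
      have h2 : PrimeSpectrum.comap φ Q = IsLocalRing.closedPoint O :=
        ((Spec (CommRingCat.of A)).fromSpecStalk (q.base p)).isEmbedding.injective
          (h.trans Scheme.fromSpecStalk_closedPoint.symm)
      exact (congrArg PrimeSpectrum.asIdeal h2).ge
    · intro h
      rw [show PrimeSpectrum.comap φ Q = IsLocalRing.closedPoint O from PrimeSpectrum.ext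
        (le_antisymm (IsLocalRing.le_maximalIdeal (Ideal.IsPrime.ne_top inferInstance)) h)]
      exact Scheme.fromSpecStalk_closedPoint
  obtain ⟨t, ht0, ht⟩ : ∃ t : O, t ≠ 0 ∧ IsLocalRing.maximalIdeal O = Ideal.span {t} := by
    obtain ⟨π, hπ⟩ := IsDiscreteValuationRing.exists_irreducible A
    let ι := (Spec.stalkIso (CommRingCat.of A) (q.base p)).commRingCatIsoToRingEquiv.symm
    let L := Localization.AtPrime (q.base p).asIdeal
    refine ⟨ι (algebraMap A L π), fun h => hπ.ne_zero ?_, ?_⟩
    · refine IsLocalization.injective L (Ideal.primeCompl_le_nonZeroDivisors (q.base p).asIdeal) ?_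
      rw [map_zero]
      exact ι.injective (h.trans (map_zero _).symm)
    · have hc : (q.base p).asIdeal = Ideal.span {π} := by
        rw [hp, ← hπ.maximalIdeal_eq]
        rfl
      have h2 : IsLocalRing.maximalIdeal L = Ideal.span {algebraMap A L π} :=
        (Localization.AtPrime.map_eq_maximalIdeal).symm.trans
          ((congrArg (Ideal.map (algebraMap A L)) hc).trans (by rw [Ideal.map_span, Set.image_singleton]))
      refine (IsLocalRing.map_ringEquiv_maximalIdeal ι).symm.trans ?_
      rw [h2, Ideal.map_span, Set.image_singleton]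
  have hIt : I = Ideal.span {φ t} := by rw [hI, ht, Ideal.map_span, Set.image_singleton]
  have hreg : ∀ b, φ t * b = 0 → b = 0 := by
    letI := φ.toAlgebra
    haveI : Module.Flat O B := hflat
    haveI : IsDomain O :=
      haveI : IsDomain (Localization.AtPrime (q.base p).asIdeal) :=
        IsLocalization.isDomain_of_le_nonZeroDivisors (S := Localization.AtPrime (q.base p).asIdeal)
          (Ideal.primeCompl_le_nonZeroDivisors (q.base p).asIdeal)
      (Spec.stalkIso (CommRingCat.of A) (q.base p)).commRingCatIsoToRingEquiv.toMulEquiv.isDomain_iff.2 this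
    intro b hb
    have h : IsSMulRegular B t := (IsSMulRegular.of_right_eq_zero_of_smul (fun r hr => by
      simpa [ht0] using hr) : IsSMulRegular O t).of_flat
    exact h.right_eq_zero_of_smul (by rw [Algebra.smul_def]; exact hb)
  have hπ : ¬ IsUnit (φ t) := fun hu => by
    have h1 : (genPrime (specializes_refl p)).asIdeal.IsPrime := inferInstance
    refine h1.ne_top (top_le_iff.1 ((Ideal.span_singleton_eq_top.2 hu).ge.trans (hIt.ge.trans ?_)))
    exact (hiff _).1 (by rw [fromSpecStalk_genPrime]; exact hp)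
  obtain ⟨Q, hQ, hzQ⟩ := exists_minimal_over_of_regular hπ hreg (hIt ▸ hrad)
    (P := (genPrime hz).asIdeal) (by
      refine ⟨⟨inferInstance, bot_le⟩, fun J hJ hle => ?_⟩
      have h1 := specializes_of_prime_le (q := (⟨J, hJ.1⟩ : PrimeSpectrum B)) (q' := genPrime hz) hle
      rw [fromSpecStalk_genPrime] at h1
      have h2 := (P.fromSpecStalk p).isEmbedding.injective
        ((hzmax _ h1).trans (fromSpecStalk_genPrime hz).symm)
      exact (congrArg PrimeSpectrum.asIdeal h2).ge)
  haveI := hQ.1.1
  let Q' : PrimeSpectrum B := ⟨Q, inferInstance⟩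
  have hm : q.base (P.fromSpecStalk p Q') = IsLocalRing.closedPoint A := (hiff Q').2 (hIt ▸ hQ.1.2)
  refine ⟨P.fromSpecStalk p Q', ?_, fromSpecStalk_specializes Q', hm, fun m' hm' hsp => ?_⟩
  · rw [← fromSpecStalk_genPrime hz]
    exact specializes_of_prime_le hzQ
  · have hm'p := hsp.trans (fromSpecStalk_specializes Q')
    rw [← fromSpecStalk_genPrime hm'p] at hm' hsp ⊢
    have hle : (genPrime hm'p).asIdeal ≤ Q := by
      have := prime_le_of_specializes hm'p (fromSpecStalk_specializes Q')
        (fromSpecStalk_genPrime hm'p ▸ hsp)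
      rwa [genPrime_fromSpecStalk] at this
    congr 1
    exact PrimeSpectrum.ext (le_antisymm hle
      (hQ.2 ⟨inferInstance, hIt ▸ (hiff _).1 (hm'.trans hm)⟩ hle))

variable {X Y : Scheme.{u}} [IsLocallyNoetherian Y] (f : X ⟶ Y) [LocallyOfFiniteType f]

/-- Every component through a point with geometrically reduced fibre, universally open at the generic
points of the fibre, has the dimension of a component of the fibre through that point. -/
theorem exists_fdim_eq {x ξ : X} (hξ : ξ ⤳ x) (hmax : ∀ z : X, z ⤳ ξ → z = ξ)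
    (hopen : ∀ z : X, f.base z = f.base x → z ⤳ x →
      (∀ z' : X, f.base z' = f.base x → z' ⤳ z → z' = z) → EGA43.IsUnivOpenAt f z)
    (hred : FBase.IsGeomReducedAt (f.fiberToSpecResidueField (f.base x)) (f.asFiber x)) :
    ∃ m, f.base m = f.base x ∧ m ⤳ x ∧ (∀ m' : X, f.base m' = f.base x → m' ⤳ m → m' = m) ∧
      fdim f ξ = fdim f m := by
  haveI : IsLocallyNoetherian X := LocallyOfFiniteType.isLocallyNoetherian f
  rcases eq_or_ne (f.base ξ) (f.base x) with he | he
  · exact ⟨ξ, he, hξ, fun m' _ h => hmax m' h, rfl⟩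
  have hne : x ≠ (𝟙 X : X ⟶ X) ξ := fun h => he (congrArg f.base h).symm
  obtain ⟨A, _, _, _, u, g', hu, hg', ht⟩ := SectExt.exists_dvr_of_specializes (𝟙 X) ξ x hξ hne
  have hug : u.base (genPt A) = ξ := by
    have h1 : (genMap A (FractionRing A)).base (IsLocalRing.closedPoint (FractionRing A)) = genPt A := by
      rw [genMap_apply, genericPoint_eq_bot_of_affine]
      rfl
    rw [← h1, ← Scheme.Hom.comp_apply, show genMap A (FractionRing A) ≫ u = g' ≫ 𝟙 X from hg'.symm,
      Category.comp_id]
    exact ht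
  let g₀ := u ≫ f
  let q := pullback.snd f g₀
  let σ : Spec (CommRingCat.of A) ⟶ pullback f g₀ := pullback.lift u (𝟙 _) (by rw [Category.id_comp])
  have hσs : ∀ b, q.base (σ.base b) = b := fun b => by
    rw [← Scheme.Hom.comp_apply, pullback.lift_snd]; rfl
  have hσf : ∀ b, (pullback.fst f g₀).base (σ.base b) = u.base b := fun b => by
    rw [← Scheme.Hom.comp_apply, pullback.lift_fst]
  have hfg : ∀ b, f.base ((pullback.fst f g₀).base b) = g₀.base (q.base b) := fun b => by
    rw [← Scheme.Hom.comp_apply, pullback.condition, Scheme.Hom.comp_apply]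
  let p := σ.base (IsLocalRing.closedPoint A)
  have hpx : (pullback.fst f g₀).base p = x := (hσf _).trans hu
  have hgx : g₀.base (IsLocalRing.closedPoint A) = f.base x := by rw [Scheme.Hom.comp_apply, hu]
  -- the generic point
  obtain ⟨z, hzg, hzσ, hzmax⟩ := GeomUnib.FibreDimNhds.exists_maximal q (σ.base (genPt A))
  have hzq : q.base z = genPt A := hzg.trans (hσs _)
  have hzmax' : ∀ z' : ↥(pullback f g₀), z' ⤳ z → z' = z := fun z' h =>
    hzmax z' ((eq_genPt_of_specializes (hzq ▸ h.map q.continuous)).trans hzq.symm) h.mem_closure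
  have hzξ : (pullback.fst f g₀).base z = ξ :=
    hmax _ (hug ▸ hσf (genPt A) ▸ hzσ.map (pullback.fst f g₀).continuous)
  have hzp : z ⤳ p := hzσ.trans ((genPt_specializes _).map σ.continuous)
  have hred' : _root_.IsReduced ((q.fiber (q.base p)).presheaf.stalk (q.asFiber p)) :=
    isReduced_fiber_of_geomReduced g₀ p (by rw [hσs, hgx]) (f.asFiber x)
      ((f.fiberι_asFiber x).trans hpx.symm) hred
  have hopen' : ∀ w : ↥(pullback f g₀), q.base w = IsLocalRing.closedPoint A → w ⤳ p →
      (∀ w' : ↥(pullback f g₀), q.base w' = q.base w → w' ⤳ w → w' = w) →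
      f.base ((pullback.fst f g₀).base w) = f.base x ∧ (pullback.fst f g₀).base w ⤳ x ∧
      (∀ c : X, f.base c = f.base x → c ⤳ (pullback.fst f g₀).base w → c = (pullback.fst f g₀).base w) ∧
      fdim q w = fdim f ((pullback.fst f g₀).base w) := by
    intro w hw hwp hwmax
    obtain ⟨h1, h2⟩ := fdim_fst_of_maximal f g₀ w hwmax
    have hy : f.base ((pullback.fst f g₀).base w) = f.base x := by rw [hfg, hw, hgx]
    exact ⟨hy, hpx ▸ hwp.map (pullback.fst f g₀).continuous, fun c hc => h1 c (hc.trans hy.symm), h2⟩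
  have hflat : (q.stalkMap p).hom.Flat := by
    refine S4948.result q p (hσs _) (fun w hw hwmax => ?_) hred'
    have hwc : q.base ((q.fiberι (q.base p)).base w) = q.base p := (q.range_fiberι (q.base p)).le ⟨w, rfl⟩
    have hio := (q.fiberι (q.base p)).isEmbedding
    have hwp : (q.fiberι (q.base p)).base w ⤳ p := by
      rw [← specializes_iff_mem_closure, ← hio.isInducing.specializes_iff, Scheme.Hom.fiberι_asFiber] at hw
      exact hw
    obtain ⟨h1, h2, h3, -⟩ := hopen' _ (hwc.trans (hσs _)) hwp fun w' hw' h => by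
      obtain ⟨w₁, rfl⟩ : w' ∈ Set.range (q.fiberι (q.base p)) := by
        rw [q.range_fiberι]; exact hw'.trans hwc
      exact congrArg _ (hwmax w₁ (hio.isInducing.specializes_iff.1 h).mem_closure)
    exact hopen _ h1 h2 h3 _ g₀ _ rfl
  obtain ⟨m, hzm, hmp, hmq, hmmax⟩ := exists_maximal_between q (hσs _) hred' hflat hzp hzmax'
  obtain ⟨w, hzw, hwm, hwq, hwd⟩ := exists_between q hzm hzq hmq
  obtain rfl : w = m := hmmax w (hwq.trans hmq.symm) hwm
  obtain ⟨h1, h2, h3, h4⟩ := hopen' w hmq hmp hmmax
  refine ⟨_, h1, h2, h3, ?_⟩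
  rw [← h4, hwd, ← hzξ]
  exact ((fdim_fst_of_maximal f g₀ z fun b hb h => hzmax' b h).2).symm

/-- The dimension of a component of a fibre through a point is that of a maximal point of the fibre. -/
theorem exists_component_of_maximal {x m : X} (hm : f.base m = f.base x) (hmx : m ⤳ x)
    (hmax : ∀ m' : X, f.base m' = f.base x → m' ⤳ m → m' = m) :
    ∃ Z ∈ irreducibleComponents ↥(f.fiber (f.base x)), f.asFiber x ∈ Z ∧ topologicalKrullDim ↥Z = fdim f m := by
  obtain ⟨t, rfl⟩ : m ∈ Set.range (f.fiberι (f.base x)) := by rw [f.range_fiberι]; exact hm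
  have hio := (f.fiberι (f.base x)).isEmbedding
  obtain ⟨g, hg⟩ := QuasiSober.sober (isIrreducible_irreducibleComponent (x := t)) isClosed_irreducibleComponent
  have hgt : g ⤳ t := hg.specializes mem_irreducibleComponent
  obtain rfl : g = t := hio.injective (hmax _ ((f.range_fiberι (f.base x)).le ⟨g, rfl⟩)
    (hgt.map (f.fiberι _).continuous))
  refine ⟨_, irreducibleComponent_mem_irreducibleComponents g, ?_, ?_⟩
  · refine isClosed_irreducibleComponent.closure_subset_iff.2
      (Set.singleton_subset_iff.2 mem_irreducibleComponent) ?_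
    refine (hio.isInducing.specializes_iff.1 ?_).mem_closure
    rw [f.fiberι_asFiber]
    exact hmx
  · rw [← hg.def, dim_closure_fibre]

/-- Equidimensionality from geometric reducedness. -/
theorem isEquidimAt_of_geomReduced {x : X}
    (hopen : ∀ z : X, f.base z = f.base x → z ⤳ x →
      (∀ z' : X, f.base z' = f.base x → z' ⤳ z → z' = z) → EGA43.IsUnivOpenAt f z)
    (hred : FBase.IsGeomReducedAt (f.fiberToSpecResidueField (f.base x)) (f.asFiber x))
    {e : ℕ} (heq : ∀ Z ∈ irreducibleComponents ↥(f.fiber (f.base x)), f.asFiber x ∈ Z →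
      topologicalKrullDim ↥Z = (e : WithBot ℕ∞)) :
    EGA43.IsEquidimAt f x := by
  haveI : IsLocallyNoetherian X := LocallyOfFiniteType.isLocallyNoetherian f
  have hfib : ∀ m : X, f.base m = f.base x → m ⤳ x →
      (∀ m' : X, f.base m' = f.base x → m' ⤳ m → m' = m) → fdim f m = (e : WithBot ℕ∞) := by
    intro m h1 h2 h3
    obtain ⟨Z, hZ, hxZ, hd⟩ := exists_component_of_maximal f h1 h2 h3
    rw [← hd]
    exact heq Z hZ hxZ
  have hcomp : ∀ ξ : X, ξ ⤳ x → (∀ z : X, z ⤳ ξ → z = ξ) → fdim f ξ = (e : WithBot ℕ∞) := by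
    intro ξ hξ hmax
    obtain ⟨m, h1, h2, h3, h4⟩ := exists_fdim_eq f hξ hmax hopen hred
    rw [h4]
    exact hfib m h1 h2 h3
  have hx : FlatMor.fibreDimAt f x ≤ (e : WithBot ℕ∞) := by
    obtain ⟨k, hk, ⟨w, hw, hwx, hwk⟩, -⟩ := exists_fibreDimAt_eq f x
    obtain ⟨m, hm, hmw, hmax⟩ := FibreDimNhds.exists_maximal f w
    rw [hk, ← hwk, ← hfib m (hm.trans hw) (hmw.trans hwx)
      fun m' hm' h => hmax m' (hm'.trans (hm.trans hw).symm) h.mem_closure]
    exact fdim_mono f hmw hm
  obtain ⟨O, hxO, hopenO, -, -⟩ := exists_nhds_universallyOpen f hopen hred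
  obtain ⟨U₁, hxU₁, hUle, hUgen⟩ := exists_nhds_fdim_le f x
  let U : X.Opens := O ⊓ U₁
  haveI : QuasiSober ↥(U : Set X) := U.2.isOpenEmbedding_subtypeVal.quasiSober
  refine ⟨e, U, ⟨hxO, hxU₁⟩, fun C hC => ?_, fun x' C hC => ?_⟩
  · obtain ⟨c, hc⟩ := QuasiSober.sober hC.1 (isClosed_of_mem_irreducibleComponents _ hC)
    have hmax : ∀ z' : X, z' ⤳ U.ι.base c → U.ι.base c ⤳ z' := fun z' h => by
      exact (maximal_of_component (Y := U.toScheme) c C hC hc ⟨z', h.mem_open U.2 c.2⟩
        (U.ι.isOpenEmbedding.toIsInducing.specializes_iff.1 h)).map U.ι.continuous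
    have hcx : U.ι.base c ⤳ x := hUgen _ c.2.2 hmax
    obtain ⟨η, hη⟩ := QuasiSober.sober (isIrreducible_irreducibleComponent (x := f.base (U.ι.base c)))
      isClosed_irreducibleComponent
    have hηc : η ⤳ f.base (U.ι.base c) := hη.specializes mem_irreducibleComponent
    have hcη : f.base (U.ι.base c) = η := by
      obtain ⟨w, hwc, hw, -⟩ := exists_gen_of_isUnivOpenAt f (U.ι.base c) (hopenO _ c.2.1) η hηc
      rw [← hw]
      exact congrArg f.base (hwc.antisymm (hmax w hwc)).eq.symm
    refine ⟨_, irreducibleComponent_mem_irreducibleComponents (f.base (U.ι.base c)), ?_, ?_⟩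
    · rw [← hη.def, ← hcη]
      exact (hcx.map f.continuous).mem_closure
    · rw [← hη.def, ← hcη]
      exact (hc.image (U.ι ≫ f).continuous).def.symm
  · obtain ⟨m, hm⟩ := QuasiSober.sober hC.1 (isClosed_of_mem_irreducibleComponents _ hC)
    set u : ↥U.toScheme := ((U.ι ≫ f).fiberι _).base m
    have hu : (U.ι ≫ f).base u = (U.ι ≫ f).base x' := ((U.ι ≫ f).range_fiberι _).le ⟨m, rfl⟩
    have humax : ∀ w : X, f.base w = f.base (U.ι.base u) → U.ι.base u ∈ closure {w} → w = U.ι.base u := by
      intro w hw hwu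
      have hwu' := specializes_iff_mem_closure.2 hwu
      let w' : ↥U.toScheme := ⟨w, hwu'.mem_open U.2 u.2⟩
      obtain ⟨m', hm'⟩ : w' ∈ Set.range ((U.ι ≫ f).fiberι ((U.ι ≫ f).base x')) := by
        rw [(U.ι ≫ f).range_fiberι]; exact hw.trans hu
      have hm'm : m' ⤳ m := by
        refine ((U.ι ≫ f).fiberι _).isEmbedding.toIsInducing.specializes_iff.1 ?_
        rw [hm']
        exact U.ι.isOpenEmbedding.toIsInducing.specializes_iff.1 hwu'
      have hmm' : m ⤳ m' := by
        refine hm.specializes ?_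
        have hsub : C ⊆ closure {m'} := hm.def.symm.le.trans
          (closure_minimal (Set.singleton_subset_iff.2 hm'm.mem_closure) isClosed_closure)
        exact hC.2 isIrreducible_singleton.closure hsub (subset_closure rfl)
      have := (hmm'.antisymm hm'm).eq
      rw [← this] at hm'
      exact congrArg U.ι.base hm'.symm
    have h1 : fdim f (U.ι.base u) = (e : WithBot ℕ∞) := by
      obtain ⟨g, hg⟩ := QuasiSober.sober (isIrreducible_irreducibleComponent (x := U.ι.base u))
        isClosed_irreducibleComponent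
      have hgu := hg.specializes mem_irreducibleComponent
      have hgmax := fun z' h => maximal_of_component g _ (irreducibleComponent_mem_irreducibleComponents _) hg z' h
      have hgd := hcomp g (hUgen g (hgu.mem_open U.2 u.2).2 hgmax) fun z h => (h.antisymm (hgmax z h)).eq
      refine le_antisymm ((hUle _ u.2.2).trans hx) ?_
      rw [← hgd, ← fibreDimAt_of_maximal f _ humax]
      exact fdim_le_fibreDimAt f hgu
    rw [← hm.def, dim_closure_fibre (U.ι ≫ f) _ m]
    refine Eq.trans ?_ h1
    exact fdim_opens f U u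

end Groth.Agent.GeomUnib.GeomRedEquidim
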