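import Groth.Agent.GeomUnib.GeomRedGen

/-!
# Reducedness from reduced fibres over a reduced base
-/

set_option autoImplicit false
set_option linter.style.haveILetI false
set_option maxHeartbeats 1000000

universe u

namespace Groth.Agent.GeomUnib

open IsLocalRing TensorProduct UnivOpenAt

variable {A C : Type u} [CommRing A] [CommRing C] [Algebra A C]

/-- A flat local ring with geometrically reduced fibres over a reduced local base is reduced. -/
theorem isReduced_of_grAt [IsNoetherianRing A] [IsNoetherianRing C] (q : Ideal C) [q.IsPrime]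
    (hA : ∀ a : A, IsNilpotent a → ∃ s ∉ q.comap (algebraMap A C), s * a = 0)
    [Module.Flat A (Localization.AtPrime q)]
    (hGR : ∀ P : Ideal C, P.IsPrime → P ≤ q → GRAt A C P) : IsReduced (Localization.AtPrime q) := by
  classical
  let p := q.comap (algebraMap A C)
  let ι := algebraMap C (Localization.AtPrime q)
  -- nonzerodivisors stay nonzerodivisors
  have hreg : ∀ a : A, (∀ p₁ ∈ minimalPrimes A, p₁ ≤ p → a ∉ p₁) → ∀ z : Localization.AtPrime q,
      a • z = 0 → z = 0 := by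
    intro a ha z hz
    obtain ⟨k, c, y, hzy, hc⟩ := Module.Flat.isTrivialRelation_of_sum_smul_eq_zero (f := fun _ : Fin 1 => a)
      (x := fun _ : Fin 1 => z) (by simpa using hz)
    rw [show z = (fun _ : Fin 1 => z) 0 from rfl, hzy 0]
    refine Finset.sum_eq_zero fun j _ => ?_
    have hac : a * c 0 j = 0 := by simpa using hc j
    obtain ⟨s, hs, hs0⟩ : ∃ s ∉ p, s * c 0 j = 0 := by
      by_contra h
      push Not at h
      have hnil : ∀ n (s : A), s ∉ p → s * c 0 j ^ n ≠ 0 := by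
        intro n s hs h0
        obtain ⟨s', hs', hs'0⟩ := hA (s * c 0 j) ⟨n + 1, by
          calc (s * c 0 j) ^ (n + 1) = s ^ n * c 0 j * (s * c 0 j ^ n) := by ring
            _ = 0 := by rw [h0, mul_zero]⟩
        exact h (s' * s) (fun hm => (Ideal.IsPrime.mem_or_mem inferInstance hm).elim hs' hs) (by rw [mul_assoc, hs'0])
      let S : Submonoid A := p.primeCompl ⊔ Submonoid.powers (c 0 j)
      obtain ⟨Q, hQ, -, hdisj⟩ := Ideal.exists_le_prime_disjoint (⊥ : Ideal A) S
        (Set.disjoint_left.2 fun w hw hwS => by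
          obtain ⟨s, hs, _, ⟨n, rfl⟩, rfl⟩ := Submonoid.mem_sup.1 hwS
          exact hnil n s hs hw)
      haveI := hQ
      obtain ⟨p₁, hp₁, hp₁Q⟩ := Ideal.exists_minimalPrimes_le (I := (⊥ : Ideal A)) (J := Q) bot_le
      have hQp : Q ≤ p := fun w hw => by_contra fun hwp =>
        Set.disjoint_left.1 hdisj hw (Submonoid.mem_sup_left (show w ∈ p.primeCompl from hwp))
      have hmem : c 0 j ∈ p₁ := ((hp₁.1.1.mem_or_mem (hac.symm ▸ p₁.zero_mem)).resolve_left
        (ha p₁ hp₁ (hp₁Q.trans hQp)))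
      exact Set.disjoint_left.1 hdisj (hp₁Q hmem) (Submonoid.mem_sup_right (Submonoid.mem_powers _))
    have hu : IsUnit (algebraMap A (Localization.AtPrime q) s) := by
      rw [IsScalarTower.algebraMap_apply A C (Localization.AtPrime q)]
      exact IsLocalization.map_units (Localization.AtPrime q) (⟨algebraMap A C s, hs⟩ : q.primeCompl)
    refine hu.mul_right_eq_zero.1 ?_
    rw [← Algebra.smul_def, smul_smul, hs0, zero_smul]
  refine ⟨fun z hz => ?_⟩
  obtain ⟨⟨b, s⟩, rfl⟩ := IsLocalization.mk'_surjective q.primeCompl z |>.imp fun _ h => h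
  obtain ⟨n, hn⟩ := hz
  rw [← IsLocalization.mk'_pow, IsLocalization.mk'_eq_zero_iff] at hn
  obtain ⟨⟨m, hm⟩, hmb⟩ := hn
  change m * b ^ n = 0 at hmb
  rw [IsLocalization.mk'_eq_zero_iff]
  by_contra hne
  push Not at hne
  let b₀ := m * b
  have hb₀n : IsNilpotent b₀ := ⟨n + 1, by
    calc (m * b) ^ (n + 1) = m ^ n * b * (m * b ^ n) := by ring
      _ = 0 := by rw [hmb, mul_zero]⟩
  -- a maximal annihilator
  let ann : C → Ideal C := fun d => (RingHom.ker ι).colon {d * b₀}
  have hann : ∀ d x, x ∈ ann d ↔ ι (x * (d * b₀)) = 0 := fun d x => by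
    simp only [ann, Submodule.mem_colon_singleton, smul_eq_mul, RingHom.mem_ker]
  have h1 : ι b₀ ≠ 0 := fun h => by
    obtain ⟨⟨e, he⟩, he0⟩ := (IsLocalization.map_eq_zero_iff q.primeCompl _ _).1 h
    exact hne ⟨e * m, fun hh => (Ideal.IsPrime.mem_or_mem inferInstance hh).elim he hm⟩ (by
      show e * m * b = 0
      rw [mul_assoc]; exact he0)
  obtain ⟨_, ⟨d, hd, rfl⟩, hmax⟩ := set_has_maximal_iff_noetherian.mpr (inferInstance : IsNoetherian C C)
    (ann '' {d | ι (d * b₀) ≠ 0}) ⟨_, 1, by simpa using h1, rfl⟩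
  have hP : (ann d).IsPrime := by
    refine Ideal.isPrime_iff.2 ⟨fun htop => hd ?_, fun {x y} hxy => ?_⟩
    · have := (hann d 1).1 (htop ▸ trivial)
      rwa [one_mul] at this
    · by_cases hy : y ∈ ann d
      · exact Or.inr hy
      · left
        by_contra hx
        have hyd : ι (y * d * b₀) ≠ 0 := fun h => hy ((hann d y).2 (by rwa [← mul_assoc]))
        refine hmax (ann (y * d)) ⟨y * d, hyd, rfl⟩ (lt_of_le_of_ne (fun w hw => ?_) fun heq => hx ?_)
        · rw [hann] at hw ⊢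
          rw [show w * (y * d * b₀) = y * (w * (d * b₀)) by ring, map_mul, hw, mul_zero]
        · rw [heq, hann]
          rw [hann, show x * y * (d * b₀) = x * (y * d * b₀) by ring] at hxy
          exact hxy
  haveI := hP
  have hPq : ann d ≤ q := fun w hw => by
    by_contra hwq
    rw [hann, map_mul] at hw
    exact hd ((IsLocalization.map_units (Localization.AtPrime q) (⟨w, hwq⟩ : q.primeCompl)).mul_right_eq_zero.1 hw)
  -- it lies over a minimal prime
  let p₁ := (ann d).comap (algebraMap A C)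
  have hp₁p : p₁ ≤ p := Ideal.comap_mono hPq
  have hfield : ∀ a ∈ p₁, ∃ s ∉ p₁, s * a = 0 := by
    obtain ⟨r, hr, hrp, hp₁r⟩ : ∃ r ∈ minimalPrimes A, r ≤ p ∧ p₁ ≤ r := by
      have hsub : (p₁ : Set A) ⊆ ⋃ r ∈ {r ∈ minimalPrimes A | r ≤ p}, (r : Set A) := by
        intro a ha
        by_contra h
        simp only [Set.mem_iUnion, SetLike.mem_coe, Set.mem_setOf_eq, not_exists, and_imp] at h
        refine hd (hreg a (fun r hr hrp => h r hr hrp) _ ?_)
        have := (hann d (algebraMap A C a)).1 ha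
        rwa [Algebra.smul_def, IsScalarTower.algebraMap_apply A C (Localization.AtPrime q), ← map_mul]
      have hfin : {r ∈ minimalPrimes A | r ≤ p}.Finite :=
        (minimalPrimes.finite_of_isNoetherianRing A).subset fun r hr => hr.1
      obtain ⟨r, hr, hr'⟩ := (Ideal.subset_union_prime_finite hfin ⊥ ⊥ fun r hr _ _ => hr.1.1.1).1 hsub
      exact ⟨r, hr.1, hr.2, hr'⟩
    intro a ha
    have hr' : r ≤ p₁ := hr.2 ⟨inferInstance, bot_le⟩ hp₁r
    obtain ⟨n, s, hs, hsn⟩ : ∃ n, ∃ s ∉ p₁, s * a ^ n = 0 := by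
      by_contra h
      push Not at h
      obtain ⟨Q, hQ, -, hdisj⟩ := Ideal.exists_le_prime_disjoint (⊥ : Ideal A)
        (p₁.primeCompl ⊔ Submonoid.powers a) (Set.disjoint_left.2 fun w hw hwS => by
          obtain ⟨s, hs, _, ⟨n, rfl⟩, rfl⟩ := Submonoid.mem_sup.1 hwS
          exact h n s hs hw)
      have hQp : Q ≤ r := fun w hw => by_contra fun hwp =>
        Set.disjoint_left.1 hdisj hw (Submonoid.mem_sup_left (show w ∈ p₁.primeCompl from fun h => hwp (hp₁r h)))
      exact Set.disjoint_left.1 hdisj (hr.2 ⟨hQ, bot_le⟩ hQp (hp₁r ha))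
        (Submonoid.mem_sup_right (Submonoid.mem_powers a))
    obtain ⟨s', hs', hs'0⟩ := hA (s * a) ⟨n + 1, by
      calc (s * a) ^ (n + 1) = s ^ n * a * (s * a ^ n) := by ring
        _ = 0 := by rw [hsn, mul_zero]⟩
    exact ⟨s' * s, fun hm => (Ideal.IsPrime.mem_or_mem inferInstance hm).elim (fun h => hs' (hp₁p h)) hs,
      by rw [mul_assoc, hs'0]⟩
  let A₁ := Localization.AtPrime p₁
  have hisF : IsField A₁ := by
    rw [IsLocalRing.isField_iff_maximalIdeal_eq, ← Localization.AtPrime.map_eq_maximalIdeal,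
      Ideal.map_eq_bot_iff_le_ker]
    intro a ha
    obtain ⟨s, hs, hsa⟩ := hfield a ha
    exact (IsLocalization.map_eq_zero_iff p₁.primeCompl A₁ a).2 ⟨⟨s, hs⟩, hsa⟩
  letI : Field A₁ := hisF.toField
  have hker : RingHom.ker (algebraMap A A₁) = (ann d).comap (algebraMap A C) := by
    refine le_antisymm (fun a ha => ?_) fun a ha => ?_
    · obtain ⟨⟨s, hs⟩, hsa⟩ := (IsLocalization.map_eq_zero_iff p₁.primeCompl A₁ a).1 ha
      exact (Ideal.IsPrime.mem_or_mem (I := p₁) inferInstance (hsa.symm ▸ p₁.zero_mem)).resolve_left hs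
    · obtain ⟨s, hs, hsa⟩ := hfield a ha
      exact (IsLocalization.map_eq_zero_iff p₁.primeCompl A₁ a).2 ⟨⟨s, hs⟩, hsa⟩
  let η : A₁ →ₐ[A] (ann d).ResidueField := IsLocalization.liftAlgHom (M := p₁.primeCompl)
    (f := Algebra.ofId A (ann d).ResidueField) fun s => isUnit_iff_ne_zero.2 fun h => s.2 (by
      rw [Algebra.ofId_apply, IsScalarTower.algebraMap_apply A C (ann d).ResidueField] at h
      exact Ideal.mem_comap.2 ((Ideal.algebraMap_residueField_eq_zero (I := ann d)).1 h))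
  let ev := Algebra.TensorProduct.lift η (IsScalarTower.toAlgHom A C (ann d).ResidueField) fun _ _ => .all _ _
  haveI : IsLocalizedModule p₁.primeCompl (TensorProduct.mk A A₁ C 1) := inferInstance
  obtain ⟨t, ht, ht0⟩ := hGR (ann d) hP hPq A₁ hker _ (RingHom.ker_isPrime ev) (by
    ext c
    rw [Ideal.mem_comap, RingHom.mem_ker]
    simp [ev]) ((1 : A₁) ⊗ₜ[A] b₀) (hb₀n.map (inr A C A₁))
  obtain ⟨⟨t₀, s₀⟩, hts⟩ := IsLocalizedModule.surj p₁.primeCompl (TensorProduct.mk A A₁ C 1) t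
  change s₀ • t = (1 : A₁) ⊗ₜ[A] t₀ at hts
  have ht₀ : t₀ ∉ ann d := fun h => by
    have h2 : ev ((1 : A₁) ⊗ₜ[A] t₀) = 0 := by simp [ev, h]
    rw [← hts, Submonoid.smul_def, map_smul, Algebra.smul_def] at h2
    refine (mul_eq_zero.1 h2).elim (fun h3 => s₀.2 ?_) ht
    rw [IsScalarTower.algebraMap_apply A C (ann d).ResidueField] at h3
    exact Ideal.mem_comap.2 ((Ideal.algebraMap_residueField_eq_zero (I := ann d)).1 h3)
  have h0 : (TensorProduct.mk A A₁ C 1) (t₀ * b₀) = 0 := by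
    show (1 : A₁) ⊗ₜ[A] (t₀ * b₀) = 0
    rw [show (1 : A₁) ⊗ₜ[A] (t₀ * b₀) = ((1 : A₁) ⊗ₜ[A] t₀) * ((1 : A₁) ⊗ₜ[A] b₀) by simp, ← hts,
      smul_mul_assoc, ht0, smul_zero]
  obtain ⟨⟨s₁, hs₁⟩, hs₁0⟩ := (IsLocalizedModule.eq_zero_iff p₁.primeCompl _).1 h0
  change s₁ • (t₀ * b₀) = 0 at hs₁0
  have hmem : algebraMap A C s₁ * t₀ ∈ ann d := by
    rw [hann, show algebraMap A C s₁ * t₀ * (d * b₀) = d * (algebraMap A C s₁ * (t₀ * b₀)) by ring,
      ← Algebra.smul_def, hs₁0, mul_zero, map_zero]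
  exact (hP.mem_or_mem hmem).elim (fun h => hs₁ h) ht₀

end Groth.Agent.GeomUnib
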