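import Groth.Agent.GeomUnib.GeomRedGen
import Groth.Agent.GeomUnib.GeomRedFibre
import Groth.Agent.GeomUnib.GeomRedStalk

/-!
# Geometric reducedness at generisations, on schemes
-/

set_option autoImplicit false
set_option linter.style.haveILetI false
set_option backward.isDefEq.respectTransparency false
set_option maxHeartbeats 1000000
set_option synthInstance.maxHeartbeats 200000

universe u

open CategoryTheory CategoryTheory.Limits AlgebraicGeometry IsLocalRing TensorProduct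

namespace Groth.Agent.GeomUnib

variable {X Y : Scheme.{u}} (f : X ⟶ Y) {U : Y.Opens} (hU : IsAffineOpen U) {V : X.Opens} (hV : IsAffineOpen V)
  (hVU : V ≤ f ⁻¹ᵁ U) {x : X} (hx : x ∈ V)

include hU hV hVU hx in
theorem comap_primeIdeal_appLE :
    letI := (f.appLE U V hVU).hom.toAlgebra
    (hV.primeIdealOf ⟨x, hx⟩).asIdeal.comap (algebraMap Γ(Y, U) Γ(X, V)) =
      (hU.primeIdealOf ⟨f.base x, hVU hx⟩).asIdeal :=
  congr($(IsAffineOpen.comap_primeIdealOf_appLE U hU V hV hVU hx).1)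

include hU hV hVU hx in
theorem grAt_of_isGeomReducedAt
    (hred : FBase.IsGeomReducedAt (f.fiberToSpecResidueField (f.base x)) (f.asFiber x)) :
    letI := (f.appLE U V hVU).hom.toAlgebra
    GRAt Γ(Y, U) Γ(X, V) (hV.primeIdealOf ⟨x, hx⟩).asIdeal := by
  letI := (f.appLE U V hVU).hom.toAlgebra
  refine grAt_iff_isReduced.2 fun K _ _ hK P _ hP => ?_
  exact isReduced_localization_tensor f hU hV hVU hx hred K
    (hK.trans (comap_primeIdeal_appLE f hU hV hVU hx)) P hP

include hU hV hVU hx in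
theorem isGeomReducedAt_of_grAt
    (h : letI := (f.appLE U V hVU).hom.toAlgebra
      GRAt Γ(Y, U) Γ(X, V) (hV.primeIdealOf ⟨x, hx⟩).asIdeal) :
    FBase.IsGeomReducedAt (f.fiberToSpecResidueField (f.base x)) (f.asFiber x) := by
  letI := (f.appLE U V hVU).hom.toAlgebra
  intro K _ alg w hw
  letI : Algebra ↑(Y.residueField (f.base x)) K := alg
  let sp : Spec (CommRingCat.of K) ⟶ Spec (CommRingCat.of ↑(Y.residueField (f.base x))) :=
    Spec.map (CommRingCat.ofHom (algebraMap (Y.residueField (f.base x)) K))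
  let g : Spec (CommRingCat.of K) ⟶ Y := sp ≫ Y.fromSpecResidueField (f.base x)
  have hpt : ∀ a, g a = f.base x := fun a => by
    rw [Scheme.Hom.comp_apply]; exact Scheme.fromSpecResidueField_apply _ _
  have hr : Set.range g ⊆ Set.range hU.fromSpec := by
    rintro _ ⟨a, rfl⟩
    rw [hpt, hU.range_fromSpec]
    exact hVU hx
  obtain ⟨θ, hθ⟩ := Spec.map_surjective (IsOpenImmersion.lift hU.fromSpec g hr)
  letI : Algebra Γ(Y, U) K := θ.hom.toAlgebra
  have hg' : 𝟙 _ ≫ g = Spec.map (CommRingCat.ofHom (algebraMap Γ(Y, U) K)) ≫ hU.fromSpec := by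
    rw [Category.id_comp, show CommRingCat.ofHom (algebraMap Γ(Y, U) K) = θ from rfl, hθ, IsOpenImmersion.lift_fac]
  have hK : RingHom.ker (algebraMap Γ(Y, U) K) =
      (hV.primeIdealOf ⟨x, hx⟩).asIdeal.comap (algebraMap Γ(Y, U) Γ(X, V)) := by
    rw [comap_primeIdeal_appLE f hU hV hVU hx]
    have h1 : PrimeSpectrum.comap (algebraMap Γ(Y, U) K) (IsLocalRing.closedPoint K) =
        hU.primeIdealOf ⟨f.base x, hVU hx⟩ := by
      refine hU.fromSpec.isOpenEmbedding.injective ?_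
      rw [hU.fromSpec_primeIdealOf]
      exact (congr($hg' (IsLocalRing.closedPoint K))).symm.trans (hpt _)
    rw [← h1]
    show _ = (IsLocalRing.closedPoint K).asIdeal.comap _
    rw [Ideal.eq_bot_of_prime (IsLocalRing.closedPoint K).asIdeal, ← RingHom.ker_eq_comap_bot]
  obtain ⟨Φ, hΦ, hfst, -, hsurj⟩ := UnivOpenAt.exists_chart f hU hV hVU g K (𝟙 _) hg'
  let e := pullbackLeftPullbackSndIso f (Y.fromSpecResidueField (f.base x)) sp
  let w' : ↥(pullback f g) := e.hom w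
  have hw' : pullback.fst f g w' = x := by
    rw [← Scheme.Hom.comp_apply, pullbackLeftPullbackSndIso_hom_fst, Scheme.Hom.comp_apply]
    exact (congrArg (f.fiberι (f.base x)) hw).trans (f.fiberι_asFiber x)
  obtain ⟨P, hP⟩ := hsurj w' (hw'.symm ▸ hx) ⟨_, rfl⟩
  have hPx : P.asIdeal.comap (UnivOpenAt.inr Γ(Y, U) Γ(X, V) K) = (hV.primeIdealOf ⟨x, hx⟩).asIdeal :=
    (UnivOpenAt.fromSpec_eq_iff hV hx _).1 ((hfst P).symm.trans (hP ▸ hw'))
  haveI := (grAt_iff_isReduced.1 h) K hK P.asIdeal hPx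
  haveI : _root_.IsReduced ((pullback f g).presheaf.stalk w') := by
    rw [← hP]
    let σ := ((asIso (Φ.stalkMap P)) ≪≫ Spec.stalkIso (CommRingCat.of (K ⊗[Γ(Y, U)] Γ(X, V))) P).commRingCatIsoToRingEquiv
    exact isReduced_of_injective σ σ.injective
  exact isReduced_of_injective (asIso (e.hom.stalkMap w)).commRingCatIsoToRingEquiv.symm
    (asIso (e.hom.stalkMap w)).commRingCatIsoToRingEquiv.symm.injective

include hU hV hVU hx in
/-- The torsion hypothesis from openness at the generic points of the fibre. -/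
theorem torAt_of_forall_generic
    (hopen : ∀ z : X, f.base z = f.base x → z ⤳ x →
      (∀ z' : X, f.base z' = f.base x → z' ⤳ z → z' = z) → EGA43.IsUnivOpenAt f z) :
    letI := (f.appLE U V hVU).hom.toAlgebra
    ∀ q₀ : Ideal Γ(X, V), q₀.IsPrime → q₀ ≤ (hV.primeIdealOf ⟨x, hx⟩).asIdeal →
      (∀ r : Ideal Γ(X, V), r.IsPrime → r ≤ q₀ →
        r.comap (algebraMap Γ(Y, U) Γ(X, V)) =
          (hV.primeIdealOf ⟨x, hx⟩).asIdeal.comap (algebraMap Γ(Y, U) Γ(X, V)) → r = q₀) →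
      q₀.comap (algebraMap Γ(Y, U) Γ(X, V)) =
        (hV.primeIdealOf ⟨x, hx⟩).asIdeal.comap (algebraMap Γ(Y, U) Γ(X, V)) →
      ∀ (W : Type u) [CommRing W] [IsDomain W] [Algebra Γ(Y, U) W],
        UnivOpenAt.TorAt (A := Γ(Y, U)) q₀ W := by
  letI := (f.appLE U V hVU).hom.toAlgebra
  intro q₀ hq₀ hle hmin heq W _ _ _
  have key : ∀ t : PrimeSpectrum Γ(X, V),
      f.base (hV.fromSpec t) = hU.fromSpec (PrimeSpectrum.comap (algebraMap Γ(Y, U) Γ(X, V)) t) := fun t => by
    rw [← Scheme.Hom.comp_apply, ← IsAffineOpen.SpecMap_appLE_fromSpec f hU hV hVU, Scheme.Hom.comp_apply]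
    rfl
  have hfx : f.base x = hU.fromSpec (PrimeSpectrum.comap (algebraMap Γ(Y, U) Γ(X, V)) (hV.primeIdealOf ⟨x, hx⟩)) := by
    rw [← key, hV.fromSpec_primeIdealOf]
  let t₀ : PrimeSpectrum Γ(X, V) := ⟨q₀, hq₀⟩
  let z := hV.fromSpec t₀
  have hzV : z ∈ V := hV.range_fromSpec.le ⟨t₀, rfl⟩
  have hzx : z ⤳ x := by
    have := ((PrimeSpectrum.le_iff_specializes t₀ (hV.primeIdealOf ⟨x, hx⟩)).1 hle).map hV.fromSpec.continuous
    rwa [hV.fromSpec_primeIdealOf] at this
  have hz : f.base z = f.base x := by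
    rw [key, hfx]
    exact congrArg hU.fromSpec (PrimeSpectrum.ext heq)
  have h := UnivOpenAt.torAt_of_isUnivOpenAt f hU hV hVU hzV (hopen z hz hzx fun z' hz' hsp => by
    obtain ⟨t, rfl⟩ : z' ∈ Set.range hV.fromSpec := by
      rw [hV.range_fromSpec]; exact hsp.mem_open V.2 hzV
    rw [key, hfx] at hz'
    have h1 := congrArg PrimeSpectrum.asIdeal (hU.fromSpec.isOpenEmbedding.injective hz')
    have h2 : t.asIdeal ≤ q₀ := (PrimeSpectrum.le_iff_specializes t t₀).2
      (hV.fromSpec.isOpenEmbedding.toIsInducing.specializes_iff.1 hsp)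
    exact congrArg hV.fromSpec (PrimeSpectrum.ext (hmin t.asIdeal t.2 h2 h1))) W
  rwa [show hV.primeIdealOf ⟨z, hzV⟩ = t₀ from
    hV.fromSpec.isOpenEmbedding.injective (hV.fromSpec_primeIdealOf _)] at h

omit hU hV hVU hx in
/-- Geometric reducedness of fibres passes to generisations. -/
theorem isGeomReducedAt_of_specializes [IsLocallyNoetherian Y] [LocallyOfFiniteType f] {x' x : X} (hsp : x' ⤳ x)
    (hopen : ∀ z : X, f.base z = f.base x → z ⤳ x →
      (∀ z' : X, f.base z' = f.base x → z' ⤳ z → z' = z) → EGA43.IsUnivOpenAt f z)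
    (hred : FBase.IsGeomReducedAt (f.fiberToSpecResidueField (f.base x)) (f.asFiber x)) :
    FBase.IsGeomReducedAt (f.fiberToSpecResidueField (f.base x')) (f.asFiber x') := by
  obtain ⟨U, hU, hxU, -⟩ := exists_isAffineOpen_mem_and_subset (U := (⊤ : Y.Opens)) (x := f.base x) trivial
  obtain ⟨V, hV, hxV, hVU⟩ := exists_isAffineOpen_mem_and_subset (U := f ⁻¹ᵁ U) (x := x) hxU
  have hx'V : x' ∈ V := hsp.mem_open V.2 hxV
  letI := (f.appLE U V hVU).hom.toAlgebra
  haveI : IsNoetherianRing Γ(Y, U) := IsLocallyNoetherian.component_noetherian ⟨U, hU⟩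
  haveI : Algebra.FiniteType Γ(Y, U) Γ(X, V) := f.finiteType_appLE hU hV hVU
  have hle : (hV.primeIdealOf ⟨x', hx'V⟩).asIdeal ≤ (hV.primeIdealOf ⟨x, hxV⟩).asIdeal := by
    refine (PrimeSpectrum.le_iff_specializes _ _).2 (hV.fromSpec.isOpenEmbedding.toIsInducing.specializes_iff.1 ?_)
    rw [hV.fromSpec_primeIdealOf, hV.fromSpec_primeIdealOf]
    exact hsp
  exact isGeomReducedAt_of_grAt f hU hV hVU hx'V (grAt_of_le
    (grAt_of_isGeomReducedAt f hU hV hVU hxV hred) (torAt_of_forall_generic f hU hV hVU hxV hopen) hle)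

omit hU hV hVU hx in
/-- Flat with geometrically reduced fibres over a reduced local base gives a reduced stalk. -/
theorem isReduced_stalk_of_isGeomReducedAt [IsLocallyNoetherian Y] [LocallyOfFiniteType f] (x : X)
    (hopen : ∀ z : X, f.base z = f.base x → z ⤳ x →
      (∀ z' : X, f.base z' = f.base x → z' ⤳ z → z' = z) → EGA43.IsUnivOpenAt f z)
    (hred : FBase.IsGeomReducedAt (f.fiberToSpecResidueField (f.base x)) (f.asFiber x))
    (hy : _root_.IsReduced (Y.presheaf.stalk (f.base x))) (hflat : (f.stalkMap x).hom.Flat) :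
    _root_.IsReduced (X.presheaf.stalk x) := by
  obtain ⟨U, hU, hxU, -⟩ := exists_isAffineOpen_mem_and_subset (U := (⊤ : Y.Opens)) (x := f.base x) trivial
  obtain ⟨V, hV, hxV, hVU⟩ := exists_isAffineOpen_mem_and_subset (U := f ⁻¹ᵁ U) (x := x) hxU
  letI := (f.appLE U V hVU).hom.toAlgebra
  haveI : IsNoetherianRing Γ(Y, U) := IsLocallyNoetherian.component_noetherian ⟨U, hU⟩
  haveI : Algebra.FiniteType Γ(Y, U) Γ(X, V) := f.finiteType_appLE hU hV hVU
  haveI : IsNoetherianRing Γ(X, V) := Algebra.FiniteType.isNoetherianRing Γ(Y, U) _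
  let p := (hU.primeIdealOf ⟨f.base x, hVU hxV⟩).asIdeal
  let q := (hV.primeIdealOf ⟨x, hxV⟩).asIdeal
  haveI : q.LiesOver p := ⟨(comap_primeIdeal_appLE f hU hV hVU hxV).symm⟩
  letI := Localization.AtPrime.algebraOfLiesOver p q
  have h1 := (RingHom.Flat.respectsIso.arrow_mk_iso_iff (IsAffineOpen.arrowStalkMapIso f U hU V hV hVU hxV)).1 hflat
  haveI : Module.Flat (Localization.AtPrime p) (Localization.AtPrime q) := RingHom.flat_algebraMap_iff.1 h1
  haveI : Module.Flat Γ(Y, U) (Localization.AtPrime q) :=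
    (Module.flat_iff_of_isLocalization (Localization.AtPrime p) p.primeCompl _).1 inferInstance
  have hA : ∀ a : Γ(Y, U), IsNilpotent a → ∃ s ∉ q.comap (algebraMap Γ(Y, U) Γ(X, V)), s * a = 0 := by
    intro a ha
    letI := Y.presheaf.algebra_section_stalk ⟨f.base x, hVU hxV⟩
    haveI := hU.isLocalization_stalk ⟨f.base x, hVU hxV⟩
    haveI := hy
    obtain ⟨⟨s, hs⟩, h⟩ := (IsLocalization.map_eq_zero_iff p.primeCompl
      (Y.presheaf.stalk (f.base x)) a).1 (IsReduced.eq_zero _ (ha.map (algebraMap _ _)))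
    exact ⟨s, fun hh => hs ((comap_primeIdeal_appLE f hU hV hVU hxV).le hh), h⟩
  haveI := isReduced_of_grAt q hA fun P _ hP => grAt_of_le
    (grAt_of_isGeomReducedAt f hU hV hVU hxV hred) (torAt_of_forall_generic f hU hV hVU hxV hopen) hP
  letI := X.presheaf.algebra_section_stalk ⟨x, hxV⟩
  haveI := hV.isLocalization_stalk ⟨x, hxV⟩
  exact isReduced_of_injective (IsLocalization.algEquiv q.primeCompl (X.presheaf.stalk x) (Localization.AtPrime q))
    (IsLocalization.algEquiv q.primeCompl (X.presheaf.stalk x) (Localization.AtPrime q)).injective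

omit hU hV hVU hx in
/-- The reduced locus of a locally Noetherian scheme is open. -/
theorem isOpen_isReduced_stalk [IsLocallyNoetherian X] :
    IsOpen {z : X | _root_.IsReduced (X.presheaf.stalk z)} := by
  classical
  refine isOpen_iff_forall_mem_open.2 fun z hz => ?_
  obtain ⟨V, hV, hzV, -⟩ := exists_isAffineOpen_mem_and_subset (U := (⊤ : X.Opens)) (x := z) trivial
  haveI : IsNoetherianRing Γ(X, V) := IsLocallyNoetherian.component_noetherian ⟨V, hV⟩
  haveI : _root_.IsReduced (X.presheaf.stalk z) := hz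
  letI := X.presheaf.algebra_section_stalk ⟨z, hzV⟩
  haveI := hV.isLocalization_stalk ⟨z, hzV⟩
  obtain ⟨t, ht⟩ := IsNoetherian.noetherian (nilradical Γ(X, V))
  have h1 : ∀ a ∈ t, ∃ s ∉ (hV.primeIdealOf ⟨z, hzV⟩).asIdeal, s * a = 0 := fun a ha => by
    obtain ⟨⟨s, hs⟩, h⟩ := (IsLocalization.map_eq_zero_iff (hV.primeIdealOf ⟨z, hzV⟩).asIdeal.primeCompl
      (X.presheaf.stalk z) a).1 (IsReduced.eq_zero _
        ((mem_nilradical.1 (ht ▸ Submodule.subset_span ha)).map (algebraMap _ _)))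
    exact ⟨s, hs, h⟩
  choose! σ hσ hσ0 using h1
  let s := ∏ a ∈ t, σ a
  have hkill : ∀ a : Γ(X, V), IsNilpotent a → s * a = 0 := fun a ha => by
    have ha' : a ∈ Ideal.span (t : Set Γ(X, V)) := by
      rw [show Ideal.span (t : Set Γ(X, V)) = _ from ht]; exact mem_nilradical.2 ha
    refine Submodule.span_induction (p := fun a _ => s * a = 0) (fun b hb => ?_) (mul_zero _)
      (fun b c _ _ hb hc => by rw [mul_add, hb, hc, add_zero])
      (fun r b _ hb => by rw [smul_eq_mul, mul_left_comm, hb, mul_zero]) ha'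
    obtain ⟨d, hd⟩ := Finset.dvd_prod_of_mem σ hb
    show (∏ a ∈ t, σ a) * b = 0
    rw [hd, mul_right_comm, hσ0 b hb, zero_mul]
  refine ⟨hV.fromSpec '' ((PrimeSpectrum.basicOpen s : TopologicalSpace.Opens (PrimeSpectrum Γ(X, V))) : Set (PrimeSpectrum Γ(X, V))), ?_,
    hV.fromSpec.isOpenEmbedding.isOpenMap _ (PrimeSpectrum.isOpen_basicOpen (a := s)),
    ⟨hV.primeIdealOf ⟨z, hzV⟩, (fun h => ?_ : s ∉ (hV.primeIdealOf ⟨z, hzV⟩).asIdeal), hV.fromSpec_primeIdealOf _⟩⟩
  · rintro _ ⟨P, hP, rfl⟩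
    have hPV : hV.fromSpec P ∈ V := hV.range_fromSpec.le ⟨P, rfl⟩
    letI := X.presheaf.algebra_section_stalk ⟨hV.fromSpec P, hPV⟩
    haveI := hV.isLocalization_stalk ⟨hV.fromSpec P, hPV⟩
    have hs : s ∉ (hV.primeIdealOf ⟨hV.fromSpec P, hPV⟩).asIdeal := by
      rw [show hV.primeIdealOf ⟨hV.fromSpec P, hPV⟩ = P from
        hV.fromSpec.isOpenEmbedding.injective (hV.fromSpec_primeIdealOf _)]
      exact hP
    refine ⟨fun w ⟨n, hn⟩ => ?_⟩
    obtain ⟨⟨b, d⟩, rfl⟩ := IsLocalization.mk'_surjective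
      (hV.primeIdealOf ⟨hV.fromSpec P, hPV⟩).asIdeal.primeCompl w |>.imp fun _ h => h
    rw [← IsLocalization.mk'_pow, IsLocalization.mk'_eq_zero_iff] at hn
    obtain ⟨⟨m, hm⟩, hmb⟩ := hn
    change m * b ^ n = 0 at hmb
    refine (IsLocalization.mk'_eq_zero_iff _ _).2 ⟨⟨s * m, fun h => (Ideal.IsPrime.mem_or_mem inferInstance h).elim hs hm⟩, ?_⟩
    show s * m * b = 0
    rw [mul_assoc]
    exact hkill _ ⟨n + 1, by
      calc (m * b) ^ (n + 1) = m ^ n * b * (m * b ^ n) := by ring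
        _ = 0 := by rw [hmb, mul_zero]⟩
  · obtain ⟨a, ha, h⟩ := (Ideal.IsPrime.prod_mem_iff (p := (hV.primeIdealOf ⟨z, hzV⟩).asIdeal)).1 h
    exact hσ a ha h

end Groth.Agent.GeomUnib
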