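import Groth.Agent.GeomUnib.GeomRedDescent
import Groth.Agent.GeomUnib.GeomRedScheme
import Groth.Agent.FlatDescent.Scheme
import Groth.Agent.FlatDescent.Global

/-!
# Geometric reducedness of fibres of flat morphisms locally of finite presentation
-/

set_option autoImplicit false
set_option linter.unusedSectionVars false
set_option linter.style.haveILetI false
set_option maxHeartbeats 1000000
set_option synthInstance.maxHeartbeats 200000

universe u

namespace Groth.Agent.GeomUnib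

open IsLocalRing TensorProduct UnivOpenAt

/-- For a flat algebra of finite presentation the geometrically reduced locus is open. -/
theorem isOpen_grAt {A C : Type u} [CommRing A] [CommRing C] [Algebra A C]
    [Algebra.FinitePresentation A C] [Module.Flat A C] :
    IsOpen {q : PrimeSpectrum C | GRAt A C q.asIdeal} := by
  obtain ⟨A₀, C₀, _, _, φ, hfg, _, _, -, h⟩ := exists_grAt_model A C
  haveI : Algebra.FiniteType ℤ A₀ := (Subalgebra.fg_iff_finiteType A₀).1 hfg
  haveI : IsNoetherianRing A₀ := Algebra.FiniteType.isNoetherianRing ℤ A₀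
  rw [show {q : PrimeSpectrum C | GRAt A C q.asIdeal} =
      PrimeSpectrum.comap φ ⁻¹' {q | GRAt A₀ C₀ q.asIdeal} from Set.ext fun q => h q.asIdeal q.2]
  exact isOpen_grAt_of_noetherian.preimage (PrimeSpectrum.continuous_comap φ)

/-- Nilpotents of a flat algebra of finite presentation over a reduced ring die outside a point with
geometrically reduced fibre. -/
theorem exists_notMem_mul_eq_zero_of_reduced {A C : Type u} [CommRing A] [_root_.IsReduced A] [CommRing C]
    [Algebra A C] [Algebra.FinitePresentation A C] [Module.Flat A C] (q : Ideal C) [q.IsPrime]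
    (hq : GRAt A C q) {c : C} (hc : IsNilpotent c) : ∃ s, s ∉ q ∧ s * c = 0 := by
  classical
  obtain ⟨A₀, C₀, _, _, hfg, hflat, hfp, ⟨e⟩⟩ := FppfSource.exists_subalgebra_fg_flat_int A C
  haveI : Algebra.FiniteType ℤ A₀ := (Subalgebra.fg_iff_finiteType A₀).1 hfg
  haveI : IsNoetherianRing A₀ := Algebra.FiniteType.isNoetherianRing ℤ A₀
  obtain ⟨t, ht⟩ := TensorProduct.exists_finset (e c)
  let A₁ : Subalgebra A₀ A := Algebra.adjoin A₀ ((t.image Prod.fst : Finset A) : Set A)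
  haveI : Algebra.FiniteType A₀ A₁ := (Subalgebra.fg_iff_finiteType A₁).1 (Subalgebra.fg_adjoin_finset _)
  haveI : IsNoetherianRing A₁ := Algebra.FiniteType.isNoetherianRing A₀ A₁
  haveI : _root_.IsReduced A₁ := isReduced_of_injective A₁.val Subtype.val_injective
  let μ : A₁ ⊗[A₀] C₀ →ₐ[A₀] A ⊗[A₀] C₀ := Algebra.TensorProduct.map A₁.val (AlgHom.id A₀ C₀)
  have hμ : Function.Injective μ :=
    Module.Flat.rTensor_preserves_injective_linearMap A₁.val.toLinearMap Subtype.val_injective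
  obtain ⟨c₁, hc₁⟩ : ∃ c₁, μ c₁ = e c := by
    refine ⟨∑ x ∈ t.attach, (⟨x.1.1, Algebra.subset_adjoin (Finset.mem_image_of_mem _ x.2)⟩ : A₁) ⊗ₜ x.1.2, ?_⟩
    rw [map_sum, ht]
    simp only [μ, Algebra.TensorProduct.map_tmul, AlgHom.coe_id, id_eq, Subalgebra.coe_val]
    exact Finset.sum_attach t fun x => x.1 ⊗ₜ[A₀] x.2
  have hc₁' : IsNilpotent c₁ := (IsNilpotent.map_iff hμ).1 (hc₁ ▸ hc.map e)
  let qA := q.comap e.symm.toRingEquiv.toRingHom
  let q₁ := qA.comap μ.toRingHom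
  have hGR₀ : GRAt A₀ C₀ (qA.comap (inr A₀ C₀ A)) :=
    (grAt_tensor_iff qA).1 ((grAt_algEquiv e.symm q).1 hq)
  have hGR₁ : GRAt A₁ (A₁ ⊗[A₀] C₀) q₁ := by
    refine (grAt_tensor_iff q₁).2 ?_
    rw [show q₁.comap (inr A₀ C₀ A₁) = qA.comap (inr A₀ C₀ A) by
      ext d
      show μ (1 ⊗ₜ d) ∈ qA ↔ (1 : A) ⊗ₜ d ∈ qA
      rw [show μ (1 ⊗ₜ d) = A₁.val 1 ⊗ₜ d from rfl, map_one]]
    exact hGR₀
  haveI : IsNoetherianRing (A₁ ⊗[A₀] C₀) := Algebra.FiniteType.isNoetherianRing A₁ (A₁ ⊗[A₀] C₀)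
  haveI : Module.Flat A₁ (Localization.AtPrime q₁) :=
    Module.Flat.trans A₁ (A₁ ⊗[A₀] C₀) (Localization.AtPrime q₁)
  haveI := isReduced_of_grAt (A := A₁) q₁
    (fun a ha => ⟨1, fun h => (Ideal.comap_ne_top _ (Ideal.IsPrime.ne_top inferInstance)) ((Ideal.eq_top_iff_one _).2 h),
      by rw [IsReduced.eq_zero a ha, mul_zero]⟩)
    fun P _ hP => grAt_of_le hGR₁ (fun q₀ _ _ _ _ W _ _ _ => torAt_of_flatAlg q₀ W) hP
  obtain ⟨⟨s, hs⟩, hsc⟩ := (IsLocalization.map_eq_zero_iff q₁.primeCompl (Localization.AtPrime q₁) c₁).1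
    (IsReduced.eq_zero _ (hc₁'.map (algebraMap _ _)))
  refine ⟨e.symm (μ s), hs, ?_⟩
  have := congrArg (fun z => e.symm (μ z)) hsc
  simpa [hc₁] using this

attribute [local instance] Algebra.TensorProduct.rightAlgebra in
/-- Nilpotents die outside a point with geometrically reduced fibre when the base is reduced at the
image point. -/
theorem exists_notMem_mul_eq_zero_of_reduced_at {A C : Type u} [CommRing A] [CommRing C]
    [Algebra A C] [Algebra.FinitePresentation A C] [Module.Flat A C] (p : Ideal A) [p.IsPrime] (q : Ideal C)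
    [q.IsPrime] (hpq : q.comap (algebraMap A C) = p) [_root_.IsReduced (Localization.AtPrime p)]
    (hq : GRAt A C q) {c : C} (hc : IsNilpotent c) : ∃ s, s ∉ q ∧ s * c = 0 := by
  let A' := Localization.AtPrime p
  haveI : IsLocalization (Algebra.algebraMapSubmonoid C p.primeCompl) (A' ⊗[A] C) :=
    IsLocalization.tensorRight A' p.primeCompl
  have hdisj : Disjoint ((Algebra.algebraMapSubmonoid C p.primeCompl : Submonoid C) : Set C) (q : Set C) := by
    rw [Set.disjoint_left]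
    rintro _ ⟨s, hs, rfl⟩ hsq
    exact hs (hpq.le hsq)
  let q' := q.map (algebraMap C (A' ⊗[A] C))
  haveI : q'.IsPrime := IsLocalization.isPrime_of_isPrime_disjoint _ (A' ⊗[A] C) q inferInstance hdisj
  have hq' : q'.comap (inr A C A') = q :=
    IsLocalization.comap_map_of_isPrime_disjoint _ (A' ⊗[A] C) inferInstance hdisj
  obtain ⟨s', hs', hsc⟩ := exists_notMem_mul_eq_zero_of_reduced (A := A') (C := A' ⊗[A] C) q'
    ((grAt_tensor_iff q').2 (hq'.symm ▸ hq)) (hc.map (algebraMap C (A' ⊗[A] C)))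
  obtain ⟨⟨s, d⟩, hsd⟩ := IsLocalization.surj (Algebra.algebraMapSubmonoid C p.primeCompl) s'
  have hs : s ∉ q := fun h => hs' <| by
    have h1 : s' * algebraMap C (A' ⊗[A] C) d ∈ q' := hsd ▸ Ideal.mem_map_of_mem _ h
    exact (Ideal.unit_mul_mem_iff_mem q' (IsLocalization.map_units _ d)).1 (mul_comm s' _ ▸ h1)
  have h0 : algebraMap C (A' ⊗[A] C) (s * c) = 0 := by
    rw [map_mul, ← hsd, mul_right_comm, hsc, zero_mul]
  obtain ⟨⟨m, hm⟩, hm0⟩ := (IsLocalization.map_eq_zero_iff (Algebra.algebraMapSubmonoid C p.primeCompl) _ _).1 h0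
  refine ⟨m * s, fun h => ((Ideal.IsPrime.mem_or_mem inferInstance h).elim (Set.disjoint_left.1 hdisj hm) hs), ?_⟩
  rw [mul_assoc]
  exact hm0

section scheme

open CategoryTheory AlgebraicGeometry

set_option backward.isDefEq.respectTransparency false

/-- The locus of geometrically reduced fibres of a flat morphism locally of finite presentation is open. -/
theorem isOpen_isGeomReducedAt {X Y : Scheme.{u}} (f : X ⟶ Y) [Flat f] [LocallyOfFinitePresentation f] :
    IsOpen {x : X | FBase.IsGeomReducedAt (f.fiberToSpecResidueField (f.base x)) (f.asFiber x)} := by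
  refine isOpen_iff_forall_mem_open.2 fun x hx => ?_
  obtain ⟨U, hU, hxU, -⟩ := exists_isAffineOpen_mem_and_subset (U := (⊤ : Y.Opens)) (x := f.base x) trivial
  obtain ⟨V, hV, hxV, hVU⟩ := exists_isAffineOpen_mem_and_subset (U := f ⁻¹ᵁ U) (x := x) hxU
  letI := (f.appLE U V hVU).hom.toAlgebra
  haveI : Module.Flat Γ(Y, U) Γ(X, V) := f.flat_appLE hU hV hVU
  haveI : Algebra.FinitePresentation Γ(Y, U) Γ(X, V) := f.finitePresentation_appLE hU hV hVU
  have hiff : ∀ z (hz : z ∈ V), FBase.IsGeomReducedAt (f.fiberToSpecResidueField (f.base z)) (f.asFiber z) ↔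
      GRAt Γ(Y, U) Γ(X, V) (hV.primeIdealOf ⟨z, hz⟩).asIdeal := fun z hz =>
    ⟨grAt_of_isGeomReducedAt f hU hV hVU hz, isGeomReducedAt_of_grAt f hU hV hVU hz⟩
  refine ⟨hV.fromSpec '' {q : PrimeSpectrum Γ(X, V) | GRAt Γ(Y, U) Γ(X, V) q.asIdeal}, ?_,
    hV.fromSpec.isOpenEmbedding.isOpenMap _ isOpen_grAt,
    ⟨hV.primeIdealOf ⟨x, hxV⟩, (hiff x hxV).1 hx, hV.fromSpec_primeIdealOf _⟩⟩
  rintro _ ⟨P, hP, rfl⟩
  have hPV : hV.fromSpec P ∈ V := hV.range_fromSpec.le ⟨P, rfl⟩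
  have hPP : hV.primeIdealOf ⟨hV.fromSpec P, hPV⟩ = P :=
    hV.fromSpec.isOpenEmbedding.injective (hV.fromSpec_primeIdealOf _)
  refine (hiff _ hPV).2 ?_
  rw [hPP]
  exact hP

/-- A flat morphism locally of finite presentation with geometrically reduced fibre over a point where
the base is reduced has reduced local ring. -/
theorem isReduced_stalk_of_flat {X Y : Scheme.{u}} (f : X ⟶ Y) [Flat f] [LocallyOfFinitePresentation f] (x : X)
    (hy : _root_.IsReduced (Y.presheaf.stalk (f.base x)))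
    (hx : FBase.IsGeomReducedAt (f.fiberToSpecResidueField (f.base x)) (f.asFiber x)) :
    _root_.IsReduced (X.presheaf.stalk x) := by
  obtain ⟨U, hU, hxU, -⟩ := exists_isAffineOpen_mem_and_subset (U := (⊤ : Y.Opens)) (x := f.base x) trivial
  obtain ⟨V, hV, hxV, hVU⟩ := exists_isAffineOpen_mem_and_subset (U := f ⁻¹ᵁ U) (x := x) hxU
  letI := (f.appLE U V hVU).hom.toAlgebra
  haveI : Module.Flat Γ(Y, U) Γ(X, V) := f.flat_appLE hU hV hVU
  haveI : Algebra.FinitePresentation Γ(Y, U) Γ(X, V) := f.finitePresentation_appLE hU hV hVU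
  let p := (hU.primeIdealOf ⟨f.base x, hVU hxV⟩).asIdeal
  let q := (hV.primeIdealOf ⟨x, hxV⟩).asIdeal
  haveI : _root_.IsReduced (Localization.AtPrime p) := by
    letI := Y.presheaf.algebra_section_stalk ⟨f.base x, hVU hxV⟩
    haveI := hU.isLocalization_stalk ⟨f.base x, hVU hxV⟩
    haveI := hy
    let σ := IsLocalization.algEquiv p.primeCompl (Localization.AtPrime p) (Y.presheaf.stalk (f.base x))
    exact isReduced_of_injective σ σ.injective
  letI := X.presheaf.algebra_section_stalk ⟨x, hxV⟩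
  haveI := hV.isLocalization_stalk ⟨x, hxV⟩
  refine ⟨fun z ⟨n, hn⟩ => ?_⟩
  obtain ⟨b, ⟨s, hs⟩, rfl⟩ := IsLocalization.exists_mk'_eq q.primeCompl z
  rw [← IsLocalization.mk'_pow, IsLocalization.mk'_eq_zero_iff] at hn
  obtain ⟨⟨m, hm⟩, hmb⟩ := hn
  change m * b ^ n = 0 at hmb
  obtain ⟨t, ht, htb⟩ := exists_notMem_mul_eq_zero_of_reduced_at p q (comap_primeIdeal_appLE f hU hV hVU hxV)
    (grAt_of_isGeomReducedAt f hU hV hVU hxV hx) (c := m * b) ⟨n + 1, by
      calc (m * b) ^ (n + 1) = m ^ n * b * (m * b ^ n) := by ring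
        _ = 0 := by rw [hmb, mul_zero]⟩
  refine (IsLocalization.mk'_eq_zero_iff _ _).2 ⟨⟨t * m, fun h => (Ideal.IsPrime.mem_or_mem inferInstance h).elim ht hm⟩, ?_⟩
  show t * m * b = 0
  rw [mul_assoc]
  exact htb

/-- The locus of flatness and geometrically reduced fibre is open. -/
theorem isOpen_flat_isGeomReducedAt {X Y : Scheme.{u}} (f : X ⟶ Y) [LocallyOfFinitePresentation f] :
    IsOpen {x : X | (f.stalkMap x).hom.Flat ∧
      FBase.IsGeomReducedAt (f.fiberToSpecResidueField (f.base x)) (f.asFiber x)} := by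
  refine isOpen_iff_forall_mem_open.2 fun x hx => ?_
  let F : X.Opens := ⟨_, Groth.FlatDescent.isOpen_flatLocus_hom f⟩
  obtain ⟨U, hU, hxU, -⟩ := exists_isAffineOpen_mem_and_subset (U := (⊤ : Y.Opens)) (x := f.base x) trivial
  obtain ⟨V, hV, hxV, hVle⟩ := exists_isAffineOpen_mem_and_subset (U := F ⊓ f ⁻¹ᵁ U) (x := x) ⟨hx.1, hxU⟩
  have hVU : V ≤ f ⁻¹ᵁ U := fun z hz => (hVle hz).2
  letI := (f.appLE U V hVU).hom.toAlgebra
  haveI : Algebra.FinitePresentation Γ(Y, U) Γ(X, V) := f.finitePresentation_appLE hU hV hVU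
  haveI : Module.Flat Γ(Y, U) Γ(X, V) := Groth.FlatDescent.flat_of_flatAt (P := Γ(X, V)) fun Q hQ => by
    have hQV : hV.fromSpec ⟨Q, hQ.isPrime⟩ ∈ V := hV.range_fromSpec.le ⟨_, rfl⟩
    have h := (Groth.FlatDescent.flat_stalkMap_iff f hU hV hVU hQV).1 (hVle hQV).1
    rwa [show hV.primeIdealOf ⟨_, hQV⟩ = ⟨Q, hQ.isPrime⟩ from
      hV.fromSpec.isOpenEmbedding.injective (hV.fromSpec_primeIdealOf _)] at h
  refine ⟨hV.fromSpec '' {q : PrimeSpectrum Γ(X, V) | GRAt Γ(Y, U) Γ(X, V) q.asIdeal}, ?_,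
    hV.fromSpec.isOpenEmbedding.isOpenMap _ isOpen_grAt,
    ⟨hV.primeIdealOf ⟨x, hxV⟩, grAt_of_isGeomReducedAt f hU hV hVU hxV hx.2, hV.fromSpec_primeIdealOf _⟩⟩
  rintro _ ⟨P, hP, rfl⟩
  have hPV : hV.fromSpec P ∈ V := hV.range_fromSpec.le ⟨P, rfl⟩
  have hPP : hV.primeIdealOf ⟨hV.fromSpec P, hPV⟩ = P :=
    hV.fromSpec.isOpenEmbedding.injective (hV.fromSpec_primeIdealOf _)
  refine ⟨(hVle hPV).1, isGeomReducedAt_of_grAt f hU hV hVU hPV ?_⟩
  rw [hPP]
  exact hP

end scheme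

end Groth.Agent.GeomUnib
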