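import Groth.Agent.UnivOpenAt.Core
import Groth.Agent.DvrDom.Basic

/-!
# Geometric reducedness of fibres spreads to generisations

`GRAt A C q` is geometric reducedness of the fibre at `q`, elementwise. It passes to every generisation
when torsion vanishes at the generic points of the fibre below `q`.
-/

set_option autoImplicit false
set_option linter.unusedSectionVars false
set_option linter.style.haveILetI false
set_option maxHeartbeats 1000000
set_option synthInstance.maxHeartbeats 200000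

universe u

namespace Groth.Agent.GeomUnib

open IsLocalRing TensorProduct UnivOpenAt

/-- The fibre is geometrically reduced at `q`: over any field, nilpotents die at the points over `q`. -/
def GRAt (A C : Type u) [CommRing A] [CommRing C] [Algebra A C] (q : Ideal C) : Prop :=
  ∀ (K : Type u) [Field K] [Algebra A K], RingHom.ker (algebraMap A K) = q.comap (algebraMap A C) →
    ∀ P : Ideal (K ⊗[A] C), P.IsPrime → P.comap (inr A C K) = q →
      ∀ w : K ⊗[A] C, IsNilpotent w → ∃ t, t ∉ P ∧ t * w = 0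

variable {A C : Type u} [CommRing A] [CommRing C] [Algebra A C]

theorem grAt_iff_isReduced {q : Ideal C} :
    GRAt A C q ↔ ∀ (K : Type u) [Field K] [Algebra A K],
      RingHom.ker (algebraMap A K) = q.comap (algebraMap A C) →
      ∀ (P : Ideal (K ⊗[A] C)) [P.IsPrime], P.comap (inr A C K) = q →
        IsReduced (Localization.AtPrime P) := by
  constructor
  · intro h K _ _ hK P hP hPq
    refine ⟨fun z ⟨n, hn⟩ => ?_⟩
    obtain ⟨⟨w, ⟨s, hs⟩⟩, rfl⟩ := IsLocalization.mk'_surjective P.primeCompl z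
    rw [← IsLocalization.mk'_pow, IsLocalization.mk'_eq_zero_iff] at hn
    obtain ⟨⟨m, hm⟩, hmw⟩ := hn
    change m * w ^ n = 0 at hmw
    obtain ⟨t, ht, htw⟩ := h K hK P hP hPq (m * w) ⟨n + 1, by
      calc (m * w) ^ (n + 1) = m ^ n * w * (m * w ^ n) := by ring
        _ = 0 := by rw [hmw, mul_zero]⟩
    exact (IsLocalization.mk'_eq_zero_iff _ _).2 ⟨⟨t * m, fun h => (hP.mem_or_mem h).elim ht hm⟩, by
      show t * m * w = 0
      rw [mul_assoc, htw]⟩
  · intro h K _ _ hK P hP hPq w hw
    haveI := h K hK P hPq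
    obtain ⟨⟨t, ht⟩, htw⟩ := (IsLocalization.map_eq_zero_iff P.primeCompl (Localization.AtPrime P) w).1
      (IsReduced.eq_zero _ (hw.map (algebraMap _ (Localization.AtPrime P))))
    exact ⟨t, ht, htw⟩

/-- Coordinates descend annihilators along a field extension. -/
theorem exists_notMem_comap_mul_eq_zero (K₁ K : Type u) [Field K₁] [Field K] [Algebra A K₁] [Algebra A K]
    [Algebra K₁ K] [IsScalarTower A K₁ K] :
    letI μ := Algebra.TensorProduct.map (IsScalarTower.toAlgHom A K₁ K) (AlgHom.id A C)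
    Function.Injective μ ∧ ∀ (P : Ideal (K ⊗[A] C)) (t : K ⊗[A] C) (w : K₁ ⊗[A] C),
      t ∉ P → t * μ w = 0 → ∃ t₁, μ t₁ ∉ P ∧ t₁ * w = 0 := by
  classical
  let μ := Algebra.TensorProduct.map (IsScalarTower.toAlgHom A K₁ K) (AlgHom.id A C)
  show Function.Injective μ ∧ _
  let b := Module.Free.chooseBasis K₁ K
  let Λ := fun i => TensorProduct.map ((b.coord i).restrictScalars A) (LinearMap.id (R := A) (M := C))
  have hΛ : ∀ i t w, Λ i (t * μ w) = Λ i t * w := by
    intro i t w
    induction w using TensorProduct.induction_on with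
    | zero => rw [map_zero μ, mul_zero, map_zero, mul_zero]
    | add a c ha hc => rw [map_add μ, mul_add, map_add, ha, hc, mul_add]
    | tmul l d =>
      induction t using TensorProduct.induction_on with
      | zero => simp
      | add a c ha hc => rw [add_mul, map_add, ha, hc, map_add, add_mul]
      | tmul k c =>
        simp only [μ, Λ, Algebra.TensorProduct.map_tmul, Algebra.TensorProduct.tmul_mul_tmul,
          TensorProduct.map_tmul, IsScalarTower.coe_toAlgHom', AlgHom.coe_id, id_eq, LinearMap.id_coe,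
          LinearMap.restrictScalars_apply]
        rw [mul_comm k, ← Algebra.smul_def, map_smul, smul_eq_mul, mul_comm l]
  have hrec : ∀ t : K ⊗[A] C, ∃ s₀ : Finset _, ∀ s, s₀ ⊆ s →
      t = ∑ i ∈ s, ((b i) ⊗ₜ[A] (1 : C)) * μ (Λ i t) := by
    intro t
    induction t using TensorProduct.induction_on with
    | zero => exact ⟨∅, fun s _ => by simp⟩
    | add a c ha hc =>
      obtain ⟨s₁, h₁⟩ := ha
      obtain ⟨s₂, h₂⟩ := hc
      refine ⟨s₁ ∪ s₂, fun s hs => ?_⟩
      conv_lhs => rw [h₁ s (Finset.union_subset_left hs), h₂ s (Finset.union_subset_right hs)]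
      rw [← Finset.sum_add_distrib]
      simp [map_add, mul_add]
    | tmul k c =>
      refine ⟨(b.repr k).support, fun s hs => ?_⟩
      have hk : k = ∑ i ∈ s, algebraMap K₁ K (b.repr k i) * b i := by
        conv_lhs => rw [← b.linearCombination_repr k, Finsupp.linearCombination_apply]
        rw [Finsupp.sum_of_support_subset (b.repr k) hs (fun i a => a • b i) (fun i _ => zero_smul K₁ (b i))]
        simp [Algebra.smul_def]
      conv_lhs => rw [hk, TensorProduct.sum_tmul]
      refine Finset.sum_congr rfl fun i _ => ?_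
      simp [μ, Λ, mul_comm]
  refine ⟨(injective_iff_map_eq_zero μ).2 fun w hw => ?_, fun P t w ht htw => ?_⟩
  · obtain ⟨i, hi⟩ : ∃ i, b.coord i 1 ≠ 0 := by
      by_contra h
      push Not at h
      exact one_ne_zero (b.ext_elem_iff.2 fun i => (h i).trans (by simp) : (1 : K) = 0)
    have h1 : Λ i (1 * μ w) = 0 := by rw [one_mul, hw, map_zero]
    rw [hΛ, Algebra.TensorProduct.one_def] at h1
    simp only [Λ, TensorProduct.map_tmul, LinearMap.id_coe, id_eq, LinearMap.restrictScalars_apply] at h1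
    exact ((isUnit_iff_ne_zero.2 hi).map (Algebra.TensorProduct.includeLeft (R := A) (S := A) (B := C))).mul_right_eq_zero.1 h1
  · obtain ⟨s, hs⟩ := hrec t
    obtain ⟨i, hi⟩ : ∃ i, μ (Λ i t) ∉ P := by
      by_contra h
      push Not at h
      exact ht ((hs s subset_rfl).symm ▸ P.sum_mem fun i _ => P.mul_mem_left _ (h i))
    exact ⟨Λ i t, hi, by rw [← hΛ, htw, map_zero]⟩

/-- Going down from a point of a base change of a fibre. -/
theorem exists_prime_le_comap_eq (K : Type u) [Field K] [Algebra A K] (r : Ideal C) [r.IsPrime]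
    (hr : RingHom.ker (algebraMap A K) = r.comap (algebraMap A C)) (P : Ideal (K ⊗[A] C)) [hP : P.IsPrime]
    (hle : r ≤ P.comap (inr A C K)) :
    ∃ P' : Ideal (K ⊗[A] C), P'.IsPrime ∧ P' ≤ P ∧ P'.comap (inr A C K) = r := by
  let p := r.comap (algebraMap A C)
  let kA := A ⧸ p
  letI : Algebra kA K := (Ideal.Quotient.lift p (algebraMap A K) fun a ha => hr.ge ha).toAlgebra
  haveI : IsScalarTower A kA K := IsScalarTower.of_algebraMap_eq fun a => rfl
  letI : Algebra kA (C ⧸ r) := (Ideal.quotientMap r (algebraMap A C) le_rfl).toAlgebra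
  haveI : IsScalarTower A kA (C ⧸ r) := IsScalarTower.of_algebraMap_eq fun a => rfl
  haveI : FaithfulSMul kA K := (faithfulSMul_iff_algebraMap_injective _ _).2
    (RingHom.lift_injective_of_ker_le_ideal p _ hr.le)
  haveI : p.IsPrime := inferInstance
  haveI : Module.Flat kA K := by
    haveI : Module.Flat kA (FractionRing kA) := IsLocalization.flat _ (nonZeroDivisors kA)
    letI := FractionRing.liftAlgebra kA K
    exact Module.Flat.trans kA (FractionRing kA) K
  let π : K ⊗[A] C →ₐ[A] K ⊗[A] (C ⧸ r) :=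
    Algebra.TensorProduct.map (AlgHom.id A K) (Ideal.Quotient.mkₐ A r)
  have hπ : Function.Surjective π :=
    Algebra.TensorProduct.map_surjective _ _ Function.surjective_id Ideal.Quotient.mk_surjective
  have hker : RingHom.ker π = r.map (inr A C K) := by
    rw [show RingHom.ker π = _ from
      Algebra.TensorProduct.lTensor_ker (A := K) (Ideal.Quotient.mkₐ A r) Ideal.Quotient.mk_surjective,
      show RingHom.ker (Ideal.Quotient.mkₐ A r) = r from Ideal.mk_ker]
    rfl
  let S : Submonoid (K ⊗[A] C) := P.primeCompl ⊔ r.primeCompl.map (inr A C K)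
  have hdisj : Disjoint ((r.map (inr A C K) : Ideal _) : Set (K ⊗[A] C)) S := by
    refine Set.disjoint_left.2 fun z hz hzS => ?_
    obtain ⟨t, ht, _, ⟨c, hc, rfl⟩, rfl⟩ := Submonoid.mem_sup.1 hzS
    have h0 : π t * π (inr A C K c) = 0 := by
      rw [← map_mul]; exact hker.ge hz
    let L : C ⧸ r →ₗ[kA] C ⧸ r := LinearMap.mulRight kA (Ideal.Quotient.mk r c)
    have hL : Function.Injective L := mul_left_injective₀ fun h =>
      (show c ∉ r from hc) (Ideal.Quotient.eq_zero_iff_mem.1 h)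
    have hinj := Module.Flat.lTensor_preserves_injective_linearMap (M := K) L hL
    haveI : TensorProduct.CompatibleSMul A kA K (C ⧸ r) := ⟨fun z m n => by
      obtain ⟨a, rfl⟩ := Ideal.Quotient.mk_surjective z
      have h1 : (Ideal.Quotient.mk p a) • m = a • m := algebraMap_smul kA a m
      have h2 : (Ideal.Quotient.mk p a) • n = a • n := algebraMap_smul kA a n
      rw [h1, h2, TensorProduct.smul_tmul]⟩
    let e := Algebra.TensorProduct.equivOfCompatibleSMul kA A A K (C ⧸ r)
    have heq : ∀ z, L.lTensor K (e z) = e (z * π (inr A C K c)) := by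
      intro z
      induction z using TensorProduct.induction_on with
      | zero => simp
      | add a d ha hd => simp only [map_add, add_mul, ha, hd]
      | tmul k d => simp only [π, L, Algebra.TensorProduct.map_tmul, AlgHom.toRingHom_eq_coe, RingHom.coe_coe, Algebra.TensorProduct.includeRight_apply, Algebra.TensorProduct.tmul_mul_tmul, AlgHom.coe_id, id_eq, mul_one, Ideal.Quotient.mkₐ_eq_mk]; rfl
    have h1 : e (π t) = 0 := hinj (by rw [heq, h0, map_zero, map_zero])
    have : t ∈ RingHom.ker π := e.injective (h1.trans (map_zero _).symm)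
    rw [hker] at this
    exact ht (Ideal.map_le_iff_le_comap.2 hle this)
  obtain ⟨P', hP', hle', hdisj'⟩ := Ideal.exists_le_prime_disjoint _ _ hdisj
  refine ⟨P', hP', fun z hz => ?_, le_antisymm (fun c hc => ?_) (Ideal.map_le_iff_le_comap.1 hle')⟩
  · by_contra hzP
    exact Set.disjoint_left.1 hdisj' hz (Submonoid.mem_sup_left (show z ∈ P.primeCompl from hzP))
  · by_contra hcr
    exact Set.disjoint_left.1 hdisj' hc (Submonoid.mem_sup_right ⟨c, hcr, rfl⟩)

/-- The kernel of the reduction of a base change. -/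
theorem exists_eq_tmul_mul {O k : Type u} [CommRing O] [CommRing k] [Algebra A O] [Algebra A k]
    (π : O) (mk : O →ₐ[A] k) (hmk : Function.Surjective mk) (hk : RingHom.ker mk = Ideal.span {π})
    (z : O ⊗[A] C) (hz : Algebra.TensorProduct.map mk (AlgHom.id A C) z = 0) :
    ∃ z', z = (π ⊗ₜ[A] (1 : C)) * z' := by
  have h := (Algebra.TensorProduct.rTensor_ker (C := C) mk hmk).le
    (show z ∈ RingHom.ker (Algebra.TensorProduct.map mk (AlgHom.id A C)) from hz)
  rw [hk, Ideal.map_span, Set.image_singleton, Ideal.mem_span_singleton] at h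
  exact h

/-- One step of the Krull intersection argument. -/
theorem exists_step (O : Type u) [CommRing O] [IsDomain O] [Algebra A O] (k : Type u) [Field k] [Algebra A k]
    (π : O) (hπ0 : π ≠ 0) (mk : O →ₐ[A] k) (hmk : Function.Surjective mk) (hπ : RingHom.ker mk = Ideal.span {π})
    (ev : C →ₐ[A] O) (q : Ideal C) (hq : RingHom.ker (mk.comp ev) = q) (hGR : GRAt A C q)
    (htor : ∀ q₀ : Ideal C, q₀.IsPrime → q₀ ≤ q →
      (∀ r : Ideal C, r.IsPrime → r ≤ q₀ → r.comap (algebraMap A C) = q.comap (algebraMap A C) → r = q₀) →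
      q₀.comap (algebraMap A C) = q.comap (algebraMap A C) → TorAt (A := A) q₀ O)
    (M : Ideal (O ⊗[A] C)) [M.IsPrime]
    (hM : RingHom.ker (mk.comp (Algebra.TensorProduct.lift (AlgHom.id A O) ev fun _ _ => .all _ _)) = M)
    (v : O ⊗[A] C) (hv : ∀ Q : Ideal (O ⊗[A] C), Q.IsPrime → Q ≤ M → v ∈ Q) :
    ∃ t v', t ∉ M ∧ t * v = (π ⊗ₜ[A] (1 : C)) * v' ∧ ∀ Q : Ideal (O ⊗[A] C), Q.IsPrime → Q ≤ M → v' ∈ Q := by
  classical
  let m := Algebra.TensorProduct.lift (AlgHom.id A O) ev fun _ _ => .all _ _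
  let πT : O ⊗[A] C := π ⊗ₜ[A] 1
  let φ : O ⊗[A] C →ₐ[A] k ⊗[A] C := Algebra.TensorProduct.map mk (AlgHom.id A C)
  have hφ : Function.Surjective φ :=
    Algebra.TensorProduct.map_surjective _ _ hmk Function.surjective_id
  have hφker : ∀ z, φ z = 0 → ∃ z', z = πT * z' := exists_eq_tmul_mul π mk hmk hπ
  let evk := Algebra.TensorProduct.lift (AlgHom.id A k) (mk.comp ev) fun _ _ => .all _ _
  have hevk : ∀ z, evk (φ z) = mk (m z) := by
    intro z
    induction z using TensorProduct.induction_on with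
    | zero => simp
    | add a d ha hd => simp [map_add, ha, hd]
    | tmul a d => simp [evk, φ, m, map_mul]
  have hMφ : ∀ z, φ z ∉ RingHom.ker evk → z ∉ M := fun z hz h => hz (by
    rw [RingHom.mem_ker, hevk]
    exact hM.ge h)
  have hqk : RingHom.ker (algebraMap A k) = q.comap (algebraMap A C) := by
    ext a
    rw [Ideal.mem_comap, ← hq, RingHom.mem_ker, RingHom.mem_ker, AlgHom.commutes]
  have hPq : (RingHom.ker evk).comap (inr A C k) = q := by
    ext c
    rw [Ideal.mem_comap, RingHom.mem_ker, ← hq, RingHom.mem_ker]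
    have : evk (inr A C k c) = mk (ev c) := by simp [evk]
    rw [this]
    rfl
  obtain ⟨t₀, N, ht₀, hN⟩ : ∃ t₀ N, t₀ ∉ M ∧ (t₀ * v) ^ N = 0 := by
    by_contra h
    push Not at h
    let S : Submonoid (O ⊗[A] C) := M.primeCompl ⊔ Submonoid.powers v
    obtain ⟨Q, hQ, -, hdisj⟩ := Ideal.exists_le_prime_disjoint (⊥ : Ideal (O ⊗[A] C)) S
      (Set.disjoint_left.2 fun z hz hzS => by
        obtain ⟨t, ht, _, ⟨N, rfl⟩, rfl⟩ := Submonoid.mem_sup.1 hzS
        refine h t (N + 1) ht ?_
        calc (t * v) ^ (N + 1) = t ^ N * v * (t * v ^ N) := by ring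
          _ = 0 := by rw [show t * v ^ N = 0 from hz, mul_zero])
    exact Set.disjoint_left.1 hdisj
      (hv Q hQ fun z hz => by_contra fun hzM => Set.disjoint_left.1 hdisj hz
        (Submonoid.mem_sup_left (show z ∈ M.primeCompl from hzM)))
      (Submonoid.mem_sup_right (Submonoid.mem_powers v))
  obtain ⟨tb, htb, htb0⟩ := hGR k hqk _ (RingHom.ker_isPrime evk) hPq (φ (t₀ * v))
    ⟨N, by rw [← map_pow, hN, map_zero]⟩
  obtain ⟨t₁, rfl⟩ := hφ tb
  obtain ⟨v', hv'⟩ := hφker (t₁ * (t₀ * v)) (by rw [map_mul, htb0])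
  refine ⟨t₁ * t₀, v', fun h => (Ideal.IsPrime.mem_or_mem ‹M.IsPrime› h).elim (hMφ _ htb) ht₀,
    by rw [mul_assoc, hv'], fun Q hQ hQM => ?_⟩
  have hmul : πT * v' ∈ Q := hv' ▸ Q.mul_mem_left _ (Q.mul_mem_left _ (hv Q hQ hQM))
  refine (hQ.mem_or_mem hmul).elim (fun hπQ => ?_) id
  -- a component of the closed fibre
  haveI := hQ
  obtain ⟨Q₀, hQ₀, hQ₀Q⟩ := Ideal.exists_minimalPrimes_le (I := Ideal.span {πT}) (J := Q)
    ((Ideal.span_singleton_le_iff_mem Q).2 hπQ)
  haveI := hQ₀.1.1
  refine hQ₀Q ?_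
  have hπQ₀ : πT ∈ Q₀ := hQ₀.1.2 (Ideal.mem_span_singleton_self _)
  let q₀ := Q₀.comap (inr A C O)
  have hQ₀ker : RingHom.ker φ.toRingHom ≤ Q₀ := fun z hz => by
    obtain ⟨z', rfl⟩ := hφker z hz
    exact Q₀.mul_mem_right _ hπQ₀
  have hq₀q : q₀ ≤ q := fun c hc => by
    rw [← hq, RingHom.mem_ker]
    have h1 : m (inr A C O c) = ev c := by simp [m]
    rw [AlgHom.comp_apply, ← h1]
    exact hM.ge (hQM (hQ₀Q hc))
  have hq₀p : q₀.comap (algebraMap A C) = q.comap (algebraMap A C) := by
    refine le_antisymm (Ideal.comap_mono hq₀q) fun a ha => ?_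
    rw [Ideal.mem_comap, Ideal.mem_comap]
    show inr A C O (algebraMap A C a) ∈ Q₀
    obtain ⟨z', hz'⟩ := hφker (inr A C O (algebraMap A C a)) (by
      have : φ (inr A C O (algebraMap A C a)) = algebraMap A (k ⊗[A] C) a := by
        simp [φ, ← Algebra.TensorProduct.algebraMap_apply']
      rw [this, IsScalarTower.algebraMap_apply A k (k ⊗[A] C), show algebraMap A k a = 0 from hqk.ge ha, map_zero])
    exact hz' ▸ Q₀.mul_mem_right _ hπQ₀
  have hmin : ∀ r : Ideal C, r.IsPrime → r ≤ q₀ →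
      r.comap (algebraMap A C) = q.comap (algebraMap A C) → r = q₀ := by
    intro r _ hr hrp
    haveI : (Q₀.map φ.toRingHom).IsPrime := Ideal.map_isPrime_of_surjective hφ hQ₀ker
    have hcomm : ∀ c, φ.toRingHom (inr A C O c) = inr A C k c := fun c => by simp [φ]
    obtain ⟨P', _, hP'le, hP'r⟩ := exists_prime_le_comap_eq k r (hqk.trans hrp.symm)
      (Q₀.map φ.toRingHom) (fun c hc => by
        rw [Ideal.mem_comap, ← hcomm]; exact Ideal.mem_map_of_mem _ (hr hc))
    have hle : P'.comap φ.toRingHom ≤ Q₀ := by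
      refine (Ideal.comap_mono hP'le).trans ?_
      rw [Ideal.comap_map_of_surjective φ.toRingHom hφ, ← RingHom.ker_eq_comap_bot, sup_eq_left.2 hQ₀ker]
    have heq := hQ₀.2 ⟨Ideal.comap_isPrime _ P', (Ideal.span_singleton_le_iff_mem _).2 (by
      show φ.toRingHom πT ∈ P'
      have : φ.toRingHom πT = 0 := by
        show φ (π ⊗ₜ[A] (1 : C)) = 0
        rw [Algebra.TensorProduct.map_tmul, show mk π = 0 from
          hπ.ge (Ideal.mem_span_singleton_self π), TensorProduct.zero_tmul]
      rw [this]; exact P'.zero_mem)⟩ hle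
    refine le_antisymm hr fun c hc => ?_
    rw [← hP'r, Ideal.mem_comap, ← hcomm]
    exact heq hc
  refine hQ₀.1.1.mem_of_pow_mem N (htor q₀ inferInstance hq₀q hmin hq₀p (π ^ N) (v' ^ N)
    (pow_ne_zero _ hπ0) ?_ Q₀ hQ₀.1.1 rfl)
  calc ((π ^ N) ⊗ₜ[A] (1 : C)) * v' ^ N = (πT * v') ^ N := by
        rw [mul_pow, Algebra.TensorProduct.tmul_pow, one_pow]
    _ = t₁ ^ N * (t₀ * v) ^ N := by rw [← hv', mul_pow]
    _ = 0 := by rw [hN, mul_zero]

/-- Nilpotents die at a point of a base change to a discrete valuation ring. -/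
theorem exists_mul_eq_zero_dvr [IsNoetherianRing A] [Algebra.FiniteType A C]
    (O : Type u) [CommRing O] [IsDomain O] [IsDiscreteValuationRing O] [Algebra A O] (ev : C →ₐ[A] O)
    (q : Ideal C) (hq : (maximalIdeal O).comap ev.toRingHom = q) (hGR : GRAt A C q)
    (htor : ∀ q₀ : Ideal C, q₀.IsPrime → q₀ ≤ q →
      (∀ r : Ideal C, r.IsPrime → r ≤ q₀ → r.comap (algebraMap A C) = q.comap (algebraMap A C) → r = q₀) →
      q₀.comap (algebraMap A C) = q.comap (algebraMap A C) → TorAt (A := A) q₀ O)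
    (w : O ⊗[A] C) (hw : IsNilpotent w) :
    ∃ t, Algebra.TensorProduct.lift (AlgHom.id A O) ev (fun _ _ => .all _ _) t ∉ maximalIdeal O ∧ t * w = 0 := by
  classical
  obtain ⟨π, hπ⟩ := IsDiscreteValuationRing.exists_irreducible O
  let m := Algebra.TensorProduct.lift (AlgHom.id A O) ev fun _ _ => .all _ _
  let M := (maximalIdeal O).comap m.toRingHom
  haveI : M.IsPrime := Ideal.comap_isPrime _ _
  let πT : O ⊗[A] C := π ⊗ₜ[A] 1
  have hstep : ∀ v, (∀ Q : Ideal (O ⊗[A] C), Q.IsPrime → Q ≤ M → v ∈ Q) →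
      ∃ t v', t ∉ M ∧ t * v = πT * v' ∧ ∀ Q : Ideal (O ⊗[A] C), Q.IsPrime → Q ≤ M → v' ∈ Q :=
    fun v hv => exists_step O (ResidueField O) π hπ.ne_zero (IsScalarTower.toAlgHom A O (ResidueField O))
      IsLocalRing.residue_surjective ((IsLocalRing.ker_residue (R := O)).trans hπ.maximalIdeal_eq) ev q
      (by rw [← hq]; ext c; exact residue_eq_zero_iff _) hGR htor M
      (by ext c; exact residue_eq_zero_iff _) v hv
  have hall : ∀ n, ∃ t v', t ∉ M ∧ t * w = πT ^ n * v' ∧ ∀ Q : Ideal (O ⊗[A] C), Q.IsPrime → Q ≤ M → v' ∈ Q := by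
    intro n
    induction n with
    | zero => exact ⟨1, w, fun h => Ideal.IsPrime.ne_top ‹_› ((Ideal.eq_top_iff_one M).2 h), by simp,
        fun Q hQ _ => by obtain ⟨j, hj⟩ := hw; exact hQ.mem_of_pow_mem j (hj.symm ▸ Q.zero_mem)⟩
    | succ n ih =>
      obtain ⟨t, v, ht, htv, hv⟩ := ih
      obtain ⟨s, v', hs, hsv, hv'⟩ := hstep v hv
      refine ⟨s * t, v', fun h => (Ideal.IsPrime.mem_or_mem ‹M.IsPrime› h).elim hs ht, ?_, hv'⟩
      rw [mul_assoc, htv, mul_left_comm, hsv, pow_succ, mul_assoc]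
  haveI : IsNoetherianRing (O ⊗[A] C) := Algebra.FiniteType.isNoetherianRing O (O ⊗[A] C)
  haveI : IsNoetherianRing (Localization.AtPrime M) :=
    IsLocalization.isNoetherianRing M.primeCompl _ inferInstance
  have h0 : algebraMap (O ⊗[A] C) (Localization.AtPrime M) w = 0 := by
    rw [← Submodule.mem_bot (Localization.AtPrime M),
      ← Ideal.iInf_pow_eq_bot_of_isLocalRing _ (maximalIdeal.isMaximal (Localization.AtPrime M)).ne_top,
      Ideal.mem_iInf]
    intro n
    obtain ⟨t, v', ht, htw, -⟩ := hall n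
    have hu := IsLocalization.map_units (Localization.AtPrime M) (⟨t, ht⟩ : M.primeCompl)
    rw [← Ideal.unit_mul_mem_iff_mem (maximalIdeal (Localization.AtPrime M) ^ n) hu, ← map_mul, htw, map_mul, map_pow]
    refine Ideal.mul_mem_right _ _ (Ideal.pow_mem_pow ?_ n)
    rw [← Localization.AtPrime.map_eq_maximalIdeal]
    refine Ideal.mem_map_of_mem _ ?_
    show m (π ⊗ₜ[A] (1 : C)) ∈ maximalIdeal O
    simp [m, hπ.maximalIdeal_eq, Ideal.mem_span_singleton]
  obtain ⟨⟨t, ht⟩, htw⟩ := (IsLocalization.map_eq_zero_iff M.primeCompl _ w).1 h0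
  exact ⟨t, ht, htw⟩

/-- An element of a base change to a field comes from a finitely generated subfield. -/
theorem exists_finset_mem_range (K : Type u) [Field K] [Algebra A K] (w : K ⊗[A] C) :
    ∃ G₀ : Finset K, ∀ (F : Subfield K) [Algebra A F] [IsScalarTower A F K], (↑G₀ : Set K) ⊆ F →
      w ∈ Set.range (Algebra.TensorProduct.map (IsScalarTower.toAlgHom A F K) (AlgHom.id A C)) := by
  classical
  induction w using TensorProduct.induction_on with
  | zero => exact ⟨∅, fun F _ _ _ => ⟨0, map_zero _⟩⟩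
  | tmul x c => exact ⟨{x}, fun F _ _ hx => ⟨(⟨x, hx (Finset.mem_singleton_self x)⟩ : F) ⊗ₜ[A] c, rfl⟩⟩
  | add a b ha hb =>
    obtain ⟨G₁, h₁⟩ := ha
    obtain ⟨G₂, h₂⟩ := hb
    refine ⟨G₁ ∪ G₂, fun F _ _ hs => ?_⟩
    rw [Finset.coe_union, Set.union_subset_iff] at hs
    obtain ⟨a', ha'⟩ := h₁ F hs.1
    obtain ⟨b', hb'⟩ := h₂ F hs.2
    exact ⟨a' + b', by rw [map_add, ha', hb']⟩

/-- A discrete valuation ring in a field of finite type over `C ⧸ q'` centred at `q`. -/
theorem exists_dvr_at [IsNoetherianRing A] [Algebra.FiniteType A C] {q q' : Ideal C} [q.IsPrime] [q'.IsPrime]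
    (hlt : q' < q) (L : Type u) [Field L] [Algebra A L] (eC : C →ₐ[A] L) (hker : ∀ c, eC c = 0 ↔ c ∈ q')
    (G : Finset L) (hG : Subfield.closure (Set.range eC ∪ (G : Set L)) = ⊤) :
    ∃ (O : ValuationSubring L) (_ : IsDiscreteValuationRing O) (hC : ∀ c, eC c ∈ O),
      (maximalIdeal O).comap (eC.toRingHom.codRestrict O.toSubring hC) = q := by
  classical
  have hle : q' ≤ q := hlt.le
  -- the dominated local ring
  let qb := q.map (Ideal.Quotient.mk q')
  haveI : qb.IsPrime := Ideal.map_isPrime_of_surjective Ideal.Quotient.mk_surjective (by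
    rw [Ideal.mk_ker]; exact hle)
  haveI : IsNoetherianRing C := Algebra.FiniteType.isNoetherianRing A C
  let A'' := Localization.AtPrime qb
  haveI : IsDomain A'' := IsLocalization.isDomain_localization qb.primeCompl_le_nonZeroDivisors
  haveI : IsNoetherianRing A'' := IsLocalization.isNoetherianRing qb.primeCompl _ inferInstance
  let σ : C ⧸ q' →+* L := Ideal.Quotient.lift q' eC.toRingHom fun c hc => (hker c).2 hc
  have hσ : Function.Injective σ :=
    RingHom.lift_injective_of_ker_le_ideal _ _ fun c hc => (hker c).1 hc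
  let σ'' : A'' →+* L := IsLocalization.lift (M := qb.primeCompl) (g := σ) fun s =>
    isUnit_iff_ne_zero.2 fun h => s.2 (hσ (h.trans (map_zero σ).symm) ▸ qb.zero_mem)
  letI : Algebra A'' L := σ''.toAlgebra
  have hσ'' : ∀ c, σ'' (algebraMap (C ⧸ q') A'' (Ideal.Quotient.mk q' c)) = eC c := fun c => by
    simp [σ'', σ]
  have hinj : Function.Injective (algebraMap A'' L) := IsLocalization.lift_injective_iff (g := σ) _ |>.2
    fun x y => ⟨fun h => congrArg _ (IsLocalization.injective A'' qb.primeCompl_le_nonZeroDivisors h),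
      fun h => congrArg _ (hσ h)⟩
  have hnf : ¬ IsField A'' := fun h => by
    obtain ⟨c, hc, hc'⟩ := SetLike.exists_of_lt hlt
    have h1 : algebraMap (C ⧸ q') A'' (Ideal.Quotient.mk q' c) ∈ maximalIdeal A'' := by
      rw [← Localization.AtPrime.map_eq_maximalIdeal]
      exact Ideal.mem_map_of_mem _ (Ideal.mem_map_of_mem _ hc)
    rw [IsLocalRing.isField_iff_maximalIdeal_eq.1 h, Submodule.mem_bot] at h1
    refine hc' ((hker c).1 ?_)
    rw [← hσ'', h1, map_zero]
  obtain ⟨O, hO, hOA, hOm⟩ := Groth.Agent.DvrDom.exists_dvr A'' hnf hinj G (by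
    refine eq_top_iff.2 (hG.ge.trans (Subfield.closure_mono (Set.union_subset_union_left _ ?_)))
    rintro _ ⟨c, rfl⟩
    exact ⟨_, hσ'' c⟩)
  have hC : ∀ c, eC c ∈ O := fun c => hσ'' c ▸ hOA _
  refine ⟨O, hO, hC, ?_⟩
  ext c
  rw [Ideal.mem_comap]
  have hval : (((eC.toRingHom.codRestrict O.toSubring hC) c : O) : L) = algebraMap A'' L (algebraMap (C ⧸ q') A'' (Ideal.Quotient.mk q' c)) :=
    (hσ'' c).symm
  constructor
  · intro h
    by_contra hcq
    have hu : IsUnit (algebraMap (C ⧸ q') A'' (Ideal.Quotient.mk q' c)) := by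
      refine IsLocalization.map_units A'' (⟨_, fun h' => hcq ?_⟩ : qb.primeCompl)
      have := Ideal.mem_comap.2 h'
      rwa [Ideal.comap_map_of_surjective _ Ideal.Quotient.mk_surjective, ← RingHom.ker_eq_comap_bot,
        Ideal.mk_ker, sup_eq_left.2 hle] at this
    have h' := (hu.map ((algebraMap A'' L).codRestrict O.toSubring hOA))
    have heq : (eC.toRingHom.codRestrict O.toSubring hC) c =
        (algebraMap A'' L).codRestrict O.toSubring hOA (algebraMap (C ⧸ q') A'' (Ideal.Quotient.mk q' c)) :=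
      Subtype.ext hval
    exact h (heq ▸ h')
  · intro h
    refine (ValuationSubring.valuation_lt_one_iff O _).2 ?_
    rw [show ((((eC.toRingHom.codRestrict O.toSubring hC) c : O)) : L) = _ from hval]
    refine hOm _ ?_
    rw [← Localization.AtPrime.map_eq_maximalIdeal]
    exact Ideal.mem_map_of_mem _ (Ideal.mem_map_of_mem _ h)

/-- Annihilators come back from a valuation ring centred at the point. -/
theorem exists_mul_eq_zero_of_dvr [IsNoetherianRing A] [Algebra.FiniteType A C] {q : Ideal C} (hGR : GRAt A C q)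
    (htor : ∀ q₀ : Ideal C, q₀.IsPrime → q₀ ≤ q →
      (∀ r : Ideal C, r.IsPrime → r ≤ q₀ → r.comap (algebraMap A C) = q.comap (algebraMap A C) → r = q₀) →
      q₀.comap (algebraMap A C) = q.comap (algebraMap A C) →
      ∀ (W : Type u) [CommRing W] [IsDomain W] [Algebra A W], TorAt (A := A) q₀ W)
    (F L : Type u) [Field F] [Field L] [Algebra A F] [Algebra A L] (eF : F →ₐ[A] L) (eC : C →ₐ[A] L)
    (O : ValuationSubring L) [IsDiscreteValuationRing O] [Algebra A O] [IsScalarTower A O L]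
    (ev : C →ₐ[A] O) (hevv : ∀ c, (ev c : L) = eC c) (hev : (maximalIdeal O).comap ev.toRingHom = q)
    (η : F ⊗[A] C →ₐ[A] L) (hηF : ∀ x c, η (x ⊗ₜ[A] c) = eF x * eC c)
    (w₁ : F ⊗[A] C) (hw₁n : IsNilpotent w₁) : ∃ t, η t ≠ 0 ∧ t * w₁ = 0 := by
  classical
  -- back from the valuation ring
  let μL := Algebra.TensorProduct.map eF (AlgHom.id A C)
  let μO := Algebra.TensorProduct.map (IsScalarTower.toAlgHom A O L) (AlgHom.id A C)
  let evL := Algebra.TensorProduct.lift (AlgHom.id A L) eC fun _ _ => .all _ _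
  let evO := Algebra.TensorProduct.lift (AlgHom.id A O) ev fun _ _ => .all _ _
  have hevO : ∀ z, evL (μO z) = (evO z : L) := by
    intro z
    induction z using TensorProduct.induction_on with
    | zero => simp
    | add a b ha hb => simp [map_add, ha, hb]
    | tmul a c =>
      simp only [μO, evL, evO, Algebra.TensorProduct.map_tmul, Algebra.TensorProduct.lift_tmul, AlgHom.coe_id,
        id_eq, IsScalarTower.coe_toAlgHom', ← hevv]
      rfl
  have hevL : evL.comp μL = η := by
    refine Algebra.TensorProduct.ext' fun x c => ?_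
    simp [evL, μL, hηF]
  letI : Algebra (O ⊗[A] C) (L ⊗[A] C) := μO.toRingHom.toAlgebra
  haveI : IsScalarTower O (O ⊗[A] C) (L ⊗[A] C) := IsScalarTower.of_algebraMap_eq fun a => by
    simp [RingHom.algebraMap_toAlgebra, μO]
  haveI := IsLocalization.tensorProduct_tensorProduct A C (A := O) (nonZeroDivisors O) L
    (by ext c; simp [RingHom.algebraMap_toAlgebra, μO])
  obtain ⟨⟨w₀, ⟨_, b, hb, rfl⟩⟩, hb0⟩ :=
    IsLocalization.surj (Algebra.algebraMapSubmonoid (O ⊗[A] C) (nonZeroDivisors O)) (μL w₁)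
  change μL w₁ * μO (algebraMap O (O ⊗[A] C) b) = μO w₀ at hb0
  obtain ⟨n, hn⟩ := hw₁n
  obtain ⟨⟨_, a, ha, rfl⟩, ha0⟩ := (IsLocalization.map_eq_zero_iff
    (Algebra.algebraMapSubmonoid (O ⊗[A] C) (nonZeroDivisors O)) (L ⊗[A] C) (w₀ ^ n)).1 (by
      show μO (w₀ ^ n) = 0
      rw [map_pow, ← hb0, mul_pow, ← map_pow μL, hn, map_zero, zero_mul])
  obtain ⟨t, ht, ht0⟩ := exists_mul_eq_zero_dvr O ev q hev hGR
    (fun q₀ h₁ h₂ h₃ h₄ => htor q₀ h₁ h₂ h₃ h₄ O) (algebraMap O (O ⊗[A] C) a * w₀) ⟨n + 1, by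
      calc (algebraMap O (O ⊗[A] C) a * w₀) ^ (n + 1) =
          (algebraMap O (O ⊗[A] C) a) ^ n * w₀ * (algebraMap O (O ⊗[A] C) a * w₀ ^ n) := by ring
        _ = 0 := by rw [ha0, mul_zero]⟩
  let tL : L ⊗[A] C := μO (t * algebraMap O (O ⊗[A] C) a * algebraMap O (O ⊗[A] C) b)
  have htL : tL * μL w₁ = 0 := by
    calc tL * μL w₁ = μO t * μO (algebraMap O (O ⊗[A] C) a) * (μL w₁ * μO (algebraMap O (O ⊗[A] C) b)) := by
          simp only [tL, map_mul]; ring
      _ = μO (t * (algebraMap O (O ⊗[A] C) a * w₀)) := by rw [hb0]; simp only [map_mul]; ring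
      _ = 0 := by rw [ht0, map_zero]
  have hvalO : ∀ a : O, evO (algebraMap O (O ⊗[A] C) a) = a := fun a => by
    simp [evO, Algebra.TensorProduct.algebraMap_apply]
  have htL' : tL ∉ RingHom.ker evL := by
    rw [RingHom.mem_ker, hevO]
    intro h
    have h' : evO (t * algebraMap O (O ⊗[A] C) a * algebraMap O (O ⊗[A] C) b) = 0 := Subtype.ext h
    rw [map_mul, map_mul, hvalO, hvalO] at h'
    rcases mul_eq_zero.1 h' with h' | h'
    · rcases mul_eq_zero.1 h' with h' | h'
      · exact ht (h' ▸ zero_mem _)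
      · exact nonZeroDivisors.ne_zero ha h'
    · exact nonZeroDivisors.ne_zero hb h'
  letI : Algebra F L := eF.toRingHom.toAlgebra
  haveI : IsScalarTower A F L := IsScalarTower.of_algebraMap_eq fun a => (eF.commutes a).symm
  obtain ⟨-, hd⟩ := exists_notMem_comap_mul_eq_zero (A := A) (C := C) F L
  have hμ : Algebra.TensorProduct.map (IsScalarTower.toAlgHom A F L) (AlgHom.id A C) = μL := rfl
  obtain ⟨t₁, ht₁, ht₁0⟩ := hd (RingHom.ker evL) tL w₁ htL' (by rw [hμ]; exact htL)
  refine ⟨t₁, fun h => ht₁ ?_, ht₁0⟩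
  rw [RingHom.mem_ker, hμ, ← AlgHom.comp_apply, hevL]
  exact h

/-- Geometric reducedness passes to generisations. -/
theorem grAt_of_le [IsNoetherianRing A] [Algebra.FiniteType A C] {q : Ideal C} [q.IsPrime]
    (hGR : GRAt A C q)
    (htor : ∀ q₀ : Ideal C, q₀.IsPrime → q₀ ≤ q →
      (∀ r : Ideal C, r.IsPrime → r ≤ q₀ → r.comap (algebraMap A C) = q.comap (algebraMap A C) → r = q₀) →
      q₀.comap (algebraMap A C) = q.comap (algebraMap A C) →
      ∀ (W : Type u) [CommRing W] [IsDomain W] [Algebra A W], TorAt (A := A) q₀ W)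
    {q' : Ideal C} [q'.IsPrime] (hle : q' ≤ q) : GRAt A C q' := by
  classical
  rcases hle.eq_or_lt with rfl | hlt
  · exact hGR
  intro K _ _ hK P hP hPq w hw
  obtain ⟨G₀, hG₀⟩ := exists_finset_mem_range K w
  let F := Subfield.closure (Set.range (algebraMap A K) ∪ (G₀ : Set K))
  have hF : ∀ a, algebraMap A K a ∈ F := fun a => Subfield.subset_closure (Or.inl ⟨a, rfl⟩)
  letI := ((algebraMap A K).codRestrict F hF).toAlgebra
  haveI : IsScalarTower A F K := IsScalarTower.of_algebraMap_eq fun a => rfl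
  let μK := Algebra.TensorProduct.map (IsScalarTower.toAlgHom A F K) (AlgHom.id A C)
  obtain ⟨w₁, hw₁⟩ : w ∈ Set.range μK := hG₀ F fun x hx => Subfield.subset_closure (Or.inr hx)
  obtain ⟨hμK, -⟩ := exists_notMem_comap_mul_eq_zero (A := A) (C := C) F K
  have hw₁n : IsNilpotent w₁ := by
    obtain ⟨n, hn⟩ := hw
    exact ⟨n, hμK (by rw [map_pow, map_zero]; exact hw₁.symm ▸ hn)⟩
  suffices ∃ t, t ∉ P.comap μK.toRingHom ∧ t * w₁ = 0 by
    obtain ⟨t, ht, htw⟩ := this
    exact ⟨μK t, ht, by rw [← hw₁, ← map_mul, htw, map_zero]⟩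
  -- the field of the point
  let Q := P.comap μK.toRingHom
  haveI : Q.IsPrime := Ideal.comap_isPrime _ _
  have hQq : Q.comap (inr A C F) = q' := by
    rw [← hPq, Ideal.comap_comap]
    congr 1
  let L := Q.ResidueField
  let η : F ⊗[A] C →ₐ[A] L := IsScalarTower.toAlgHom A _ _
  let eF : F →ₐ[A] L := η.comp Algebra.TensorProduct.includeLeft
  let eC : C →ₐ[A] L := η.comp Algebra.TensorProduct.includeRight
  have hη : ∀ z, η z = 0 ↔ z ∈ Q := fun z => Ideal.algebraMap_residueField_eq_zero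
  have hker : ∀ c, eC c = 0 ↔ c ∈ q' := fun c => (hη _).trans (by rw [← hQq]; rfl)
  have hgen : Subfield.closure (Set.range eC ∪ ((G₀.attach.image fun x =>
      eF ⟨x.1, Subfield.subset_closure (Or.inr x.2)⟩ : Finset L) : Set L)) = ⊤ := by
    set E := Subfield.closure (Set.range eC ∪ ((G₀.attach.image fun x =>
      eF ⟨x.1, Subfield.subset_closure (Or.inr x.2)⟩ : Finset L) : Set L))
    have hC : ∀ c, eC c ∈ E := fun c => Subfield.subset_closure (Or.inl ⟨c, rfl⟩)
    have hFF : ∀ x : F, eF x ∈ E := by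
      intro x
      have : F ≤ (E.comap eF.toRingHom).map F.subtype := Subfield.closure_le.2 (by
        rintro z (⟨a, rfl⟩ | hz)
        · refine ⟨algebraMap A F a, ?_, rfl⟩
          show eF (algebraMap A F a) ∈ E
          rw [eF.commutes, ← eC.commutes]
          exact hC _
        · exact ⟨⟨z, Subfield.subset_closure (Or.inr hz)⟩, Subfield.subset_closure (Or.inr
            (Finset.mem_coe.2 (Finset.mem_image.2 ⟨⟨z, hz⟩, Finset.mem_attach _ _, rfl⟩))), rfl⟩)
      obtain ⟨y, hy, hyx⟩ := this x.2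
      obtain rfl : y = x := Subtype.ext hyx
      exact hy
    have hηE : ∀ z, η z ∈ E := by
      intro z
      induction z using TensorProduct.induction_on with
      | zero => simp
      | add a b ha hb => rw [map_add]; exact E.add_mem ha hb
      | tmul x c =>
        rw [show x ⊗ₜ[A] c = Algebra.TensorProduct.includeLeft (S := A) x * Algebra.TensorProduct.includeRight c by simp,
          map_mul]
        exact E.mul_mem (hFF x) (hC c)
    refine eq_top_iff.2 fun z _ => ?_
    obtain ⟨a, b, -, rfl⟩ := IsFractionRing.div_surjective ((F ⊗[A] C) ⧸ Q) z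
    obtain ⟨a, rfl⟩ := Ideal.Quotient.mk_surjective a
    obtain ⟨b, rfl⟩ := Ideal.Quotient.mk_surjective b
    exact E.div_mem (hηE a) (hηE b)
  obtain ⟨O, hO, hC, hev⟩ := exists_dvr_at hlt L eC hker _ hgen
  have hA : ∀ a, algebraMap A L a ∈ O := fun a => eC.commutes a ▸ hC _
  letI : Algebra A O := ((algebraMap A L).codRestrict O.toSubring hA).toAlgebra
  haveI : IsScalarTower A O L := IsScalarTower.of_algebraMap_eq fun a => rfl
  let ev : C →ₐ[A] O :=
    { eC.toRingHom.codRestrict O.toSubring hC with commutes' := fun a => Subtype.ext (eC.commutes a) }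
  obtain ⟨t, ht, ht0⟩ := exists_mul_eq_zero_of_dvr hGR htor F L eF eC O ev (fun c => rfl) hev η
    (fun x c => by simp [eF, eC, ← map_mul]) w₁ hw₁n
  exact ⟨t, fun h => ht ((hη t).2 h), ht0⟩

end Groth.Agent.GeomUnib
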