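import Groth.Agent.GeomUnib.GeomRedGen
import Groth.Agent.GeomUnib.IntegralSpread
import Groth.Agent.UnitProd.SmoothReduced
import Mathlib.RingTheory.Smooth.Field
import Mathlib.RingTheory.Smooth.Locus

/-!
# Geometric reducedness spreads along the closure of a point
-/

set_option autoImplicit false
set_option linter.unusedSectionVars false
set_option linter.style.haveILetI false
set_option maxHeartbeats 1000000
set_option synthInstance.maxHeartbeats 200000

universe u

namespace Groth.Agent.GeomUnib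

open IsLocalRing TensorProduct UnivOpenAt

/-- A nonzerodivisor is regular on almost all fibres. -/
theorem exists_regular_fibre_of_flat {A B : Type u} [CommRing A] [IsDomain A] [IsNoetherianRing A] [CommRing B]
    [Algebra A B] [Algebra.FiniteType A B] [Module.Flat A B] {w : B} (hw : w ∈ nonZeroDivisors B) :
    ∃ a : A, a ≠ 0 ∧ ∀ (k : Type u) [Field k] [Algebra A k], algebraMap A k a ≠ 0 →
      ∀ z : k ⊗[A] B, (1 ⊗ₜ w) * z = 0 → z = 0 := by
  obtain ⟨a, ha, hflat⟩ := FlatDescent.exists_flatOn (D := A) (C := B) (B ⧸ Ideal.span {w})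
  refine ⟨a, ha, fun k _ _ hak z hz => ?_⟩
  let S : Submonoid B := Submonoid.powers (algebraMap A B a)
  let Ba := Localization.Away (algebraMap A B a)
  haveI := (FlatDescent.flatOn_powers_iff (A := A) (M := B ⧸ Ideal.span {w}) (algebraMap A B a)).1 hflat
  let f1 := Algebra.linearMap B Ba
  let f3 := LocalizedModule.mkLinearMap S (B ⧸ Ideal.span {w})
  let g : B →ₗ[B] B ⧸ Ideal.span {w} := Submodule.mkQ _
  let m : B →ₗ[B] B := LinearMap.lsmul B B w
  have hex : Function.Exact m g := fun b => by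
    show Submodule.Quotient.mk b = 0 ↔ _
    rw [Submodule.Quotient.mk_eq_zero, Ideal.mem_span_singleton']
    exact ⟨fun ⟨c, hc⟩ => ⟨c, by simp [m, ← hc, mul_comm]⟩, fun ⟨c, hc⟩ => ⟨c, by simp [m, ← hc, mul_comm]⟩⟩
  have hm' : IsLocalizedModule.map S f1 f1 m = LinearMap.lsmul B Ba w := by
    refine IsLocalizedModule.ext S f1 (IsLocalizedModule.map_units f1) ?_
    ext
    show IsLocalizedModule.map S f1 f1 m (f1 1) = _
    rw [IsLocalizedModule.map_apply]
    simp [m, f1, Algebra.smul_def]
  have hex' : Function.Exact (LinearMap.lsmul B Ba w) (IsLocalizedModule.map S f1 f3 g) :=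
    hm' ▸ IsLocalizedModule.map_exact S f1 f1 f3 m g hex
  have hinjw : Function.Injective (LinearMap.lsmul B Ba w) := by
    rw [← hm']
    exact IsLocalizedModule.map_injective S f1 f1 m fun u v huv =>
      (mul_cancel_left_mem_nonZeroDivisors hw).1 huv
  have hinj : Function.Injective (((LinearMap.lsmul B Ba w).restrictScalars A).lTensor k) :=
    LinearMap.lTensor_injective_of_exact_of_flat ((IsLocalizedModule.map S f1 f3 g).restrictScalars A)
      (IsLocalizedModule.map_surjective S f1 f3 g (Submodule.mkQ_surjective _)) _ hinjw hex' k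
  let μ : k ⊗[A] B →ₐ[A] k ⊗[A] Ba := Algebra.TensorProduct.map (AlgHom.id A k) (IsScalarTower.toAlgHom A B Ba)
  letI : Algebra (k ⊗[A] B) (k ⊗[A] Ba) := μ.toRingHom.toAlgebra
  haveI : IsScalarTower k (k ⊗[A] B) (k ⊗[A] Ba) := .of_algebraMap_eq fun c => by
    show algebraMap k (k ⊗[A] Ba) c = μ (algebraMap k (k ⊗[A] B) c)
    simp [μ]
    rfl
  haveI hloc := IsLocalization.tensorProduct_tensorProduct_right A k S Ba (RingHom.ext fun b => by
    show μ (1 ⊗ₜ b) = 1 ⊗ₜ algebraMap B Ba b
    simp [μ])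
  have hμ : Function.Injective μ := by
    refine IsLocalization.injective (k ⊗[A] Ba) (M := S.map Algebra.TensorProduct.includeRight) ?_
    rintro _ ⟨_, ⟨j, rfl⟩, rfl⟩
    refine IsUnit.mem_nonZeroDivisors ?_
    show IsUnit ((Algebra.TensorProduct.includeRight : B →ₐ[A] k ⊗[A] B) (algebraMap A B a ^ j))
    rw [map_pow, AlgHom.commutes, IsScalarTower.algebraMap_apply A k (k ⊗[A] B)]
    exact ((Ne.isUnit hak).map _).pow j
  refine hμ ?_
  rw [map_zero]
  refine hinj ?_
  rw [map_zero]
  have : ∀ y : k ⊗[A] Ba, ((LinearMap.lsmul B Ba w).restrictScalars A).lTensor k y =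
      (1 ⊗ₜ algebraMap B Ba w) * y := fun y => by
    induction y using TensorProduct.induction_on with
    | zero => simp
    | add u v hu hv => rw [map_add, hu, hv, mul_add]
    | tmul c b => simp [Algebra.smul_def]
  rw [this, show (1 ⊗ₜ algebraMap B Ba w : k ⊗[A] Ba) = μ (1 ⊗ₜ w) by simp [μ], ← map_mul, hz, map_zero]

variable {A C : Type u} [CommRing A] [CommRing C] [Algebra A C]

/-- A localisation of a reduced base change stays reduced. -/
theorem isReduced_tensor_of_isLocalization (E : Type u) [CommRing E] [Algebra A E] (S : Submonoid C)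
    (T : Type u) [CommRing T] [Algebra A T] [Algebra C T] [IsScalarTower A C T] [IsLocalization S T]
    [IsReduced (E ⊗[A] C)] : IsReduced (E ⊗[A] T) := by
  let μ : E ⊗[A] C →ₐ[A] E ⊗[A] T := Algebra.TensorProduct.map (AlgHom.id A E) (IsScalarTower.toAlgHom A C T)
  letI : Algebra (E ⊗[A] C) (E ⊗[A] T) := μ.toRingHom.toAlgebra
  haveI : IsScalarTower E (E ⊗[A] C) (E ⊗[A] T) := .of_algebraMap_eq fun c => by
    show algebraMap E (E ⊗[A] T) c = μ (algebraMap E (E ⊗[A] C) c)
    simp [μ]
  haveI := IsLocalization.tensorProduct_tensorProduct_right A E S T (RingHom.ext fun b => by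
    show μ (1 ⊗ₜ b) = 1 ⊗ₜ algebraMap C T b
    simp [μ])
  exact isReduced_localizationPreserves (S.map (Algebra.TensorProduct.includeRight (R := A) (A := E))) _ inferInstance

/-- A field of finite type with geometrically reduced base change is formally smooth. -/
theorem formallySmooth_of_isReduced {A K L : Type u} [CommRing A] [IsDomain A] [Field K] [Algebra A K]
    [IsFractionRing A K] [Field L] [Algebra A L] [Algebra K L] [IsScalarTower A K L] [Algebra.EssFiniteType A L]
    [IsReduced (AlgebraicClosure K ⊗[A] L)] : Algebra.FormallySmooth A L := by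
  haveI : Algebra.EssFiniteType K L := Algebra.EssFiniteType.of_comp A K L
  haveI : TensorProduct.CompatibleSMul A K (AlgebraicClosure K) L := ⟨fun z m n => by
    obtain ⟨a, s, hs, rfl⟩ := IsFractionRing.div_surjective A z
    have hs0 : algebraMap A K s ≠ 0 := IsFractionRing.to_map_ne_zero_of_mem_nonZeroDivisors hs
    have e : algebraMap A K s * (algebraMap A K a / algebraMap A K s) = algebraMap A K a := mul_div_cancel₀ _ hs0
    set z := algebraMap A K a / algebraMap A K s
    calc (z • m) ⊗ₜ[A] n = (z • m) ⊗ₜ[A] (s • ((algebraMap A K s)⁻¹ • n)) := by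
          rw [← algebraMap_smul K s, smul_smul, mul_inv_cancel₀ hs0, one_smul]
      _ = (a • m) ⊗ₜ[A] ((algebraMap A K s)⁻¹ • n) := by
          rw [← TensorProduct.smul_tmul, ← algebraMap_smul K s, smul_smul, e, algebraMap_smul]
      _ = m ⊗ₜ[A] (z • n) := by
          rw [TensorProduct.smul_tmul, ← algebraMap_smul K a, smul_smul, ← div_eq_mul_inv]⟩
  haveI : IsReduced (AlgebraicClosure K ⊗[K] L) :=
    isReduced_of_injective (Algebra.TensorProduct.equivOfCompatibleSMul A K A (AlgebraicClosure K) L)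
      (Algebra.TensorProduct.equivOfCompatibleSMul A K A (AlgebraicClosure K) L).injective
  haveI : Algebra.IsGeometricallyReduced K L := (Algebra.isGeometricallyReduced_field_iff K L).2 ‹_›
  haveI : Algebra.FormallySmooth K L := by
    obtain ⟨t, ht, hsep⟩ : ∃ t : Finset L, IsTranscendenceBasis K ((↑) : t → L) ∧
        Algebra.IsSeparable (IntermediateField.adjoin K (t : Set L)) L := by
      obtain _ | ⟨c, hc, hck⟩ := CharP.exists' K
      · exact exists_isTranscendenceBasis_and_isSeparable_of_perfectField K L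
      · have : CharP L c := charP_of_injective_algebraMap (algebraMap K L).injective c
        exact exists_isTranscendenceBasis_and_isSeparable_of_linearIndepOn_pow_of_essFiniteType c hc.out
          fun s hs => EGA41Lib.frobLI_of_isGeometricallyReduced (p := c) _ hs
    have hr : Set.range ((↑) : t → L) = (t : Set L) := Subtype.range_coe
    haveI : Algebra.IsSeparable (IntermediateField.adjoin K (Set.range ((↑) : t → L))) L := hr.symm ▸ hsep
    exact Algebra.FormallySmooth.of_algebraicIndependent_of_isSeparable ht.1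
  haveI : Algebra.FormallySmooth A K := .of_isLocalization (nonZeroDivisors A)
  exact .comp A K L

/-- Geometric reducedness of the generic fibre spreads to almost all fibres. -/
theorem exists_isReduced_fibre [IsDomain A] [IsNoetherianRing A] [Algebra.FiniteType A C] [Module.Flat A C]
    (K : Type u) [Field K] [Algebra A K] [IsFractionRing A K] [IsReduced (AlgebraicClosure K ⊗[A] C)] :
    ∃ a : A, a ≠ 0 ∧ ∀ (k : Type u) [Field k] [Algebra A k], algebraMap A k a ≠ 0 → IsReduced (k ⊗[A] C) := by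
  classical
  haveI : IsNoetherianRing C := Algebra.FiniteType.isNoetherianRing A C
  haveI : Algebra.FinitePresentation A C := Algebra.FinitePresentation.of_finiteType.mp ‹_›
  haveI : IsReduced C :=
    isReduced_of_injective (Algebra.TensorProduct.includeRight (R := A) (A := AlgebraicClosure K) (B := C))
      (Algebra.TensorProduct.includeRight_injective (by
        rw [IsScalarTower.algebraMap_eq A K (AlgebraicClosure K), RingHom.coe_comp]
        exact (RingHom.injective _).comp (IsFractionRing.injective A K)))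
  have hsm : ∀ P : PrimeSpectrum C, P.asIdeal ∈ minimalPrimes C → P ∈ Algebra.smoothLocus A C := by
    intro P hP
    have hfield : IsField (Localization.AtPrime P.asIdeal) := by
      haveI : IsReduced (Localization.AtPrime P.asIdeal) := inferInstance
      rw [IsLocalRing.isField_iff_maximalIdeal_eq]
      refine eq_bot_iff.2 fun z hz => ?_
      refine IsReduced.eq_zero _ (mem_nilradical.1 (nilradical_eq_sInf (R := Localization.AtPrime P.asIdeal) ▸ ?_))
      refine Submodule.mem_sInf.2 fun (J : Ideal _) (hJ : J.IsPrime) => ?_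
      have hle : J.comap (algebraMap C _) ≤ P.asIdeal :=
        fun x hx => by_contra fun hxP => Set.disjoint_left.1
          ((IsLocalization.isPrime_iff_isPrime_disjoint P.asIdeal.primeCompl _ J).1 hJ).2 hxP hx
      have heq : J.comap (algebraMap C _) = P.asIdeal := le_antisymm hle (hP.2 ⟨inferInstance, bot_le⟩ hle)
      rw [← Localization.AtPrime.map_eq_maximalIdeal] at hz
      exact Ideal.map_le_iff_le_comap.2 heq.ge hz
    letI : Field (Localization.AtPrime P.asIdeal) := hfield.toField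
    let L := Localization.AtPrime P.asIdeal
    have hAL : Function.Injective (algebraMap A L) := by
      refine (injective_iff_map_eq_zero _).2 fun a ha => by_contra fun h => ?_
      rw [IsScalarTower.algebraMap_apply A C L] at ha
      obtain ⟨⟨s, hs⟩, hsa⟩ := (IsLocalization.map_eq_zero_iff P.asIdeal.primeCompl L _).1 ha
      have : s = 0 := (Module.Flat.isSMulRegular_of_nonZeroDivisors (M := C) (mem_nonZeroDivisors_of_ne_zero h))
        (show a • s = a • 0 by rw [smul_zero, Algebra.smul_def, mul_comm]; exact hsa)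
      exact hs (this ▸ P.asIdeal.zero_mem)
    letI : Algebra K L := (IsFractionRing.lift hAL).toAlgebra
    haveI : IsScalarTower A K L :=
      IsScalarTower.of_algebraMap_eq fun a => (IsFractionRing.lift_algebraMap hAL a).symm
    haveI : Algebra.EssFiniteType C L := Algebra.EssFiniteType.of_isLocalization L P.asIdeal.primeCompl
    haveI : Algebra.EssFiniteType A L := Algebra.EssFiniteType.comp A C L
    haveI : IsReduced (AlgebraicClosure K ⊗[A] L) :=
      isReduced_tensor_of_isLocalization _ P.asIdeal.primeCompl L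
    exact formallySmooth_of_isReduced (A := A) (K := K) (L := L)
  obtain ⟨s, hs⟩ := (PrimeSpectrum.isClosed_iff_zeroLocus_ideal _).1
    (Algebra.isOpen_smoothLocus (R := A) (A := C)).isClosed_compl
  have hfin : (minimalPrimes C).Finite := minimalPrimes.finite_of_isNoetherianRing C
  obtain ⟨w, hws, hw⟩ : ∃ w ∈ s, ∀ P ∈ minimalPrimes C, w ∉ P := by
    by_contra h
    push Not at h
    have hsub : (s : Set C) ⊆ ⋃ P ∈ minimalPrimes C, (P : Set C) := fun w hw => by
      obtain ⟨P, hP, hwP⟩ := h w hw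
      exact Set.mem_biUnion hP hwP
    obtain ⟨P, hP, hsP⟩ := (Ideal.subset_union_prime_finite hfin ⊥ ⊥ fun r hr _ _ => hr.1.1).1 hsub
    have h1 : (⟨P, hP.1.1⟩ : PrimeSpectrum C) ∈ PrimeSpectrum.zeroLocus (s : Set C) := hsP
    rw [← hs] at h1
    exact h1 (hsm _ hP)
  have hsub : (↑(PrimeSpectrum.basicOpen w) : Set (PrimeSpectrum C)) ⊆ Algebra.smoothLocus A C := fun P hP => by
    by_contra hP'
    have h1 : P ∈ PrimeSpectrum.zeroLocus (s : Set C) := hs ▸ hP'
    exact hP (h1 hws)
  haveI : Algebra.Smooth A (Localization.Away w) := Algebra.basicOpen_subset_smoothLocus_iff_smooth.1 hsub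
  have hwnzd : w ∈ nonZeroDivisors C := by
    refine mem_nonZeroDivisors_iff_right.2 fun z hz => IsReduced.eq_zero _ ?_
    rw [← mem_nilradical, nilradical, ← Ideal.sInf_minimalPrimes, Submodule.mem_sInf]
    exact fun P hP => (hP.1.1.mem_or_mem (hz.symm ▸ P.zero_mem)).resolve_right (hw P hP)
  obtain ⟨a, ha, hreg⟩ := exists_regular_fibre_of_flat (A := A) hwnzd
  refine ⟨a, ha, fun k _ _ hk => ?_⟩
  haveI : Algebra.Smooth k (k ⊗[A] Localization.Away w) := inferInstance
  haveI : IsReduced (k ⊗[A] Localization.Away w) := UnitProd.isReduced_of_smooth k _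
  exact isReduced_of_injective _ (IntegralSpread.tensor_away w (T := Localization.Away w) (hreg k hk))

/-- Transport of elementwise geometric reducedness to a quotient of the base. -/
theorem exists_grAt_base_change (p : Ideal A) (q : Ideal C) [q.IsPrime] (hp : p ≤ q.comap (algebraMap A C)) :
    ∃ q' : Ideal ((A ⧸ p) ⊗[A] C), q'.IsPrime ∧ q'.comap (inr A C (A ⧸ p)) = q ∧
      Function.Surjective (inr A C (A ⧸ p)) ∧
      ∀ Q : Ideal C, Q.IsPrime → p ≤ Q.comap (algebraMap A C) → ∀ Q' : Ideal ((A ⧸ p) ⊗[A] C),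
        Q'.IsPrime → Q'.comap (inr A C (A ⧸ p)) = Q → (GRAt A C Q ↔ GRAt (A ⧸ p) ((A ⧸ p) ⊗[A] C) Q') := by
  have hsurj : Function.Surjective (inr A C (A ⧸ p)) := fun z => by
    induction z using TensorProduct.induction_on with
    | zero => exact ⟨0, map_zero _⟩
    | add x y hx hy =>
      obtain ⟨x', rfl⟩ := hx
      obtain ⟨y', rfl⟩ := hy
      exact ⟨x' + y', map_add _ _ _⟩
    | tmul m c =>
      obtain ⟨a, rfl⟩ := Ideal.Quotient.mk_surjective m
      refine ⟨a • c, ?_⟩
      show (1 : A ⧸ p) ⊗ₜ[A] (a • c) = _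
      rw [← TensorProduct.smul_tmul, Algebra.smul_def, mul_one]
      rfl
  have hker : RingHom.ker (inr A C (A ⧸ p)) ≤ q := by
    let m : (A ⧸ p) ⊗[A] C →ₐ[A] C ⧸ q := Algebra.TensorProduct.lift
      { Ideal.quotientMap q (algebraMap A C) hp with commutes' := fun a => rfl }
      (Ideal.Quotient.mkₐ A q) fun _ _ => .all _ _
    intro c hc
    have h1 : m (inr A C (A ⧸ p) c) = Ideal.Quotient.mk q c := by simp [m]
    rw [RingHom.mem_ker.1 hc, map_zero] at h1
    exact Ideal.Quotient.eq_zero_iff_mem.1 h1.symm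
  refine ⟨q.map (inr A C (A ⧸ p)), Ideal.map_isPrime_of_surjective hsurj hker, ?_, hsurj, fun Q hQ hpQ Q' hQ' hQQ' => ?_⟩
  · rw [Ideal.comap_map_of_surjective _ hsurj, ← RingHom.ker_eq_comap_bot, sup_eq_left.2 hker]
  have hcomap : Q'.comap (algebraMap (A ⧸ p) ((A ⧸ p) ⊗[A] C)) =
      (Q.comap (algebraMap A C)).map (Ideal.Quotient.mk p) := by
    refine (Ideal.map_comap_of_surjective _ Ideal.Quotient.mk_surjective _).symm.trans ?_
    rw [Ideal.comap_comap, ← hQQ', Ideal.comap_comap]
    congr 2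
    ext a
    show Ideal.Quotient.mk p a ⊗ₜ[A] (1 : C) = (1 : A ⧸ p) ⊗ₜ[A] algebraMap A C a
    rw [Algebra.algebraMap_eq_smul_one, ← TensorProduct.smul_tmul, ← Algebra.algebraMap_eq_smul_one]
    rfl
  constructor
  · intro h K _ _ hK P hP hPQ w hw
    letI : Algebra A K := ((algebraMap (A ⧸ p) K).comp (Ideal.Quotient.mk p)).toAlgebra
    haveI : IsScalarTower A (A ⧸ p) K := IsScalarTower.of_algebraMap_eq fun a => rfl
    let e := Algebra.TensorProduct.cancelBaseChange A (A ⧸ p) K K C
    obtain ⟨t, ht, ht0⟩ := h K (by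
      rw [show algebraMap A K = (algebraMap (A ⧸ p) K).comp (Ideal.Quotient.mk p) from rfl, ← RingHom.comap_ker,
        hK, hcomap, Ideal.comap_map_of_surjective _ Ideal.Quotient.mk_surjective, ← RingHom.ker_eq_comap_bot,
        Ideal.mk_ker, sup_eq_left.2 hpQ]) (P.comap e.symm.toRingHom) (Ideal.comap_isPrime _ _) (by
      rw [← hQQ', ← hPQ, Ideal.comap_comap, Ideal.comap_comap]
      congr 1) (e w) (hw.map e)
    refine ⟨e.symm t, fun hm => ht hm, ?_⟩
    have := congrArg e.symm ht0
    rwa [map_mul, e.symm_apply_apply, map_zero] at this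
  · intro h K _ _ hK P hP hPQ w hw
    letI : Algebra (A ⧸ p) K := (Ideal.Quotient.lift p (algebraMap A K) fun a ha => hK.ge (hpQ ha)).toAlgebra
    haveI : IsScalarTower A (A ⧸ p) K := IsScalarTower.of_algebraMap_eq fun a => rfl
    let e := Algebra.TensorProduct.cancelBaseChange A (A ⧸ p) K K C
    obtain ⟨t, ht, ht0⟩ := h K (by
      rw [hcomap, ← hK]
      refine (Ideal.map_comap_of_surjective _ Ideal.Quotient.mk_surjective _).symm.trans ?_
      rfl) (P.comap e.toRingHom) (Ideal.comap_isPrime _ _) (by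
      refine (Ideal.map_comap_of_surjective _ hsurj _).symm.trans ?_
      rw [← Ideal.map_comap_of_surjective _ hsurj Q', hQQ', ← hPQ, Ideal.comap_comap, Ideal.comap_comap]
      congr 2
      ext c
      simp [e]) (e.symm w) (hw.map e.symm)
    refine ⟨e t, fun hm => ht hm, ?_⟩
    have := congrArg e ht0
    rwa [map_mul, e.apply_symm_apply, map_zero] at this

/-- Geometric reducedness spreads along the closure of the point, over a domain. -/
theorem exists_notMem_grAt_domain [IsDomain A] [IsNoetherianRing A] [Algebra.FiniteType A C] (q : Ideal C)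
    [q.IsPrime] (hq : q.comap (algebraMap A C) = ⊥) (hGR : GRAt A C q) :
    ∃ c, c ∉ q ∧ ∀ Q : Ideal C, Q.IsPrime → c ∉ Q → GRAt A C Q := by
  classical
  let K := FractionRing A
  let Kb := AlgebraicClosure K
  haveI : IsNoetherianRing C := Algebra.FiniteType.isNoetherianRing A C
  haveI : IsNoetherianRing (K ⊗[A] C) := Algebra.FiniteType.isNoetherianRing K _
  haveI : IsNoetherianRing (Kb ⊗[A] C) := Algebra.FiniteType.isNoetherianRing Kb _
  obtain ⟨a, ha, hflat⟩ := FlatDescent.exists_flatOn (D := A) (C := C) C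
  have hker : ∀ (E : Type u) [Field E] [Algebra A E] [Algebra K E] [IsScalarTower A K E],
      RingHom.ker (algebraMap A E) = q.comap (algebraMap A C) := fun E _ _ _ _ => by
    rw [hq, IsScalarTower.algebraMap_eq A K E, ← RingHom.comap_ker,
      (RingHom.injective_iff_ker_eq_bot _).1 (algebraMap K E).injective]
    exact (RingHom.injective_iff_ker_eq_bot _).1 (IsFractionRing.injective A K)
  -- one element killing all nilpotents of the geometric generic fibre
  obtain ⟨c₀, hc₀, hkill⟩ : ∃ c₀ ∉ q, ∀ w : Kb ⊗[A] C, IsNilpotent w → inr A C Kb c₀ * w = 0 := by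
    let I : Ideal (Kb ⊗[A] C) := (⊥ : Ideal (Kb ⊗[A] C)).colon (nilradical (Kb ⊗[A] C) : Set (Kb ⊗[A] C))
    have hI : ∀ z, z ∈ I ↔ ∀ w, IsNilpotent w → z * w = 0 := fun z => by
      rw [show (z ∈ I) = (z ∈ (⊥ : Ideal (Kb ⊗[A] C)).colon (nilradical (Kb ⊗[A] C) : Set (Kb ⊗[A] C))) from rfl,
        Submodule.mem_colon]
      simp [mem_nilradical]
    by_contra h
    push Not at h
    have hle : I.comap (inr A C Kb) ≤ q := fun c hc => by_contra fun hcq => by
      obtain ⟨w, hw, hne⟩ := h c hcq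
      exact hne ((hI _).1 hc w hw)
    letI : Algebra K q.ResidueField := (IsFractionRing.lift (K := K) (g := algebraMap A q.ResidueField) (by
      rw [RingHom.injective_iff_ker_eq_bot, IsScalarTower.algebraMap_eq A C q.ResidueField, ← RingHom.comap_ker,
        Ideal.ker_algebraMap_residueField, hq])).toAlgebra
    haveI : IsScalarTower A K q.ResidueField :=
      IsScalarTower.of_algebraMap_eq fun x => (IsFractionRing.lift_algebraMap _ x).symm
    let ev : K ⊗[A] C →ₐ[A] q.ResidueField := Algebra.TensorProduct.lift (IsScalarTower.toAlgHom A K _)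
      (IsScalarTower.toAlgHom A C _) fun _ _ => .all _ _
    let qK := RingHom.ker ev.toRingHom
    haveI : qK.IsPrime := RingHom.ker_isPrime _
    let μ := Algebra.TensorProduct.map (IsScalarTower.toAlgHom A K Kb) (AlgHom.id A C)
    letI : Algebra (K ⊗[A] C) (Kb ⊗[A] C) := μ.toRingHom.toAlgebra
    haveI : Algebra.IsIntegral (K ⊗[A] C) (Kb ⊗[A] C) := ⟨fun z => by
      induction z using TensorProduct.induction_on with
      | zero => exact isIntegral_zero
      | add x y hx hy => exact hx.add hy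
      | tmul k c =>
        rw [show k ⊗ₜ[A] c = (k ⊗ₜ[A] (1 : C)) * (1 ⊗ₜ[A] c) by simp]
        refine IsIntegral.mul ?_ ?_
        · obtain ⟨P, hP, hP0⟩ := Algebra.IsIntegral.isIntegral (R := K) k
          refine ⟨P.map (Algebra.TensorProduct.includeLeftRingHom (R := A) (A := K) (B := C)), hP.map _, ?_⟩
          rw [Polynomial.eval₂_map]
          have hcomp : (algebraMap (K ⊗[A] C) (Kb ⊗[A] C)).comp Algebra.TensorProduct.includeLeftRingHom =
              (Algebra.TensorProduct.includeLeftRingHom (R := A) (A := Kb) (B := C)).comp (algebraMap K Kb) := by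
            ext x; simp [RingHom.algebraMap_toAlgebra, μ]
          rw [hcomp, show k ⊗ₜ[A] (1 : C) = Algebra.TensorProduct.includeLeftRingHom (R := A) (A := Kb) (B := C) k
            from rfl, ← Polynomial.hom_eval₂, hP0, map_zero]
        · exact (show (1 : Kb) ⊗ₜ[A] c = algebraMap (K ⊗[A] C) (Kb ⊗[A] C) (1 ⊗ₜ c) by
            simp [RingHom.algebraMap_toAlgebra, μ]) ▸ isIntegral_algebraMap⟩
    have hIK : I.comap (algebraMap (K ⊗[A] C) (Kb ⊗[A] C)) ≤ qK := by
      intro z hz
      obtain ⟨⟨z₀, ⟨_, s, hs, rfl⟩⟩, hzs⟩ := IsLocalization.surj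
        (Algebra.algebraMapSubmonoid C (nonZeroDivisors A)) (Algebra.TensorProduct.comm A K C z)
      have hzs' : z * (algebraMap A K s ⊗ₜ[A] (1 : C)) = (1 : K) ⊗ₜ[A] z₀ := by
        have := congrArg (Algebra.TensorProduct.comm A K C).symm hzs
        rw [map_mul, AlgEquiv.symm_apply_apply] at this
        rw [Algebra.TensorProduct.algebraMap_apply, Algebra.TensorProduct.algebraMap_apply,
          Algebra.TensorProduct.comm_symm_tmul, Algebra.TensorProduct.comm_symm_tmul] at this
        rw [show algebraMap A K s ⊗ₜ[A] (1 : C) = (1 : K) ⊗ₜ[A] algebraMap A C s by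
          rw [Algebra.algebraMap_eq_smul_one, TensorProduct.smul_tmul, ← Algebra.algebraMap_eq_smul_one]]
        exact this
      have h1 : z₀ ∈ I.comap (inr A C Kb) := by
        show (1 : Kb) ⊗ₜ[A] z₀ ∈ I
        have : μ (z * (algebraMap A K s ⊗ₜ[A] (1 : C))) ∈ I := by rw [map_mul]; exact I.mul_mem_right _ hz
        rw [hzs'] at this
        simpa [μ] using this
      have h2 : ev z * algebraMap A q.ResidueField s = 0 := by
        have : ev (z * (algebraMap A K s ⊗ₜ[A] (1 : C))) = 0 := by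
          rw [hzs']; simp [ev, hle h1]
        simpa [map_mul, ev, ← IsScalarTower.algebraMap_apply] using this
      refine (mul_eq_zero.1 h2).resolve_right fun h3 => ?_
      rw [IsScalarTower.algebraMap_apply A C q.ResidueField, Ideal.algebraMap_residueField_eq_zero] at h3
      exact nonZeroDivisors.ne_zero hs ((Submodule.mem_bot A).1 (hq.le (Ideal.mem_comap.2 h3)))
    obtain ⟨P, hIP, hP, hPq⟩ := Ideal.exists_ideal_over_prime_of_isIntegral qK I hIK
    have hPc : P.comap (inr A C Kb) = q := by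
      ext c
      rw [Ideal.mem_comap, show inr A C Kb c = algebraMap (K ⊗[A] C) (Kb ⊗[A] C) (1 ⊗ₜ c) by
        simp [RingHom.algebraMap_toAlgebra, μ], ← Ideal.mem_comap, hPq, RingHom.mem_ker]
      simp [ev]
    obtain ⟨t, ht⟩ := IsNoetherian.noetherian (nilradical (Kb ⊗[A] C))
    have h1 : ∀ w ∈ t, ∃ z ∉ P, z * w = 0 := fun w hw =>
      hGR Kb (hker Kb) P hP hPc w (mem_nilradical.1 (ht ▸ Submodule.subset_span hw))
    choose! z hz hz0 using h1
    refine (?_ : ∏ w ∈ t, z w ∉ P) (hIP ((hI _).2 fun w hw => ?_))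
    · intro hmem
      obtain ⟨w, hw, hmem'⟩ := (Ideal.IsPrime.prod_mem_iff (p := P)).1 hmem
      exact hz w hw hmem'
    · have hw' : w ∈ Ideal.span (t : Set (Kb ⊗[A] C)) := by
        rw [show Ideal.span (t : Set (Kb ⊗[A] C)) = _ from ht]; exact mem_nilradical.2 hw
      refine Submodule.span_induction (p := fun w _ => (∏ w ∈ t, z w) * w = 0) (fun b hb => ?_) (mul_zero _)
        (fun b c _ _ hb hc => by rw [mul_add, hb, hc, add_zero])
        (fun r b _ hb => by rw [smul_eq_mul, mul_left_comm, hb, mul_zero]) hw'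
      obtain ⟨d, hd⟩ := Finset.dvd_prod_of_mem z hb
      rw [hd, mul_right_comm, hz0 b hb, zero_mul]
  have haq : algebraMap A C a ∉ q := fun h => ha ((Submodule.mem_bot A).1 (hq.le (Ideal.mem_comap.2 h)))
  let c₁ := algebraMap A C a * c₀
  let C1 := Localization.Away c₁
  haveI : Module.Flat A C1 := (FlatDescent.flatOn_iff_flat (A := A) (Submonoid.powers c₁) (Algebra.linearMap C C1)).1
    (hflat.mono fun s hs => by
      obtain ⟨n, rfl⟩ := hs
      exact ⟨c₀ ^ n, n, by simp [c₁, mul_pow, mul_comm]⟩)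
  haveI : Algebra.FiniteType A C1 := Algebra.FiniteType.trans (R := A) (S := C) inferInstance inferInstance
  haveI : IsReduced (Kb ⊗[A] C1) := by
    refine ⟨fun z ⟨n, hn⟩ => ?_⟩
    let μ : Kb ⊗[A] C →ₐ[A] Kb ⊗[A] C1 := Algebra.TensorProduct.map (AlgHom.id A Kb) (IsScalarTower.toAlgHom A C C1)
    letI : Algebra (Kb ⊗[A] C) (Kb ⊗[A] C1) := μ.toRingHom.toAlgebra
    haveI : IsScalarTower Kb (Kb ⊗[A] C) (Kb ⊗[A] C1) := .of_algebraMap_eq fun c => by
      show algebraMap Kb (Kb ⊗[A] C1) c = μ (algebraMap Kb (Kb ⊗[A] C) c)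
      simp [μ]
      rfl
    haveI := IsLocalization.tensorProduct_tensorProduct_right A Kb (Submonoid.powers c₁) C1 (RingHom.ext fun b => by
      show μ (1 ⊗ₜ b) = 1 ⊗ₜ algebraMap C C1 b
      simp [μ])
    obtain ⟨⟨w, ⟨_, _, ⟨m, rfl⟩, rfl⟩⟩, rfl⟩ := IsLocalization.mk'_surjective
      ((Submonoid.powers c₁).map (Algebra.TensorProduct.includeRight (R := A) (A := Kb))) z |>.imp fun _ h => h
    rw [← IsLocalization.mk'_pow, IsLocalization.mk'_eq_zero_iff] at hn
    obtain ⟨⟨_, _, ⟨j, rfl⟩, rfl⟩, hj⟩ := hn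
    refine (IsLocalization.mk'_eq_zero_iff _ _).2 ⟨⟨_, _, ⟨j + 1, rfl⟩, rfl⟩, ?_⟩
    change inr A C Kb (c₁ ^ j) * w ^ n = 0 at hj
    show inr A C Kb (c₁ ^ (j + 1)) * w = 0
    have h1 := hkill (inr A C Kb (c₁ ^ j) * w) ⟨n + 1, by
      calc (inr A C Kb (c₁ ^ j) * w) ^ (n + 1) =
          inr A C Kb (c₁ ^ j) ^ n * w * (inr A C Kb (c₁ ^ j) * w ^ n) := by ring
        _ = 0 := by rw [hj, mul_zero]⟩
    rw [pow_succ, show c₁ ^ j * c₁ = algebraMap A C a * (c₀ * c₁ ^ j) by simp only [c₁]; ring, map_mul, map_mul,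
      mul_assoc, mul_assoc, h1, mul_zero]
  obtain ⟨b, hb, hred⟩ := exists_isReduced_fibre (A := A) (C := C1) K
  have hbq : algebraMap A C b ∉ q := fun h => hb ((Submodule.mem_bot A).1 (hq.le (Ideal.mem_comap.2 h)))
  refine ⟨c₁ * algebraMap A C b, fun h => (Ideal.IsPrime.mem_or_mem inferInstance h).elim
    (fun h' => (Ideal.IsPrime.mem_or_mem inferInstance h').elim haq hc₀) hbq, fun Q hQ hcQ => ?_⟩
  intro k _ _ hk P hP hPQ w hw
  haveI := hred k (fun h => hcQ (Ideal.mul_mem_left _ _ (Ideal.mem_comap.1 (hk.le h))))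
  let μ : k ⊗[A] C →ₐ[A] k ⊗[A] C1 := Algebra.TensorProduct.map (AlgHom.id A k) (IsScalarTower.toAlgHom A C C1)
  letI : Algebra (k ⊗[A] C) (k ⊗[A] C1) := μ.toRingHom.toAlgebra
  haveI : IsScalarTower k (k ⊗[A] C) (k ⊗[A] C1) := .of_algebraMap_eq fun c => by
    show algebraMap k (k ⊗[A] C1) c = μ (algebraMap k (k ⊗[A] C) c)
    simp [μ]
    rfl
  haveI := IsLocalization.tensorProduct_tensorProduct_right A k (Submonoid.powers c₁) C1 (RingHom.ext fun b => by
    show μ (1 ⊗ₜ b) = 1 ⊗ₜ algebraMap C C1 b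
    simp [μ])
  obtain ⟨⟨_, _, ⟨j, rfl⟩, rfl⟩, hj⟩ := (IsLocalization.map_eq_zero_iff
    ((Submonoid.powers c₁).map (Algebra.TensorProduct.includeRight (R := A) (A := k))) (k ⊗[A] C1) w).1
    (IsReduced.eq_zero _ (hw.map μ))
  refine ⟨inr A C k (c₁ ^ j), fun hm => hcQ (Ideal.mul_mem_right _ _ ?_), hj⟩
  rw [← hPQ]
  exact Ideal.mem_comap.2 (hP.mem_of_pow_mem j (by rwa [← map_pow]))

/-- Geometric reducedness spreads along the closure of the point. -/
theorem exists_notMem_grAt [IsNoetherianRing A] [Algebra.FiniteType A C] (q : Ideal C) [q.IsPrime]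
    (hGR : GRAt A C q) : ∃ c, c ∉ q ∧ ∀ Q : Ideal C, Q.IsPrime → q ≤ Q → c ∉ Q → GRAt A C Q := by
  let p := q.comap (algebraMap A C)
  obtain ⟨q', hq', hq'q, hsurj, hiff⟩ := exists_grAt_base_change p q le_rfl
  haveI : IsDomain (A ⧸ p) := Ideal.Quotient.isDomain _
  have hbot : q'.comap (algebraMap (A ⧸ p) ((A ⧸ p) ⊗[A] C)) = ⊥ := by
    rw [eq_bot_iff]
    intro x hx
    obtain ⟨a, rfl⟩ := Ideal.Quotient.mk_surjective x
    refine (Submodule.mem_bot _).2 (Ideal.Quotient.eq_zero_iff_mem.2 ?_)
    show algebraMap A C a ∈ q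
    rw [← hq'q, Ideal.mem_comap]
    convert Ideal.mem_comap.1 hx using 1
    show (1 : A ⧸ p) ⊗ₜ[A] algebraMap A C a = Ideal.Quotient.mk p a ⊗ₜ[A] (1 : C)
    rw [Algebra.algebraMap_eq_smul_one, ← TensorProduct.smul_tmul, ← Algebra.algebraMap_eq_smul_one]
    rfl
  obtain ⟨c', hc', hspread⟩ := exists_notMem_grAt_domain q' hbot
    ((hiff q inferInstance le_rfl q' hq' hq'q).1 hGR)
  obtain ⟨c, rfl⟩ := hsurj c'
  refine ⟨c, fun h => hc' (Ideal.mem_comap.1 (hq'q.ge h)), fun Q hQ hqQ hcQ => ?_⟩
  obtain ⟨Q', hQ', hQ'Q, -, -⟩ := exists_grAt_base_change p Q (Ideal.comap_mono hqQ)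
  exact (hiff Q hQ (Ideal.comap_mono hqQ) Q' hQ' hQ'Q).2 (hspread Q' hQ' fun h => hcQ (hQ'Q.le h))

end Groth.Agent.GeomUnib
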