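import Groth.Agent.GeomUnib.GeomRedScheme
import Groth.Agent.GeomUnib.GeomRedSpread

/-!
# Openness of geometric reducedness of fibres
-/

set_option autoImplicit false
set_option linter.style.haveILetI false
set_option backward.isDefEq.respectTransparency false
set_option maxHeartbeats 1000000

universe u

open CategoryTheory CategoryTheory.Limits AlgebraicGeometry

namespace Groth.Agent.GeomUnib

variable {X Y : Scheme.{u}} (f : X ⟶ Y) [IsLocallyNoetherian Y] [LocallyOfFiniteType f]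

/-- Near a point with geometrically reduced fibre, its specialisations have geometrically reduced fibre. -/
theorem exists_nhds_isGeomReducedAt {x : X}
    (hred : FBase.IsGeomReducedAt (f.fiberToSpecResidueField (f.base x)) (f.asFiber x)) :
    ∃ O : X.Opens, x ∈ O ∧ ∀ z ∈ O, x ⤳ z →
      FBase.IsGeomReducedAt (f.fiberToSpecResidueField (f.base z)) (f.asFiber z) := by
  obtain ⟨U, hU, hxU, -⟩ := exists_isAffineOpen_mem_and_subset (U := (⊤ : Y.Opens)) (x := f.base x) trivial
  obtain ⟨V, hV, hxV, hVU⟩ := exists_isAffineOpen_mem_and_subset (U := f ⁻¹ᵁ U) (x := x) hxU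
  letI := (f.appLE U V hVU).hom.toAlgebra
  haveI : IsNoetherianRing Γ(Y, U) := IsLocallyNoetherian.component_noetherian ⟨U, hU⟩
  haveI : Algebra.FiniteType Γ(Y, U) Γ(X, V) := f.finiteType_appLE hU hV hVU
  obtain ⟨c, hc, hspread⟩ := exists_notMem_grAt (hV.primeIdealOf ⟨x, hxV⟩).asIdeal
    (grAt_of_isGeomReducedAt f hU hV hVU hxV hred)
  refine ⟨hV.fromSpec ''ᵁ PrimeSpectrum.basicOpen c,
    ⟨hV.primeIdealOf ⟨x, hxV⟩, hc, hV.fromSpec_primeIdealOf _⟩, ?_⟩
  rintro _ ⟨P, hP, rfl⟩ hxz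
  have hPV : hV.fromSpec P ∈ V := hV.range_fromSpec.le ⟨P, rfl⟩
  refine isGeomReducedAt_of_grAt f hU hV hVU hPV ?_
  have hPP : hV.primeIdealOf ⟨hV.fromSpec P, hPV⟩ = P :=
    hV.fromSpec.isOpenEmbedding.injective (hV.fromSpec_primeIdealOf _)
  refine hPP.symm ▸ hspread P.asIdeal P.2 ?_ hP
  refine (PrimeSpectrum.le_iff_specializes (hV.primeIdealOf ⟨x, hxV⟩) P).2
    (hV.fromSpec.isOpenEmbedding.toIsInducing.specializes_iff.1 ?_)
  rw [hV.fromSpec_primeIdealOf]
  exact hxz

end Groth.Agent.GeomUnib
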