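import Groth.Agent.GeomUnib.GeomRedOpen
import Groth.Agent.GeomUnib.FlatFibre
import Groth.Agent.OpenAt.Basic
import Groth.Agent.GeomUnib.Scheme
import Groth.Agent.GeomCount.Basic
import Groth.Agent.FlatDescent.Presentation
import Groth.Agent.GeomUnib.SectionOpen

/-!
# Geometrically reduced fibres and universal openness near a point
-/

set_option autoImplicit false
set_option linter.unusedSectionVars false
set_option linter.style.haveILetI false
set_option maxHeartbeats 1000000
set_option synthInstance.maxHeartbeats 200000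

universe u

namespace Groth.Agent.GeomUnib

open IsLocalRing TensorProduct UnivOpenAt

variable {A C : Type u} [CommRing A] [CommRing C] [Algebra A C]

/-- Torsion vanishing along a change of base. -/
theorem torAt_tensor_iff (A' : Type u) [CommRing A'] [Algebra A A'] (hsurj : Function.Surjective (inr A C A'))
    (W : Type u) [CommRing W] [Algebra A W] [Algebra A' W] [IsScalarTower A A' W]
    (Q' : Ideal (A' ⊗[A] C)) :
    TorAt (A := A') Q' W ↔ TorAt (A := A) (Q'.comap (inr A C A')) W := by
  let e := Algebra.TensorProduct.cancelBaseChange A A' W W C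
  have he : ∀ z : C, e.symm (inr A C W z) = inr A' (A' ⊗[A] C) W (inr A C A' z) := fun z => by
    simp [e, inr]
  constructor
  · intro h s u hs hsu P hP hPQ
    have hu := h s (e.symm u) hs (by
      have := congrArg e.symm hsu
      rw [map_mul, map_zero] at this
      simpa [e, Algebra.TensorProduct.one_def] using this)
      (P.comap e.toRingEquiv.toRingHom) inferInstance (by
        ext z
        obtain ⟨z, rfl⟩ := hsurj z
        rw [Ideal.mem_comap, Ideal.mem_comap]
        show e (inr A' (A' ⊗[A] C) W (inr A C A' z)) ∈ P ↔ _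
        rw [← he, AlgEquiv.apply_symm_apply]
        exact SetLike.ext_iff.1 hPQ z)
    have hu' : e (e.symm u) ∈ P := hu
    rwa [AlgEquiv.apply_symm_apply] at hu'
  · intro h s u hs hsu P hP hPQ
    have hu := h s (e u) hs (by
      have := congrArg e hsu
      rw [map_mul, map_zero] at this
      simpa [e, Algebra.TensorProduct.one_def] using this)
      (P.comap e.symm.toRingEquiv.toRingHom) inferInstance (by
        ext z
        rw [Ideal.mem_comap, Ideal.mem_comap]
        show e.symm (inr A C W z) ∈ P ↔ _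
        rw [he, ← hPQ]
        rfl)
    have hu' : e.symm (e u) ∈ P := hu
    rwa [AlgEquiv.symm_apply_apply] at hu'

/-- The kernel of the reduction of the base lies in every prime. -/
theorem isNilpotent_of_mem_ker_inr (z : C) (hz : z ∈ RingHom.ker (inr A C (A ⧸ nilradical A))) : IsNilpotent z := by
  refine nilpotent_iff_mem_prime.2 fun Q hQ => ?_
  have hp : nilradical A ≤ Q.comap (algebraMap A C) := nilradical_le_prime _
  let m : (A ⧸ nilradical A) ⊗[A] C →ₐ[A] C ⧸ Q := Algebra.TensorProduct.lift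
    { Ideal.quotientMap Q (algebraMap A C) hp with commutes' := fun a => rfl }
    (Ideal.Quotient.mkₐ A Q) fun _ _ => .all _ _
  have h1 : m (inr A C (A ⧸ nilradical A) z) = Ideal.Quotient.mk Q z := by simp [m]
  rw [RingHom.mem_ker.1 hz, map_zero] at h1
  exact Ideal.Quotient.eq_zero_iff_mem.1 h1.symm

/-- Flatness at a prime gives vanishing of torsion there. -/
theorem torAt_of_flat_localization {q : Ideal C} [q.IsPrime] [Module.Flat A (Localization.AtPrime q)]
    (W : Type u) [CommRing W] [IsDomain W] [Algebra A W] : TorAt (A := A) q W := by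
  intro s u hs hsu P hP hPq
  let μ : W ⊗[A] C →ₐ[A] W ⊗[A] Localization.AtPrime q :=
    Algebra.TensorProduct.map (AlgHom.id A W) (IsScalarTower.toAlgHom A C (Localization.AtPrime q))
  have hμ : μ u = 0 := by
    have hinj : Function.Injective (LinearMap.rTensor (Localization.AtPrime q) (LinearMap.mulLeft A s)) :=
      Module.Flat.rTensor_preserves_injective_linearMap _ (mul_right_injective₀ hs)
    have key : ∀ z : W ⊗[A] Localization.AtPrime q,
        LinearMap.rTensor _ (LinearMap.mulLeft A s) z = (s ⊗ₜ[A] (1 : Localization.AtPrime q)) * z := fun z => by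
      induction z using TensorProduct.induction_on with
      | zero => simp
      | add x y hx hy => rw [map_add, mul_add, hx, hy]
      | tmul w c => simp
    refine hinj ?_
    rw [key, map_zero, ← map_zero μ, ← hsu, map_mul]
    simp [μ]
  letI : Algebra (W ⊗[A] C) (W ⊗[A] Localization.AtPrime q) := μ.toRingHom.toAlgebra
  haveI : IsScalarTower W (W ⊗[A] C) (W ⊗[A] Localization.AtPrime q) := .of_algebraMap_eq fun c => by
    show algebraMap W _ c = μ (algebraMap W (W ⊗[A] C) c)
    simp [μ, Algebra.TensorProduct.algebraMap_apply]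
  haveI := IsLocalization.tensorProduct_tensorProduct_right A W q.primeCompl (Localization.AtPrime q)
    (RingHom.ext fun b => by
      show μ (1 ⊗ₜ b) = 1 ⊗ₜ algebraMap C (Localization.AtPrime q) b
      simp [μ])
  obtain ⟨⟨m, hm⟩, hm0⟩ := (IsLocalization.map_eq_zero_iff (q.primeCompl.map (Algebra.TensorProduct.includeRight (R := A) (A := W)))
    (W ⊗[A] Localization.AtPrime q) u).1 hμ
  obtain ⟨c, hc, rfl⟩ := hm
  change inr A C W c * u = 0 at hm0
  exact (hP.mem_or_mem (hm0 ▸ P.zero_mem)).resolve_left fun h => hc (hPq.le h)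

/-- Near a point with geometrically reduced fibre where torsion vanishes at the generic points of the
fibre, fibres are geometrically reduced and torsion vanishes. -/
theorem exists_notMem_grAt_torAt [IsNoetherianRing A] [Algebra.FiniteType A C] (q : Ideal C) [q.IsPrime]
    (hGR : GRAt A C q)
    (htor : ∀ q₀ : Ideal C, q₀.IsPrime → q₀ ≤ q →
      (∀ r : Ideal C, r.IsPrime → r ≤ q₀ → r.comap (algebraMap A C) = q.comap (algebraMap A C) → r = q₀) →
      q₀.comap (algebraMap A C) = q.comap (algebraMap A C) →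
      ∀ (W : Type u) [CommRing W] [IsDomain W] [Algebra A W], TorAt (A := A) q₀ W) :
    ∃ c, c ∉ q ∧ ∀ Q : Ideal C, Q.IsPrime → c ∉ Q →
      GRAt A C Q ∧ ∀ (W : Type u) [CommRing W] [IsDomain W] [Algebra A W], TorAt (A := A) Q W := by
  classical
  obtain ⟨q', hq', hq'q, hsurj, hiff⟩ :=
    exists_grAt_base_change (nilradical A) q (nilradical_le_prime _)
  let A' := A ⧸ nilradical A
  let C' := A' ⊗[A] C
  haveI : _root_.IsReduced A' :=
    (Ideal.isRadical_iff_quotient_reduced _).1 (by rw [nilradical]; exact Ideal.radical_isRadical _)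
  haveI : IsNoetherianRing C := Algebra.FiniteType.isNoetherianRing A C
  haveI : Algebra.FinitePresentation A' C' := Algebra.FinitePresentation.of_finiteType.mp inferInstance
  let p' := q'.comap (algebraMap A' C')
  haveI : q'.LiesOver p' := ⟨rfl⟩
  have hGR' : GRAt A' C' q' := (hiff q inferInstance (nilradical_le_prime _) q' hq' hq'q).1 hGR
  have hflat : Module.Flat A' (Localization.AtPrime q') := by
    refine flat_of_geomReduced q' p' (fun P _ hP => ?_) fun q₁ _ hle hmin W _ _ _ => ?_
    · refine grAt_iff_isReduced.1 hGR' _ ?_ P hP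
      ext a
      rw [RingHom.mem_ker, IsScalarTower.algebraMap_apply A' p'.ResidueField (AlgebraicClosure p'.ResidueField),
        map_eq_zero]
      exact Ideal.algebraMap_residueField_eq_zero
    · letI : Algebra A W := ((algebraMap A' W).comp (algebraMap A A')).toAlgebra
      haveI : IsScalarTower A A' W := .of_algebraMap_eq fun a => rfl
      refine (torAt_tensor_iff A' hsurj W q₁).2 ?_
      have hcompat : ∀ a, inr A C A' (algebraMap A C a) = algebraMap A' C' (algebraMap A A' a) := fun a => by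
        simp [inr, C', Algebra.TensorProduct.algebraMap_apply, ← Algebra.TensorProduct.algebraMap_apply']
        rfl
      have hover : q₁.comap (algebraMap A' C') = p' :=
        le_antisymm (Ideal.comap_mono hle) (Ideal.map_le_iff_le_comap.1 hmin.1.2)
      have hover' : ∀ (r : Ideal C'), (r.comap (inr A C A')).comap (algebraMap A C) =
          (r.comap (algebraMap A' C')).comap (algebraMap A A') := fun r => by
        ext a; simp only [Ideal.mem_comap, hcompat]
      refine htor _ inferInstance (hq'q ▸ Ideal.comap_mono hle) (fun r hr hrle hre => ?_)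
        (by rw [hover', hover, ← hq'q, hover']) W
      have hker : RingHom.ker (inr A C A') ≤ r := fun z hz => by
        obtain ⟨n, hn⟩ : IsNilpotent z := isNilpotent_of_mem_ker_inr z hz
        exact hr.mem_of_pow_mem n (hn ▸ r.zero_mem)
      let r' := r.map (inr A C A')
      haveI : r'.IsPrime := Ideal.map_isPrime_of_surjective hsurj hker
      have hr' : r'.comap (inr A C A') = r := by
        rw [Ideal.comap_map_of_surjective _ hsurj, ← RingHom.ker_eq_comap_bot, sup_eq_left.2 hker]
      have h1 : r' ≤ q₁ := Ideal.map_le_iff_le_comap.2 hrle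
      have h2 : p'.map (algebraMap A' C') ≤ r' := by
        refine Ideal.map_le_iff_le_comap.2 fun z hz => ?_
        obtain ⟨a, rfl⟩ := Ideal.Quotient.mk_surjective z
        have : a ∈ r.comap (algebraMap A C) := by
          rw [hre, ← hq'q]
          show inr A C A' (algebraMap A C a) ∈ q'
          rw [hcompat]
          exact hz
        show algebraMap A' C' (algebraMap A A' a) ∈ r'
        rw [← hcompat]
        exact Ideal.mem_map_of_mem _ this
      have : r' = q₁ := le_antisymm h1 (hmin.2 ⟨inferInstance, h2⟩ h1)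
      rw [← hr', this]
  haveI : Algebra.FiniteType A' C' := inferInstance
  obtain ⟨D₁, hD₁o, hD₁q, hD₁⟩ : ∃ D : Set (PrimeSpectrum C'), IsOpen D ∧ ⟨q', hq'⟩ ∈ D ∧
      ∀ Q ∈ D, FlatCA.FlatAt A' Q.asIdeal C' :=
    ⟨_, Groth.FlatDescent.isOpen_flatLocus_fp A' (S := C') C', hflat, fun Q hQ => hQ⟩
  haveI : IsNoetherianRing C' := Algebra.FiniteType.isNoetherianRing A' C'
  obtain ⟨D₂, hD₂o, hD₂q, hD₂⟩ : ∃ D : Set (PrimeSpectrum C'), IsOpen D ∧ ⟨q', hq'⟩ ∈ D ∧
      ∀ Q ∈ D, GRAt A' C' Q.asIdeal := by
    refine ⟨{Q | GRAt A' C' Q.asIdeal ∧ Q ∈ D₁}, ?_, ⟨hGR', hD₁q⟩, fun Q hQ => hQ.1⟩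
    refine SectionComp.isOpen_of_locallyNoetherian (X := AlgebraicGeometry.Spec (CommRingCat.of C'))
      (S := {Q : PrimeSpectrum C' | GRAt A' C' Q.asIdeal ∧ Q ∈ D₁}) (fun x y h hx => ?_) fun x hx => ?_
    · refine ⟨grAt_of_le hx.1 (fun q₀ hq₀ hle _ _ W _ _ _ => ?_) ((PrimeSpectrum.le_iff_specializes y x).2 h),
        h.mem_open hD₁o hx.2⟩
      haveI : Module.Flat A' (Localization.AtPrime q₀) :=
        hD₁ ⟨q₀, hq₀⟩ (((PrimeSpectrum.le_iff_specializes (⟨q₀, hq₀⟩ : PrimeSpectrum C') x).1 hle).mem_open hD₁o hx.2)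
      exact torAt_of_flat_localization W
    · obtain ⟨c', hc', h⟩ := exists_notMem_grAt x.asIdeal hx.1
      exact ⟨PrimeSpectrum.basicOpen c' ⊓ ⟨D₁, hD₁o⟩, ⟨hc', hx.2⟩, fun z hz hxz =>
        ⟨h z.asIdeal z.2 ((PrimeSpectrum.le_iff_specializes x z).2 hxz) hz.1, hz.2⟩⟩
  obtain ⟨U, ⟨c', rfl⟩, hU, hUD⟩ := (PrimeSpectrum.isTopologicalBasis_basic_opens (R := C')).exists_subset_of_mem_open
    (show (⟨q', hq'⟩ : PrimeSpectrum C') ∈ D₁ ∩ D₂ from ⟨hD₁q, hD₂q⟩) (hD₁o.inter hD₂o)
  obtain ⟨c, rfl⟩ := hsurj c'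
  refine ⟨c, fun h => hU (hq'q.ge h), fun Q hQ hcQ => ?_⟩
  have hker : RingHom.ker (inr A C A') ≤ Q := fun z hz => by
    obtain ⟨n, hn⟩ : IsNilpotent z := isNilpotent_of_mem_ker_inr z hz
    exact hQ.mem_of_pow_mem n (hn ▸ Q.zero_mem)
  let Q' := Q.map (inr A C A')
  haveI : Q'.IsPrime := Ideal.map_isPrime_of_surjective hsurj hker
  have hQ' : Q'.comap (inr A C A') = Q := by
    rw [Ideal.comap_map_of_surjective _ hsurj, ← RingHom.ker_eq_comap_bot, sup_eq_left.2 hker]
  have hmem := hUD (show (⟨Q', inferInstance⟩ : PrimeSpectrum C') ∈ _ from fun h => hcQ (hQ'.le h))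
  refine ⟨(hiff Q hQ (nilradical_le_prime _) Q' inferInstance hQ').2 (hD₂ _ hmem.2), fun W _ _ _ => ?_⟩
  letI : Algebra A' W := (Ideal.Quotient.lift (nilradical A) (algebraMap A W)
    fun a ha => ((mem_nilradical.1 ha).map (algebraMap A W)).eq_zero).toAlgebra
  haveI : IsScalarTower A A' W := .of_algebraMap_eq fun a => rfl
  haveI : Module.Flat A' (Localization.AtPrime Q') := hD₁ _ hmem.1
  rw [← hQ']
  exact (torAt_tensor_iff A' hsurj W Q').1 (torAt_of_flat_localization W)

section scheme

open CategoryTheory CategoryTheory.Limits AlgebraicGeometry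

set_option backward.isDefEq.respectTransparency false

variable {X Y : Scheme.{u}} (f : X ⟶ Y)

/-- Openness at the generic points of a fibre, in terms of points of the total space. -/
theorem forall_generic_of_fiber (x : X)
    (hopen : ∀ z : ↥(f.fiber (f.base x)), f.asFiber x ∈ closure {z} →
      (∀ z' : ↥(f.fiber (f.base x)), z ∈ closure {z'} → z' = z) →
      EGA43.IsUnivOpenAt f ((f.fiberι (f.base x)).base z)) :
    ∀ z : X, f.base z = f.base x → z ⤳ x →
      (∀ z' : X, f.base z' = f.base x → z' ⤳ z → z' = z) → EGA43.IsUnivOpenAt f z := by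
  intro z hz hzx hmax
  obtain ⟨t, rfl⟩ : z ∈ Set.range (f.fiberι (f.base x)) := by rw [f.range_fiberι]; exact hz
  have hio := (f.fiberι (f.base x)).isEmbedding.toIsInducing
  refine hopen t ?_ fun t' ht' => ?_
  · rw [← specializes_iff_mem_closure, ← hio.specializes_iff, f.fiberι_asFiber]
    exact hzx
  · rw [← specializes_iff_mem_closure, ← hio.specializes_iff] at ht'
    exact (f.fiberι _).isEmbedding.injective (hmax _ ((f.range_fiberι (f.base x)).le ⟨t', rfl⟩) ht')

/-- Near a point with geometrically reduced fibre and universally open at the generic points of the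
fibre, the morphism is universally open with geometrically reduced fibres. -/
theorem exists_nhds_universallyOpen [IsLocallyNoetherian Y] [LocallyOfFiniteType f] {x : X}
    (hopen : ∀ z : X, f.base z = f.base x → z ⤳ x →
      (∀ z' : X, f.base z' = f.base x → z' ⤳ z → z' = z) → EGA43.IsUnivOpenAt f z)
    (hred : FBase.IsGeomReducedAt (f.fiberToSpecResidueField (f.base x)) (f.asFiber x)) :
    ∃ O : X.Opens, x ∈ O ∧ (∀ z ∈ O, EGA43.IsUnivOpenAt f z) ∧ UniversallyOpen (O.ι ≫ f) ∧
      ∀ z ∈ O, FBase.IsGeomReducedAt (f.fiberToSpecResidueField (f.base z)) (f.asFiber z) := by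
  obtain ⟨U, hU, hxU, -⟩ := exists_isAffineOpen_mem_and_subset (U := (⊤ : Y.Opens)) (x := f.base x) trivial
  obtain ⟨V, hV, hxV, hVU⟩ := exists_isAffineOpen_mem_and_subset (U := f ⁻¹ᵁ U) (x := x) hxU
  letI := (f.appLE U V hVU).hom.toAlgebra
  haveI : IsNoetherianRing Γ(Y, U) := IsLocallyNoetherian.component_noetherian ⟨U, hU⟩
  haveI : Algebra.FiniteType Γ(Y, U) Γ(X, V) := f.finiteType_appLE hU hV hVU
  obtain ⟨c, hc, h⟩ := exists_notMem_grAt_torAt (hV.primeIdealOf ⟨x, hxV⟩).asIdeal
    (grAt_of_isGeomReducedAt f hU hV hVU hxV hred) (torAt_of_forall_generic f hU hV hVU hxV hopen)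
  let O : X.Opens := hV.fromSpec ''ᵁ PrimeSpectrum.basicOpen c
  have hO : ∀ z ∈ O, EGA43.IsUnivOpenAt f z ∧
      FBase.IsGeomReducedAt (f.fiberToSpecResidueField (f.base z)) (f.asFiber z) := by
    rintro _ ⟨P, hP, rfl⟩
    have hPV : hV.fromSpec P ∈ V := hV.range_fromSpec.le ⟨P, rfl⟩
    obtain ⟨h1, h2⟩ := h (hV.primeIdealOf ⟨hV.fromSpec P, hPV⟩).asIdeal inferInstance (by
      rw [show hV.primeIdealOf ⟨hV.fromSpec P, hPV⟩ = P from
        hV.fromSpec.isOpenEmbedding.injective (hV.fromSpec_primeIdealOf _)]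
      exact hP)
    exact ⟨UnivOpenAt.isUnivOpenAt_of_torAt f hU hV hVU hPV h2, isGeomReducedAt_of_grAt f hU hV hVU hPV h1⟩
  refine ⟨O, ⟨hV.primeIdealOf ⟨x, hxV⟩, hc, hV.fromSpec_primeIdealOf _⟩, fun z hz => (hO z hz).1,
    universallyOpen_of_forall _ fun z => OpenAt.isUnivOpenAt_comp (GeomCount.isUnivOpenAt O.ι z) ?_,
    fun z hz => (hO z hz).2⟩
  refine (hO _ ?_).1
  exact O.range_ι.le ⟨z, rfl⟩

end scheme

end Groth.Agent.GeomUnib
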