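import Mathlib

/-!
# Lengths at generic points against the length of a hyperplane section

For a finitely generated module `M` over a Noetherian local ring and `π` regular on `M` in the maximal
ideal: the sum of the lengths of the localisations of `M` at minimal primes of the support not containing
`π` is at most the length of `M/πM`.
-/

set_option linter.unusedSectionVars false

universe u v

namespace Groth.Agent.GeomUnib

open scoped Pointwise
open Function IsLocalRing

section Models

variable {R : Type u} [CommRing R] (S : Submonoid R) (Rp : Type*) [CommRing Rp] [Algebra R Rp]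
  [IsLocalization S Rp] {M : Type v} [AddCommGroup M] [Module R M] {Mp : Type*} [AddCommGroup Mp]
  [Module R Mp] [Module Rp Mp] [IsScalarTower R Rp Mp] (f : M →ₗ[R] Mp) [IsLocalizedModule S f]

include f in
/-- The length of a localisation does not depend on the model. -/
lemma length_of_isLocalizedModule :
    Module.length Rp Mp = Module.length (Localization S) (LocalizedModule S M) := by
  let e : Localization S ≃ₐ[R] Rp := IsLocalization.algEquiv S _ _
  letI : Algebra (Localization S) Rp := e.toRingHom.toAlgebra
  letI : Module (Localization S) Mp := Module.compHom Mp e.toRingHom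
  haveI : IsScalarTower (Localization S) Rp Mp := IsScalarTower.of_algebraMap_smul fun _ _ => rfl
  haveI : IsScalarTower R (Localization S) Mp := IsScalarTower.of_algebraMap_smul fun r m => by
    show e (algebraMap R (Localization S) r) • m = r • m
    rw [e.commutes, algebraMap_smul]
  rw [← Module.length_eq_of_surjective (M := Mp) (show Surjective (algebraMap (Localization S) Rp) from e.surjective)]
  exact ((IsLocalizedModule.iso S f).extendScalarsOfIsLocalization S (Localization S)).length_eq.symm

end Models

variable {R : Type u} [CommRing R] {M : Type v} [AddCommGroup M] [Module R M]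

/-- The length of the localisation at a prime. -/
noncomputable def lenAt (p : Ideal R) [p.IsPrime] (M : Type v) [AddCommGroup M] [Module R M] : ℕ∞ :=
  Module.length (Localization p.primeCompl) (LocalizedModule p.primeCompl M)

lemma lenAt_eq (p : Ideal R) [p.IsPrime] (Rp : Type*) [CommRing Rp] [Algebra R Rp] [IsLocalization p.primeCompl Rp]
    {Mp : Type*} [AddCommGroup Mp] [Module R Mp] [Module Rp Mp] [IsScalarTower R Rp Mp] (f : M →ₗ[R] Mp)
    [IsLocalizedModule p.primeCompl f] : lenAt p M = Module.length Rp Mp :=
  (length_of_isLocalizedModule p.primeCompl Rp f).symm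

lemma lenAt_add (p : Ideal R) [p.IsPrime] {K M'' : Type v} [AddCommGroup K] [Module R K] [AddCommGroup M'']
    [Module R M''] (f : K →ₗ[R] M) (g : M →ₗ[R] M'') (hf : Injective f) (hg : Surjective g) (h : Exact f g) :
    lenAt p M = lenAt p K + lenAt p M'' :=
  Module.length_eq_add_of_exact (LocalizedModule.map p.primeCompl f) (LocalizedModule.map p.primeCompl g)
    (LocalizedModule.map_injective _ f hf) (LocalizedModule.map_surjective _ g hg) (LocalizedModule.map_exact _ f g h)

lemma lenAt_eq_zero (p : Ideal R) [p.IsPrime] (h : ∀ x : M, ∃ a ∉ p, a • x = 0) : lenAt p M = 0 := by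
  rw [lenAt, Module.length_eq_zero_iff, LocalizedModule.subsingleton_iff]
  exact fun x => by
    obtain ⟨a, ha, hax⟩ := h x
    exact ⟨a, ha, hax⟩

/-- Saturation of a submodule with respect to `π`. -/
def sat (π : R) (N : Submodule R M) : Submodule R M where
  carrier := {x | ∃ k : ℕ, π ^ k • x ∈ N}
  add_mem' := by
    rintro a b ⟨k, hk⟩ ⟨l, hl⟩
    refine ⟨k + l, ?_⟩
    rw [smul_add]
    exact N.add_mem (by rw [pow_add, mul_comm, mul_smul]; exact N.smul_mem _ hk)
      (by rw [pow_add, mul_smul]; exact N.smul_mem _ hl)
  zero_mem' := ⟨0, by simp⟩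
  smul_mem' := by
    rintro c a ⟨k, hk⟩
    exact ⟨k, by rw [smul_comm]; exact N.smul_mem c hk⟩

lemma le_sat (π : R) (N : Submodule R M) : N ≤ sat π N := fun x hx => ⟨0, by simpa using hx⟩

lemma isSMulRegular_sat (π : R) (N : Submodule R M) : IsSMulRegular (M ⧸ sat π N) π := by
  intro a b hab
  obtain ⟨a, rfl⟩ := Submodule.Quotient.mk_surjective _ a
  obtain ⟨b, rfl⟩ := Submodule.Quotient.mk_surjective _ b
  change Submodule.Quotient.mk (π • a) = Submodule.Quotient.mk (π • b) at hab
  rw [Submodule.Quotient.eq, ← smul_sub] at hab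
  rw [Submodule.Quotient.eq]
  obtain ⟨k, hk⟩ := hab
  exact ⟨k + 1, by rwa [pow_succ, mul_smul]⟩

variable [IsNoetherianRing R] [IsLocalRing R] [Module.Finite R M]

/-- The main inequality. -/
theorem sum_lenAt_le {ι : Type*} [Fintype ι] (P : ι → PrimeSpectrum R) (hinj : Injective P) (π : R)
    (hπ : π ∈ maximalIdeal R) (hreg : IsSMulRegular M π) (hP : ∀ i, π ∉ (P i).asIdeal)
    (hmin : ∀ i, ∀ q ∈ Module.support R M, q ≤ P i → q = P i) :
    ∑ i, lenAt (P i).asIdeal M ≤ Module.length R (QuotSMulTop π M) := by
  classical
  haveI : IsNoetherian R M := isNoetherian_of_isNoetherianRing_of_finite R M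
  suffices H : ∀ N : Submodule R M, IsSMulRegular (M ⧸ N) π →
      ∑ i, lenAt (P i).asIdeal (M ⧸ N) ≤ Module.length R (QuotSMulTop π (M ⧸ N)) by
    have h0 := H ⊥ ((Submodule.quotEquivOfEqBot ⊥ rfl).isSMulRegular_congr π |>.2 hreg)
    have e : ∀ i, lenAt (P i).asIdeal (M ⧸ (⊥ : Submodule R M)) = lenAt (P i).asIdeal M := fun i =>
      (LinearEquiv.length_eq (IsLocalizedModule.mapEquiv (P i).asIdeal.primeCompl
        (LocalizedModule.mkLinearMap _ _) (LocalizedModule.mkLinearMap _ _) (Localization (P i).asIdeal.primeCompl)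
        (Submodule.quotEquivOfEqBot ⊥ rfl)))
    rw [← (QuotSMulTop.congr π (Submodule.quotEquivOfEqBot ⊥ rfl)).length_eq]
    simpa only [e] using h0
  intro N
  induction N using WellFoundedGT.induction with
  | _ N IH =>
    intro hN
    by_cases hz : ∀ i, lenAt (P i).asIdeal (M ⧸ N) = 0
    · simp [hz]
    push Not at hz
    obtain ⟨i₀, hi₀⟩ := hz
    let p := P i₀
    have hsupp : p ∈ Module.support R (M ⧸ N) := by
      by_contra h
      rw [Module.notMem_support_iff'] at h
      exact hi₀ (lenAt_eq_zero _ h)
    have hsub : Module.support R (M ⧸ N) ⊆ Module.support R M :=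
      Module.support_subset_of_surjective N.mkQ N.mkQ_surjective
    have hpmin : p.asIdeal ∈ (Module.annihilator R (M ⧸ N)).minimalPrimes := by
      rw [Module.support_eq_zeroLocus, PrimeSpectrum.mem_zeroLocus] at hsupp
      refine ⟨⟨p.2, hsupp⟩, fun q hq hqp => ?_⟩
      have hq' : (⟨q, hq.1⟩ : PrimeSpectrum R) ∈ Module.support R (M ⧸ N) := by
        rw [Module.support_eq_zeroLocus, PrimeSpectrum.mem_zeroLocus]; exact hq.2
      exact (congrArg PrimeSpectrum.asIdeal (hmin i₀ _ (hsub hq') hqp)).ge
    have hass := Module.associatedPrimes.minimalPrimes_annihilator_subset_associatedPrimes R (M ⧸ N) hpmin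
    obtain ⟨-, m₀, hm₀⟩ := isAssociatedPrime_iff.1 hass
    obtain ⟨m, rfl⟩ := Submodule.Quotient.mk_surjective N m₀
    have hann : ∀ a : R, a ∈ p.asIdeal ↔ a • m ∈ N := fun a => by
      rw [hm₀, Submodule.mem_colon_singleton, Submodule.mem_bot, ← Submodule.Quotient.mk_smul,
        Submodule.Quotient.mk_eq_zero]
    let N' := sat π (N ⊔ Submodule.span R {m})
    have hle : N ≤ N' := le_sup_left.trans (le_sat _ _)
    have hm' : m ∈ N' := le_sat _ _ (Submodule.mem_sup_right (Submodule.mem_span_singleton_self m))
    have hmN : m ∉ N := fun h => p.2.ne_top ((Ideal.eq_top_iff_one _).2 ((hann 1).2 (by rwa [one_smul])))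
    have hlt : N < N' := lt_of_le_not_ge hle fun h => hmN (h hm')
    have hN' := isSMulRegular_sat π (N ⊔ Submodule.span R {m})
    let K : Submodule R (M ⧸ N) := N'.map N.mkQ
    let g : (M ⧸ N) →ₗ[R] M ⧸ N' := Submodule.factor hle
    have hex : Exact K.subtype g := by
      rw [LinearMap.exact_iff, Submodule.range_subtype]
      simp only [g, K, Submodule.factor, Submodule.mapQ, Submodule.ker_liftQ, LinearMap.comp_id, Submodule.ker_mkQ]
    have hgs : Surjective g := Submodule.factor_surjective hle
    have hKreg : IsSMulRegular K π := hN.of_injective K.subtype K.injective_subtype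
    -- elements of `K`
    have hKel : ∀ x : K, ∃ (k : ℕ) (r : R), π ^ k • (x : M ⧸ N) = r • Submodule.Quotient.mk m := by
      rintro ⟨-, y, ⟨k, hk⟩, rfl⟩
      obtain ⟨a, ha, b, hb, hab⟩ := Submodule.mem_sup.1 hk
      obtain ⟨r, rfl⟩ := Submodule.mem_span_singleton.1 hb
      refine ⟨k, r, ?_⟩
      change π ^ k • Submodule.Quotient.mk y = _
      rw [← Submodule.Quotient.mk_smul, ← Submodule.Quotient.mk_smul, ← hab, Submodule.Quotient.eq,
        add_sub_cancel_right]
      exact ha
    have hK0 : ∀ i, P i ≠ p → lenAt (P i).asIdeal K = 0 := fun i hi => by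
      refine lenAt_eq_zero _ fun x => ?_
      have hpi : ¬ p ≤ P i := fun h => hi (hmin i p (hsub hsupp) h).symm
      obtain ⟨a, hap, hai⟩ := SetLike.not_le_iff_exists.1 (show ¬ p.asIdeal ≤ (P i).asIdeal from hpi)
      obtain ⟨k, r, hk⟩ := hKel x
      refine ⟨a, hai, hKreg.pow k |> fun h => h ?_⟩
      apply Subtype.ext
      change π ^ k • (a • (x : M ⧸ N)) = π ^ k • (0 : M ⧸ N)
      rw [smul_comm, hk, smul_zero, ← mul_smul, ← Submodule.Quotient.mk_smul, Submodule.Quotient.mk_eq_zero,
        ← hann]
      exact p.asIdeal.mul_mem_right _ hap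
    have hK1 : lenAt p.asIdeal K ≤ 1 := by
      let S := p.asIdeal.primeCompl
      let mK : K := ⟨Submodule.Quotient.mk m, m, hm', rfl⟩
      let φ : Localization S →ₗ[Localization S] LocalizedModule S K :=
        LinearMap.toSpanSingleton _ _ (LocalizedModule.mk mK 1)
      have hφs : Surjective φ := fun y => by
        induction y using LocalizedModule.induction_on with
        | _ x s =>
          obtain ⟨k, r, hk⟩ := hKel x
          refine ⟨Localization.mk r (s * ⟨π, hP i₀⟩ ^ k), ?_⟩
          simp only [φ, LinearMap.toSpanSingleton_apply, LocalizedModule.mk_smul_mk, mul_one]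
          rw [LocalizedModule.mk_eq]
          refine ⟨1, ?_⟩
          apply Subtype.ext
          simp only [one_smul]
          change (s : R) • r • Submodule.Quotient.mk m = ((s : R) * π ^ k) • (x : M ⧸ N)
          rw [← hk, mul_smul]
      have hker : maximalIdeal (Localization S) ≤ LinearMap.ker φ := by
        change maximalIdeal (Localization.AtPrime p.asIdeal) ≤ _
        rw [← Localization.AtPrime.map_eq_maximalIdeal, Ideal.map_le_iff_le_comap]
        intro a ha
        rw [Ideal.mem_comap]
        show φ (algebraMap R (Localization S) a) = 0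
        simp only [φ, LinearMap.toSpanSingleton_apply]
        rw [algebraMap_smul, LocalizedModule.smul'_mk]
        convert LocalizedModule.zero_mk (1 : S) using 2
        apply Subtype.ext
        change a • Submodule.Quotient.mk m = (0 : M ⧸ N)
        rw [← Submodule.Quotient.mk_smul, Submodule.Quotient.mk_eq_zero, ← hann]
        exact ha
      haveI : IsSimpleModule (Localization S) (Localization.AtPrime p.asIdeal ⧸ maximalIdeal (Localization S)) :=
        isSimpleModule_iff_isCoatom.2 (Ideal.isMaximal_def.1 (IsLocalRing.maximalIdeal.isMaximal (Localization.AtPrime p.asIdeal)))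
      refine (Module.length_le_of_surjective ((maximalIdeal (Localization S)).liftQ φ hker) ?_).trans
        (Module.length_eq_one (Localization S) _).le
      intro y
      obtain ⟨a, rfl⟩ := hφs y
      exact ⟨Submodule.Quotient.mk a, rfl⟩
    have hq1 : 1 ≤ Module.length R (QuotSMulTop π K) := by
      haveI : Nontrivial K := ⟨⟨⟨Submodule.Quotient.mk m, m, hm', rfl⟩, 0, fun h =>
        hmN ((Submodule.Quotient.mk_eq_zero N).1 (congrArg Subtype.val h))⟩⟩
      haveI : Nontrivial (QuotSMulTop π K) := by
        by_contra h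
        rw [not_nontrivial_iff_subsingleton, Submodule.Quotient.subsingleton_iff] at h
        refine Submodule.top_ne_ideal_smul_of_le_jacobson_annihilator (I := Ideal.span {π}) (M := K) ?_ ?_
        · rw [Ideal.span_le, Set.singleton_subset_iff]
          exact (IsLocalRing.maximalIdeal_le_jacobson _) hπ
        · rw [Submodule.ideal_span_singleton_smul, h]
      exact Order.one_le_iff_pos.2 Module.length_pos
    have hq : Module.length R (QuotSMulTop π (M ⧸ N)) =
        Module.length R (QuotSMulTop π K) + Module.length R (QuotSMulTop π (M ⧸ N')) := by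
      refine Module.length_eq_add_of_exact (QuotSMulTop.map π K.subtype) (QuotSMulTop.map π g) ?_
        (QuotSMulTop.map_surjective π hgs) (QuotSMulTop.map_exact π hex hgs)
      rw [← LinearMap.ker_eq_bot]
      have h1 := QuotSMulTop.map_first_exact_on_four_term_exact_of_isSMulRegular_last
        (f₁ := (0 : K →ₗ[R] K)) (f₂ := K.subtype) (f₃ := g) ?_ hex hN'
      · rw [LinearMap.exact_iff.1 h1]
        rw [map_zero, LinearMap.range_zero]
      · rw [LinearMap.exact_iff, Submodule.ker_subtype, LinearMap.range_zero]
    have hl : ∀ i, lenAt (P i).asIdeal (M ⧸ N) = lenAt (P i).asIdeal K + lenAt (P i).asIdeal (M ⧸ N') := fun i =>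
      lenAt_add _ K.subtype g K.injective_subtype hgs hex
    rw [hq, Finset.sum_congr rfl fun i _ => hl i, Finset.sum_add_distrib]
    refine add_le_add ?_ (IH N' hlt hN')
    rw [Finset.sum_eq_single i₀ (fun i _ hi => hK0 i (hinj.ne hi)) (by simp)]
    exact hK1.trans hq1

/-- A prime of the associated primes whose intersection with the hyperplane is the closed point makes
the closed point associated to the hyperplane section. -/
theorem isAssociatedPrime_quotSMulTop {π : R} (hπ : π ∈ maximalIdeal R) (hreg : IsSMulRegular M π)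
    {P : Ideal R} (hP : IsAssociatedPrime P M) (hrad : maximalIdeal R ≤ (P ⊔ Ideal.span {π}).radical) :
    IsAssociatedPrime (maximalIdeal R) (QuotSMulTop π M) := by
  classical
  obtain ⟨hPp, x, hx⟩ := isAssociatedPrime_iff.1 hP
  have hx0 : x ≠ 0 := fun h => hPp.ne_top (by rw [hx, h, Submodule.colon_singleton_zero])
  have hI : Ideal.span {π} ≠ ⊤ := fun h => (maximalIdeal.isMaximal R).ne_top
    (top_le_iff.1 (h.ge.trans ((Ideal.span_singleton_le_iff_mem _).2 hπ)))
  have hkr := Ideal.iInf_pow_smul_eq_bot_of_isLocalRing (M := M) _ hI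
  have hex : ∃ n, x ∉ ((Ideal.span {π}) ^ n • ⊤ : Submodule R M) := by
    by_contra! h
    exact hx0 ((Submodule.mem_bot R).1 (hkr ▸ Submodule.mem_iInf _ |>.2 h))
  have hn := Nat.find_spec hex
  obtain ⟨n, hn'⟩ : ∃ n, Nat.find hex = n + 1 := Nat.exists_eq_succ_of_ne_zero fun h => by
    rw [h, pow_zero, Ideal.one_eq_top, Submodule.top_smul] at hn
    exact hn trivial
  have hmem := not_not.1 (Nat.find_min hex (show n < Nat.find hex by omega))
  rw [Ideal.span_singleton_pow, Submodule.ideal_span_singleton_smul, Submodule.mem_smul_pointwise_iff_exists] at hmem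
  obtain ⟨y, -, rfl⟩ := hmem
  let J := (⊥ : Submodule R (QuotSMulTop π M)).colon {Submodule.Quotient.mk y}
  have hJ : J ≠ ⊤ := fun h => by
    have h1 : Submodule.Quotient.mk y = (0 : QuotSMulTop π M) := by
      have := (h.ge (Submodule.mem_top (x := (1 : R))) : (1 : R) ∈ J)
      rwa [Submodule.mem_colon_singleton, one_smul, Submodule.mem_bot] at this
    rw [Submodule.Quotient.mk_eq_zero, Submodule.mem_smul_pointwise_iff_exists] at h1
    obtain ⟨z, -, rfl⟩ := h1
    refine hn ?_
    rw [hn', Ideal.span_singleton_pow, Submodule.ideal_span_singleton_smul, pow_succ, ← mul_smul]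
    exact Submodule.smul_mem_pointwise_smul z _ ⊤ trivial
  have hle : P ⊔ Ideal.span {π} ≤ J := by
    refine sup_le (fun a ha => ?_) ((Ideal.span_singleton_le_iff_mem _).2 ?_)
    · rw [hx, Submodule.mem_colon_singleton, Submodule.mem_bot] at ha
      rw [Submodule.mem_colon_singleton, Submodule.mem_bot, ← Submodule.Quotient.mk_smul,
        show a • y = 0 from hreg.pow n (by simp only [smul_zero]; rw [smul_comm]; exact ha)]
      rfl
    · rw [Submodule.mem_colon_singleton, Submodule.mem_bot, ← Submodule.Quotient.mk_smul,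
        Submodule.Quotient.mk_eq_zero]
      exact Submodule.smul_mem_pointwise_smul y π ⊤ trivial
  exact ⟨(maximalIdeal.isMaximal R).isPrime, Submodule.Quotient.mk y, le_antisymm
    (hrad.trans (Ideal.radical_mono hle)) (le_maximalIdeal fun h => hJ (Ideal.radical_eq_top.1 h))⟩

end Groth.Agent.GeomUnib
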