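import Groth.Agent.GeomUnib.Affine

/-!
# Primes cutting out quasi-finite multisections
-/

set_option autoImplicit false

universe u

open Polynomial TensorProduct

namespace Groth.Agent.GeomUnib

/-- Finitely many integral elements lift to a flat algebra. -/
theorem exists_flat_lift (R K : Type u) [CommRing R] [Field K] [Algebra R K] :
    ∀ (n : ℕ) (t : Fin n → K), (∀ i, IsIntegral R (t i)) →
      ∃ (C : Type u) (_ : CommRing C) (_ : Algebra R C), Module.Flat R C ∧
        ∃ (χ : C →ₐ[R] K) (c : Fin n → C), (∀ i, χ (c i) = t i) ∧ ∀ i, IsIntegral R (c i) := by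
  intro n
  induction n with
  | zero =>
    intro t _
    exact ⟨R, inferInstance, inferInstance, inferInstance, Algebra.ofId R K, Fin.elim0, fun i => i.elim0,
      fun i => i.elim0⟩
  | succ n ih =>
    intro t ht
    obtain ⟨C, _, _, hflat, χ, c, hc, hci⟩ := ih (fun i => t i.castSucc) (fun i => ht _)
    obtain ⟨g, hg, hg0⟩ := ht (Fin.last n)
    let g' : C[X] := g.map (algebraMap R C)
    have hg' : g'.Monic := hg.map _
    haveI : Module.Free C (AdjoinRoot g') := Module.Free.of_basis (AdjoinRoot.powerBasis' hg').basis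
    haveI : Module.Flat R (AdjoinRoot g') := Module.Flat.trans R C (AdjoinRoot g')
    have hev : g'.eval₂ χ.toRingHom (t (Fin.last n)) = 0 := by
      rw [Polynomial.eval₂_map, show χ.toRingHom.comp (algebraMap R C) = algebraMap R K from χ.comp_algebraMap]
      exact hg0
    let χ' : AdjoinRoot g' →ₐ[R] K :=
      { AdjoinRoot.lift χ.toRingHom (t (Fin.last n)) hev with
        commutes' := fun r => by
          change AdjoinRoot.lift χ.toRingHom _ hev (algebraMap R (AdjoinRoot g') r) = _
          rw [IsScalarTower.algebraMap_apply R C (AdjoinRoot g'), AdjoinRoot.algebraMap_eq, AdjoinRoot.lift_of]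
          exact χ.commutes r }
    refine ⟨AdjoinRoot g', inferInstance, inferInstance, inferInstance, χ',
      Fin.snoc (fun i => AdjoinRoot.of g' (c i)) (AdjoinRoot.root g'), ?_, ?_⟩
    · intro i
      refine Fin.lastCases ?_ (fun i => ?_) i
      · simp only [Fin.snoc_last]
        exact AdjoinRoot.lift_root hev
      · simp only [Fin.snoc_castSucc]
        exact (AdjoinRoot.lift_of hev).trans (hc i)
    · intro i
      refine Fin.lastCases ?_ (fun i => ?_) i
      · simp only [Fin.snoc_last]
        refine ⟨g, hg, ?_⟩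
        have h := AdjoinRoot.eval₂_root g'
        rw [Polynomial.eval₂_map] at h
        exact h
      · simp only [Fin.snoc_castSucc]
        exact (hci i).map (IsScalarTower.toAlgHom R C (AdjoinRoot g'))

variable {A B : Type u} [CommRing A] [CommRing B] [Algebra A B] {n : ℕ}

/-- A prime below `q` over the generic point whose closure is quasi-finite at `q`, found after an
extension of the base. -/
theorem exists_prime_isolated' [IsDomain A] [Algebra.FiniteType A B]
    (φ : MvPolynomial (Fin n) A →ₐ[A] B) (q : Ideal B) [q.IsPrime] (hqf : FibreDim.IsQFAt φ q)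
    (hclosed : ∀ Q' : Ideal B, Q'.IsPrime → q ≤ Q' → Q'.under A = q.under A → Q' = q)
    {A'' B'' : Type u} [CommRing A''] [IsDomain A''] [CommRing B''] [Algebra A A''] [FaithfulSMul A A'']
    [Algebra A'' B''] [Algebra A B''] [IsScalarTower A A'' B''] (j : B →ₐ[A] B'')
    (φ'' : MvPolynomial (Fin n) A'' →ₐ[A''] B'') (hφ'' : ∀ i, φ'' (MvPolynomial.X i) = j (φ (MvPolynomial.X i)))
    (q'' : Ideal B'') [q''.IsPrime] (hq'' : q''.comap j.toRingHom = q)
    (hlift : ∀ L : Ideal (MvPolynomial (Fin n) A''), L.IsPrime → L ≤ q''.comap φ''.toRingHom →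
      ∃ Q : Ideal B'', Q.IsPrime ∧ Q ≤ q'' ∧ Q.comap φ''.toRingHom = L) :
    ∃ Q : Ideal B, Q.IsPrime ∧ Q ≤ q ∧ Q.under A = ⊥ ∧
      ∀ Q' : Ideal B, Q'.IsPrime → Q ≤ Q' → Q' ≤ q → Q'.under A = q.under A → Q' = q := by
  let p := q.under A
  let A' := A ⧸ p
  let B' := B ⧸ q
  haveI : Algebra.FiniteType A B' :=
    Algebra.FiniteType.of_surjective (Ideal.Quotient.mkₐ A q) Ideal.Quotient.mk_surjective
  haveI : Algebra.FiniteType A' B' := Algebra.FiniteType.of_restrictScalars_finiteType A _ _
  haveI : FaithfulSMul A' B' :=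
    (faithfulSMul_iff_algebraMap_injective _ _).2 (Ideal.quotientMap_injective' le_rfl)
  -- the residue extension is algebraic
  have halg : Algebra.IsAlgebraic A' B' := by
    obtain ⟨m, hm, hdim⟩ := FibreDim.exists_dim_generic (A' := A') (B' := B')
    refine trdeg_eq_zero_iff.1 ?_
    rw [hm]
    haveI : Subsingleton ↥(PrimeSpectrum.comap (algebraMap A' B') ⁻¹' {⊥}) := by
      refine ⟨fun a b => Subtype.ext ?_⟩
      suffices h : ∀ c : ↥(PrimeSpectrum.comap (algebraMap A' B') ⁻¹' {⊥}),
          c.1.asIdeal.comap (Ideal.Quotient.mk q) = q from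
        PrimeSpectrum.ext (Ideal.comap_injective_of_surjective _ Ideal.Quotient.mk_surjective
          ((h a).trans (h b).symm))
      intro c
      refine hclosed _ inferInstance (fun z hz => ?_) ?_
      · change Ideal.Quotient.mk q z ∈ c.1.asIdeal
        rw [Ideal.Quotient.eq_zero_iff_mem.2 hz]; exact zero_mem _
      · have h0 := congrArg (fun a : PrimeSpectrum A' => a.asIdeal.comap (Ideal.Quotient.mk p)) c.2
        change (c.1.asIdeal.comap (algebraMap A' B')).comap (Ideal.Quotient.mk p) = Ideal.comap _ ⊥ at h0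
        rw [← RingHom.ker_eq_comap_bot, Ideal.mk_ker, Ideal.comap_comap] at h0
        rw [Ideal.under_def, Ideal.comap_comap]
        exact h0
    have hle : topologicalKrullDim ↥(PrimeSpectrum.comap (algebraMap A' B') ⁻¹' {⊥}) ≤ 0 := by
      haveI : Subsingleton (TopologicalSpace.IrreducibleCloseds ↥(PrimeSpectrum.comap (algebraMap A' B') ⁻¹' {⊥})) :=
        ⟨fun a b => TopologicalSpace.IrreducibleCloseds.ext
          (Subsingleton.eq_univ_of_nonempty a.isIrreducible.nonempty ▸
            (Subsingleton.eq_univ_of_nonempty b.isIrreducible.nonempty).symm ▸ rfl)⟩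
      exact Order.krullDim_nonpos_of_subsingleton
    rw [hdim] at hle
    obtain rfl : m = 0 := by
      have : (m : ℕ∞) ≤ 0 := by exact_mod_cast hle
      simpa using this
    rfl
  let Ap := Localization.AtPrime p
  let K := FractionRing B'
  letI : Algebra Ap K := (IsLocalization.lift (M := p.primeCompl) (g := algebraMap A K) fun s => by
    refine isUnit_iff_ne_zero.2 fun h => s.2 ?_
    rw [IsScalarTower.algebraMap_apply A B' K, map_eq_zero_iff _ (IsFractionRing.injective B' K),
      IsScalarTower.algebraMap_apply A B B'] at h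
    exact (Ideal.Quotient.eq_zero_iff_mem.1 h : algebraMap A B s ∈ q)).toAlgebra
  haveI : IsScalarTower A Ap K := IsScalarTower.of_algebraMap_eq fun a =>
    (IsLocalization.lift_eq (M := p.primeCompl) _ a).symm
  have hint : ∀ b : B, IsIntegral Ap (algebraMap B' K (Ideal.Quotient.mk q b)) := by
    intro b
    obtain ⟨G, hG0, hG⟩ := halg.isAlgebraic (Ideal.Quotient.mk q b)
    obtain ⟨G', rfl, hdeg⟩ := Polynomial.mem_lifts_and_degree_eq
      ((Polynomial.lifts_iff_coeff_lifts (f := Ideal.Quotient.mk p) G).2 fun k => Ideal.Quotient.mk_surjective _)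
    have hlc : G'.leadingCoeff ∉ p := fun h => by
      have h1 : (G'.map (Ideal.Quotient.mk p)).coeff G'.natDegree = 0 := by
        rw [Polynomial.coeff_map]; exact Ideal.Quotient.eq_zero_iff_mem.2 h
      refine hG0 (Polynomial.leadingCoeff_eq_zero.1 ?_)
      rwa [Polynomial.leadingCoeff, Polynomial.natDegree_eq_of_degree_eq hdeg.symm]
    let g : Ap[X] := Polynomial.C (IsLocalization.mk' Ap (1 : A) (⟨_, hlc⟩ : p.primeCompl)) *
      G'.map (algebraMap A Ap)
    refine ⟨g, ?_, ?_⟩
    · refine Polynomial.monic_C_mul_of_mul_leadingCoeff_eq_one ?_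
      have hu : IsUnit (algebraMap A Ap G'.leadingCoeff) := IsLocalization.map_units Ap (⟨_, hlc⟩ : p.primeCompl)
      rw [Polynomial.leadingCoeff_map_of_leadingCoeff_ne_zero _ hu.ne_zero]
      simp
    · rw [Polynomial.eval₂_mul, Polynomial.eval₂_map, ← IsScalarTower.algebraMap_eq]
      refine mul_eq_zero_of_right _ ?_
      rw [← Polynomial.aeval_def, Polynomial.aeval_algebraMap_apply]
      rw [show Ideal.Quotient.mk p = algebraMap A A' from rfl, Polynomial.aeval_map_algebraMap] at hG
      rw [hG, map_zero]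
  obtain ⟨C, _, _, hflat, χ, c, hc, hci⟩ := exists_flat_lift Ap K n
    (fun i => algebraMap B' K (Ideal.Quotient.mk q (φ (MvPolynomial.X i)))) fun i => hint _
  letI : Algebra A C := ((algebraMap Ap C).comp (algebraMap A Ap)).toAlgebra
  haveI : IsScalarTower A Ap C := IsScalarTower.of_algebraMap_eq' rfl
  haveI : Module.Flat A C := Module.Flat.trans A Ap C
  let ev : MvPolynomial (Fin n) A →ₐ[A] C := MvPolynomial.aeval c
  -- a prime of the extended algebra over the generic point
  let K'' := FractionRing (B'' ⧸ q'')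
  let jq : B' →+* B'' ⧸ q'' := Ideal.quotientMap q'' j.toRingHom hq''.ge
  have hjq : Function.Injective ((algebraMap (B'' ⧸ q'') K'').comp jq) :=
    (IsFractionRing.injective (B'' ⧸ q'') K'').comp (Ideal.quotientMap_injective' (H := hq''.ge) hq''.le)
  let ιK : K →+* K'' := IsFractionRing.lift hjq
  let χC : C →ₐ[A] K'' :=
    { ιK.comp χ.toRingHom with
      commutes' := fun a => by
        change ιK (χ (algebraMap A C a)) = _
        rw [IsScalarTower.algebraMap_apply A Ap C, χ.commutes, ← IsScalarTower.algebraMap_apply A Ap K,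
          IsScalarTower.algebraMap_apply A B' K, IsFractionRing.lift_algebraMap,
          IsScalarTower.algebraMap_apply A (B'' ⧸ q'') K'']
        change algebraMap (B'' ⧸ q'') K'' (jq (Ideal.Quotient.mk q (algebraMap A B a))) = _
        rw [Ideal.quotientMap_mk]
        exact congrArg (fun z => algebraMap (B'' ⧸ q'') K'' (Ideal.Quotient.mk q'' z)) (j.commutes a) }
  let χ'' : A'' ⊗[A] C →ₐ[A''] K'' :=
    Algebra.TensorProduct.lift (Algebra.ofId A'' K'') χC fun _ _ => Commute.all _ _
  let ev'' : MvPolynomial (Fin n) A'' →ₐ[A''] A'' ⊗[A] C :=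
    MvPolynomial.aeval fun i => Algebra.TensorProduct.includeRight (c i)
  have hP'' : (RingHom.ker χ''.toRingHom).comap ev''.toRingHom = q''.comap φ''.toRingHom := by
    have e : χ''.toRingHom.comp ev''.toRingHom =
        (algebraMap (B'' ⧸ q'') K'').comp ((Ideal.Quotient.mk q'').comp φ''.toRingHom) := by
      refine MvPolynomial.ringHom_ext (fun a => ?_) (fun i => ?_)
      · simp only [RingHom.comp_apply, AlgHom.toRingHom_eq_coe, RingHom.coe_coe]
        rw [← MvPolynomial.algebraMap_eq, ev''.commutes, χ''.commutes, φ''.commutes]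
        exact IsScalarTower.algebraMap_apply A'' (B'' ⧸ q'') K'' a
      · simp only [RingHom.comp_apply, AlgHom.toRingHom_eq_coe, RingHom.coe_coe, ev'', MvPolynomial.aeval_X,
          χ'', Algebra.TensorProduct.includeRight_apply, Algebra.TensorProduct.lift_tmul, map_one, one_mul, hφ'']
        change ιK (χ (c i)) = _
        rw [hc, IsFractionRing.lift_algebraMap]
        change algebraMap (B'' ⧸ q'') K'' (jq (Ideal.Quotient.mk q _)) = _
        rw [Ideal.quotientMap_mk]
        rfl
    rw [RingHom.comap_ker, e, RingHom.ker_comp_of_injective _ (IsFractionRing.injective (B'' ⧸ q'') K''),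
      ← RingHom.comap_ker, Ideal.mk_ker]
  have hC0 : ∀ r : Ideal B'', (r.comap φ''.toRingHom).comap MvPolynomial.C = r.under A'' := fun r => by
    rw [Ideal.comap_comap, Ideal.under_def]; congr 1; ext a; exact φ''.commutes a
  have hC1 : ∀ r : Ideal (A'' ⊗[A] C), (r.comap ev''.toRingHom).comap MvPolynomial.C = r.under A'' := fun r => by
    rw [Ideal.comap_comap, Ideal.under_def]; congr 1; ext a; exact ev''.commutes a
  haveI : (RingHom.ker χ''.toRingHom).IsPrime := RingHom.ker_isPrime _
  haveI : (RingHom.ker χ''.toRingHom).LiesOver (q''.under A'') := ⟨by rw [← hC1, hP'', hC0]⟩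
  obtain ⟨QC'', hQCle, hQCp, hQCover⟩ := Ideal.exists_ideal_le_liesOver_of_le (p := (⊥ : Ideal A''))
    (q := q''.under A'') (RingHom.ker χ''.toRingHom) bot_le
  haveI := hQCp
  obtain ⟨Q'', hQ'', hQq'', hQL''⟩ := hlift (QC''.comap ev''.toRingHom) inferInstance
    ((Ideal.comap_mono hQCle).trans hP''.le)
  haveI := hQ''
  let incl : C →+* A'' ⊗[A] C := (Algebra.TensorProduct.includeRight : C →ₐ[A] A'' ⊗[A] C).toRingHom
  let QC : Ideal C := QC''.comap incl
  let Q : Ideal B := Q''.comap j.toRingHom
  have hQL : Q.comap φ.toRingHom = QC.comap ev.toRingHom := by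
    let μ : MvPolynomial (Fin n) A →+* MvPolynomial (Fin n) A'' := MvPolynomial.map (algebraMap A A'')
    have e1 : j.toRingHom.comp φ.toRingHom = φ''.toRingHom.comp μ := by
      refine MvPolynomial.ringHom_ext (fun a => ?_) (fun i => ?_)
      · simp only [RingHom.comp_apply, AlgHom.toRingHom_eq_coe, RingHom.coe_coe, μ, MvPolynomial.map_C]
        rw [← MvPolynomial.algebraMap_eq, ← MvPolynomial.algebraMap_eq, φ.commutes, φ''.commutes, j.commutes]
        exact IsScalarTower.algebraMap_apply A A'' B'' a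
      · simp [μ, hφ'']
    have e2 : incl.comp ev.toRingHom = ev''.toRingHom.comp μ := by
      refine MvPolynomial.ringHom_ext (fun a => ?_) (fun i => ?_)
      · simp only [RingHom.comp_apply, incl, AlgHom.toRingHom_eq_coe, RingHom.coe_coe, μ, MvPolynomial.map_C]
        rw [← MvPolynomial.algebraMap_eq, ← MvPolynomial.algebraMap_eq, ev.commutes, ev''.commutes]
        rw [AlgHom.commutes]
        exact IsScalarTower.algebraMap_apply A A'' (A'' ⊗[A] C) a
      · simp [μ, incl, ev, ev'']
    change (Q''.comap j.toRingHom).comap φ.toRingHom = (QC''.comap incl).comap ev.toRingHom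
    rw [Ideal.comap_comap, Ideal.comap_comap, e1, e2, ← Ideal.comap_comap, ← Ideal.comap_comap, hQL'']
  have hQ : Q.IsPrime := Ideal.IsPrime.comap _
  have hQq : Q ≤ q := (Ideal.comap_mono hQq'').trans hq''.le
  refine ⟨Q, hQ, hQq, ?_, fun Q' hQ' hQQ' hQ'q hQ'p => ?_⟩
  · have e0 : Q''.under A'' = ⊥ := by rw [← hC0, hQL'', hC1, ← hQCover.over]
    change (Q''.comap j.toRingHom).comap (algebraMap A B) = ⊥
    rw [Ideal.comap_comap, show j.toRingHom.comp (algebraMap A B) =
        (algebraMap A'' B'').comp (algebraMap A A'') by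
      ext a
      exact (j.commutes a).trans (IsScalarTower.algebraMap_apply A A'' B'' a),
      ← Ideal.comap_comap, ← Ideal.under_def A'', e0, ← RingHom.ker_eq_comap_bot]
    exact (RingHom.injective_iff_ker_eq_bot _).1 (FaithfulSMul.algebraMap_injective A A'')
  · haveI := hQ'
    haveI := hQ
    letI : Algebra (MvPolynomial (Fin n) A) B := φ.toRingHom.toAlgebra
    haveI : IsScalarTower A (MvPolynomial (Fin n) A) B :=
      IsScalarTower.of_algebraMap_eq fun a => (φ.commutes a).symm
    haveI : Algebra.QuasiFiniteAt (MvPolynomial (Fin n) A) q := hqf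
    refine Algebra.QuasiFiniteAt.eq_of_le_of_under_eq (R := MvPolynomial (Fin n) A) hQ'q ?_
    -- the coordinates are algebraic modulo `Q'`
    let P' := Q'.comap φ.toRingHom
    let P := q.comap φ.toRingHom
    have hle : P' ≤ P := Ideal.comap_mono hQ'q
    have hunder : ∀ r : Ideal B, (r.comap φ.toRingHom).comap MvPolynomial.C = r.under A := fun r => by
      rw [Ideal.comap_comap, Ideal.under_def]; congr 1; ext a; exact φ.commutes a
    refine le_antisymm hle ?_
    intro z hz
    by_contra hzP'
    let S := MvPolynomial (Fin n) A ⧸ P'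
    have hint' : ∀ i, ∃ m : p.primeCompl, IsIntegral A ((m : A) • (Ideal.Quotient.mk P' (MvPolynomial.X i) : S)) := by
      intro i
      obtain ⟨m, hm⟩ := IsIntegral.exists_multiple_integral_of_isLocalization p.primeCompl (Rₘ := Ap) (c i) (hci i)
      refine ⟨m, ?_⟩
      obtain ⟨g, hg, hg0⟩ := hm
      refine ⟨g, hg, ?_⟩
      have hmem : g.eval₂ (algebraMap A _) ((m : A) • MvPolynomial.X i : MvPolynomial (Fin n) A) ∈ P' := by
        refine Ideal.comap_mono (hQQ') ?_
        rw [hQL, Ideal.mem_comap, ← Polynomial.aeval_def, AlgHom.toRingHom_eq_coe, RingHom.coe_coe,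
          ← Polynomial.aeval_algHom_apply, map_smul]
        have h1 : (m • c i : C) = (m : A) • ev (MvPolynomial.X i) := by simp [ev, Submonoid.smul_def]
        rw [← h1, Polynomial.aeval_def, hg0]
        exact zero_mem _
      have := Ideal.Quotient.eq_zero_iff_mem.2 hmem
      rw [Polynomial.hom_eval₂] at this
      exact this
    have hAlg : ∀ s : S, ∃ m : p.primeCompl, IsIntegral A ((m : A) • s) := by
      intro s
      obtain ⟨s, rfl⟩ := Ideal.Quotient.mk_surjective s
      induction s using MvPolynomial.induction_on with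
      | C a => exact ⟨1, by rw [OneMemClass.coe_one, one_smul]; exact isIntegral_algebraMap⟩
      | add s t hs ht =>
        obtain ⟨m, hm⟩ := hs
        obtain ⟨k, hk⟩ := ht
        refine ⟨m * k, ?_⟩
        rw [show ((m * k : p.primeCompl) : A) • Ideal.Quotient.mk P' (s + t) =
          (k : A) • ((m : A) • Ideal.Quotient.mk P' s) + (m : A) • ((k : A) • Ideal.Quotient.mk P' t) by
          rw [map_add, Submonoid.coe_mul, smul_add, smul_smul, smul_smul, mul_comm (k : A)]]
        exact (hm.smul (k : A)).add (hk.smul (m : A))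
      | mul_X s i hs =>
        obtain ⟨m, hm⟩ := hs
        obtain ⟨k, hk⟩ := hint' i
        refine ⟨m * k, ?_⟩
        rw [show ((m * k : p.primeCompl) : A) • Ideal.Quotient.mk P' (s * MvPolynomial.X i) =
          ((m : A) • Ideal.Quotient.mk P' s) * ((k : A) • Ideal.Quotient.mk P' (MvPolynomial.X i)) by
          rw [map_mul, Submonoid.coe_mul, smul_mul_smul_comm]]
        exact hm.mul hk
    obtain ⟨m, hm⟩ := hAlg (Ideal.Quotient.mk P' z)
    obtain ⟨g, hg, hg0⟩ := hm
    have hgp : (g.map (Ideal.Quotient.mk p)).Monic := hg.map _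
    -- contradiction from a monic relation in the domain `A[T]/P'`
    haveI : P'.IsPrime := inferInstance
    letI : Algebra A' S := (Ideal.Quotient.lift p (algebraMap A S) fun a ha => by
      rw [IsScalarTower.algebraMap_apply A (MvPolynomial (Fin n) A) S]
      refine Ideal.Quotient.eq_zero_iff_mem.2 ?_
      have : a ∈ P'.comap MvPolynomial.C := by rw [hunder, hQ'p]; exact ha
      exact this).toAlgebra
    haveI : IsScalarTower A A' S := IsScalarTower.of_algebraMap_eq fun a => rfl
    let I : Ideal S := P.map (Ideal.Quotient.mk P')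
    have hx0 : ((m : A) • (Ideal.Quotient.mk P' z) : S) ≠ 0 := by
      rw [Algebra.smul_def, IsScalarTower.algebraMap_apply A (MvPolynomial (Fin n) A) S, Ideal.Quotient.algebraMap_eq,
        ← map_mul, ne_eq, Ideal.Quotient.eq_zero_iff_mem]
      refine fun h => ((inferInstance : P'.IsPrime).mem_or_mem h).elim (fun h => m.2 ?_) hzP'
      have : (m : A) ∈ P'.comap MvPolynomial.C := h
      rwa [hunder, hQ'p] at this
    have hxI : ((m : A) • (Ideal.Quotient.mk P' z) : S) ∈ I := by
      rw [Algebra.smul_def]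
      exact Ideal.mul_mem_left _ _ (Ideal.mem_map_of_mem _ hz)
    refine Ideal.comap_ne_bot_of_algebraic_mem (R := A') hx0 hxI ⟨_, hgp.ne_zero, ?_⟩ ?_
    · rw [show Ideal.Quotient.mk p = algebraMap A A' from rfl, Polynomial.aeval_map_algebraMap, Polynomial.aeval_def]
      exact hg0
    · refine eq_bot_iff.2 fun a ha => ?_
      obtain ⟨a, rfl⟩ := Ideal.Quotient.mk_surjective a
      rw [Ideal.mem_bot, Ideal.Quotient.eq_zero_iff_mem]
      have ha' : Ideal.Quotient.mk P' (MvPolynomial.C a) ∈ I := ha
      rw [← Ideal.mem_comap, Ideal.comap_map_of_surjective _ Ideal.Quotient.mk_surjective,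
        ← RingHom.ker_eq_comap_bot, Ideal.mk_ker, sup_eq_left.2 hle] at ha'
      exact (hunder q).le ha'

/-- A prime below `q` over the generic point whose closure is quasi-finite at `q`. -/
theorem exists_prime_isolated [IsDomain A] [Algebra.FiniteType A B]
    (φ : MvPolynomial (Fin n) A →ₐ[A] B) (q : Ideal B) [q.IsPrime] (hqf : FibreDim.IsQFAt φ q)
    (hclosed : ∀ Q' : Ideal B, Q'.IsPrime → q ≤ Q' → Q'.under A = q.under A → Q' = q)
    (hlift : ∀ L : Ideal (MvPolynomial (Fin n) A), L.IsPrime → L ≤ q.comap φ.toRingHom →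
      ∃ Q : Ideal B, Q.IsPrime ∧ Q ≤ q ∧ Q.comap φ.toRingHom = L) :
    ∃ Q : Ideal B, Q.IsPrime ∧ Q ≤ q ∧ Q.under A = ⊥ ∧
      ∀ Q' : Ideal B, Q'.IsPrime → Q ≤ Q' → Q' ≤ q → Q'.under A = q.under A → Q' = q :=
  exists_prime_isolated' φ q hqf hclosed (AlgHom.id A B) φ (fun _ => rfl) q (Ideal.comap_id q) hlift

end Groth.Agent.GeomUnib

namespace Groth.Agent.GeomUnib

open CategoryTheory AlgebraicGeometry

/-- Openness at a prime lifts all its generisations. -/
theorem exists_lift_of_isOpenAt {A B : Type u} [CommRing A] [CommRing B] (φ : A →+* B) (q : Ideal B) [q.IsPrime]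
    (h : EGA43.IsOpenAt (Spec.map (CommRingCat.ofHom φ)).base (⟨q, inferInstance⟩ : PrimeSpectrum B))
    (L : Ideal A) [L.IsPrime] (hL : L ≤ q.comap φ) : ∃ Q : Ideal B, Q.IsPrime ∧ Q ≤ q ∧ Q.comap φ = L := by
  let S : Submonoid B := q.primeCompl ⊔ (Ideal.primeCompl L).map φ
  have hdisj : Disjoint ((L.map φ : Ideal B) : Set B) S := by
    refine Set.disjoint_left.2 fun z hz hzS => ?_
    obtain ⟨b, hb, _, ⟨a, ha, rfl⟩, rfl⟩ := Submonoid.mem_sup.1 hzS
    have hn := h (PrimeSpectrum.basicOpen b : Set (PrimeSpectrum B)) ((PrimeSpectrum.basicOpen b).2.mem_nhds hb)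
    have hsp := (PrimeSpectrum.le_iff_specializes (⟨L, inferInstance⟩ : PrimeSpectrum A)
      (PrimeSpectrum.comap φ ⟨q, inferInstance⟩)).1 hL
    obtain ⟨t, ht, htp⟩ := mem_of_mem_nhds (hsp hn)
    have htp' : t.asIdeal.comap φ = L := congrArg PrimeSpectrum.asIdeal htp
    rcases t.2.mem_or_mem ((Ideal.map_le_iff_le_comap.2 htp'.ge) hz) with h' | h'
    · exact ht h'
    · exact ha (htp'.le h')
  obtain ⟨Q, hQ, hle, hQS⟩ := Ideal.exists_le_prime_disjoint _ _ hdisj
  refine ⟨Q, hQ, fun b hb => ?_, le_antisymm (fun a ha => ?_) (Ideal.map_le_iff_le_comap.1 hle)⟩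
  · by_contra hbq
    exact Set.disjoint_left.1 hQS hb (Submonoid.mem_sup_left (show b ∈ q.primeCompl from hbq))
  · by_contra hap
    exact Set.disjoint_left.1 hQS ha (Submonoid.mem_sup_right
      (Submonoid.mem_map_of_mem _ (show a ∈ Ideal.primeCompl L from hap)))

end Groth.Agent.GeomUnib

namespace Groth.Agent.GeomUnib

open CategoryTheory AlgebraicGeometry

/-- `exists_prime_isolated` through an integrally closed extension of the base inside an ambient field. -/
theorem exists_prime_isolated_of_extension {A B A'' L : Type u} [CommRing A] [IsDomain A] [CommRing B] [IsDomain B]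
    [Algebra A B] [Algebra.FiniteType A B] [CommRing A''] [IsDomain A''] [IsIntegrallyClosed A''] [Algebra A A'']
    [FaithfulSMul A A''] [Algebra.IsIntegral A A''] [Field L] [Algebra B L] [Algebra A L] [IsScalarTower A B L]
    (hBL : Function.Injective (algebraMap B L)) (ι'' : A'' →ₐ[A] L) (hι'' : Function.Injective ι'') {n : ℕ}
    (φ : MvPolynomial (Fin n) A →ₐ[A] B) (hφ : Function.Injective φ) (q : Ideal B) [q.IsPrime]
    (hqf : FibreDim.IsQFAt φ q)
    (hclosed : ∀ Q' : Ideal B, Q'.IsPrime → q ≤ Q' → Q'.under A = q.under A → Q' = q) :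
    ∃ Q : Ideal B, Q.IsPrime ∧ Q ≤ q ∧ Q.under A = ⊥ ∧
      ∀ Q' : Ideal B, Q'.IsPrime → Q ≤ Q' → Q' ≤ q → Q'.under A = q.under A → Q' = q := by
  classical
  let B'' : Subalgebra B L := Algebra.adjoin B (Set.range ι'')
  let toB'' : A'' →ₐ[A] B'' :=
    { ι''.toRingHom.codRestrict B''.toSubsemiring fun a => Algebra.subset_adjoin ⟨a, rfl⟩ with
      commutes' := fun a => Subtype.ext (ι''.commutes a) }
  letI : Algebra A'' B'' := toB''.toRingHom.toAlgebra
  haveI : IsScalarTower A A'' B'' := IsScalarTower.of_algebraMap_eq fun a => (toB''.commutes a).symm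
  haveI : Algebra.IsIntegral B B'' := Algebra.IsIntegral.adjoin fun x hx => by
    obtain ⟨a, rfl⟩ := hx
    exact ((Algebra.IsIntegral.isIntegral (R := A) a).map ι'').tower_top
  let j : B →ₐ[A] B'' := IsScalarTower.toAlgHom A B B''
  obtain ⟨s, hs⟩ := (inferInstance : Algebra.FiniteType A B).out
  haveI hft : Algebra.FiniteType A'' B'' := by
    refine ⟨⟨s.image j, ?_⟩⟩
    rw [Finset.coe_image, eq_top_iff]
    intro z _
    let S := Algebra.adjoin A'' (j '' (s : Set B))
    have hB : ∀ b : B, j b ∈ S := fun b => by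
      have hb : b ∈ Algebra.adjoin A (s : Set B) := hs ▸ trivial
      induction hb using Algebra.adjoin_induction with
      | mem x hx => exact Algebra.subset_adjoin ⟨x, hx, rfl⟩
      | algebraMap r =>
        rw [j.commutes, IsScalarTower.algebraMap_apply A A'' B'']
        exact S.algebraMap_mem _
      | add x y _ _ hx hy => rw [map_add]; exact add_mem hx hy
      | mul x y _ _ hx hy => rw [map_mul]; exact mul_mem hx hy
    obtain ⟨z, hz⟩ := z
    suffices h : ∀ w (hw : w ∈ B''), (⟨w, hw⟩ : B'') ∈ S from h z hz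
    intro w hw
    induction hw using Algebra.adjoin_induction with
    | mem x hx =>
      obtain ⟨a, rfl⟩ := hx
      exact S.algebraMap_mem a
    | algebraMap r => exact hB r
    | add x y hx hy hx' hy' => exact add_mem hx' hy'
    | mul x y hx hy hx' hy' => exact mul_mem hx' hy'
  haveI : FaithfulSMul A'' B'' := (faithfulSMul_iff_algebraMap_injective A'' B'').2 fun a b h =>
    hι'' (congrArg Subtype.val h)
  let φ'' : MvPolynomial (Fin n) A'' →ₐ[A''] B'' := MvPolynomial.aeval fun i => j (φ (MvPolynomial.X i))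
  have hX : ∀ i, φ'' (MvPolynomial.X i) = j (φ (MvPolynomial.X i)) := fun i => MvPolynomial.aeval_X _ i
  letI := (MvPolynomial.map (σ := Fin n) (algebraMap A A'')).toAlgebra
  haveI : IsScalarTower A (MvPolynomial (Fin n) A) (MvPolynomial (Fin n) A'') :=
    IsScalarTower.of_algebraMap_eq fun a => by simp [RingHom.algebraMap_toAlgebra, MvPolynomial.algebraMap_eq]
  have hcomp : φ''.toRingHom.comp (algebraMap (MvPolynomial (Fin n) A) (MvPolynomial (Fin n) A'')) =
      j.toRingHom.comp φ.toRingHom := by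
    refine MvPolynomial.ringHom_ext (fun a => ?_) (fun i => ?_)
    · rw [RingHom.comp_apply, RingHom.comp_apply, RingHom.algebraMap_toAlgebra, MvPolynomial.map_C,
        ← MvPolynomial.algebraMap_eq, ← MvPolynomial.algebraMap_eq]
      change φ'' (algebraMap A'' _ (algebraMap A A'' a)) = j (φ (algebraMap A _ a))
      rw [φ''.commutes, φ.commutes, j.commutes, ← IsScalarTower.algebraMap_apply]
    · rw [RingHom.comp_apply, RingHom.comp_apply, RingHom.algebraMap_toAlgebra, MvPolynomial.map_X]
      exact hX i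
  haveI : Algebra.IsIntegral (MvPolynomial (Fin n) A) (MvPolynomial (Fin n) A'') := ⟨fun p => by
    induction p using MvPolynomial.induction_on with
    | C a =>
      have := (Algebra.IsIntegral.isIntegral (R := A) a).map
        (Algebra.ofId A'' (MvPolynomial (Fin n) A'') |>.restrictScalars A)
      exact this.tower_top
    | add p q hp hq => exact hp.add hq
    | mul_X p i hp =>
      refine hp.mul ?_
      rw [← MvPolynomial.map_X (algebraMap A A'')]
      exact isIntegral_algebraMap⟩
  have hj : Function.Injective j := fun a b h => hBL (congrArg Subtype.val h)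
  have hφ'' : Function.Injective φ'' := by
    refine (RingHom.injective_iff_ker_eq_bot φ''.toRingHom).2 ?_
    haveI : (RingHom.ker φ''.toRingHom).IsPrime := RingHom.ker_isPrime _
    refine Ideal.eq_bot_of_comap_eq_bot (R := MvPolynomial (Fin n) A) ?_
    rw [RingHom.comap_ker, hcomp]
    exact (RingHom.injective_iff_ker_eq_bot (j.toRingHom.comp φ.toRingHom)).1 (hj.comp hφ)
  obtain ⟨q'', -, hq''p, hq''⟩ := Ideal.exists_ideal_over_prime_of_isIntegral (S := B'') q ⊥ (by
    rw [← RingHom.ker_eq_comap_bot, (RingHom.injective_iff_ker_eq_bot _).1 (show Function.Injective (algebraMap B B'') from hj)]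
    exact bot_le)
  haveI := hq''p
  have hqf'' : FibreDim.IsQFAt φ'' q'' := by
    letI : Algebra (MvPolynomial (Fin n) A) B := φ.toRingHom.toAlgebra
    letI : Algebra (MvPolynomial (Fin n) A'') B'' := φ''.toRingHom.toAlgebra
    letI : Algebra (MvPolynomial (Fin n) A) B'' := (j.toRingHom.comp φ.toRingHom).toAlgebra
    haveI : IsScalarTower (MvPolynomial (Fin n) A) (MvPolynomial (Fin n) A'') B'' :=
      IsScalarTower.of_algebraMap_eq' (by rw [RingHom.algebraMap_toAlgebra φ''.toRingHom, hcomp]; rfl)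
    haveI : Algebra.QuasiFiniteAt (MvPolynomial (Fin n) A) q := hqf
    let jT : B →ₐ[MvPolynomial (Fin n) A] B'' := ⟨j.toRingHom, fun _ => rfl⟩
    let π : MvPolynomial (Fin n) A'' ⊗[MvPolynomial (Fin n) A] B →ₐ[MvPolynomial (Fin n) A''] B'' :=
      Algebra.TensorProduct.lift (Algebra.ofId _ _) jT fun _ _ => Commute.all _ _
    have hπ : Function.Surjective π := by
      rintro ⟨w, hw⟩
      induction hw using Algebra.adjoin_induction with
      | mem x hx =>
        obtain ⟨a, rfl⟩ := hx
        refine ⟨MvPolynomial.C a ⊗ₜ 1, ?_⟩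
        simp only [π, Algebra.TensorProduct.lift_tmul, map_one, mul_one]
        exact φ''.commutes a
      | algebraMap r =>
        refine ⟨1 ⊗ₜ r, ?_⟩
        simp only [π, Algebra.TensorProduct.lift_tmul, map_one, one_mul]
        rfl
      | add x y hx hy hx' hy' =>
        obtain ⟨a, ha⟩ := hx'
        obtain ⟨b, hb⟩ := hy'
        exact ⟨a + b, by rw [map_add, ha, hb]; rfl⟩
      | mul x y hx hy hx' hy' =>
        obtain ⟨a, ha⟩ := hx'
        obtain ⟨b, hb⟩ := hy'
        exact ⟨a * b, by rw [map_mul, ha, hb]; rfl⟩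
    haveI : (q''.comap π.toRingHom).IsPrime := Ideal.IsPrime.comap _
    haveI : Algebra.QuasiFiniteAt (MvPolynomial (Fin n) A'') (q''.comap π.toRingHom) :=
      Algebra.QuasiFiniteAt.baseChange q _ (by
        rw [Ideal.comap_comap, ← hq'']
        congr 1
        ext b
        simp [π, jT, j])
    exact Algebra.QuasiFiniteAt.of_surjectiveOnStalks (q''.comap π.toRingHom) π
      (RingHom.surjectiveOnStalks_of_surjective hπ) q'' rfl
  have hopen := isUnivOpenAt_toAffineSpace (A' := A'') φ'' hφ'' ⟨q'', inferInstance⟩ hqf''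
    (fun L _ χ₁ χ₂ h _ => RingHom.ext fun a => RingHom.congr_fun h a)
  exact exists_prime_isolated' φ q hqf hclosed j φ'' hX q'' hq'' fun L hL hLe =>
    exists_lift_of_isOpenAt φ''.toRingHom q''
      (OpenAt.isOpenAt_of_isPullback (IsPullback.of_id_fst : IsPullback (𝟙 _) _ _ (𝟙 _)) hopen _ rfl) L hLe

/-- The same as `exists_prime_isolated` for a dominant map to affine space, with no unibranch hypothesis. -/
theorem exists_prime_isolated_of_injective {A B : Type u} [CommRing A] [IsDomain A] [CommRing B] [IsDomain B]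
    [Algebra A B] [FaithfulSMul A B] [Algebra.FiniteType A B] {n : ℕ}
    (φ : MvPolynomial (Fin n) A →ₐ[A] B) (hφ : Function.Injective φ) (q : Ideal B) [q.IsPrime]
    (hqf : FibreDim.IsQFAt φ q)
    (hclosed : ∀ Q' : Ideal B, Q'.IsPrime → q ≤ Q' → Q'.under A = q.under A → Q' = q) :
    ∃ Q : Ideal B, Q.IsPrime ∧ Q ≤ q ∧ Q.under A = ⊥ ∧
      ∀ Q' : Ideal B, Q'.IsPrime → Q ≤ Q' → Q' ≤ q → Q'.under A = q.under A → Q' = q := by
  obtain ⟨_, _⟩ := exists_normalisation A
  let ιL : FractionRing A →ₐ[A] FractionRing B :=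
    IsFractionRing.liftAlgHom (g := Algebra.ofId A (FractionRing B)) (by
      exact (IsFractionRing.injective B (FractionRing B)).comp (FaithfulSMul.algebraMap_injective A B))
  exact exists_prime_isolated_of_extension (A'' := integralClosure A (FractionRing A))
    (IsFractionRing.injective B (FractionRing B)) (ιL.comp (integralClosure A (FractionRing A)).val)
    (ιL.toRingHom.injective.comp Subtype.val_injective) φ hφ q hqf hclosed

/-- A generisation over the generic point whose closure is isolated at `x` in the fibre. -/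
theorem exists_gen_isolated {X Y : Scheme.{u}} (f : X ⟶ Y) [LocallyOfFiniteType f] (x x₀ : X) (hx₀ : x₀ ⤳ x)
    (U₀ : Y.Opens) (hyU : f x ∈ U₀) (hU₀ : (U₀ : Set Y) ⊆ closure {f x₀})
    (hdim : FibreDim.fdim f x₀ = FlatMor.fibreDimAt f x)
    (hcl : ∀ x' : X, f x' = f x → x ⤳ x' → x' = x) :
    ∃ w, w ⤳ x ∧ f w = f x₀ ∧ ∀ v, w ⤳ v → v ⤳ x → f v = f x → v = x := by
  obtain ⟨A, B, _, _, _, _, _, _, _, q, n, φ, ψ, j, i, hφ, hqf, hψ, hker, _, _, _, hsq, rfl⟩ :=
    exists_model_affine f x x₀ hx₀ U₀ hyU hU₀ hdim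
  have hsq' : ∀ t : PrimeSpectrum B, f (j t) = i (PrimeSpectrum.comap (algebraMap A B) t) := fun t => by
    rw [← Scheme.Hom.comp_apply, hsq, Scheme.Hom.comp_apply]
    rfl
  have hj := j.isEmbedding
  have hi := i.isEmbedding
  have hcl' : ∀ Q' : Ideal B, Q'.IsPrime → q.asIdeal ≤ Q' → Q'.under A = q.asIdeal.under A → Q' = q.asIdeal := by
    intro Q' hQ' hle hp
    have e := hcl (j (⟨Q', hQ'⟩ : PrimeSpectrum B)) (by
        rw [hsq', hsq']; exact congrArg i (PrimeSpectrum.ext hp))
      (((PrimeSpectrum.le_iff_specializes q ⟨Q', hQ'⟩).1 hle).map j.continuous)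
    exact congrArg PrimeSpectrum.asIdeal (hj.injective e)
  obtain ⟨Q, hQ, hQq, hQ0, hQiso⟩ := exists_prime_isolated_of_injective φ hφ q.asIdeal hqf hcl'
  refine ⟨j (⟨Q, hQ⟩ : PrimeSpectrum B), ((PrimeSpectrum.le_iff_specializes ⟨Q, hQ⟩ q).1 hQq).map j.continuous,
    ?_, fun v hwv hvx hv => ?_⟩
  · rw [hsq']
    set b : PrimeSpectrum A := PrimeSpectrum.comap (algebraMap A B) ⟨Q, hQ⟩ with hb
    have hbot : b.asIdeal = ⊥ := hQ0
    have hbgen : ∀ t : PrimeSpectrum A, b ⤳ t := fun t =>
      (PrimeSpectrum.le_iff_specializes b t).1 (show b.asIdeal ≤ t.asIdeal by rw [hbot]; exact bot_le)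
    have hrange : IsOpen (Set.range i) := i.isOpenMap.isOpen_range
    have hxi : f (j q) ∈ Set.range i := ⟨_, (hsq' q).symm⟩
    obtain ⟨t, ht⟩ := (hx₀.map f.continuous).mem_open hrange hxi
    refine (((hbgen t).map i.continuous).antisymm ?_).eq.trans ht
    rw [ht]
    refine specializes_iff_mem_closure.2 (hU₀ ?_)
    exact ((hbgen _).map i.continuous).mem_open U₀.2 (hsq' q ▸ hyU)
  · obtain ⟨O, C, hO, hC, hrange⟩ := (j.isLocallyClosed_range : IsLocallyClosed (Set.range j))
    have hq : j q ∈ O ∩ C := hrange.le ⟨q, rfl⟩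
    have hw : j (⟨Q, hQ⟩ : PrimeSpectrum B) ∈ O ∩ C := hrange.le ⟨_, rfl⟩
    obtain ⟨t, rfl⟩ : v ∈ Set.range j := hrange.ge ⟨hvx.mem_open hO hq.1, hwv.mem_closed hC hw.2⟩
    rw [hsq', hsq'] at hv
    exact congrArg j (PrimeSpectrum.ext (hQiso t.asIdeal t.2
      ((PrimeSpectrum.le_iff_specializes _ t).2 (hj.toIsInducing.specializes_iff.1 hwv))
      ((PrimeSpectrum.le_iff_specializes t q).2 (hj.toIsInducing.specializes_iff.1 hvx))
      (congrArg PrimeSpectrum.asIdeal (hi.injective hv))))

end Groth.Agent.GeomUnib
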