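import Groth.Agent.GeomUnib.ChainDim
import Groth.Agent.GeomUnib.Section
import Groth.Agent.GeomUnib.Crit

/-!
# Dimensions of the local rings of components over a unibranch point
-/

set_option autoImplicit false

universe u

open CategoryTheory CategoryTheory.Limits AlgebraicGeometry TopologicalSpace

namespace Groth.Agent.GeomUnib

open FibreDim

variable {X Y : Scheme.{u}}

/-- Radiciality of the normalisation of an affine chart at a unibranch point. -/
theorem radicialAt_chart {U : Y.Opens} (hU : IsAffineOpen U) {y : Y} (hyU : y ∈ U)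
    (hy : CAlg2.IsGeomUnibranch (Y.presheaf.stalk y)) (η : Ideal Γ(Y, U)) [η.IsPrime]
    (hmin : ∀ z : PrimeSpectrum Γ(Y, U), η ≤ z.asIdeal)
    (A' : Type u) [CommRing A'] [IsDomain A'] [Algebra (Γ(Y, U) ⧸ η) A']
    [Algebra A' (FractionRing (Γ(Y, U) ⧸ η))] [IsScalarTower (Γ(Y, U) ⧸ η) A' (FractionRing (Γ(Y, U) ⧸ η))]
    [IsIntegralClosure A' (Γ(Y, U) ⧸ η) (FractionRing (Γ(Y, U) ⧸ η))]
    (pA : Ideal (Γ(Y, U) ⧸ η)) [pA.IsPrime]
    (hpA : pA.comap (Ideal.Quotient.mk η) = (hU.primeIdealOf ⟨y, hyU⟩).asIdeal) :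
    RadicialAt A' pA := by
  let p := hU.primeIdealOf ⟨y, hyU⟩
  letI : Algebra Γ(Y, U) (Y.presheaf.stalk y) := (Y.presheaf.germ U y hyU).hom.toAlgebra
  haveI : IsLocalization.AtPrime (Y.presheaf.stalk y) p.asIdeal := hU.isLocalization_stalk ⟨y, hyU⟩
  let toA : Γ(Y, U) →+* Localization.AtPrime pA :=
    (algebraMap (Γ(Y, U) ⧸ η) (Localization.AtPrime pA)).comp (Ideal.Quotient.mk η)
  have hu : ∀ s : p.asIdeal.primeCompl, IsUnit (toA s) := fun s =>
    IsLocalization.map_units (M := pA.primeCompl) _ ⟨_, fun h => s.2 (hpA.le h)⟩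
  let ψ : Y.presheaf.stalk y →+* Localization.AtPrime pA := IsLocalization.lift hu
  have hφs : Function.Surjective ψ := by
    intro z
    obtain ⟨a, ⟨s, hs⟩, rfl⟩ := IsLocalization.exists_mk'_eq pA.primeCompl z
    obtain ⟨a, rfl⟩ := Ideal.Quotient.mk_surjective a
    obtain ⟨s, rfl⟩ := Ideal.Quotient.mk_surjective s
    refine ⟨IsLocalization.mk' _ a (⟨s, fun h => hs (hpA.ge h)⟩ : p.asIdeal.primeCompl), ?_⟩
    rw [IsLocalization.lift_mk'_spec]
    exact (IsLocalization.mk'_spec'_mk (Localization.AtPrime pA) (Ideal.Quotient.mk η a)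
      (Ideal.Quotient.mk η s) hs).symm
  have hφk : RingHom.ker ψ ≤ nilradical _ := by
    intro z hz
    obtain ⟨a, s, rfl⟩ := IsLocalization.exists_mk'_eq p.asIdeal.primeCompl z
    rw [RingHom.mem_ker, IsLocalization.lift_mk'_spec, mul_zero] at hz
    have hinj : Function.Injective (algebraMap (Γ(Y, U) ⧸ η) (Localization.AtPrime pA)) :=
      IsLocalization.injective _ pA.primeCompl_le_nonZeroDivisors
    have ha : Ideal.Quotient.mk η a = 0 := hinj (hz.trans (map_zero _).symm)
    have han : IsNilpotent a := nilpotent_iff_mem_prime.2 fun J hJ =>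
      hmin ⟨J, hJ⟩ (Ideal.Quotient.eq_zero_iff_mem.1 ha)
    rw [mem_nilradical, IsLocalization.mk'_eq_mul_mk'_one]
    exact Commute.isNilpotent_mul_right (Commute.all _ _) (han.map _)
  exact radicialAt_of_localization (K := FractionRing (Γ(Y, U) ⧸ η)) _ hy ψ hφs hφk

variable (f : X ⟶ Y) [LocallyOfFiniteType f] [IsLocallyNoetherian Y]

/-- The dimensions of the quotients of a local ring by primes, over a unibranch point. -/
theorem exists_stalk_dim (x : X) (η : Y) (U₀ : Y.Opens) (hyU : f.base x ∈ U₀)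
    (hU₀ : (U₀ : Set Y) ⊆ closure {η}) (hη : η ⤳ f.base x)
    (hy : CAlg2.IsGeomUnibranch (Y.presheaf.stalk (f.base x))) :
    ∃ M : ℕ, ∀ P : PrimeSpectrum (X.presheaf.stalk x),
      (f.base ((X.fromSpecStalk x).base P) = η ∧
          fdim f ((X.fromSpecStalk x).base P) = FlatMor.fibreDimAt f x →
        ringKrullDim (X.presheaf.stalk x ⧸ P.asIdeal) = M) ∧
      (ringKrullDim (X.presheaf.stalk x ⧸ P.asIdeal) = M →
        f.base ((X.fromSpecStalk x).base P) = η ∧
          fdim f ((X.fromSpecStalk x).base P) = FlatMor.fibreDimAt f x) := by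
  obtain ⟨U, hU, V, hV, hVU, hxV, hUU₀, n, φ, hn, hqf⟩ := exists_chart f x U₀ hyU
  letI := (f.appLE U V hVU).hom.toAlgebra
  haveI : Algebra.FiniteType Γ(Y, U) Γ(X, V) :=
    RingHom.finiteType_algebraMap.1 (f.finiteType_appLE hU hV hVU)
  haveI : IsNoetherianRing Γ(Y, U) := IsLocallyNoetherian.component_noetherian ⟨U, hU⟩
  have hxU : f.base x ∈ U := hVU hxV
  have hηU : η ∈ U := hη.mem_open U.2 hxU
  let q := hV.primeIdealOf ⟨x, hxV⟩
  let p₀ := hU.primeIdealOf ⟨η, hηU⟩
  have hmin : ∀ a : PrimeSpectrum Γ(Y, U), p₀.asIdeal ≤ a.asIdeal := fun a => by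
    refine (PrimeSpectrum.le_iff_specializes p₀ a).2 ?_
    refine hU.fromSpec.isOpenEmbedding.toIsInducing.specializes_iff.1 ?_
    rw [hU.fromSpec_primeIdealOf]
    exact specializes_iff_mem_closure.2 (hU₀ (hUU₀ (hU.range_fromSpec.le ⟨a, rfl⟩)))
  have key : ∀ t : PrimeSpectrum Γ(X, V),
      hU.fromSpec (PrimeSpectrum.comap (algebraMap Γ(Y, U) Γ(X, V)) t) = f.base (hV.fromSpec t) := fun t => by
    rw [← Scheme.Hom.comp_apply, ← IsAffineOpen.SpecMap_appLE_fromSpec f hU hV hVU, Scheme.Hom.comp_apply]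
    rfl
  obtain ⟨M, hbound, hexact⟩ := exists_chain_bound φ q.asIdeal hqf p₀.asIdeal
    (fun a ha _ => hmin ⟨a, ha⟩)
  refine ⟨M, fun P => ?_⟩
  letI : Algebra Γ(X, V) (X.presheaf.stalk x) := (X.presheaf.germ V x hxV).hom.toAlgebra
  haveI : IsLocalization.AtPrime (X.presheaf.stalk x) q.asIdeal := hV.isLocalization_stalk ⟨x, hxV⟩
  let z := (X.fromSpecStalk x).base P
  have hzx : z ⤳ x := Scheme.range_fromSpecStalk.le ⟨P, rfl⟩
  have hzV : z ∈ V := hzx.mem_open V.2 hxV
  let g : PrimeSpectrum Γ(X, V) := PrimeSpectrum.comap (algebraMap Γ(X, V) (X.presheaf.stalk x)) P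
  have hgz : hV.fromSpec g = z := by
    change hV.fromSpec (Spec.map (X.presheaf.germ V x hxV) P) = (X.fromSpecStalk x).base P
    rw [← hV.fromSpecStalk_eq_fromSpecStalk hxV]
    rfl
  have hzg : hV.primeIdealOf ⟨z, hzV⟩ = g :=
    hV.fromSpec.isOpenEmbedding.injective ((hV.fromSpec_primeIdealOf _).trans hgz.symm)
  have hgq : g.asIdeal ≤ q.asIdeal := by
    refine (PrimeSpectrum.le_iff_specializes g q).2 ?_
    refine hV.fromSpec.isOpenEmbedding.toIsInducing.specializes_iff.1 ?_
    rw [hgz, hV.fromSpec_primeIdealOf]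
    exact hzx
  have hgqf := isQFAt_of_le φ g.asIdeal q.asIdeal hgq hqf
  have hchart : fdim f z = n ↔ Function.Injective (quotMap φ g.asIdeal) := by
    have := (fdim_chart f hU hV hVU z hzV φ (hzg.symm ▸ hgqf)).2
    rwa [hzg] at this
  have hgη : g.asIdeal.under Γ(Y, U) = p₀.asIdeal ↔ f.base z = η := by
    rw [← hgz, ← key]
    constructor
    · intro h
      rw [show PrimeSpectrum.comap (algebraMap Γ(Y, U) Γ(X, V)) g = p₀ from PrimeSpectrum.ext h]
      exact hU.fromSpec_primeIdealOf _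
    · intro h
      exact congrArg PrimeSpectrum.asIdeal (hU.fromSpec.isOpenEmbedding.injective
        (h.trans (hU.fromSpec_primeIdealOf ⟨η, hηU⟩).symm))
  have hgood : (f.base z = η ∧ fdim f z = FlatMor.fibreDimAt f x) ↔
      g.asIdeal.comap φ.toRingHom = RingHom.ker (MvPolynomial.map (σ := Fin n) (Ideal.Quotient.mk p₀.asIdeal)) := by
    rw [hn, hchart, injective_quotMap_iff, ← hgη]
    constructor
    · rintro ⟨h1, h2⟩
      rw [h2, h1]
    · intro h
      have h1 : g.asIdeal.under Γ(Y, U) = p₀.asIdeal := by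
        have e := congrArg (Ideal.comap MvPolynomial.C) h
        rw [Ideal.comap_comap, RingHom.comap_ker] at e
        have e1 : φ.toRingHom.comp MvPolynomial.C = algebraMap Γ(Y, U) Γ(X, V) := by
          ext a; exact φ.commutes a
        have e2 : (MvPolynomial.map (σ := Fin n) (Ideal.Quotient.mk p₀.asIdeal)).comp MvPolynomial.C =
            MvPolynomial.C.comp (Ideal.Quotient.mk p₀.asIdeal) := by
          ext a : 1; exact MvPolynomial.map_C _ a
        rw [e1, e2, RingHom.ker_comp_of_injective _ (MvPolynomial.C_injective _ _), Ideal.mk_ker] at e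
        exact e
      exact ⟨h1, h1 ▸ h⟩
  rw [hgood]
  have hle : ∀ l : LTSeries (PrimeSpectrum Γ(X, V)), g.asIdeal ≤ l.head.asIdeal →
      l.last.asIdeal ≤ q.asIdeal → l.length ≤ M := fun l _ hl => (hbound l hl).1
  constructor
  · intro hgen
    obtain ⟨hη', hinj⟩ : g.asIdeal.under Γ(Y, U) = p₀.asIdeal ∧ Function.Injective (quotMap φ g.asIdeal) := by
      have := hgood.2 hgen
      exact ⟨hgη.2 this.1, hchart.1 (this.2.trans hn)⟩
    refine ringKrullDim_quotient_eq q.asIdeal P.asIdeal M hle ?_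
    obtain ⟨l, h1, h2, h3⟩ := hexact g hgq hgen fun L hL hgL hLq => by
      -- lift below `q` and above `g` through the domain `B / g`
      let A₁ := Γ(Y, U) ⧸ g.asIdeal.under Γ(Y, U)
      let B₁ := Γ(X, V) ⧸ g.asIdeal
      haveI : Algebra.FiniteType Γ(Y, U) B₁ :=
        Algebra.FiniteType.of_surjective (Ideal.Quotient.mkₐ Γ(Y, U) g.asIdeal) Ideal.Quotient.mk_surjective
      haveI : Algebra.FiniteType A₁ B₁ := Algebra.FiniteType.of_restrictScalars_finiteType Γ(Y, U) A₁ B₁
      haveI : FaithfulSMul A₁ B₁ := (faithfulSMul_iff_algebraMap_injective A₁ B₁).2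
        (Ideal.quotientMap_injective' le_rfl)
      haveI hqp : (q.asIdeal.map (Ideal.Quotient.mk g.asIdeal)).IsPrime :=
        Ideal.map_isPrime_of_surjective Ideal.Quotient.mk_surjective (by rwa [Ideal.mk_ker])
      have hqq : (q.asIdeal.map (Ideal.Quotient.mk g.asIdeal)).comap (Ideal.Quotient.mk g.asIdeal) = q.asIdeal := by
        rw [Ideal.comap_map_of_surjective _ Ideal.Quotient.mk_surjective, ← RingHom.ker_eq_comap_bot,
          Ideal.mk_ker, sup_eq_left.2 hgq]
      obtain ⟨_, _⟩ := exists_normalisation A₁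
      have hr : RadicialAt (integralClosure A₁ (FractionRing A₁))
          ((q.asIdeal.map (Ideal.Quotient.mk g.asIdeal)).comap (algebraMap A₁ B₁)) :=
        radicialAt_chart hU hxU hy (g.asIdeal.under Γ(Y, U)) (fun a => hη'.le.trans (hmin a)) _ _ (by
          rw [Ideal.comap_comap]
          change Ideal.comap ((Ideal.Quotient.mk g.asIdeal).comp (algebraMap Γ(Y, U) Γ(X, V))) _ = _
          rw [← Ideal.comap_comap, hqq]
          exact congrArg PrimeSpectrum.asIdeal (hU.fromSpec.isOpenEmbedding.injective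
            ((key q).trans ((congrArg f.base (hV.fromSpec_primeIdealOf _)).trans
              (hU.fromSpec_primeIdealOf ⟨f.base x, hxU⟩).symm))))
      have hopen := isUnivOpenAt_toAffineSpace (quotMap φ g.asIdeal) hinj
        ⟨q.asIdeal.map (Ideal.Quotient.mk g.asIdeal), hqp⟩ (isQFAt_quotMap φ g.asIdeal q.asIdeal hgq hqf) hr
      let ν := MvPolynomial.map (σ := Fin n) (Ideal.Quotient.mk (g.asIdeal.under Γ(Y, U)))
      have hν : Function.Surjective ν := MvPolynomial.map_surjective _ Ideal.Quotient.mk_surjective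
      have hνL : RingHom.ker ν ≤ L := ((injective_quotMap_iff φ _).1 hinj).ge.trans hgL
      haveI : (L.map ν).IsPrime := Ideal.map_isPrime_of_surjective hν hνL
      have hcL : (L.map ν).comap ν = L := by
        rw [Ideal.comap_map_of_surjective _ hν, ← RingHom.ker_eq_comap_bot, sup_eq_left.2 hνL]
      obtain ⟨Q, hQ, hQq, hQL⟩ := exists_lift_of_isOpenAt (quotMap φ g.asIdeal).toRingHom
        (q.asIdeal.map (Ideal.Quotient.mk g.asIdeal))
        (OpenAt.isOpenAt_of_isPullback (IsPullback.of_id_fst : IsPullback (𝟙 _) _ _ (𝟙 _)) hopen _ rfl)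
        (L.map ν) (by
          rw [Ideal.map_le_iff_le_comap, Ideal.comap_comap, quotMap_comp, ← Ideal.comap_comap, hqq]
          exact hLq)
      refine ⟨Q.comap (Ideal.Quotient.mk g.asIdeal), Ideal.IsPrime.comap _, fun a ha => ?_,
        (Ideal.comap_mono hQq).trans hqq.le, ?_⟩
      · rw [Ideal.mem_comap, Ideal.Quotient.eq_zero_iff_mem.2 ha]; exact zero_mem _
      · rw [Ideal.comap_comap, ← quotMap_comp, ← Ideal.comap_comap, hQL, hcL]
    exact ⟨l, h1, h2, h3⟩
  · intro hdim
    by_contra hne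
    have h1 : ringKrullDim (X.presheaf.stalk x ⧸ P.asIdeal) ≤ ((M - 1 : ℕ) : WithBot ℕ∞) := by
      rw [ringKrullDim_quotient]
      refine iSup_le fun l => ?_
      let e := IsLocalization.AtPrime.primeSpectrumOrderIso (X.presheaf.stalk x) q.asIdeal
      let l' : LTSeries (PrimeSpectrum Γ(X, V)) :=
        l.map (fun a => (e a.1).1) fun a b h => (e.strictMono h : e a.1 < e b.1)
      have hl' : l'.last.asIdeal ≤ q.asIdeal := (e l.last.1).2
      have hge : g ≤ l'.head := (Ideal.comap_mono l.head.2 : g.asIdeal ≤ (e l.head.1).1.asIdeal)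
      rcases hge.eq_or_lt with h | h
      · have := (hbound l' hl').2 (by rw [← h]; exact hne)
        have h2 : l.length ≤ M - 1 := by simp [l'] at this; omega
        exact_mod_cast h2
      · have := (hbound (l'.cons g h) (by rw [RelSeries.last_cons]; exact hl')).2
          (by rw [RelSeries.head_cons]; exact hne)
        have h2 : l.length ≤ M - 1 := by simp [l'] at this; omega
        exact_mod_cast h2
    have hpos : 1 ≤ M := by
      have := (hbound (RelSeries.singleton _ g) (by simpa using hgq)).2 (by simpa using hne)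
      simpa using this
    rw [hdim] at h1
    have : M ≤ M - 1 := by exact_mod_cast h1
    omega

end Groth.Agent.GeomUnib
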