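import Groth.Agent.GeomUnib.Radical

/-!
# Openness of quasi-finite dominant morphisms over unibranch points
-/

set_option autoImplicit false

universe u

open CategoryTheory CategoryTheory.Limits AlgebraicGeometry

namespace Groth.Agent.GeomUnib

theorem isUnivOpenAt_of_universallyOpen {X Y : Scheme.{u}} (f : X ⟶ Y) [UniversallyOpen f] (x : X) :
    EGA43.IsUnivOpenAt f x :=
  fun _ g x' _ U hU => (pullback.snd f g).isOpenMap.image_mem_nhds hU

variable {A : Type u} [CommRing A] [IsDomain A]

/-- A normal integral extension and any integral domain extension lie in a common one. -/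
theorem exists_common (A' E : Type u) [CommRing A'] [IsDomain A'] [Algebra A A'] [FaithfulSMul A A']
    [Algebra.IsIntegral A A'] [CommRing E] [IsDomain E] [Algebra A E] [FaithfulSMul A E]
    [Algebra.IsIntegral A E] :
    ∃ (D : Type u) (_ : CommRing D) (_ : IsDomain D) (_ : Algebra A' D) (_ : Algebra E D),
      FaithfulSMul A' D ∧ Algebra.IsIntegral A' D ∧
      (algebraMap A' D).comp (algebraMap A A') = (algebraMap E D).comp (algebraMap A E) ∧
      ∀ q : PrimeSpectrum E, ∃ q'' : PrimeSpectrum D, PrimeSpectrum.comap (algebraMap E D) q'' = q := by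
  let Ω := AlgebraicClosure (FractionRing E)
  haveI : IsScalarTower A E Ω := inferInstance
  have hE : Function.Injective (algebraMap E Ω) := by
    rw [IsScalarTower.algebraMap_eq E (FractionRing E) Ω]
    exact (algebraMap (FractionRing E) Ω).injective.comp (IsFractionRing.injective E (FractionRing E))
  haveI : FaithfulSMul A Ω := (faithfulSMul_iff_algebraMap_injective A Ω).2
    (by rw [IsScalarTower.algebraMap_eq A E Ω]; exact hE.comp (FaithfulSMul.algebraMap_injective A E))
  let χ : A' →ₐ[A] Ω := IsAlgClosed.lift
  letI : Algebra A' Ω := χ.toRingHom.toAlgebra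
  haveI : IsScalarTower A A' Ω := IsScalarTower.of_algebraMap_eq fun a => (χ.commutes a).symm
  have hχ : Function.Injective (algebraMap A' Ω) := by
    rw [RingHom.injective_iff_ker_eq_bot]
    haveI : (RingHom.ker (algebraMap A' Ω)).IsPrime := RingHom.ker_isPrime _
    refine Ideal.eq_bot_of_comap_eq_bot (R := A) ?_
    rw [RingHom.comap_ker, ← IsScalarTower.algebraMap_eq, ← RingHom.injective_iff_ker_eq_bot]
    exact FaithfulSMul.algebraMap_injective A Ω
  let D := integralClosure A' Ω
  have hmem : ∀ e : E, algebraMap E Ω e ∈ D := fun e =>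
    ((Algebra.IsIntegral.isIntegral (R := A) e).map (IsScalarTower.toAlgHom A E Ω)).tower_top
  letI : Algebra E D := ((algebraMap E Ω).codRestrict D.toSubring hmem).toAlgebra
  haveI : IsScalarTower A E D := IsScalarTower.of_algebraMap_eq fun a => Subtype.ext <| by
    change algebraMap A Ω a = algebraMap E Ω (algebraMap A E a)
    exact IsScalarTower.algebraMap_apply A E Ω a
  haveI : Algebra.IsIntegral A D := Algebra.IsIntegral.trans A'
  haveI : Algebra.IsIntegral E D := Algebra.IsIntegral.tower_top (R := A)
  refine ⟨D, inferInstance, inferInstance, inferInstance, inferInstance,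
    (faithfulSMul_iff_algebraMap_injective A' D).2 fun x y h => hχ (congrArg Subtype.val h),
    inferInstance, RingHom.ext fun a => Subtype.ext ?_,
    exists_comap_eq fun x y h => hE (congrArg Subtype.val h)⟩
  exact (χ.commutes a).trans (IsScalarTower.algebraMap_apply A E Ω a)

section integral

variable (A' : Type u) [CommRing A'] [IsDomain A'] [IsIntegrallyClosed A'] [Algebra A A'] [FaithfulSMul A A']
  [Algebra.IsIntegral A A'] {E : Type u} [CommRing E] [IsDomain E] [Algebra A E] [FaithfulSMul A E]
  [Algebra.IsIntegral A E]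

theorem isUnivOpenAt_of_isIntegral (q : PrimeSpectrum E)
    (hr : RadicialAt A' (q.asIdeal.comap (algebraMap A E))) :
    EGA43.IsUnivOpenAt (Spec.map (CommRingCat.ofHom (algebraMap A E))) (q : Spec (CommRingCat.of E)) := by
  obtain ⟨D, _, _, _, _, _, _, hcomm, hsurj⟩ := exists_common (A := A) A' E
  obtain ⟨q'', rfl⟩ := hsurj q
  haveI := universallyOpen_specMap (A := A') (E := D)
  refine OpenAt.isUnivOpenAt_of_comp (f := Spec.map (CommRingCat.ofHom (algebraMap E D)))
    (x := (q'' : Spec (CommRingCat.of D))) ?_
  rw [← Spec.map_comp, ← CommRingCat.ofHom_comp, ← hcomm, CommRingCat.ofHom_comp, Spec.map_comp]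
  refine OpenAt.isUnivOpenAt_comp (isUnivOpenAt_of_universallyOpen _ _) ?_
  refine hr.isUnivOpenAt (FaithfulSMul.algebraMap_injective A A') (PrimeSpectrum.comap (algebraMap A' D) q'') ?_
  change (q''.asIdeal.comap _).comap _ = (q''.asIdeal.comap _).comap _
  rw [Ideal.comap_comap, Ideal.comap_comap, hcomm]

theorem isOpenAt_of_isIntegral (q : PrimeSpectrum E)
    (hu : UniqueAt A' (q.asIdeal.comap (algebraMap A E))) :
    EGA43.IsOpenAt (PrimeSpectrum.comap (algebraMap A E)) q := by
  obtain ⟨D, _, _, _, _, _, _, hcomm, hsurj⟩ := exists_common (A := A) A' E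
  obtain ⟨q'', rfl⟩ := hsurj q
  refine OpenAt.of_comp (PrimeSpectrum.continuous_comap (algebraMap E D)).continuousAt ?_
  have e : PrimeSpectrum.comap (algebraMap A E) ∘ PrimeSpectrum.comap (algebraMap E D) =
      PrimeSpectrum.comap (algebraMap A A') ∘ PrimeSpectrum.comap (algebraMap A' D) := by
    funext z
    exact PrimeSpectrum.ext (by
      change (z.asIdeal.comap _).comap _ = (z.asIdeal.comap _).comap _
      rw [Ideal.comap_comap, Ideal.comap_comap, hcomm])
  rw [e]
  refine OpenAt.comp (fun U hU => (isOpenMap_comap (A := A') (E := D)).image_mem_nhds hU) ?_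
  refine hu.isOpenAt (FaithfulSMul.algebraMap_injective A A') _ ?_
  change (q''.asIdeal.comap _).comap _ = (q''.asIdeal.comap _).comap _
  rw [Ideal.comap_comap, Ideal.comap_comap, hcomm]

variable {B : Type u} [CommRing B] [IsDomain B] [Algebra A B] [FaithfulSMul A B] [Algebra.FiniteType A B]

/-- Zariski's main theorem, as a factorisation of a neighbourhood. -/
theorem exists_zmt (q : Ideal B) [q.IsPrime] [Algebra.QuasiFiniteAt A q] :
    ∃ r : integralClosure A B, r.1 ∉ q ∧
      IsOpenImmersion (Spec.map (CommRingCat.ofHom ((algebraMap B (Localization.Away r.1)).comp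
        (integralClosure A B).val.toRingHom))) := by
  obtain ⟨r, hr, hbij⟩ := Algebra.ZariskisMainProperty.of_finiteType (R := A) q
  refine ⟨r, hr, ?_⟩
  have e : (algebraMap B (Localization.Away r.1)).comp (integralClosure A B).val.toRingHom =
      (Localization.awayMap (integralClosure A B).val.toRingHom r).comp
        (algebraMap (integralClosure A B) (Localization.Away r)) := by
    rw [Localization.awayMap, IsLocalization.Away.map, IsLocalization.map_comp]
    rfl
  rw [e]
  change IsOpenImmersion (Spec.map (CommRingCat.ofHom (algebraMap (integralClosure A B) (Localization.Away r)) ≫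
    CommRingCat.ofHom (Localization.awayMap (integralClosure A B).val.toRingHom r)))
  rw [Spec.map_comp]
  have : IsIso (CommRingCat.ofHom (Localization.awayMap (integralClosure A B).val.toRingHom r)) :=
    (ConcreteCategory.isIso_iff_bijective _).2 hbij
  infer_instance

theorem faithfulSMul_integralClosure : FaithfulSMul A (integralClosure A B) :=
  (faithfulSMul_iff_algebraMap_injective A _).2 fun _ _ h =>
    FaithfulSMul.algebraMap_injective A B (congrArg Subtype.val h)

theorem isUnivOpenAt_of_quasiFiniteAt (q : PrimeSpectrum B) [Algebra.QuasiFiniteAt A q.asIdeal]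
    (hr : RadicialAt A' (q.asIdeal.comap (algebraMap A B))) :
    EGA43.IsUnivOpenAt (Spec.map (CommRingCat.ofHom (algebraMap A B))) (q : Spec (CommRingCat.of B)) := by
  obtain ⟨r, hrq, _⟩ := exists_zmt (A := A) q.asIdeal
  haveI := faithfulSMul_integralClosure (A := A) (B := B)
  obtain ⟨z, hz⟩ : q ∈ Set.range (PrimeSpectrum.comap (algebraMap B (Localization.Away r.1))) := by
    rw [PrimeSpectrum.localization_away_comap_range _ r.1]; exact hrq
  subst hz
  refine OpenAt.isUnivOpenAt_of_comp (f := Spec.map (CommRingCat.ofHom (algebraMap B (Localization.Away r.1))))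
    (x := (z : Spec (CommRingCat.of (Localization.Away r.1)))) ?_
  have e : Spec.map (CommRingCat.ofHom (algebraMap B (Localization.Away r.1))) ≫
      Spec.map (CommRingCat.ofHom (algebraMap A B)) =
      Spec.map (CommRingCat.ofHom ((algebraMap B (Localization.Away r.1)).comp
        (integralClosure A B).val.toRingHom)) ≫
      Spec.map (CommRingCat.ofHom (algebraMap A (integralClosure A B))) := by
    rw [← Spec.map_comp, ← Spec.map_comp]
    rfl
  rw [e]
  exact OpenAt.isUnivOpenAt_comp (isUnivOpenAt_of_universallyOpen _ _)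
    (isUnivOpenAt_of_isIntegral A' _ hr)

theorem isOpenAt_of_quasiFiniteAt (q : PrimeSpectrum B) [Algebra.QuasiFiniteAt A q.asIdeal]
    (hu : UniqueAt A' (q.asIdeal.comap (algebraMap A B))) :
    EGA43.IsOpenAt (PrimeSpectrum.comap (algebraMap A B)) q := by
  obtain ⟨r, hrq, hoi⟩ := exists_zmt (A := A) q.asIdeal
  haveI := faithfulSMul_integralClosure (A := A) (B := B)
  obtain ⟨z, hz⟩ : q ∈ Set.range (PrimeSpectrum.comap (algebraMap B (Localization.Away r.1))) := by
    rw [PrimeSpectrum.localization_away_comap_range _ r.1]; exact hrq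
  subst hz
  refine OpenAt.of_comp (PrimeSpectrum.continuous_comap (algebraMap B (Localization.Away r.1))).continuousAt ?_
  change EGA43.IsOpenAt (PrimeSpectrum.comap (algebraMap A (integralClosure A B)) ∘
    PrimeSpectrum.comap ((algebraMap B (Localization.Away r.1)).comp (integralClosure A B).val.toRingHom)) z
  exact OpenAt.comp (fun U hU => hoi.base_open.isOpenMap.image_mem_nhds hU)
    (isOpenAt_of_isIntegral A' _ hu)

end integral

end Groth.Agent.GeomUnib
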