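import Groth.Agent.GeomUnib.Section
import Groth.Agent.GeomUnib.Crit
import Groth.Agent.BMCoh.Basic

/-!
# Quasi-finite dominant multisections
-/

set_option autoImplicit false

universe u

open CategoryTheory CategoryTheory.Limits AlgebraicGeometry TopologicalSpace

namespace Groth.Agent.GeomUnib

open FibreDim

variable {X Y : Scheme.{u}} (f : X ⟶ Y) [LocallyOfFiniteType f]

/-- A point without other generisations is open in a locally Noetherian scheme when it is closed. -/
theorem isOpen_singleton_of_isolated [IsLocallyNoetherian Y] (a : Y) (hgen : ∀ b : Y, b ⤳ a → b = a)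
    (hcl : ∀ b : Y, a ⤳ b → b = a) : IsOpen ({a} : Set Y) := by
  haveI hsub : Subsingleton (PrimeSpectrum (Y.presheaf.stalk a)) := ⟨fun s t =>
    (Y.fromSpecStalk a).isEmbedding.injective ((hgen _ (Scheme.range_fromSpecStalk.le ⟨s, rfl⟩)).trans
      (hgen _ (Scheme.range_fromSpecStalk.le ⟨t, rfl⟩)).symm)⟩
  have hdom : IsDomain (CAlg2.red (Y.presheaf.stalk a)) := by
    refine (Ideal.Quotient.isDomain_iff_prime _).2 ?_
    have : nilradical (Y.presheaf.stalk a) = IsLocalRing.maximalIdeal _ := by
      refine le_antisymm (nilradical_le_prime _) ?_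
      rw [nilradical_eq_sInf]
      refine le_sInf fun J hJ => ?_
      exact (congrArg PrimeSpectrum.asIdeal (Subsingleton.elim (⟨J, hJ⟩ : PrimeSpectrum _)
        ⟨IsLocalRing.maximalIdeal _, inferInstance⟩)).ge
    rw [this]; infer_instance
  obtain ⟨U₀, haU, hU₀⟩ := exists_opens_subset_closure a a specializes_rfl
    (fun η' h => (hgen η' h) ▸ specializes_rfl) hdom
  have : (U₀ : Set Y) = {a} := by
    refine Set.Subset.antisymm (fun b hb => ?_) (Set.singleton_subset_iff.2 haU)
    exact hcl b (specializes_iff_mem_closure.2 (hU₀ hb))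
  exact this ▸ U₀.2

/-- A generisation over the generic point that is isolated at `x` in its fibre gives a multisection. -/
theorem exists_multisection [IrreducibleSpace Y] [IsLocallyNoetherian Y] (x w : X) (hwx : w ⤳ x)
    (hw : f w = genericPoint Y) (hiso : ∀ v, w ⤳ v → v ⤳ x → f v = f x → v = x)
    (hcl : ∀ x' : X, f x' = f x → x ⤳ x' → x' = x) :
    ∃ (T : Scheme.{u}) (i : T ⟶ X), IsImmersion i ∧ IrreducibleSpace ↥T ∧ IsReduced T ∧ x ∈ Set.range i.base ∧
      LocallyOfFiniteType (i ≫ f) ∧ LocallyQuasiFinite (i ≫ f) ∧ QuasiCompact (i ≫ f) ∧ IsDominant (i ≫ f) := by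
  let I := Scheme.IdealSheafData.vanishingIdeal (⟨closure {w}, isClosed_closure⟩ : Closeds X)
  haveI : IsReduced I.subscheme := BMCoh.isReduced_vanishingIdeal_subscheme _
  have hr : Set.range I.subschemeι.base = closure {w} := by
    rw [I.range_subschemeι]; rfl
  have hι := I.subschemeι.isClosedEmbedding.isEmbedding
  obtain ⟨b, hb⟩ : w ∈ Set.range I.subschemeι.base := hr.ge (subset_closure rfl)
  obtain ⟨a, ha⟩ : x ∈ Set.range I.subschemeι.base := hr.ge hwx.mem_closure
  have hgenW : ∀ c, b ⤳ c := fun c => hι.toIsInducing.specializes_iff.1 (by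
    rw [hb]; exact specializes_iff_mem_closure.2 (hr.le ⟨c, rfl⟩))
  haveI : IrreducibleSpace I.subscheme := by
    haveI : Nonempty I.subscheme := ⟨b⟩
    refine { isPreirreducible_univ := ?_, toNonempty := inferInstance }
    have : (Set.univ : Set I.subscheme) = closure {b} :=
      (Set.eq_univ_of_forall fun c => (hgenW c).mem_closure).symm
    rw [this]; exact isIrreducible_singleton.closure.2
  let g := I.subschemeι ≫ f
  haveI : LocallyOfFiniteType g := inferInstanceAs (LocallyOfFiniteType (I.subschemeι ≫ f))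
  have hqf : g.QuasiFiniteAt a := by
    rw [Scheme.Hom.quasiFiniteAt_iff_isOpen_singleton_asFiber]
    haveI : IsLocallyNoetherian (g.fiber (g.base a)) :=
      haveI : LocallyOfFiniteType (g.fiberToSpecResidueField (g.base a)) :=
        MorphismProperty.pullback_snd g (Y.fromSpecResidueField (g.base a)) ‹_›
      LocallyOfFiniteType.isLocallyNoetherian (g.fiberToSpecResidueField (g.base a))
    have key : ∀ c : g.fiber (g.base a), f.base (I.subschemeι.base ((g.fiberι _).base c)) = f.base x := fun c => by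
      have h1 : (g.fiberι _).base c ∈ Set.range (g.fiberι (g.base a)) := ⟨c, rfl⟩
      rw [g.range_fiberι] at h1
      exact (show g.base ((g.fiberι _).base c) = g.base a from h1).trans (congrArg f.base ha)
    have hj := hι.comp (g.fiberι (g.base a)).isEmbedding
    have hjx : I.subschemeι.base ((g.fiberι _).base (g.asFiber a)) = x := by
      rw [g.fiberι_asFiber]; exact ha
    refine isOpen_singleton_of_isolated _ (fun c hc => hj.injective ?_) (fun c hc => hj.injective ?_)
    · have h2 := hc.map (g.fiberι (g.base a)).continuous |>.map I.subschemeι.continuous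
      rw [hjx] at h2
      exact (hiso _ (specializes_iff_mem_closure.2 (hr.le ⟨_, rfl⟩)) h2 (key c)).trans hjx.symm
    · have h2 := hc.map (g.fiberι (g.base a)).continuous |>.map I.subschemeι.continuous
      rw [hjx] at h2
      exact (hcl _ (key c) h2).trans hjx.symm
  obtain ⟨_, ⟨(U : Y.Opens), hU, rfl⟩, hxU, -⟩ :=
    Y.isBasis_affineOpens.exists_subset_of_mem_open (Set.mem_univ (g.base a)) isOpen_univ
  obtain ⟨_, ⟨(V : I.subscheme.Opens), hV, rfl⟩, haV, hVs⟩ := I.subscheme.isBasis_affineOpens.exists_subset_of_mem_open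
    (show a ∈ (g.quasiFiniteLocus : Set I.subscheme) ∩ (g ⁻¹ᵁ U : I.subscheme.Opens) from ⟨hqf, hxU⟩)
    (g.quasiFiniteLocus.2.inter (g ⁻¹ᵁ U).2)
  refine ⟨V, V.ι ≫ I.subschemeι, inferInstance, ?_, inferInstance, ?_, inferInstance, ?_, ?_, ?_⟩
  · haveI : Nonempty V.toScheme := ⟨⟨a, haV⟩⟩
    refine { isPreirreducible_univ := ?_, toNonempty := inferInstance }
    have hb' : b ∈ V := (hgenW a).mem_open V.2 haV
    have : (Set.univ : Set V.toScheme) = closure {⟨b, hb'⟩} :=
      (Set.eq_univ_of_forall fun c =>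
        (Specializes.mem_closure ((subtype_specializes_iff _ _).2 (hgenW c.1)))).symm
    rw [this]; exact isIrreducible_singleton.closure.2
  · exact ⟨⟨a, haV⟩, ha⟩
  · rw [Category.assoc]
    refine (Scheme.Hom.quasiFiniteLocus_eq_top_iff _).1 ?_
    rw [Scheme.Hom.quasiFiniteLocus_comp]
    exact top_le_iff.1 fun c _ => (hVs c.2).1
  · have hVU : V ≤ g ⁻¹ᵁ U := fun c hc => (hVs hc).2
    rw [Category.assoc, ← Scheme.Hom.resLE_comp_ι g hVU]
    haveI : IsAffine V.toScheme := hV
    haveI : IsAffine U.toScheme := hU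
    infer_instance
  · refine ⟨fun y => ?_⟩
    have hb' : b ∈ V := (hgenW a).mem_open V.2 haV
    have hgp : genericPoint Y ∈ Set.range ((V.ι ≫ I.subschemeι) ≫ f).base :=
      ⟨⟨b, hb'⟩, by simp only [Scheme.Hom.comp_apply, Scheme.Opens.ι_apply]; rw [hb]; exact hw⟩
    exact closure_mono (Set.singleton_subset_iff.2 hgp) (genericPoint_specializes y).mem_closure

/-- A multisection through a point makes the morphism universally open there. -/
theorem isUnivOpenAt_of_multisection [IrreducibleSpace Y] (x : X) {T : Scheme.{u}} (i : T ⟶ X)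
    [IrreducibleSpace T] (hx : x ∈ Set.range i.base) [LocallyOfFiniteType (i ≫ f)] [LocallyQuasiFinite (i ≫ f)]
    [IsDominant (i ≫ f)] (hy : CAlg2.IsGeomUnibranch (Y.presheaf.stalk (f x))) : EGA43.IsUnivOpenAt f x := by
  obtain ⟨t, rfl⟩ := hx
  refine OpenAt.isUnivOpenAt_of_comp (f := i) (x := t) ?_
  refine isUnivOpenAt_of_quasiFinite (i ≫ f) t ((i ≫ f).quasiFiniteAt t) (genericPoint T)
    (genericPoint_specializes t) ⊤ trivial ?_ hy
  intro y _
  have hsub : Set.range (i ≫ f).base ⊆ closure {(i ≫ f).base (genericPoint T)} := by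
    rintro _ ⟨z, rfl⟩
    exact specializes_iff_mem_closure.1 ((genericPoint_specializes z).map (i ≫ f).continuous)
  exact closure_minimal hsub isClosed_closure ((i ≫ f).denseRange y)

end Groth.Agent.GeomUnib
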