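import Groth.Agent.GeomUnib.DimLift

/-!
# Lifting of generisations bounds fibre dimensions from below
-/

set_option autoImplicit false

universe u

open Order

namespace Groth.Agent.GeomUnib

variable {A B : Type u} [CommRing A] [CommRing B] [Algebra A B] {n : ℕ}

theorem height_map_C_mvPolynomial [IsNoetherianRing A] (p : Ideal A) [p.IsPrime]
    [hP : (p.map (MvPolynomial.C (σ := Fin n))).IsPrime] :
    (p.map (MvPolynomial.C (σ := Fin n))).height = p.height := by
  haveI : (p.map (MvPolynomial.C (σ := Fin n))).LiesOver p := ⟨by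
    refine le_antisymm Ideal.le_comap_map fun a ha => ?_
    have h := (MvPolynomial.mem_map_C_iff.1 ha) 0
    simpa [MvPolynomial.algebraMap_eq] using h⟩
  rw [Ideal.height_eq_height_add_of_liesOver_of_hasGoingDown p]
  rw [MvPolynomial.algebraMap_eq, Ideal.map_quotient_self]
  haveI : Nontrivial (MvPolynomial (Fin n) A ⧸ p.map (MvPolynomial.C (σ := Fin n))) :=
    Ideal.Quotient.nontrivial_iff.2 hP.ne_top
  rw [Ideal.height_bot, add_zero]

/-- If every prime between `p'` and `p` lifts below `q`, and `φ` is quasi-finite at `q` with `q` over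
the generic point of the fibre of affine space at `p`, some prime below `q` lies over the generic point
of the fibre at `p'`. -/
theorem exists_le_comap_eq_generic [IsNoetherianRing A] [Algebra.FiniteType A B]
    (φ : MvPolynomial (Fin n) A →ₐ[A] B) (q : Ideal B) [q.IsPrime] (hqf : FibreDim.IsQFAt φ q)
    (hq : q.comap φ.toRingHom = RingHom.ker (MvPolynomial.map (σ := Fin n) (Ideal.Quotient.mk (q.under A))))
    (p' : Ideal A) [p'.IsPrime] (hp' : p' ≤ q.under A)
    (hlift : ∀ p : Ideal A, p.IsPrime → p' ≤ p → p ≤ q.under A → ∃ Q : Ideal B, Q.IsPrime ∧ Q ≤ q ∧ Q.under A = p) :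
    ∃ Q : Ideal B, Q.IsPrime ∧ Q ≤ q ∧ Q.under A = p' ∧
      Q.comap φ.toRingHom = RingHom.ker (MvPolynomial.map (σ := Fin n) (Ideal.Quotient.mk p')) := by
  classical
  haveI : IsNoetherianRing B := Algebra.FiniteType.isNoetherianRing A B
  letI : Algebra (MvPolynomial (Fin n) A) B := φ.toRingHom.toAlgebra
  haveI : IsScalarTower A (MvPolynomial (Fin n) A) B :=
    IsScalarTower.of_algebraMap_eq fun a => (φ.commutes a).symm
  haveI : Algebra.QuasiFiniteAt (MvPolynomial (Fin n) A) q := hqf
  let J := p'.map (algebraMap A B)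
  let G : Set (PrimeSpectrum B) := {g | g.asIdeal ∈ J.minimalPrimes ∧ g.asIdeal.under A = p' ∧ g.asIdeal ≤ q}
  have hGf : G.Finite := Set.Finite.of_finite_image (f := PrimeSpectrum.asIdeal)
    ((Ideal.finite_minimalPrimes_of_isNoetherianRing B J).subset (by rintro _ ⟨a, ha, rfl⟩; exact ha.1))
    (fun a _ b _ h => PrimeSpectrum.ext h)
  by_contra hcon
  push Not at hcon
  -- `s` separates `p'` from the images of the other minimal primes
  obtain ⟨s, hs, hs'⟩ : ∃ s, s ∉ p' ∧ ∀ g ∈ J.minimalPrimes, g.under A ≠ p' → s ∈ g.under A := by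
    have : ∀ g : {g // g ∈ J.minimalPrimes ∧ g.under A ≠ p'}, ∃ z ∈ g.1.under A, z ∉ p' := fun g =>
      Set.not_subset.1 fun h => g.2.2 (le_antisymm h (Ideal.map_le_iff_le_comap.1 g.2.1.1.2))
    choose z hz hz' using this
    haveI : Fintype {g // g ∈ J.minimalPrimes ∧ g.under A ≠ p'} :=
      ((Ideal.finite_minimalPrimes_of_isNoetherianRing B J).subset fun g hg => hg.1).fintype
    refine ⟨∏ g, z g, fun h => ?_, fun g hg hne => ?_⟩
    · obtain ⟨g, -, hg⟩ := (inferInstance : p'.IsPrime).prod_mem_iff.1 h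
      exact hz' g hg
    · exact Ideal.mem_of_dvd _ (Finset.dvd_prod_of_mem z (Finset.mem_univ ⟨g, hg, hne⟩)) (hz ⟨g, hg, hne⟩)
  haveI hpbar : ((q.under A).map (Ideal.Quotient.mk p')).IsPrime :=
    Ideal.map_isPrime_of_surjective Ideal.Quotient.mk_surjective (by rwa [Ideal.mk_ker])
  obtain ⟨l', hl'last, hl'len⟩ := Ideal.exists_ltSeries_length_eq_height ((q.under A).map (Ideal.Quotient.mk p'))
  let c : PrimeSpectrum (A ⧸ p') → PrimeSpectrum A := PrimeSpectrum.comap (Ideal.Quotient.mk p')
  have hc : StrictMono c := fun a b hab => lt_of_le_of_ne (Ideal.comap_mono hab.le) fun h =>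
    hab.ne (PrimeSpectrum.comap_injective_of_surjective _ Ideal.Quotient.mk_surjective h)
  have hclast : c l'.last = PrimeSpectrum.comap (algebraMap A B) ⟨q, inferInstance⟩ := by
    rw [hl'last]
    refine PrimeSpectrum.ext ?_
    change Ideal.comap _ _ = q.under A
    rw [Ideal.comap_map_of_surjective _ Ideal.Quotient.mk_surjective, ← RingHom.ker_eq_comap_bot,
      Ideal.mk_ker, sup_eq_left.2 hp']
  have hhead : p' ≤ (c l'.head).asIdeal := fun a ha => by
    change Ideal.Quotient.mk p' a ∈ l'.head.asIdeal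
    rw [Ideal.Quotient.eq_zero_iff_mem.2 ha]; exact zero_mem _
  -- a chain starting at `p'` at least as long as `l'`
  obtain ⟨l, hl0, hlast, hllen⟩ : ∃ l : LTSeries (PrimeSpectrum A), l.head = ⟨p', inferInstance⟩ ∧
      l.last ≤ PrimeSpectrum.comap (algebraMap A B) ⟨q, inferInstance⟩ ∧ l'.length ≤ l.length := by
    by_cases h : c l'.head = ⟨p', inferInstance⟩
    · exact ⟨l'.map c hc, by simpa using h, by simpa using hclast.le, by simp⟩
    · have hlt : (⟨p', inferInstance⟩ : PrimeSpectrum A) < (l'.map c hc).head := by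
        simpa using lt_of_le_of_ne (show (⟨p', inferInstance⟩ : PrimeSpectrum A) ≤ c l'.head from hhead) (Ne.symm h)
      exact ⟨(l'.map c hc).cons ⟨p', inferInstance⟩ hlt, RelSeries.head_cons _ _ hlt,
        (RelSeries.last_cons _ _ hlt).trans_le (by simpa using hclast.le), by simp⟩
  -- a prime over `p'` in `G`
  obtain ⟨Q, hQ, hQq, hQp⟩ := hlift p' inferInstance le_rfl hp'
  obtain ⟨g, hg, hgQ⟩ := Ideal.exists_minimalPrimes_le (show J ≤ Q from Ideal.map_le_iff_le_comap.2 hQp.ge)
  have hgp : g.under A = p' := le_antisymm ((Ideal.comap_mono hgQ).trans hQp.le)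
    (Ideal.map_le_iff_le_comap.1 hg.1.2)
  -- chains above `G` are short
  let μ : MvPolynomial (Fin n) A →+* MvPolynomial (Fin n) (A ⧸ p') := MvPolynomial.map (Ideal.Quotient.mk p')
  have hμ : Function.Surjective μ := MvPolynomial.map_surjective _ Ideal.Quotient.mk_surjective
  have hshort : ∀ m : LTSeries (PrimeSpectrum B), (∃ g ∈ G, g ≤ m.head) →
      m.last ≤ ⟨q, inferInstance⟩ → m.length + 1 ≤ l'.length := by
    intro m ⟨g, ⟨hgJ, hgp, hgq⟩, hgm⟩ hm
    have hle : ∀ i, RingHom.ker μ ≤ (m i).asIdeal.comap φ.toRingHom := fun i => by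
      rw [MvPolynomial.ker_map, Ideal.mk_ker, Ideal.map_le_iff_le_comap, Ideal.comap_comap]
      intro a ha
      rw [Ideal.mem_comap, RingHom.comp_apply, AlgHom.toRingHom_eq_coe, RingHom.coe_coe,
        ← MvPolynomial.algebraMap_eq, φ.commutes]
      exact (hgm.trans (LTSeries.head_le m i)) (hgp.ge ha)
    haveI hprime : ∀ i, (((m i).asIdeal.comap φ.toRingHom).map μ).IsPrime := fun i =>
      Ideal.map_isPrime_of_surjective hμ (hle i)
    have hcm : ∀ i, (((m i).asIdeal.comap φ.toRingHom).map μ).comap μ = (m i).asIdeal.comap φ.toRingHom := fun i => by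
      rw [Ideal.comap_map_of_surjective _ hμ, ← RingHom.ker_eq_comap_bot, sup_eq_left.2 (hle i)]
    let d : Fin (m.length + 1) → PrimeSpectrum (MvPolynomial (Fin n) (A ⧸ p')) := fun i => ⟨_, hprime i⟩
    have hd : StrictMono d := fun i j hij => by
      refine lt_of_le_of_ne (Ideal.map_mono (Ideal.comap_mono (m.monotone hij.le))) fun heq => ?_
      have hjq : (m j).asIdeal ≤ q := ((m.monotone (Fin.le_last j) : m j ≤ m.last).trans hm : m j ≤ ⟨q, inferInstance⟩)
      haveI : Algebra.QuasiFiniteAt (MvPolynomial (Fin n) A) (m j).asIdeal := Algebra.QuasiFiniteAt.of_le hjq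
      refine (m.strictMono hij).ne (PrimeSpectrum.ext ?_)
      refine Algebra.QuasiFiniteAt.eq_of_le_of_under_eq (R := MvPolynomial (Fin n) A) (m.monotone hij.le) ?_
      have e := congrArg (fun a => a.asIdeal.comap μ) heq
      simp only [d, hcm] at e
      exact e
    let md : LTSeries (PrimeSpectrum (MvPolynomial (Fin n) (A ⧸ p'))) := LTSeries.mk m.length d hd
    have hg0 : (⊥ : Ideal (MvPolynomial (Fin n) (A ⧸ p'))) < (md.head).asIdeal := by
      refine bot_lt_iff_ne_bot.2 fun h => ?_
      refine hcon g.asIdeal g.2 hgq hgp (le_antisymm ?_ ?_)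
      · have e := congrArg (Ideal.comap μ) h
        change (((m 0).asIdeal.comap φ.toRingHom).map μ).comap μ = _ at e
        rw [hcm, ← RingHom.ker_eq_comap_bot] at e
        exact (Ideal.comap_mono hgm).trans e.le
      · rw [MvPolynomial.ker_map, Ideal.mk_ker, Ideal.map_le_iff_le_comap, Ideal.comap_comap]
        intro a ha
        rw [Ideal.mem_comap, RingHom.comp_apply, AlgHom.toRingHom_eq_coe, RingHom.coe_coe,
          ← MvPolynomial.algebraMap_eq, φ.commutes]
        exact hgp.ge ha
    let P := ((q.under A).map (Ideal.Quotient.mk p')).map (MvPolynomial.C (σ := Fin n))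
    have hP : P.comap μ = RingHom.ker (MvPolynomial.map (σ := Fin n) (Ideal.Quotient.mk (q.under A))) := by
      rw [MvPolynomial.ker_map, Ideal.mk_ker]
      ext z
      simp only [Ideal.mem_comap, P, MvPolynomial.mem_map_C_iff, μ, MvPolynomial.coeff_map]
      refine forall_congr' fun k => ?_
      rw [← Ideal.mem_comap, Ideal.comap_map_of_surjective _ Ideal.Quotient.mk_surjective,
        ← RingHom.ker_eq_comap_bot, Ideal.mk_ker, sup_eq_left.2 hp']
      rfl
    haveI : P.IsPrime := by
      have e : P = RingHom.ker (MvPolynomial.map (σ := Fin n)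
          (Ideal.Quotient.mk ((q.under A).map (Ideal.Quotient.mk p')))) := by
        rw [MvPolynomial.ker_map, Ideal.mk_ker]
      rw [e]; exact RingHom.ker_isPrime _
    have hlastP : md.last.asIdeal ≤ P := by
      change ((m (Fin.last _)).asIdeal.comap φ.toRingHom).map μ ≤ P
      rw [Ideal.map_le_iff_le_comap, hP, ← hq]
      exact Ideal.comap_mono hm
    have h1 := Order.length_le_height (p := md.cons ⟨⊥, Ideal.isPrime_bot⟩ hg0)
      (x := (⟨P, inferInstance⟩ : PrimeSpectrum _)) (by rw [RelSeries.last_cons]; exact hlastP)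
    rw [show Order.height (⟨P, inferInstance⟩ : PrimeSpectrum (MvPolynomial (Fin n) (A ⧸ p'))) = P.height from (PrimeSpectrum.height_eq_orderHeight _).symm, height_map_C_mvPolynomial, ← hl'len] at h1
    have h2 : (md.length + 1 : ℕ∞) ≤ l'.length := by simpa using h1
    exact_mod_cast (h2 : ((m.length : ℕ∞) + 1) ≤ l'.length)
  have h0 := hshort (RelSeries.singleton _ ⟨g, hg.1.1⟩) ⟨⟨g, hg.1.1⟩, ⟨hg, hgp, hgQ.trans hQq⟩, by simp⟩
    (by rw [RelSeries.last_singleton]; exact hgQ.trans hQq)
  have := length_le_of_lifts (A := A) (⟨q, inferInstance⟩ : PrimeSpectrum B) (l'.length - 1) G hGf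
    (fun m h1 h2 => by have := hshort m h1 h2; omega) ⟨p', inferInstance⟩ s hs
    (fun g hg => hg.2.1.ge) ?_ l hl0 hlast
  · omega
  intro p'' h1 h2 hsp
  obtain ⟨Q, hQ, hQq, hQp⟩ := hlift p''.asIdeal inferInstance h1 h2
  obtain ⟨g, hg, hgQ⟩ := Ideal.exists_minimalPrimes_le
    (show J ≤ Q from Ideal.map_le_iff_le_comap.2 ((show p' ≤ p''.asIdeal from h1).trans hQp.ge))
  refine ⟨⟨g, hg.1.1⟩, ⟨hg, by_contra fun hne => hsp ?_, hgQ.trans hQq⟩, ⟨Q, hQ⟩, hgQ, hQq, PrimeSpectrum.ext hQp⟩
  exact hQp.le (Ideal.comap_mono hgQ (hs' g hg hne))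

end Groth.Agent.GeomUnib
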