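import Groth.Agent.GeomUnib.GeomRedFlatFP
import Groth.Agent.GeomUnib.GeomRedFibre
import Groth.Agent.S14359
import Groth.Agent.S2656
import Groth.Agent.NagataLib.FiniteClosure
import Groth.Agent.NagataUJ.Main

/-!
# Idempotents of the generic fibre over a normal base

Over an integrally closed domain, an idempotent of the generic fibre of a flat algebra of finite
presentation is defined near every point at which the fibre is geometrically reduced.
-/

set_option autoImplicit false
set_option linter.unusedSectionVars false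
set_option linter.style.haveILetI false
set_option maxHeartbeats 1000000
set_option synthInstance.maxHeartbeats 200000

universe u

open TensorProduct

namespace Groth.Agent.GeomUnib.NormalIdem

/-- A regular element with reduced quotient. -/
theorem mem_span_pow {R : Type u} [CommRing R] {π v : R} (hπ : ∀ b, π * b = 0 → b = 0)
    (hrad : (Ideal.span {π}).IsRadical) :
    ∀ (n : ℕ) (a : R), a * a = v * π ^ n * a → a ∈ Ideal.span {π ^ n} := by
  intro n
  induction n with
  | zero => intro a _; simp
  | succ n ih =>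
    intro a ha
    have h1 : a ∈ Ideal.span {π} := hrad ⟨2, Ideal.mem_span_singleton'.2 ⟨v * π ^ n * a, by
      rw [pow_two, ha]; ring⟩⟩
    obtain ⟨c, rfl⟩ := Ideal.mem_span_singleton'.1 h1
    have h2 : c * c = v * π ^ n * c := by
      refine sub_eq_zero.1 (hπ _ (hπ _ ?_))
      linear_combination ha
    obtain ⟨d, hd⟩ := Ideal.mem_span_singleton'.1 (ih c h2)
    exact Ideal.mem_span_singleton'.2 ⟨d, by rw [← hd]; ring⟩

/-- An element of the base regular modulo `t` is regular on a flat algebra modulo `t`. -/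
theorem mem_span_of_regular {N C : Type u} [CommRing N] [CommRing C] [Algebra N C] [Module.Flat N C]
    {t n : N} (hn : ∀ x, n * x ∈ Ideal.span {t} → x ∈ Ideal.span {t}) {z : C}
    (hz : algebraMap N C n * z ∈ Ideal.span {algebraMap N C t}) : z ∈ Ideal.span {algebraMap N C t} := by
  have hmem : ∀ w : C, w ∈ (Ideal.span {t} • ⊤ : Submodule N C) ↔ w ∈ Ideal.span {algebraMap N C t} := fun w => by
    rw [Ideal.smul_top_eq_map, Submodule.restrictScalars_mem, Ideal.map_span, Set.image_singleton]
  let e := TensorProduct.quotTensorEquivQuotSMul C (Ideal.span {t})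
  have hinj : Function.Injective (LinearMap.rTensor C (LinearMap.lsmul N (N ⧸ Ideal.span {t}) n)) := by
    refine Module.Flat.rTensor_preserves_injective_linearMap _ fun a b hab => ?_
    obtain ⟨a, rfl⟩ := Ideal.Quotient.mk_surjective a
    obtain ⟨b, rfl⟩ := Ideal.Quotient.mk_surjective b
    rw [Ideal.Quotient.eq]
    refine hn _ ?_
    rw [← Ideal.Quotient.eq_zero_iff_mem, map_mul, map_sub, mul_sub, sub_eq_zero]
    exact hab
  have hsmul : ∀ w : (N ⧸ Ideal.span {t}) ⊗[N] C,
      LinearMap.rTensor C (LinearMap.lsmul N (N ⧸ Ideal.span {t}) n) w = n • w := fun w => by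
    induction w using TensorProduct.induction_on with
    | zero => simp
    | add x y hx hy => rw [map_add, smul_add, hx, hy]
    | tmul q c => simp [TensorProduct.smul_tmul']
  have h0 : n • e.symm (Submodule.Quotient.mk z) = 0 := by
    rw [← map_smul, ← Submodule.Quotient.mk_smul, (Submodule.Quotient.mk_eq_zero _).2, map_zero]
    rw [hmem, Algebra.smul_def]
    exact hz
  have h1 : e.symm (Submodule.Quotient.mk z) = 0 := hinj (by rw [map_zero, hsmul]; exact h0)
  rw [← hmem, ← Submodule.Quotient.mk_eq_zero (Ideal.span {t} • ⊤ : Submodule N C)]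
  exact e.symm.injective (h1.trans (map_zero _).symm)

/-- Over a Noetherian normal domain. -/
theorem exists_mul_mem_span_noetherian {N C : Type u} [CommRing N] [IsDomain N] [IsNoetherianRing N]
    [IsIntegrallyClosed N] [CommRing C] [Algebra N C] [Algebra.FiniteType N C] [Module.Flat N C]
    (q : Ideal C) [q.IsPrime] (hq : GRAt N C q) {t : N} (ht : t ≠ 0) {a : C}
    (ha : a * a = algebraMap N C t * a) : ∃ s, s ∉ q ∧ s * a ∈ Ideal.span {algebraMap N C t} := by
  classical
  let Ka : Ideal C :=
    { carrier := {c | ∃ s, s ∉ q ∧ s * (c * a) ∈ Ideal.span {algebraMap N C t}}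
      zero_mem' := ⟨1, fun h => Ideal.IsPrime.ne_top inferInstance ((Ideal.eq_top_iff_one q).2 h), by simp⟩
      add_mem' := by
        rintro c d ⟨s, hs, h⟩ ⟨s', hs', h'⟩
        refine ⟨s * s', fun hm => (Ideal.IsPrime.mem_or_mem inferInstance hm).elim hs hs', ?_⟩
        rw [show s * s' * ((c + d) * a) = s' * (s * (c * a)) + s * (s' * (d * a)) by ring]
        exact add_mem (Ideal.mul_mem_left _ _ h) (Ideal.mul_mem_left _ _ h')
      smul_mem' := by
        rintro r c ⟨s, hs, h⟩
        refine ⟨s, hs, ?_⟩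
        rw [smul_eq_mul, show s * (r * c * a) = r * (s * (c * a)) by ring]
        exact Ideal.mul_mem_left _ _ h }
  let J : Ideal N := Ka.comap (algebraMap N C)
  have hass : ∀ p ∈ associatedPrimes N (N ⧸ Ideal.span {t}), ¬ J ≤ p := by
    intro p hp hJp
    have hp1 : p.height = 1 := S14359.result N t ht p hp
    haveI : p.IsPrime := hp.isPrime
    let S : Submonoid C := q.primeCompl ⊔ Submonoid.map (algebraMap N C).toMonoidHom p.primeCompl
    have hdisj : Disjoint (Ka : Set C) (S : Set C) := by
      rw [Set.disjoint_left]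
      intro c hc hcS
      obtain ⟨s, hs, _, ⟨n, hn, rfl⟩, rfl⟩ := Submonoid.mem_sup.1 hcS
      obtain ⟨s', hs', h⟩ := hc
      refine hn (hJp ⟨s' * s, fun hm => (Ideal.IsPrime.mem_or_mem inferInstance hm).elim hs' hs, ?_⟩)
      rwa [show s' * (s * (algebraMap N C).toMonoidHom n * a) = s' * s * (algebraMap N C n * a) by
        simp [mul_assoc]] at h
    obtain ⟨Q, hQ, hKQ, hQS⟩ := Ideal.exists_le_prime_disjoint Ka S hdisj
    have hQq : Q ≤ q := fun x hx => by
      by_contra hxq
      exact Set.disjoint_left.1 hQS hx (Submonoid.mem_sup_left hxq)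
    have hQp : Q.comap (algebraMap N C) = p := by
      have hle : Q.comap (algebraMap N C) ≤ p := fun x hx => by
        by_contra hxp
        exact Set.disjoint_left.1 hQS hx (Submonoid.mem_sup_right ⟨x, hxp, rfl⟩)
      rcases hle.eq_or_lt with h | h
      · exact h
      exfalso
      have htQ : t ∈ Q.comap (algebraMap N C) := by
        refine hKQ ⟨1, fun h1 => Ideal.IsPrime.ne_top inferInstance ((Ideal.eq_top_iff_one q).2 h1), ?_⟩
        rw [one_mul]
        exact Ideal.mul_mem_right _ _ (Ideal.mem_span_singleton_self _)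
      have h0 : (Q.comap (algebraMap N C)).height ≠ 0 := fun h => ht (by
        rw [Ideal.height_eq_zero_iff_eq_bot] at h
        rw [h, Ideal.mem_bot] at htQ
        exact htQ)
      haveI : (Q.comap (algebraMap N C)).FiniteHeight := inferInstance
      have h2 := Ideal.height_strict_mono_of_isPrime h
      rw [hp1] at h2
      exact h0 (ENat.lt_one_iff_eq_zero.1 h2)
    haveI := hQ
    have hGR : GRAt N C Q := grAt_of_le hq (fun q₀ _ _ _ _ W _ _ _ => torAt_of_flatAlg q₀ W) hQq
    let L := Localization.AtPrime Q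
    have hred : ∀ (K : Type u) [Field K] [Algebra N K] [Algebra p.ResidueField K]
        [IsScalarTower N p.ResidueField K] [Algebra.IsIntegral p.ResidueField K],
        _root_.IsReduced (K ⊗[N] L) := fun K _ _ _ _ _ => by
      refine isReduced_tensor_localization p Q K hQp.symm (fun P _ hP => ?_) Q le_rfl
      refine (grAt_iff_isReduced.1 hGR) K ?_ P hP
      rw [hQp, IsScalarTower.algebraMap_eq N p.ResidueField K, ← RingHom.comap_ker,
        (RingHom.injective_iff_ker_eq_bot _).1 (algebraMap p.ResidueField K).injective]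
      exact Ideal.ext fun x => Ideal.algebraMap_residueField_eq_zero
    have hunit : ∀ x ∉ p, IsUnit (algebraMap N L x) := fun x hx => by
      rw [IsScalarTower.algebraMap_apply N C L]
      exact IsLocalization.map_units L (⟨algebraMap N C x, fun h => hx (hQp.le h)⟩ : Q.primeCompl)
    obtain ⟨-, -, hker⟩ := fibre_local_props p (AlgebraicClosure p.ResidueField) inferInstance L hunit
      (hred (AlgebraicClosure p.ResidueField))
    have hrad : (p.map (algebraMap N L)).IsRadical := by
      rw [← hker]
      haveI := hred p.ResidueField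
      intro z hz
      obtain ⟨m, hm⟩ := hz
      rw [RingHom.mem_ker, map_pow] at hm
      exact IsReduced.eq_zero _ ⟨m, hm⟩
    haveI : IsIntegrallyClosed (Localization.AtPrime p) :=
      isIntegrallyClosed_of_isLocalization _ p.primeCompl p.primeCompl_le_nonZeroDivisors
    haveI : IsNoetherianRing (Localization.AtPrime p) := IsLocalization.isNoetherianRing p.primeCompl _ inferInstance
    haveI : IsDiscreteValuationRing (Localization.AtPrime p) := by
      have hd : ringKrullDim (Localization.AtPrime p) = 1 := by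
        rw [IsLocalization.AtPrime.ringKrullDim_eq_height p, hp1]; rfl
      have hmax : IsLocalRing.maximalIdeal (Localization.AtPrime p) ≠ ⊥ := fun hm => by
        rw [ringKrullDim_eq_zero_of_isField (IsLocalRing.isField_iff_maximalIdeal_eq.2 hm)] at hd
        exact absurd hd.symm one_ne_zero
      haveI : Ring.KrullDimLE 1 (Localization.AtPrime p) := Ring.krullDimLE_iff.2 (by rw [hd]; rfl)
      haveI : IsPrincipalIdealRing (Localization.AtPrime p) :=
        ((tfae_of_isNoetherianRing_of_isLocalRing_of_isDomain (Localization.AtPrime p)).out 3 0 rfl rfl).mp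
          ⟨inferInstance, fun P hP hPp => IsLocalRing.eq_maximalIdeal
            (Ring.krullDimLE_one_iff_of_noZeroDivisors.1 inferInstance P hP hPp)⟩
      exact { not_a_field' := hmax }
    let φ : Localization.AtPrime p →+* L :=
      IsLocalization.lift (M := p.primeCompl) (g := algebraMap N L) fun x => hunit x.1 x.2
    have hφ : φ.comp (algebraMap N (Localization.AtPrime p)) = algebraMap N L := IsLocalization.lift_comp _
    obtain ⟨ϖ, hϖ⟩ := IsDiscreteValuationRing.exists_irreducible (Localization.AtPrime p)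
    have hpL : p.map (algebraMap N L) = Ideal.span {φ ϖ} := by
      rw [← hφ, ← Ideal.map_map, Localization.AtPrime.map_eq_maximalIdeal, hϖ.maximalIdeal_eq,
        Ideal.map_span, Set.image_singleton]
    have hreg : ∀ x : Localization.AtPrime p, x ≠ 0 → ∀ b, φ x * b = 0 → b = 0 := by
      intro x hx b hb
      obtain ⟨y, s, rfl⟩ := IsLocalization.exists_mk'_eq p.primeCompl x
      have hy : y ≠ 0 := fun h => hx (by rw [h]; exact IsLocalization.mk'_zero _)
      have h1 : algebraMap N L y * b = 0 := by
        have h2 : φ (IsLocalization.mk' _ y s) * φ (algebraMap N _ (s : N)) = algebraMap N L y := by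
          rw [← map_mul, IsLocalization.mk'_spec]
          exact congr($hφ y)
        rw [← h2, mul_right_comm, hb, zero_mul]
      haveI : Module.Flat N L := Module.Flat.trans N C L
      have h : IsSMulRegular L (algebraMap N L y) := (IsSMulRegular.of_right_eq_zero_of_smul (fun r hr => by
        simpa [hy] using hr) : IsSMulRegular N y).of_flat
      exact h.right_eq_zero_of_smul h1
    obtain ⟨n, u, hu⟩ := IsDiscreteValuationRing.eq_unit_mul_pow_irreducible
      (x := algebraMap N (Localization.AtPrime p) t)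
      (fun h => ht (IsLocalization.injective _ p.primeCompl_le_nonZeroDivisors (by rw [h, map_zero]))) hϖ
    have hT : algebraMap C L (algebraMap N C t) = φ u * φ ϖ ^ n := by
      rw [← IsScalarTower.algebraMap_apply, ← hφ, RingHom.comp_apply, hu, map_mul, map_pow]
    have h3 := mem_span_pow (v := φ u) (hreg ϖ hϖ.ne_zero) (hpL ▸ hrad) n (algebraMap C L a)
      (by rw [← map_mul, ha, map_mul, hT])
    obtain ⟨d, hd⟩ := Ideal.mem_span_singleton'.1 h3
    have h4 : algebraMap C L a ∈ (Ideal.span {algebraMap N C t}).map (algebraMap C L) := by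
      rw [Ideal.map_span, Set.image_singleton, hT]
      exact Ideal.mem_span_singleton'.2 ⟨d * φ ↑u⁻¹, by
        rw [← hd, show d * φ ↑u⁻¹ * (φ u * φ ϖ ^ n) = d * φ (↑u⁻¹ * ↑u) * φ ϖ ^ n by rw [map_mul]; ring]
        simp⟩
    obtain ⟨s, hs, hsa⟩ := (IsLocalization.algebraMap_mem_map_algebraMap_iff Q.primeCompl L _ _).1 h4
    refine hs (hKQ ⟨1, fun h1 => Ideal.IsPrime.ne_top inferInstance ((Ideal.eq_top_iff_one q).2 h1), ?_⟩)
    rw [one_mul]
    exact hsa
  obtain ⟨n, hnJ, hn⟩ : ∃ n ∈ J, ∀ p ∈ associatedPrimes N (N ⧸ Ideal.span {t}), n ∉ p := by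
    by_contra! hne
    have hfin := associatedPrimes.finite N (N ⧸ Ideal.span {t})
    have hsub : (J : Set N) ⊆ ⋃ p ∈ (hfin.toFinset : Set (Ideal N)), (p : Set N) := fun x hx => by
      obtain ⟨p, hp, hxp⟩ := hne x hx
      exact Set.mem_biUnion (hfin.mem_toFinset.2 hp) hxp
    obtain ⟨p, hp, hJp⟩ := (Ideal.subset_union_prime ⊥ ⊥ fun p hp _ _ =>
      ((hfin.mem_toFinset.1 hp) : IsAssociatedPrime p (N ⧸ Ideal.span {t})).isPrime).1 hsub
    exact hass p (hfin.mem_toFinset.1 hp) hJp
  obtain ⟨s, hs, hsn⟩ := hnJ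
  refine ⟨s, hs, mem_span_of_regular (n := n) (fun x hx => ?_) ?_⟩
  · by_contra hxt
    have hz : n ∈ {r : N | ∃ y : N ⧸ Ideal.span {t}, y ≠ 0 ∧ r • y = 0} := by
      refine ⟨Ideal.Quotient.mk _ x, fun h => hxt (Ideal.Quotient.eq_zero_iff_mem.1 h), ?_⟩
      rw [Algebra.smul_def, Ideal.Quotient.algebraMap_eq, ← map_mul, Ideal.Quotient.eq_zero_iff_mem]
      exact hx
    rw [← biUnion_associatedPrimes_eq_zero_divisors] at hz
    obtain ⟨p, hp, hnp⟩ := Set.mem_iUnion₂.1 hz
    exact hn p hp hnp
  · rwa [mul_left_comm]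

/-- Finitely generated domains over the integers have Noetherian normalisation. -/
theorem finite_normalization (R : Type u) [CommRing R] [IsDomain R] [Algebra.FiniteType ℤ R] :
    Module.Finite R (integralClosure R (FractionRing R)) := by
  letI : Algebra (ULift.{u} ℤ) R := ((algebraMap ℤ R).comp ULift.ringEquiv.toRingHom).toAlgebra
  haveI : Algebra.FiniteType (ULift.{u} ℤ) R := RingHom.finiteType_algebraMap.1
    ((RingHom.finiteType_algebraMap.2 inferInstance).comp
      (RingHom.FiniteType.of_surjective _ ULift.ringEquiv.surjective))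
  haveI : IsDomain (ULift.{u} ℤ) := ULift.ringEquiv.toMulEquiv.isDomain_iff.2 inferInstance
  haveI : CharZero (ULift.{u} ℤ) := ⟨fun a b h => by simpa using congrArg ULift.down h⟩
  haveI : IsDedekindDomain (ULift.{u} ℤ) :=
    haveI : IsPrincipalIdealRing (ULift.{u} ℤ) := IsPrincipalIdealRing.of_surjective
      ULift.ringEquiv.symm.toRingHom ULift.ringEquiv.symm.surjective
    inferInstance
  have hZ : CAlg.IsNagata (ULift.{u} ℤ) := S2656.result _
  have hR : CAlg.IsNagata R := NagataUJ.isNagata_of_finiteType hZ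
  haveI : Algebra.EssFiniteType R (FractionRing R) :=
    Algebra.EssFiniteType.of_isLocalization _ (nonZeroDivisors R)
  exact NagataLib.finite_integralClosure_domain hR (FractionRing R)

set_option backward.isDefEq.respectTransparency false in
/-- **An idempotent of the generic fibre is defined near a point with geometrically reduced fibre.** -/
theorem exists_mul_mem_span {A C : Type u} [CommRing A] [IsDomain A] [IsIntegrallyClosed A] [CommRing C]
    [Algebra A C] [Algebra.FinitePresentation A C] [Module.Flat A C] (q : Ideal C) [q.IsPrime]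
    (hq : GRAt A C q) {t : A} (ht : t ≠ 0) {a : C} (ha : a * a = algebraMap A C t * a) :
    ∃ s, s ∉ q ∧ s * a ∈ Ideal.span {algebraMap A C t} := by
  classical
  obtain ⟨A₀, C₀, _, _, hfg, hflat, hfp, ⟨e⟩⟩ := FppfSource.exists_subalgebra_fg_flat_int A C
  haveI : Algebra.FiniteType ℤ A₀ := (Subalgebra.fg_iff_finiteType A₀).1 hfg
  obtain ⟨T, hT⟩ := TensorProduct.exists_finset (e a)
  let A₁ : Subalgebra A₀ A := Algebra.adjoin A₀ ((insert t (T.image Prod.fst) : Finset A) : Set A)
  haveI : Algebra.FiniteType A₀ A₁ := (Subalgebra.fg_iff_finiteType A₁).1 (Subalgebra.fg_adjoin_finset _)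
  haveI : Algebra.FiniteType ℤ A₁ := Algebra.FiniteType.trans (S := A₀) inferInstance inferInstance
  haveI : IsNoetherianRing A₁ := Algebra.FiniteType.isNoetherianRing ℤ A₁
  let L := FractionRing A₁
  haveI : Module.Finite A₁ (integralClosure A₁ L) := finite_normalization A₁
  let N := integralClosure A₁ L
  haveI : IsNoetherianRing N := IsNoetherianRing.of_finite A₁ N
  haveI : IsIntegrallyClosed N := integralClosure.isIntegrallyClosedOfFiniteExtension L (L := L)
  let j : L →ₐ[A₁] FractionRing A :=
    IsFractionRing.liftAlgHom (g := Algebra.ofId A₁ (FractionRing A))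
      ((IsFractionRing.injective A (FractionRing A)).comp Subtype.val_injective : )
  have hmem : ∀ x : N, j x.1 ∈ (IsScalarTower.toAlgHom A₁ A (FractionRing A)).range := fun x =>
    IsIntegrallyClosed.isIntegral_iff.1 ((x.2.map j).tower_top (A := A))
  let eR := AlgEquiv.ofInjective (IsScalarTower.toAlgHom A₁ A (FractionRing A))
    (IsFractionRing.injective A (FractionRing A))
  let ν : N →ₐ[A₁] A := eR.symm.toAlgHom.comp ((j.comp N.val).codRestrict _ hmem)
  have hν : Function.Injective ν := fun x y h => by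
    have h2 := eR.symm.injective h
    exact Subtype.ext (j.toRingHom.injective (congrArg Subtype.val h2))
  let νA : N →ₐ[A₀] A := ν.restrictScalars A₀
  let μ : N ⊗[A₀] C₀ →ₐ[A₀] A ⊗[A₀] C₀ := Algebra.TensorProduct.map νA (AlgHom.id A₀ C₀)
  have hμ : Function.Injective μ :=
    Module.Flat.rTensor_preserves_injective_linearMap νA.toLinearMap hν
  have hνι : ∀ x : A₁, ν (algebraMap A₁ N x) = (x : A) := fun x => ν.commutes x
  let tN : N := algebraMap A₁ N ⟨t, Algebra.subset_adjoin (Finset.mem_insert_self _ _)⟩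
  have htN : tN ≠ 0 := fun h => ht (by
    have h2 := congrArg ν h
    rwa [hνι, map_zero] at h2)
  have hμt : μ (algebraMap N (N ⊗[A₀] C₀) tN) = e (algebraMap A C t) := by
    rw [e.commutes, Algebra.TensorProduct.algebraMap_apply, Algebra.TensorProduct.algebraMap_apply]
    show (ν (algebraMap A₁ N _) : A) ⊗ₜ[A₀] (1 : C₀) = _
    rw [hνι]
    rfl
  obtain ⟨a₁, ha₁⟩ : ∃ a₁, μ a₁ = e a := by
    refine ⟨∑ x ∈ T.attach, algebraMap A₁ N ⟨x.1.1, Algebra.subset_adjoin
      (Finset.mem_insert_of_mem (Finset.mem_image_of_mem _ x.2))⟩ ⊗ₜ x.1.2, ?_⟩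
    rw [map_sum, hT]
    refine Eq.trans (Finset.sum_congr rfl fun x _ => ?_) (Finset.sum_attach T fun x => x.1 ⊗ₜ[A₀] x.2)
    show (ν (algebraMap A₁ N _) : A) ⊗ₜ[A₀] x.1.2 = _
    rw [hνι]
  have ha₁' : a₁ * a₁ = algebraMap N (N ⊗[A₀] C₀) tN * a₁ := hμ (by
    rw [map_mul, map_mul, hμt, ha₁, ← map_mul, ha, map_mul])
  let qA := q.comap e.symm.toRingEquiv.toRingHom
  let q₁ := qA.comap μ.toRingHom
  have hGR₁ : GRAt N (N ⊗[A₀] C₀) q₁ := by
    refine (grAt_tensor_iff q₁).2 ?_
    rw [show q₁.comap (UnivOpenAt.inr A₀ C₀ N) = qA.comap (UnivOpenAt.inr A₀ C₀ A) by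
      ext d
      show μ (1 ⊗ₜ d) ∈ qA ↔ (1 : A) ⊗ₜ d ∈ qA
      rw [show μ (1 ⊗ₜ d) = νA 1 ⊗ₜ d from rfl, map_one]]
    exact (grAt_tensor_iff qA).1 ((grAt_algEquiv e.symm q).1 hq)
  haveI : Algebra.FiniteType A₀ C₀ := inferInstance
  obtain ⟨s, hs, hst⟩ := exists_mul_mem_span_noetherian (N := N) (C := N ⊗[A₀] C₀) q₁ hGR₁ htN (a := a₁) (by exact ha₁')
  obtain ⟨b, hb⟩ := Ideal.mem_span_singleton'.1 hst
  refine ⟨e.symm (μ s), hs, Ideal.mem_span_singleton'.2 ⟨e.symm (μ b), e.injective ?_⟩⟩
  rw [map_mul, map_mul, AlgEquiv.apply_symm_apply, AlgEquiv.apply_symm_apply, ← hμt, ← ha₁, ← map_mul,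
    ← map_mul, hb]

end Groth.Agent.GeomUnib.NormalIdem
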