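import Groth.Agent.GeomUnib.QFAffineGen

/-!
# Universal openness of quasi-finite maps to affine space, commutative algebra

If torsion vanishes at the generic point of a fibre component of maximal dimension, it vanishes over
affine space at every point of the component where the map to affine space is quasi-finite.
-/

set_option autoImplicit false
set_option linter.style.haveILetI false
set_option linter.unusedSectionVars false
set_option backward.isDefEq.respectTransparency false
set_option maxHeartbeats 4000000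
set_option synthInstance.maxHeartbeats 200000

universe u

open TensorProduct

namespace Groth.Agent.GeomUnib.QFAffine

open UnivOpenAt

/-- Ring homomorphisms out of a tensor product agree if they agree on both factors. -/
theorem ringHom_ext_tmul {R S T U : Type u} [CommRing R] [CommRing S] [CommRing T] [CommRing U] [Algebra R S]
    [Algebra R T] {f g : S ⊗[R] T →+* U} (h1 : ∀ s, f (s ⊗ₜ 1) = g (s ⊗ₜ 1)) (h2 : ∀ t, f (1 ⊗ₜ t) = g (1 ⊗ₜ t))
    (x : S ⊗[R] T) : f x = g x := by
  induction x using TensorProduct.induction_on with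
  | zero => simp
  | tmul a b =>
    have h : a ⊗ₜ[R] b = (a ⊗ₜ 1) * (1 ⊗ₜ b) := by simp
    rw [h, map_mul, map_mul, h1, h2]
  | add a b ha hb => rw [map_add, map_add, ha, hb]

/-- Ring homomorphisms out of a tensor product. -/
theorem exists_lift_ringHom {R S T U : Type u} [CommRing R] [CommRing S] [CommRing T] [CommRing U] [Algebra R S]
    [Algebra R T] (f : S →+* U) (g : T →+* U) (h : ∀ r, f (algebraMap R S r) = g (algebraMap R T r)) :
    ∃ F : S ⊗[R] T →+* U, (∀ s, F (s ⊗ₜ 1) = f s) ∧ ∀ t, F (1 ⊗ₜ t) = g t := by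
  letI : Algebra R U := (g.comp (algebraMap R T)).toAlgebra
  let F : S ⊗[R] T →ₐ[R] U := Algebra.TensorProduct.lift { f with commutes' := h }
    { g with commutes' := fun _ => rfl } fun _ _ => .all _ _
  refine ⟨F.toRingHom, fun s => ?_, fun t => ?_⟩
  · exact (Algebra.TensorProduct.lift_tmul _ _ _ s 1).trans (by rw [map_one, mul_one]; rfl)
  · exact (Algebra.TensorProduct.lift_tmul _ _ _ 1 t).trans (by rw [map_one, one_mul]; rfl)

/-- Torsion freeness at a point gives generisations over the generic point. -/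
theorem exists_le_comap_inl_eq_bot {A B C : Type u} [CommRing A] [CommRing B] [CommRing C] [IsDomain C]
    [Algebra A B] [Algebra A C] {p : Ideal B} (h : TorAt (A := A) p C) (P : Ideal (C ⊗[A] B)) [hP : P.IsPrime]
    (hPp : P.comap (inr A B C) = p) :
    ∃ P₁ : Ideal (C ⊗[A] B), P₁.IsPrime ∧ P₁ ≤ P ∧ P₁.comap (inl A B C) = ⊥ := by
  let M : Submonoid (C ⊗[A] B) := (nonZeroDivisors C).map (inl A B C : C →* C ⊗[A] B) ⊔ P.primeCompl
  have hdisj : Disjoint ((⊥ : Ideal (C ⊗[A] B)) : Set (C ⊗[A] B)) (M : Set (C ⊗[A] B)) := by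
    rw [Set.disjoint_left]
    rintro _ h0 hm
    obtain ⟨_, ⟨s, hs, rfl⟩, v, hv, he⟩ := Submonoid.mem_sup.1 hm
    rw [SetLike.mem_coe, Ideal.mem_bot] at h0
    exact hv (h s v (nonZeroDivisors.ne_zero hs) (he.trans h0) P hP hPp)
  obtain ⟨P₁, hP₁, -, hd⟩ := Ideal.exists_le_prime_disjoint (⊥ : Ideal (C ⊗[A] B)) M hdisj
  refine ⟨P₁, hP₁, fun x hx => ?_, eq_bot_iff.2 fun s hs => Ideal.mem_bot.2 (by_contra fun hs0 => ?_)⟩
  · by_contra hxP
    exact Set.disjoint_left.1 hd hx ((le_sup_right : P.primeCompl ≤ M) hxP)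
  · exact Set.disjoint_left.1 hd hs ((le_sup_left : (nonZeroDivisors C).map (inl A B C : C →* C ⊗[A] B) ≤ M)
      ⟨s, mem_nonZeroDivisors_of_ne_zero hs0, rfl⟩)


section

variable {A B V Ω : Type u} [CommRing A] [CommRing B] [CommRing V] [Field Ω] [Algebra A B] [Algebra A V]
  {σ : Type}

/-- The homomorphism from polynomials over `V` to `V ⊗ B` given by a homomorphism from polynomials over `A`. -/
noncomputable def graphHom (φ : MvPolynomial σ A →ₐ[A] B) (V : Type u) [CommRing V] [Algebra A V] :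
    MvPolynomial σ V →ₐ[V] V ⊗[A] B :=
  MvPolynomial.aeval fun i => (1 : V) ⊗ₜ[A] φ (MvPolynomial.X i)

theorem graphHom_C (φ : MvPolynomial σ A →ₐ[A] B) (v : V) :
    (graphHom φ V).toRingHom (MvPolynomial.C v) = v ⊗ₜ[A] (1 : B) :=
  MvPolynomial.aeval_C _ v

theorem graphHom_X (φ : MvPolynomial σ A →ₐ[A] B) (i : σ) :
    (graphHom φ V).toRingHom (MvPolynomial.X i) = (1 : V) ⊗ₜ[A] φ (MvPolynomial.X i) :=
  MvPolynomial.aeval_X _ _

/-- A prime of `V ⊗ B` over the generic points of the fibres of affine space and of `B`. -/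
theorem exists_prime_over_generic [IsLocalRing V] (φ : MvPolynomial σ A →ₐ[A] B) (qz q : Ideal B) [qz.IsPrime]
    [q.IsPrime] (hle : qz ≤ q) (hp : qz.comap (algebraMap A B) = q.comap (algebraMap A B))
    (hgen : qz.comap φ.toRingHom =
      RingHom.ker (MvPolynomial.map (σ := σ) (Ideal.Quotient.mk (q.comap (algebraMap A B)))))
    (qV : IsLocalRing.ResidueField V →+* Ω) (μB : B →+* Ω) (hμB : RingHom.ker μB = q)
    (hAV : ∀ a, qV (IsLocalRing.residue V (algebraMap A V a)) = μB (algebraMap A B a)) (t : σ → V)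
    (ht : ∀ i, qV (IsLocalRing.residue V (t i)) = μB (φ (MvPolynomial.X i)))
    (μD : V ⊗[A] B →+* Ω) (hμD1 : ∀ v, μD (v ⊗ₜ[A] (1 : B)) = qV (IsLocalRing.residue V v))
    (hμD2 : ∀ b, μD ((1 : V) ⊗ₜ[A] b) = μB b) :
    ∃ Pz : Ideal (V ⊗[A] B), Pz.IsPrime ∧ Pz ≤ RingHom.ker μD ∧ Pz.comap (inr A B V) = qz ∧
      Pz.comap (graphHom φ V).toRingHom = RingHom.ker (MvPolynomial.map (σ := σ) (IsLocalRing.residue V)) := by
  let D := V ⊗[A] B
  let kV := IsLocalRing.ResidueField V
  let μV : V →+* Ω := qV.comp (IsLocalRing.residue V)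
  let p := q.comap (algebraMap A B)
  let ρ : A ⧸ p →+* kV := Ideal.Quotient.lift p ((IsLocalRing.residue V).comp (algebraMap A V)) fun a ha => by
    refine qV.injective ((?_ : μV (algebraMap A V a) = 0).trans (map_zero qV).symm)
    rw [show μV (algebraMap A V a) = μB (algebraMap A B a) from hAV a]
    exact (hμB.ge ha : algebraMap A B a ∈ RingHom.ker μB)
  have hρ : Function.Injective ρ := by
    refine RingHom.lift_injective_of_ker_le_ideal _ _ fun a ha => hμB.le ?_
    rw [RingHom.mem_ker, ← hAV]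
    show qV _ = 0
    rw [show IsLocalRing.residue V (algebraMap A V a) = 0 from ha, map_zero]
  letI : Algebra (A ⧸ p) kV := ρ.toAlgebra
  haveI : FaithfulSMul (A ⧸ p) kV := (faithfulSMul_iff_algebraMap_injective _ _).2 hρ
  letI : Algebra (FractionRing (A ⧸ p)) kV := FractionRing.liftAlgebra (A ⧸ p) kV
  haveI : Module.Flat (A ⧸ p) (FractionRing (A ⧸ p)) :=
    IsLocalization.flat _ (nonZeroDivisors (A ⧸ p))
  haveI : Module.Flat (A ⧸ p) kV := Module.Flat.trans (A ⧸ p) (FractionRing (A ⧸ p)) kV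
  letI : Algebra (MvPolynomial σ (A ⧸ p)) (MvPolynomial σ kV) := MvPolynomial.algebraMvPolynomial
  haveI : Module.Flat (MvPolynomial σ (A ⧸ p)) (MvPolynomial σ kV) :=
    Module.Flat.isBaseChange (A ⧸ p) (MvPolynomial σ (A ⧸ p)) kV _
      (Algebra.IsPushout.out (R := A ⧸ p) (S := MvPolynomial σ (A ⧸ p)) (R' := kV) (S' := MvPolynomial σ kV))
  let eC : A ⧸ p →+* B ⧸ qz := Ideal.quotientMap qz (algebraMap A B) hp.ge
  let χ : MvPolynomial σ (A ⧸ p) →+* B ⧸ qz :=
    MvPolynomial.eval₂Hom eC fun i => Ideal.Quotient.mk qz (φ (MvPolynomial.X i))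
  have hχ : χ.comp (MvPolynomial.map (Ideal.Quotient.mk p)) = (Ideal.Quotient.mk qz).comp φ.toRingHom := by
    refine MvPolynomial.ringHom_ext (fun a => ?_) fun i => ?_
    · simp only [χ, RingHom.comp_apply, MvPolynomial.map_C, MvPolynomial.eval₂Hom_C]
      rw [Ideal.quotientMap_mk]
      exact congrArg _ (φ.commutes a).symm
    · simp only [χ, RingHom.comp_apply, MvPolynomial.map_X, MvPolynomial.eval₂Hom_X']
      rfl
  have hχinj : Function.Injective χ := (injective_iff_map_eq_zero χ).2 fun x hx => by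
    obtain ⟨y, rfl⟩ := MvPolynomial.map_surjective _ Ideal.Quotient.mk_surjective x
    exact hgen.le (show y ∈ qz.comap φ.toRingHom from
      (Ideal.Quotient.eq_zero_iff_mem (I := qz)).1 ((RingHom.congr_fun hχ y).symm.trans hx))
  letI : Algebra (MvPolynomial σ (A ⧸ p)) (B ⧸ qz) := χ.toAlgebra
  let G := MvPolynomial σ kV ⊗[MvPolynomial σ (A ⧸ p)] (B ⧸ qz)
  let iS : MvPolynomial σ kV →+* G := inl (MvPolynomial σ (A ⧸ p)) (B ⧸ qz) (MvPolynomial σ kV)
  let iC : B ⧸ qz →+* G := inr (MvPolynomial σ (A ⧸ p)) (B ⧸ qz) (MvPolynomial σ kV)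
  have hiSC : ∀ x, iS (MvPolynomial.map ρ x) = iC (χ x) := fun x =>
    ((Algebra.TensorProduct.includeRight (R := MvPolynomial σ (A ⧸ p)) (A := MvPolynomial σ kV)
      (B := B ⧸ qz)).commutes x).symm
  obtain ⟨μG, hμG1, hμG2⟩ : ∃ μG : G →+* Ω,
      (∀ x, μG (iS x) = MvPolynomial.eval₂Hom qV (fun i => μV (t i)) x) ∧
      ∀ b, μG (iC (Ideal.Quotient.mk qz b)) = μB b := by
    let lC : B ⧸ qz →+* Ω := Ideal.Quotient.lift qz μB fun b hb => (hμB.ge (hle hb) : b ∈ RingHom.ker μB)
    have hcomm : lC.comp χ = (MvPolynomial.eval₂Hom qV fun i => μV (t i)).comp (MvPolynomial.map ρ) := by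
      refine MvPolynomial.ringHom_ext (fun a => ?_) fun i => ?_
      · obtain ⟨a, rfl⟩ := Ideal.Quotient.mk_surjective a
        simp only [χ, RingHom.comp_apply, MvPolynomial.map_C, MvPolynomial.eval₂Hom_C]
        rw [Ideal.quotientMap_mk, Ideal.Quotient.lift_mk, Ideal.Quotient.lift_mk, ← hAV]
        rfl
      · simp only [χ, RingHom.comp_apply, MvPolynomial.map_X, MvPolynomial.eval₂Hom_X']
        rw [Ideal.Quotient.lift_mk]
        exact (ht i).symm
    obtain ⟨F, hF1, hF2⟩ := exists_lift_ringHom (R := MvPolynomial σ (A ⧸ p)) (S := MvPolynomial σ kV) (T := B ⧸ qz)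
      (MvPolynomial.eval₂Hom qV fun i => μV (t i)) lC fun x => (RingHom.congr_fun hcomm x).symm
    exact ⟨F, hF1, fun b => (hF2 _).trans rfl⟩
  haveI : (RingHom.ker μG).IsPrime := RingHom.ker_isPrime _
  obtain ⟨P₀, hP₀, hP₀le, hP₀S, hP₀C⟩ := exists_generic_prime (MvPolynomial σ (A ⧸ p)) (MvPolynomial σ kV)
    (B ⧸ qz) hχinj (RingHom.ker μG)
  obtain ⟨δ, hδ1, hδ2⟩ : ∃ δ : D →+* G,
      (∀ v, δ (v ⊗ₜ[A] (1 : B)) = iS (MvPolynomial.C (IsLocalRing.residue V v))) ∧
      ∀ b, δ ((1 : V) ⊗ₜ[A] b) = iC (Ideal.Quotient.mk qz b) := by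
    have hc : ∀ a : A, iS (MvPolynomial.C (IsLocalRing.residue V (algebraMap A V a))) =
        iC (Ideal.Quotient.mk qz (algebraMap A B a)) := fun a => by
      have h := hiSC (MvPolynomial.C (Ideal.Quotient.mk p a))
      rw [MvPolynomial.map_C] at h
      exact h.trans (congrArg iC ((MvPolynomial.eval₂Hom_C _ _ _).trans Ideal.quotientMap_mk))
    exact exists_lift_ringHom ((iS.comp MvPolynomial.C).comp (IsLocalRing.residue V))
      (iC.comp (Ideal.Quotient.mk qz)) hc
  haveI := hP₀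
  refine ⟨P₀.comap δ, inferInstance, fun x hx => ?_, ?_, ?_⟩
  · have h : μG (δ x) = μD x := ringHom_ext_tmul (f := μG.comp δ)
      (fun v => by rw [RingHom.comp_apply, hδ1, hμG1, MvPolynomial.eval₂Hom_C, hμD1])
      (fun b => by rw [RingHom.comp_apply, hδ2, hμG2, hμD2]) x
    exact RingHom.mem_ker.2 (h.symm.trans (hP₀le hx))
  · ext b
    rw [Ideal.mem_comap, Ideal.mem_comap, show inr A B V b = (1 : V) ⊗ₜ[A] b from rfl, hδ2,
      ← Ideal.Quotient.eq_zero_iff_mem (I := qz)]
    exact (SetLike.ext_iff.1 hP₀C _).trans Ideal.mem_bot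
  · have h : δ.comp (graphHom φ V).toRingHom = iS.comp (MvPolynomial.map (IsLocalRing.residue V)) := by
      refine MvPolynomial.ringHom_ext (fun v => ?_) fun i => ?_
      · simp only [RingHom.comp_apply, MvPolynomial.map_C]
        rw [show (graphHom φ V).toRingHom (MvPolynomial.C v) = v ⊗ₜ[A] (1 : B) from graphHom_C _ _, hδ1]
      · simp only [RingHom.comp_apply, MvPolynomial.map_X]
        rw [show (graphHom φ V).toRingHom (MvPolynomial.X i) = (1 : V) ⊗ₜ[A] φ (MvPolynomial.X i) from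
          graphHom_X _ _, hδ2]
        have h := hiSC (MvPolynomial.X i)
        rw [MvPolynomial.map_X] at h
        exact (h.trans (congrArg iC (MvPolynomial.eval₂Hom_X' _ _ _))).symm
    rw [Ideal.comap_comap, h, ← Ideal.comap_comap, hP₀S]
    rfl

/-- Quasi-finiteness passes to quotients of base changes. -/
theorem quasiFiniteAt_of_adjoin_eq_top {T R B D : Type u} [CommRing T] [CommRing R] [CommRing B] [CommRing D]
    [Algebra T B] [Algebra R D] (ρ : T →+* R) (g : B →+* D)
    (hcomm : ∀ x, g (algebraMap T B x) = algebraMap R D (ρ x)) (hsurj : Algebra.adjoin R (Set.range g) = ⊤)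
    (q : Ideal B) [q.IsPrime] [Algebra.QuasiFiniteAt T q] (P : Ideal D) [P.IsPrime] (hP : P.comap g = q) :
    Algebra.QuasiFiniteAt R P := by
  letI : Algebra T R := ρ.toAlgebra
  letI : Algebra T D := (g.comp (algebraMap T B)).toAlgebra
  haveI : IsScalarTower T R D := IsScalarTower.of_algebraMap_eq (R := T) (S := R) (A := D) hcomm
  let l : R ⊗[T] B →ₐ[R] D := Algebra.TensorProduct.lift (Algebra.ofId _ _)
    { g with commutes' := fun _ => rfl } fun _ _ => .all _ _
  have hl : ∀ b, l (1 ⊗ₜ b) = g b := fun b =>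
    (Algebra.TensorProduct.lift_tmul _ _ _ 1 b).trans (by rw [map_one, one_mul]; rfl)
  have hls : Function.Surjective l := AlgHom.range_eq_top l |>.1 <| top_le_iff.1 <| hsurj ▸
    Algebra.adjoin_le (by rintro _ ⟨b, rfl⟩; exact ⟨_, hl b⟩)
  haveI : (P.comap l.toRingHom).IsPrime := inferInstance
  haveI : Algebra.QuasiFiniteAt R (P.comap l.toRingHom) := by
    refine Algebra.QuasiFiniteAt.baseChange q _ ?_
    ext b
    rw [← hP]
    show g b ∈ P ↔ l (1 ⊗ₜ b) ∈ P
    rw [hl]
  exact .of_surjectiveOnStalks (P.comap l.toRingHom) l (RingHom.surjectiveOnStalks_of_surjective hls) _ rfl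

/-- Going down along the graph of a point of affine space. -/
theorem exists_prime_over_point [IsDomain V] [IsIntegrallyClosed V] [Algebra.FiniteType A B] [Finite σ]
    (φ : MvPolynomial σ A →ₐ[A] B) (q : Ideal B) [q.IsPrime]
    (hqf : letI := φ.toRingHom.toAlgebra; Algebra.QuasiFiniteAt (MvPolynomial σ A) q)
    (μD : V ⊗[A] B →+* Ω) (hμD2 : RingHom.ker (μD.comp (inr A B V)) = q)
    (Pw : Ideal (V ⊗[A] B)) [Pw.IsPrime] (hPw : Pw ≤ RingHom.ker μD)
    (hPwR : Pw.comap (graphHom φ V).toRingHom = ⊥)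
    (J : Ideal (MvPolynomial σ V)) [J.IsPrime] (hJ : J ≤ (RingHom.ker μD).comap (graphHom φ V).toRingHom) :
    ∃ P₁ : Ideal (V ⊗[A] B), P₁.IsPrime ∧ P₁ ≤ RingHom.ker μD ∧ P₁.comap (graphHom φ V).toRingHom = J := by
  letI : Algebra (MvPolynomial σ A) B := φ.toRingHom.toAlgebra
  letI : Algebra (MvPolynomial σ V) (V ⊗[A] B) := (graphHom φ V).toRingHom.toAlgebra
  haveI : IsScalarTower V (MvPolynomial σ V) (V ⊗[A] B) :=
    IsScalarTower.of_algebraMap_eq fun v => (graphHom_C φ v).symm
  haveI : Algebra.FiniteType (MvPolynomial σ V) (V ⊗[A] B) := .of_restrictScalars_finiteType V _ _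
  haveI : Algebra.FiniteType (MvPolynomial σ V) ((V ⊗[A] B) ⧸ Pw) :=
    .of_surjective (IsScalarTower.toAlgHom (MvPolynomial σ V) (V ⊗[A] B) _) Ideal.Quotient.mk_surjective
  haveI : FaithfulSMul (MvPolynomial σ V) ((V ⊗[A] B) ⧸ Pw) := (faithfulSMul_iff_algebraMap_injective _ _).2
    ((injective_iff_map_eq_zero (algebraMap (MvPolynomial σ V) ((V ⊗[A] B) ⧸ Pw))).2 fun x hx =>
      Ideal.mem_bot.1 (hPwR.le (show x ∈ Pw.comap (graphHom φ V).toRingHom from
        (Ideal.Quotient.eq_zero_iff_mem (I := Pw)).1 hx)))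
  haveI : IsIntegrallyClosed (MvPolynomial σ V) := by
    haveI := AICPoint.isIntegrallyClosed_mvPolynomial V (Nat.card σ)
    exact IsIntegrallyClosed.of_equiv (MvPolynomial.renameEquiv V (Finite.equivFin σ)).symm.toRingEquiv
  let μD' : (V ⊗[A] B) ⧸ Pw →+* Ω := Ideal.Quotient.lift Pw μD fun x hx => hPw hx
  haveI : (RingHom.ker μD').IsPrime := RingHom.ker_isPrime _
  haveI : Algebra.QuasiFiniteAt (MvPolynomial σ A) q := hqf
  haveI : Algebra.QuasiFiniteAt (MvPolynomial σ V) (RingHom.ker μD') := by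
    refine quasiFiniteAt_of_adjoin_eq_top (MvPolynomial.map (algebraMap A V))
      ((Ideal.Quotient.mk Pw).comp (inr A B V)) (fun x => ?_) ?_ q _ hμD2
    · have h : (inr A B V).comp φ.toRingHom = (graphHom φ V).toRingHom.comp (MvPolynomial.map (algebraMap A V)) := by
        refine MvPolynomial.ringHom_ext (fun a => ?_) fun i => ?_
        · rw [RingHom.comp_apply, RingHom.comp_apply, MvPolynomial.map_C, graphHom_C,
            show φ.toRingHom (MvPolynomial.C a) = algebraMap A B a from φ.commutes a]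
          exact (Algebra.TensorProduct.includeRight (R := A) (A := V) (B := B)).commutes a
        · rw [RingHom.comp_apply, RingHom.comp_apply, MvPolynomial.map_X, graphHom_X]
          rfl
      exact congrArg (Ideal.Quotient.mk Pw) (RingHom.congr_fun h x)
    · refine top_le_iff.1 fun x _ => ?_
      obtain ⟨y, rfl⟩ := Ideal.Quotient.mk_surjective x
      induction y using TensorProduct.induction_on with
      | zero => rw [map_zero]; exact zero_mem _
      | tmul v b =>
        have h : v ⊗ₜ[A] b = (graphHom φ V).toRingHom (MvPolynomial.C v) * ((1 : V) ⊗ₜ[A] b) := by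
          rw [graphHom_C]; simp
        rw [h, map_mul]
        exact mul_mem (Subalgebra.algebraMap_mem _ _) (Algebra.subset_adjoin ⟨b, rfl⟩)
      | add a b ha hb => rw [map_add]; exact add_mem (ha trivial) (hb trivial)
  obtain ⟨Q, hQ, hQle, hQJ⟩ := exists_le_comap_eq_of_quasiFiniteAt (RingHom.ker μD') J fun x hx => hJ hx
  refine ⟨Q.comap (Ideal.Quotient.mk Pw), inferInstance, fun x hx => hQle hx, ?_⟩
  rw [Ideal.comap_comap]
  exact hQJ

end

/-- Pushing a generisation condition to affine space along a map quasi-finite at the point. -/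
theorem torAt_quasiFiniteAt {A B : Type u} [CommRing A] [CommRing B] [Algebra A B] [Algebra.FiniteType A B]
    {σ : Type} [Finite σ] (φ : MvPolynomial σ A →ₐ[A] B) (qz q : Ideal B) [qz.IsPrime] [q.IsPrime]
    (hle : qz ≤ q) (hp : qz.comap (algebraMap A B) = q.comap (algebraMap A B))
    (hgen : qz.comap φ.toRingHom =
      RingHom.ker (MvPolynomial.map (σ := σ) (Ideal.Quotient.mk (q.comap (algebraMap A B)))))
    (hqf : letI := φ.toRingHom.toAlgebra; Algebra.QuasiFiniteAt (MvPolynomial σ A) q)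
    (htor : ∀ (W : Type u) [CommRing W] [IsDomain W] [Algebra A W], TorAt (A := A) qz W) :
    letI := φ.toRingHom.toAlgebra
    ∀ (W : Type u) [CommRing W] [IsDomain W] [Algebra (MvPolynomial σ A) W],
      TorAt (A := MvPolynomial σ A) q W := by
  intro W _ _ _
  letI := φ.toRingHom.toAlgebra
  haveI : IsScalarTower A (MvPolynomial σ A) B :=
    IsScalarTower.of_algebraMap_eq fun a => (φ.commutes a).symm
  refine torAt_of_bot_mem_image (A := MvPolynomial σ A) (B := B) (C := W) fun u P hPq hu => ?_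
  letI : Algebra A W := ((algebraMap (MvPolynomial σ A) W).comp (algebraMap A (MvPolynomial σ A))).toAlgebra
  -- the valuation ring
  set 𝔭 := P.asIdeal.comap (inl (MvPolynomial σ A) B W) with h𝔭
  let L := FractionRing W
  let W𝔭 := Localization.AtPrime 𝔭
  let f : W𝔭 →+* L := IsLocalization.lift (M := 𝔭.primeCompl) (g := algebraMap W L) fun y =>
    isUnit_iff_ne_zero.2 fun h => y.2 (by
      rw [IsFractionRing.to_map_eq_zero_iff] at h
      rw [h]
      exact 𝔭.zero_mem)
  obtain ⟨V, hV, hloc⟩ := IsLocalRing.exists_factor_valuationRing f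
  let g : W𝔭 →+* V := f.codRestrict V.toSubring hV
  haveI : IsLocalHom g := hloc
  let gW : W →+* V := g.comp (algebraMap W W𝔭)
  have hgW : ∀ w, ((gW w : V) : L) = algebraMap W L w := fun w => IsLocalization.lift_eq _ w
  have hgWinj : Function.Injective gW := fun a b h =>
    IsFractionRing.injective W L (by rw [← hgW, ← hgW, h])
  let kV := IsLocalRing.ResidueField V
  obtain ⟨Ω, _, pP, qV, hpq⟩ := GeomFibre.exists_common_field 𝔭.ResidueField P.asIdeal.ResidueField kV
    (Ideal.ResidueField.map 𝔭 P.asIdeal (inl (MvPolynomial σ A) B W) rfl) (IsLocalRing.ResidueField.map g)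
  let μT : W ⊗[MvPolynomial σ A] B →+* Ω := pP.comp (algebraMap _ P.asIdeal.ResidueField)
  have hμT : RingHom.ker μT = P.asIdeal := by
    ext x
    rw [RingHom.mem_ker, RingHom.comp_apply, map_eq_zero, Ideal.algebraMap_residueField_eq_zero]
  let μV : V →+* Ω := qV.comp (IsLocalRing.residue V)
  have hWV : ∀ w, μT (inl (MvPolynomial σ A) B W w) = μV (gW w) := fun w => by
    have h := RingHom.congr_fun hpq (algebraMap W 𝔭.ResidueField w)
    rw [RingHom.comp_apply, RingHom.comp_apply, Ideal.ResidueField.map_algebraMap] at h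
    exact h.trans rfl
  let μB : B →+* Ω := μT.comp (inr (MvPolynomial σ A) B W)
  have hμB : RingHom.ker μB = q := by
    rw [← hPq, ← hμT]
    rfl
  have hTB : ∀ x : MvPolynomial σ A, μB (φ x) = μV (gW (algebraMap (MvPolynomial σ A) W x)) := fun x => by
    rw [← hWV]
    exact congrArg μT ((Algebra.TensorProduct.includeRight (R := MvPolynomial σ A) (A := W) (B := B)).commutes x)
  letI algAV : Algebra A V := (gW.comp (algebraMap A W)).toAlgebra
  have hAV : ∀ a : A, μV (algebraMap A V a) = μB (algebraMap A B a) := fun a => by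
    rw [← φ.commutes a, hTB]
    rfl
  let t : σ → V := fun i => gW (algebraMap (MvPolynomial σ A) W (MvPolynomial.X i))
  -- the algebras
  let D := V ⊗[A] B
  let ψ : MvPolynomial σ V →ₐ[V] D := graphHom φ V
  obtain ⟨μD, hμD1, hμD2⟩ : ∃ μD : D →+* Ω, (∀ v, μD (v ⊗ₜ[A] (1 : B)) = μV v) ∧
      ∀ b, μD ((1 : V) ⊗ₜ[A] b) = μB b := exists_lift_ringHom μV μB hAV
  have hψX : ∀ i, μD (ψ (MvPolynomial.X i)) = μV (t i) := fun i => by
    rw [show ψ (MvPolynomial.X i) = (1 : V) ⊗ₜ[A] φ (MvPolynomial.X i) from graphHom_X φ i, hμD2, hTB]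
  -- a prime over the generic points
  obtain ⟨Pz, hPz, hPzD, hPzq, hPzR⟩ := exists_prime_over_generic φ qz q hle hp hgen qV μB hμB hAV t
    (fun i => (hTB _).symm) μD hμD1 hμD2
  -- a component over the generic point
  obtain ⟨Pw, hPw, hPwz, hPwV⟩ := exists_le_comap_inl_eq_bot (htor V) Pz hPzq
  haveI := hPw
  have hPwR : Pw.comap ψ.toRingHom = ⊥ := by
    refine eq_bot_of_le_ker_map (IsLocalRing.residue V) _ (fun x hx => hPzR.le (hPwz hx)) ?_
    rw [Ideal.comap_comap, show ψ.toRingHom.comp MvPolynomial.C = inl A B V from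
      RingHom.ext fun v => graphHom_C φ v, hPwV]
  -- going down along the graph
  let J : Ideal (MvPolynomial σ V) := RingHom.ker (MvPolynomial.eval t)
  haveI : J.IsPrime := RingHom.ker_isPrime _
  have hψC : ∀ v, ψ.toRingHom (MvPolynomial.C v) = v ⊗ₜ[A] (1 : B) := graphHom_C φ
  obtain ⟨P₁, hP₁, hP₁D, hP₁R⟩ := exists_prime_over_point φ q hqf μD
    (by rw [← hμB]; congr 1; exact RingHom.ext hμD2) Pw (fun x hx => hPzD (hPwz hx)) hPwR J fun x hx => by
      show μD (ψ x) = 0
      have h : μD.comp ψ.toRingHom = μV.comp (MvPolynomial.eval t) := by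
        refine MvPolynomial.ringHom_ext (fun v => ?_) fun i => ?_
        · rw [RingHom.comp_apply, RingHom.comp_apply, MvPolynomial.eval_C, hψC, hμD1]
        · rw [RingHom.comp_apply, RingHom.comp_apply, MvPolynomial.eval_X]
          exact hψX i
      exact (RingHom.congr_fun h x).trans (by rw [RingHom.comp_apply, RingHom.mem_ker.1 hx, map_zero])
  -- back to the tensor product over affine space
  haveI := hP₁
  let M := D ⧸ P₁
  have hgr : ∀ i, Ideal.Quotient.mk P₁ ((1 : V) ⊗ₜ[A] φ (MvPolynomial.X i)) =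
      Ideal.Quotient.mk P₁ (t i ⊗ₜ[A] (1 : B)) := fun i => by
    refine Ideal.Quotient.eq.2 ?_
    have h : MvPolynomial.X i - MvPolynomial.C (t i) ∈ J := by
      rw [RingHom.mem_ker, map_sub, MvPolynomial.eval_X, MvPolynomial.eval_C, sub_self]
    have h' := hP₁R.ge h
    rw [Ideal.mem_comap, map_sub] at h'
    rw [hψC] at h'
    rwa [show ψ.toRingHom (MvPolynomial.X i) = (1 : V) ⊗ₜ[A] φ (MvPolynomial.X i) from
      graphHom_X _ _] at h'
  obtain ⟨m, hm1, hm2⟩ : ∃ m : W ⊗[MvPolynomial σ A] B →+* M,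
      (∀ w, m (w ⊗ₜ (1 : B)) = Ideal.Quotient.mk P₁ (gW w ⊗ₜ[A] (1 : B))) ∧
      ∀ b, m ((1 : W) ⊗ₜ b) = Ideal.Quotient.mk P₁ ((1 : V) ⊗ₜ[A] b) := by
    have h : ((Ideal.Quotient.mk P₁).comp (inl A B V)).comp (gW.comp (algebraMap (MvPolynomial σ A) W)) =
        ((Ideal.Quotient.mk P₁).comp (inr A B V)).comp φ.toRingHom := by
      refine MvPolynomial.ringHom_ext (fun a => ?_) fun i => ?_
      · show Ideal.Quotient.mk P₁ (algebraMap A V a ⊗ₜ[A] (1 : B)) =
          Ideal.Quotient.mk P₁ ((1 : V) ⊗ₜ[A] φ (MvPolynomial.C a))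
        rw [show φ (MvPolynomial.C a) = algebraMap A B a from φ.commutes a]
        exact congrArg _ ((Algebra.TensorProduct.includeRight (R := A) (A := V) (B := B)).commutes a).symm
      · exact (hgr i).symm
    exact exists_lift_ringHom (((Ideal.Quotient.mk P₁).comp (inl A B V)).comp gW)
      ((Ideal.Quotient.mk P₁).comp (inr A B V)) fun x => RingHom.congr_fun h x
  refine ⟨⟨RingHom.ker m, RingHom.ker_isPrime _⟩, fun hmu => hu ?_, eq_bot_iff.2 fun w hw => ?_⟩
  · let μM : M →+* Ω := Ideal.Quotient.lift P₁ μD fun x hx => hP₁D hx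
    have h : μM (m u) = μT u := ringHom_ext_tmul (f := μM.comp m)
      (fun w => by rw [RingHom.comp_apply, hm1, Ideal.Quotient.lift_mk, hμD1, ← hWV]; rfl)
      (fun b => by rw [RingHom.comp_apply, hm2, Ideal.Quotient.lift_mk, hμD2]; rfl) u
    rw [← hμT, RingHom.mem_ker, ← h, RingHom.mem_ker.1 hmu, map_zero]
  · rw [Ideal.mem_comap, RingHom.mem_ker] at hw
    have h1 : gW w ⊗ₜ[A] (1 : B) ∈ P₁ := Ideal.Quotient.eq_zero_iff_mem.1 ((hm1 w).symm.trans hw)
    have h2 : MvPolynomial.C (gW w) ∈ J := by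
      rw [← hP₁R, Ideal.mem_comap, hψC]
      exact h1
    rw [RingHom.mem_ker, MvPolynomial.eval_C] at h2
    exact Ideal.mem_bot.2 (hgWinj (h2.trans (map_zero gW).symm))

end Groth.Agent.GeomUnib.QFAffine
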