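import Mathlib
import Groth.Agent.UnivOpenAt.Core
import Groth.Agent.GeomFibre.Descent
import Groth.Agent.AICPoint.Root

/-!
# Generisations through quasi-finite maps to affine space

Steps towards universal openness of a quasi-finite morphism to affine space: generic points of components
of base-changed fibres, ideals of polynomials over valuation rings and going down for quasi-finite
domains over normal domains.
-/

set_option autoImplicit false
set_option linter.style.haveILetI false
set_option linter.unusedSectionVars false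
set_option backward.isDefEq.respectTransparency false
set_option maxHeartbeats 1000000
set_option synthInstance.maxHeartbeats 100000

universe u

open TensorProduct

namespace Groth.Agent.GeomUnib.QFAffine

open UnivOpenAt

/-- Below every prime of a flat base change of a domain lies a prime over both generic points. -/
theorem exists_generic_prime (S S' C : Type u) [CommRing S] [IsDomain S] [CommRing S'] [IsDomain S']
    [CommRing C] [IsDomain C] [Algebra S S'] [Algebra S C] [Module.Flat S S']
    (hinj : Function.Injective (algebraMap S C)) (P : Ideal (S' ⊗[S] C)) [P.IsPrime] :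
    ∃ P₀ : Ideal (S' ⊗[S] C), P₀.IsPrime ∧ P₀ ≤ P ∧ P₀.comap (inl S C S') = ⊥ ∧ P₀.comap (inr S C S') = ⊥ := by
  let L := FractionRing C
  let F := FractionRing S
  haveI : FaithfulSMul S L := by
    rw [faithfulSMul_iff_algebraMap_injective, IsScalarTower.algebraMap_eq S C L]
    exact (IsFractionRing.injective C L).comp hinj
  letI : Algebra F L := FractionRing.liftAlgebra S L
  haveI : Module.Flat S F := IsLocalization.flat F (nonZeroDivisors S)
  haveI : Module.Flat S L := Module.Flat.trans S F L
  obtain ⟨P₀, hP₀, hle⟩ := Ideal.exists_minimalPrimes_le (I := (⊥ : Ideal (S' ⊗[S] C))) (J := P) bot_le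
  haveI := hP₀.1.1
  refine ⟨P₀, hP₀.1.1, hle, ?_, ?_⟩
  · refine eq_bot_iff.2 fun a ha => Ideal.mem_bot.2 (by_contra fun ha0 => ?_)
    refine Ideal.disjoint_nonZeroDivisors_of_mem_minimalPrimes hP₀ |>.notMem_of_mem_left ha ?_
    rw [SetLike.mem_coe, mem_nonZeroDivisors_iff_right]
    intro v hv
    let j := Algebra.TensorProduct.map (AlgHom.id S S') (IsScalarTower.toAlgHom S C L)
    have hj : Function.Injective j :=
      Module.Flat.lTensor_preserves_injective_linearMap (M := S') (IsScalarTower.toAlgHom S C L).toLinearMap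
        (IsFractionRing.injective C L)
    refine hj ((map_zero j).symm ▸ ?_)
    have hreg : IsSMulRegular (S' ⊗[S] L) a := Module.Flat.isSMulRegular_of_isRegular (IsRegular.of_ne_zero ha0)
    refine hreg ?_
    have h1 := congrArg j hv
    rw [map_mul, map_zero, show j (inl S C S' a) = a ⊗ₜ[S] (1 : L) by simp [j, inl]] at h1
    show a • j v = a • 0
    rw [smul_zero, Algebra.smul_def, Algebra.TensorProduct.algebraMap_apply, Algebra.algebraMap_self,
      RingHom.id_apply, mul_comm]
    exact h1
  · refine eq_bot_iff.2 fun c hc => Ideal.mem_bot.2 (by_contra fun hc0 => ?_)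
    refine Ideal.disjoint_nonZeroDivisors_of_mem_minimalPrimes hP₀ |>.notMem_of_mem_left hc ?_
    rw [SetLike.mem_coe, mem_nonZeroDivisors_iff_right]
    intro v hv
    have hinjc : Function.Injective (LinearMap.lTensor S' (LinearMap.mulLeft S c)) :=
      Module.Flat.lTensor_preserves_injective_linearMap (LinearMap.mulLeft S c) (mul_right_injective₀ hc0)
    refine hinjc (Eq.trans ?_ (map_zero _).symm)
    rw [← hv]
    clear hv
    induction v using TensorProduct.induction_on with
    | zero => simp
    | tmul a b => simp [inr, mul_comm]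
    | add a b h1 h2 => rw [map_add, h1, h2, add_mul]

/-- An ideal of polynomials over a valuation ring inside the kernel of the reduction and meeting the
constants trivially is zero. -/
theorem eq_bot_of_le_ker_map {V : Type u} [CommRing V] [IsDomain V] [ValuationRing V] {k : Type u} [Field k]
    (θ : V →+* k) {σ : Type} (J : Ideal (MvPolynomial σ V)) [J.IsPrime]
    (hJ : J ≤ RingHom.ker (MvPolynomial.map θ)) (hC : J.comap MvPolynomial.C = ⊥) : J = ⊥ := by
  classical
  refine eq_bot_iff.2 fun f hf => Ideal.mem_bot.2 (by_contra fun hf0 => ?_)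
  obtain ⟨i₀, hi₀, hdvd⟩ : ∃ i ∈ f.support, ∀ j ∈ f.support, f.coeff i ∣ f.coeff j := by
    have key : ∀ s : Finset (σ →₀ ℕ), s.Nonempty → ∃ i ∈ s, ∀ j ∈ s, f.coeff i ∣ f.coeff j := by
      intro s hs
      induction hs using Finset.Nonempty.cons_induction with
      | singleton a => exact ⟨a, Finset.mem_singleton_self a, fun j hj => by rw [Finset.mem_singleton.1 hj]⟩
      | cons a s ha hs ih =>
        obtain ⟨i, hi, h⟩ := ih
        rcases ValuationRing.dvd_total (f.coeff i) (f.coeff a) with h' | h'
        · refine ⟨i, Finset.mem_cons.2 (Or.inr hi), fun j hj => ?_⟩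
          rcases Finset.mem_cons.1 hj with rfl | hj
          · exact h'
          · exact h j hj
        · refine ⟨a, Finset.mem_cons_self _ _, fun j hj => ?_⟩
          rcases Finset.mem_cons.1 hj with rfl | hj
          · exact dvd_rfl
          · exact h'.trans (h j hj)
    exact key _ (MvPolynomial.support_nonempty.2 hf0)
  have hc0 : f.coeff i₀ ≠ 0 := MvPolynomial.mem_support_iff.1 hi₀
  obtain ⟨f₀, hf₀⟩ : MvPolynomial.C (f.coeff i₀) ∣ f := by
    refine MvPolynomial.C_dvd_iff_dvd_coeff _ _ |>.2 fun j => ?_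
    by_cases hj : j ∈ f.support
    · exact hdvd j hj
    · rw [MvPolynomial.notMem_support_iff.1 hj]; exact dvd_zero _
  have hunit : f₀.coeff i₀ = 1 := by
    have h := congrArg (MvPolynomial.coeff i₀) hf₀
    rw [MvPolynomial.coeff_C_mul] at h
    exact mul_left_cancel₀ hc0 (h.symm.trans (mul_one _).symm)
  have hf₀J : f₀ ∈ J := (Ideal.IsPrime.mem_or_mem inferInstance (hf₀ ▸ hf)).resolve_left fun h =>
    hc0 (Ideal.mem_bot.1 (hC.le h))
  have h := congrArg (MvPolynomial.coeff i₀) (hJ hf₀J : MvPolynomial.map θ f₀ = 0)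
  rw [MvPolynomial.coeff_map, hunit, map_one, MvPolynomial.coeff_zero] at h
  exact one_ne_zero h

/-- Going down for a finite type domain, quasi-finite at a prime, over a normal domain. -/
theorem exists_le_comap_eq_of_quasiFiniteAt {R D : Type u} [CommRing R] [IsDomain R] [IsIntegrallyClosed R]
    [CommRing D] [IsDomain D] [Algebra R D] [FaithfulSMul R D] [Algebra.FiniteType R D] (P : Ideal D) [P.IsPrime]
    [Algebra.QuasiFiniteAt R P] (J : Ideal R) [J.IsPrime] (hJ : J ≤ P.comap (algebraMap R D)) :
    ∃ P₁ : Ideal D, P₁.IsPrime ∧ P₁ ≤ P ∧ P₁.comap (algebraMap R D) = J := by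
  obtain ⟨S', hS', r, hr, hbij⟩ :=
    Algebra.QuasiFiniteAt.exists_fg_and_exists_notMem_and_awayMap_bijective (R := R) P
  haveI : Module.Finite R S' := ⟨(Submodule.fg_top _).mpr hS'⟩
  haveI : Algebra.IsIntegral R S' := Algebra.IsIntegral.of_finite R S'
  haveI : FaithfulSMul R S' := (faithfulSMul_iff_algebraMap_injective R S').2 fun a b h =>
    FaithfulSMul.algebraMap_injective R D (congrArg Subtype.val h)
  let P' := P.comap S'.val.toRingHom
  haveI : P'.LiesOver (P.comap (algebraMap R D)) := ⟨rfl⟩
  obtain ⟨p', hp'le, hp', hp'J⟩ := Ideal.exists_ideal_le_liesOver_of_le (p := J)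
    (q := P.comap (algebraMap R D)) P' hJ
  haveI := hp'
  have hmul : ∀ d : D, ∃ N : ℕ, (r : D) ^ N * d ∈ S' := fun d => by
    obtain ⟨z, hz⟩ := hbij.2 (algebraMap D _ d)
    obtain ⟨⟨e, _, m, rfl⟩, he⟩ := IsLocalization.surj (Submonoid.powers r) z
    have h1 := congrArg (Localization.awayMap S'.val.toRingHom r) he
    rw [map_mul, hz, Localization.awayMap, IsLocalization.Away.map, IsLocalization.map_eq,
      IsLocalization.map_eq, ← map_mul] at h1
    obtain ⟨⟨_, k, rfl⟩, hk⟩ := IsLocalization.eq_iff_exists (Submonoid.powers (S'.val.toRingHom r)) (Localization.Away (S'.val.toRingHom r)) |>.1 h1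
    refine ⟨k + m, ?_⟩
    have h2 : (r : D) ^ (k + m) * d = ((r ^ k * e : S') : D) := by
      have hk' : (r : D) ^ k * (d * (r : D) ^ m) = (r : D) ^ k * (e : D) := by simpa [-mul_eq_mul_left_iff] using hk
      rw [pow_add, mul_assoc, mul_comm _ d, hk']
      simp
    rw [h2]
    exact SetLike.coe_mem _
  have hrp : r ∉ p' := fun h => hr (hp'le h)
  have hmap : (p'.map S'.val.toRingHom).comap S'.val.toRingHom = p' := by
    refine le_antisymm (fun x hx => ?_) Ideal.le_comap_map
    obtain ⟨N, hN⟩ : ∃ N : ℕ, ∃ y ∈ p', (r : D) ^ N * (x : D) = (y : D) := by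
      have hx' : (x : D) ∈ p'.map S'.val.toRingHom := hx
      refine Submodule.span_induction (p := fun z _ => ∃ N : ℕ, ∃ y ∈ p', (r : D) ^ N * z = (y : D)) ?_ ?_ ?_ ?_ hx'
      · rintro _ ⟨y, hy, rfl⟩
        exact ⟨0, y, hy, by simp⟩
      · exact ⟨0, 0, zero_mem _, by simp⟩
      · rintro a b - - ⟨Na, ya, hya, ha⟩ ⟨Nb, yb, hyb, hb⟩
        refine ⟨Na + Nb, r ^ Nb * ya + r ^ Na * yb, add_mem (Ideal.mul_mem_left _ _ hya) (Ideal.mul_mem_left _ _ hyb), ?_⟩
        push_cast
        rw [← ha, ← hb]
        ring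
      · rintro d z - ⟨N, y, hy, hz⟩
        obtain ⟨M, hM⟩ := hmul d
        refine ⟨M + N, ⟨_, hM⟩ * y, Ideal.mul_mem_left _ _ hy, ?_⟩
        push_cast
        rw [← hz, smul_eq_mul]
        ring
    obtain ⟨y, hy, hxy⟩ := hN
    have h3 : r ^ N * x = y := Subtype.ext (by push_cast; exact hxy)
    exact (hp'.mem_or_mem (h3 ▸ hy)).resolve_left fun h => hrp (hp'.mem_of_pow_mem N h)
  obtain ⟨P₁, hP₁, hP₁c⟩ := (Ideal.comap_map_eq_self_iff_of_isPrime p').1 hmap
  refine ⟨P₁, hP₁, fun d hd => ?_, ?_⟩
  · obtain ⟨N, hN⟩ := hmul d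
    have h1 : (⟨_, hN⟩ : S') ∈ p' := hP₁c ▸ P₁.mul_mem_left _ hd
    exact ((inferInstance : P.IsPrime).mem_or_mem (hp'le h1)).resolve_left fun h =>
      hr ((inferInstance : P.IsPrime).mem_of_pow_mem N h)
  · rw [hp'J.over, Ideal.under_def, ← hP₁c, Ideal.comap_comap]
    rfl

end Groth.Agent.GeomUnib.QFAffine
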