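import Groth.Agent.GeomUnib.QFAffine
import Groth.Agent.GeomUnib.DominantCrit
import Groth.Agent.GeomUnib.AffineSpaceChart
import Groth.Agent.FibrewiseCrit.Basic

/-!
# Universal openness of maps to affine space in a chart
-/

set_option autoImplicit false
set_option linter.style.haveILetI false
set_option backward.isDefEq.respectTransparency false
set_option maxHeartbeats 1000000
set_option synthInstance.maxHeartbeats 100000

universe u

open CategoryTheory CategoryTheory.Limits AlgebraicGeometry TensorProduct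

namespace Groth.Agent.GeomUnib

namespace FibreDimChart

/-- Full fibre dimension in a chart. -/
theorem injective_iff {X Y : Scheme.{u}} (f : X ⟶ Y) [LocallyOfFiniteType f] {U : Y.Opens}
    (hU : IsAffineOpen U) {V : X.Opens} (hV : IsAffineOpen V) (hVU : V ≤ f ⁻¹ᵁ U) (w : X) (hwV : w ∈ V) :
    letI := (f.appLE U V hVU).hom.toAlgebra
    ∀ {n : ℕ} (φ : MvPolynomial (Fin n) Γ(Y, U) →ₐ[Γ(Y, U)] Γ(X, V)),
      FibreDim.IsQFAt φ (hV.primeIdealOf ⟨w, hwV⟩).asIdeal →
      (FibreDim.fdim f w = n ↔ (hV.primeIdealOf ⟨w, hwV⟩).asIdeal.comap φ.toRingHom =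
        RingHom.ker (MvPolynomial.map (σ := Fin n)
          (Ideal.Quotient.mk ((hV.primeIdealOf ⟨w, hwV⟩).asIdeal.comap (algebraMap Γ(Y, U) Γ(X, V)))))) := by
  letI := (f.appLE U V hVU).hom.toAlgebra
  intro n φ hφ
  rw [(FibreDim.fdim_chart f hU hV hVU w hwV φ hφ).2, FibreDim.injective_quotMap_iff]

end FibreDimChart

namespace QFAffine

/-- Vanishing of torsion transfers along an isomorphism of bases. -/
theorem torAt_of_ringEquiv {A A' B : Type u} [CommRing A] [CommRing A'] [CommRing B] [Algebra A B] [Algebra A' B]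
    (e : A' ≃+* A) (he : ∀ a, algebraMap A B (e a) = algebraMap A' B a) {q : Ideal B}
    (h : ∀ (W : Type u) [CommRing W] [IsDomain W] [Algebra A W], UnivOpenAt.TorAt (A := A) q W)
    (W : Type u) [CommRing W] [IsDomain W] [Algebra A' W] : UnivOpenAt.TorAt (A := A') q W := by
  intro s u hs hsu P hP hPq
  letI : Algebra A W := ((algebraMap A' W).comp e.symm.toRingHom).toAlgebra
  obtain ⟨F, hF1, hF2⟩ := exists_lift_ringHom (R := A') (S := W) (T := B) (UnivOpenAt.inl A B W)
    (UnivOpenAt.inr A B W) fun a => by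
      have h1 := ((Algebra.TensorProduct.includeRight (R := A) (A := W) (B := B)).commutes (e a)).symm
      change (algebraMap A' W (e.symm (e a))) ⊗ₜ[A] (1 : B) = (1 : W) ⊗ₜ[A] algebraMap A B (e a) at h1
      rw [e.symm_apply_apply, he] at h1
      exact h1
  obtain ⟨G, hG1, hG2⟩ := exists_lift_ringHom (R := A) (S := W) (T := B) (UnivOpenAt.inl A' B W)
    (UnivOpenAt.inr A' B W) fun a => by
      have h1 := ((Algebra.TensorProduct.includeRight (R := A') (A := W) (B := B)).commutes (e.symm a)).symm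
      change (algebraMap A' W (e.symm a)) ⊗ₜ[A'] (1 : B) = (1 : W) ⊗ₜ[A'] algebraMap A' B (e.symm a) at h1
      rw [← he, e.apply_symm_apply] at h1
      exact h1
  have hGF : G (F u) = u := ringHom_ext_tmul (f := G.comp F) (g := RingHom.id _)
    (fun w => by rw [RingHom.comp_apply, hF1]; exact hG1 w)
    (fun b => by rw [RingHom.comp_apply, hF2]; exact hG2 b) u
  have h0 : (s ⊗ₜ[A] (1 : B)) * F u = 0 := by
    rw [show s ⊗ₜ[A] (1 : B) = F (s ⊗ₜ[A'] (1 : B)) from (hF1 s).symm, ← map_mul, hsu, map_zero]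
  haveI := hP
  have hmem := h W s (F u) hs h0 (P.comap G) inferInstance (by
    rw [Ideal.comap_comap, ← hPq]
    congr 1
    exact RingHom.ext hG2)
  rwa [Ideal.mem_comap, hGF] at hmem

/-- Universal openness of a map to affine space from vanishing of torsion in a chart. -/
theorem isUnivOpenAt_toAffineSpace {X S : Scheme.{u}} (f : X ⟶ S) [LocallyOfFinitePresentation f] {n : ℕ}
    (v : X ⟶ 𝔸(ULift.{u} (Fin n); S)) (hv : v ≫ (𝔸(ULift.{u} (Fin n); S) ↘ S) = f)
    {U : S.Opens} (hU : IsAffineOpen U) {V : X.Opens} (hV : IsAffineOpen V) (hVU : V ≤ f ⁻¹ᵁ U)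
    {x : X} (hx : x ∈ V) :
    letI := (f.appLE U V hVU).hom.toAlgebra
    ∀ (φ : MvPolynomial (Fin n) Γ(S, U) →ₐ[Γ(S, U)] Γ(X, V)),
      hV.fromSpec ≫ v = Spec.map (CommRingCat.ofHom φ.toRingHom) ≫ jA n hU →
      (letI := φ.toRingHom.toAlgebra
        ∀ (W : Type u) [CommRing W] [IsDomain W] [Algebra (MvPolynomial (Fin n) Γ(S, U)) W],
          UnivOpenAt.TorAt (A := MvPolynomial (Fin n) Γ(S, U)) (hV.primeIdealOf ⟨x, hx⟩).asIdeal W) →
      EGA43.IsUnivOpenAt v x := by
  letI := (f.appLE U V hVU).hom.toAlgebra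
  intro φ hfac htor
  haveI : LocallyOfFinitePresentation (v ≫ (𝔸(ULift.{u} (Fin n); S) ↘ S)) := by rw [hv]; infer_instance
  haveI : LocallyOfFinitePresentation v :=
    Groth.FibrewiseCrit.locallyOfFinitePresentation_of_comp v (𝔸(ULift.{u} (Fin n); S) ↘ S) inferInstance inferInstance
  let U' := (jA n hU).opensRange
  have hU' : IsAffineOpen U' := isAffineOpen_opensRange _
  have hVU' : V ≤ v ⁻¹ᵁ U' := fun y hy => by
    obtain ⟨t, rfl⟩ := hV.range_fromSpec.ge hy
    exact ⟨_, (congr($(hfac).base t)).symm⟩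
  have hr : Set.range (jA n hU) = Set.range hU'.fromSpec := hU'.range_fromSpec.symm
  let i := IsOpenImmersion.isoOfRangeEq (jA n hU) hU'.fromSpec hr
  obtain ⟨ρ, hρ⟩ := Spec.map_surjective i.hom
  obtain ⟨ρ', hρ'⟩ := Spec.map_surjective i.inv
  have h1 : ρ ≫ ρ' = 𝟙 _ := Spec.map_injective (by rw [Spec.map_comp, hρ, hρ', Spec.map_id, i.inv_hom_id])
  have h2 : ρ' ≫ ρ = 𝟙 _ := Spec.map_injective (by rw [Spec.map_comp, hρ, hρ', Spec.map_id, i.hom_inv_id])
  have happ : v.appLE U' V hVU' = ρ ≫ CommRingCat.ofHom φ.toRingHom := by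
    refine Spec.map_injective ?_
    rw [← cancel_mono hU'.fromSpec, IsAffineOpen.SpecMap_appLE_fromSpec v hU' hV hVU', Spec.map_comp, hρ,
      Category.assoc, hfac]
    congr 1
    exact (IsOpenImmersion.isoOfRangeEq_hom_fac _ _ hr).symm
  let e : Γ(𝔸(ULift.{u} (Fin n); S), U') ≃+* MvPolynomial (Fin n) Γ(S, U) :=
    (CategoryTheory.Iso.mk ρ ρ' h1 h2).commRingCatIsoToRingEquiv
  refine DominantCrit.isUnivOpenAt_of_torAt_fp v hU' hV hVU' hx ?_
  letI := φ.toRingHom.toAlgebra
  letI := (v.appLE U' V hVU').hom.toAlgebra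
  intro W _ _ _
  exact torAt_of_ringEquiv e (fun a => (congr($(happ).hom a)).symm) htor W

end QFAffine

end Groth.Agent.GeomUnib
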