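import Groth.Agent.NoethApprox.Basic

/-!
# Noetherian models of affine morphisms with a section
-/

set_option autoImplicit false
set_option linter.style.haveILetI false
set_option backward.isDefEq.respectTransparency false
set_option maxHeartbeats 1000000
set_option synthInstance.maxHeartbeats 400000

universe u

open CategoryTheory CategoryTheory.Limits AlgebraicGeometry TensorProduct

namespace Groth.Agent.GeomUnib.SectionBC

/-- A finitely presented algebra with a retraction has a model with a retraction over a finitely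
generated subring. -/
theorem exists_retraction_model (A B : Type u) [CommRing A] [CommRing B] [Algebra A B]
    [Algebra.FinitePresentation A B] (σ : B →ₐ[A] A) :
    ∃ (A₂ : Subalgebra ℤ A) (_ : A₂.FG) (B₂ : Type u) (_ : CommRing B₂) (_ : Algebra A₂ B₂)
      (_ : Algebra B₂ B) (_ : IsScalarTower A₂ B₂ B) (σ₂ : B₂ →ₐ[A₂] A₂),
      Algebra.FiniteType A₂ B₂ ∧ Algebra.IsPushout A₂ A B₂ B ∧
        ∀ b : B₂, σ (algebraMap B₂ B b) = (σ₂ b : A) := by
  classical
  obtain ⟨A₁, hA₁, B₁, _, _, _, _, hft, hpo, -⟩ := NoethApprox.exists_model A B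
  obtain ⟨T, hT⟩ := hft.out
  let σ₁ : B₁ →ₐ[A₁] A := (σ.restrictScalars A₁).comp (IsScalarTower.toAlgHom A₁ B₁ B)
  let A₂ : Subalgebra ℤ A := A₁ ⊔ Algebra.adjoin ℤ ((T.image σ₁ : Finset A) : Set A)
  have hA₂ : A₂.FG := hA₁.sup (Subalgebra.fg_adjoin_finset _)
  have hle : A₁ ≤ A₂ := le_sup_left
  letI : Algebra A₁ A₂ := (Subalgebra.inclusion hle).toRingHom.toAlgebra
  haveI : IsScalarTower A₁ A₂ A := .of_algebraMap_eq fun _ => rfl
  have hmem : ∀ b, σ₁ b ∈ A₂ := by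
    intro b
    have hb : b ∈ Algebra.adjoin A₁ (T : Set B₁) := hT ▸ Algebra.mem_top
    induction hb using Algebra.adjoin_induction with
    | mem x hx =>
      exact (le_sup_right : Algebra.adjoin ℤ ((T.image σ₁ : Finset A) : Set A) ≤ A₂)
        (Algebra.subset_adjoin (Finset.mem_coe.2 (Finset.mem_image_of_mem _ hx)))
    | algebraMap r => rw [AlgHom.commutes]; exact hle r.2
    | add x y _ _ hx hy => rw [map_add]; exact add_mem hx hy
    | mul x y _ _ hx hy => rw [map_mul]; exact mul_mem hx hy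
  let σ₁' : B₁ →ₐ[A₁] A₂ :=
    { toFun := fun b => ⟨σ₁ b, hmem b⟩
      map_one' := Subtype.ext (map_one σ₁)
      map_mul' := fun x y => Subtype.ext (map_mul σ₁ x y)
      map_zero' := Subtype.ext (map_zero σ₁)
      map_add' := fun x y => Subtype.ext (map_add σ₁ x y)
      commutes' := fun r => Subtype.ext (σ₁.commutes r) }
  let σ₂ : A₂ ⊗[A₁] B₁ →ₐ[A₂] A₂ := Algebra.TensorProduct.lift (AlgHom.id A₂ A₂) σ₁' fun _ _ => Commute.all _ _
  haveI : IsScalarTower A₁ A₂ B := .of_algebraMap_eq fun _ => rfl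
  let ψ : A₂ ⊗[A₁] B₁ →ₐ[A₂] B := Algebra.TensorProduct.lift (Algebra.ofId A₂ B)
    (IsScalarTower.toAlgHom A₁ B₁ B) fun _ _ => Commute.all _ _
  letI : Algebra (A₂ ⊗[A₁] B₁) B := ψ.toRingHom.toAlgebra
  haveI : IsScalarTower A₂ (A₂ ⊗[A₁] B₁) B := .of_algebraMap_eq fun r => (ψ.commutes r).symm
  letI : Algebra B₁ (A₂ ⊗[A₁] B₁) :=
    (Algebra.TensorProduct.includeRight (R := A₁) (A := A₂) (B := B₁)).toRingHom.toAlgebra
  haveI : IsScalarTower A₁ B₁ (A₂ ⊗[A₁] B₁) := .of_algebraMap_eq fun r =>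
    ((Algebra.TensorProduct.includeRight (R := A₁) (A := A₂) (B := B₁)).commutes r).symm
  haveI : IsScalarTower B₁ (A₂ ⊗[A₁] B₁) B := .of_algebraMap_eq fun b => by
    show algebraMap B₁ B b = ψ ((1 : A₂) ⊗ₜ b)
    simp [ψ]
  haveI : IsScalarTower A₁ (A₂ ⊗[A₁] B₁) B := .of_algebraMap_eq fun r => by
    show _ = ψ (algebraMap A₁ (A₂ ⊗[A₁] B₁) r)
    exact ((ψ.restrictScalars A₁).commutes r).symm
  haveI hpo₂ : Algebra.IsPushout A₁ A₂ B₁ (A₂ ⊗[A₁] B₁) := inferInstance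
  haveI := hpo
  refine ⟨A₂, hA₂, A₂ ⊗[A₁] B₁, inferInstance, inferInstance, inferInstance, inferInstance, σ₂,
    inferInstance, (Algebra.IsPushout.comp_iff A₁ A₂ B₁ (A₂ ⊗[A₁] B₁)).1 hpo, fun z => ?_⟩
  induction z using TensorProduct.induction_on with
  | zero => simp
  | add x y hx hy => rw [map_add, map_add, map_add, hx, hy]; rfl
  | tmul a b =>
    show σ (ψ (a ⊗ₜ b)) = (σ₂ (a ⊗ₜ b) : A)
    simp only [ψ, σ₂, Algebra.TensorProduct.lift_tmul, AlgHom.id_apply]
    rw [map_mul, show σ (Algebra.ofId A₂ B a) = (a : A) from σ.commutes (a : A)]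
    rfl

/-- An affine morphism of finite presentation with a section comes from a Noetherian base, which may
be taken with dense image. -/
theorem exists_approx_section {X Y : Scheme.{u}} [IsAffine X] [IsAffine Y] (f : X ⟶ Y)
    [LocallyOfFinitePresentation f] (g : Y ⟶ X) (hg : g ≫ f = 𝟙 Y) :
    ∃ (X₁ Y₁ : Scheme.{u}) (f₁ : X₁ ⟶ Y₁) (g₁ : Y₁ ⟶ X₁) (π : Y ⟶ Y₁) (ρ : X ⟶ X₁),
      IsPullback ρ f f₁ π ∧ g ≫ ρ = π ≫ g₁ ∧ g₁ ≫ f₁ = 𝟙 Y₁ ∧ IsLocallyNoetherian Y₁ ∧
      LocallyOfFiniteType f₁ ∧ DenseRange π.base ∧ (IsReduced Y → IsReduced Y₁) := by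
  have hfp : f.appTop.hom.FinitePresentation :=
    (HasRingHomProperty.iff_of_isAffine (P := @LocallyOfFinitePresentation) (f := f)).mp ‹_›
  algebraize [f.appTop.hom]
  have hid : f.appTop ≫ g.appTop = 𝟙 _ := by rw [← Scheme.Hom.comp_appTop, hg]; rfl
  let σ : Γ(X, ⊤) →ₐ[Γ(Y, ⊤)] Γ(Y, ⊤) :=
    { g.appTop.hom with commutes' := fun r => RingHom.congr_fun (congrArg CommRingCat.Hom.hom hid) r }
  obtain ⟨A₂, hA₂, B₂, _, _, _, _, σ₂, hft, hpo, hσ⟩ := exists_retraction_model Γ(Y, ⊤) Γ(X, ⊤) σ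
  haveI := hpo
  let gA : CommRingCat.of A₂ ⟶ Γ(Y, ⊤) := CommRingCat.ofHom (algebraMap A₂ Γ(Y, ⊤))
  let gB : CommRingCat.of B₂ ⟶ Γ(X, ⊤) := CommRingCat.ofHom (algebraMap B₂ Γ(X, ⊤))
  let fA : CommRingCat.of A₂ ⟶ CommRingCat.of B₂ := CommRingCat.ofHom (algebraMap A₂ B₂)
  have hsq : IsPullback (Spec.map gB) (Spec.map f.appTop) (Spec.map fA) (Spec.map gA) :=
    (isPullback_SpecMap_of_isPushout _ _ _ _
      (CommRingCat.isPushout_of_isPushout A₂ Γ(Y, ⊤) B₂ Γ(X, ⊤))).flip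
  haveI : Algebra.FiniteType ℤ A₂ := ⟨A₂.fg_top.mpr hA₂⟩
  haveI : IsNoetherianRing A₂ := Algebra.FiniteType.isNoetherianRing ℤ A₂
  refine ⟨Spec (CommRingCat.of B₂), Spec (CommRingCat.of A₂), Spec.map fA,
    Spec.map (CommRingCat.ofHom σ₂.toRingHom),
    Y.isoSpec.hom ≫ Spec.map gA, X.isoSpec.hom ≫ Spec.map gB,
    hsq.of_iso X.isoSpec.symm (Iso.refl _) Y.isoSpec.symm (Iso.refl _) (by simp)
      (by simp [Scheme.isoSpec_inv_naturality]) (by simp) (by simp), ?_, ?_, inferInstance, ?_, ?_, ?_⟩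
  · rw [← Category.assoc, ← Scheme.isoSpec_hom_naturality, Category.assoc, Category.assoc,
      ← Spec.map_comp, ← Spec.map_comp]
    congr 2
    ext b
    exact hσ b
  · rw [← Spec.map_comp, ← Spec.map_id]
    congr 1
    ext r
    exact congrArg Subtype.val (σ₂.commutes r)
  · rw [HasRingHomProperty.Spec_iff (P := @LocallyOfFiniteType)]
    exact RingHom.finiteType_algebraMap.mpr hft
  · have h1 : DenseRange (Spec.map gA).base := by
      refine (PrimeSpectrum.denseRange_comap_iff_ker_le_nilRadical _).2 fun r hr => ?_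
      have : r = 0 := Subtype.ext hr
      rw [this]; exact zero_mem _
    exact h1.comp Y.isoSpec.hom.surjective.denseRange (Spec.map gA).continuous
  · intro hY
    haveI : _root_.IsReduced Γ(Y, ⊤) := IsReduced.component_reduced ⊤
    haveI : _root_.IsReduced A₂ := isReduced_of_injective A₂.val Subtype.val_injective
    exact (affine_isReduced_iff _).2 inferInstance

end Groth.Agent.GeomUnib.SectionBC
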