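import Mathlib
import Groth.Agent.GeomUnib.FlatBC
import Groth.Agent.GeomUnib.FibreDimSemi
import Groth.Agent.GeomUnib.DvrPoint
import Groth.Prelude.Def_FDesc

/-!
# The connected component of a section in the fibres

For `f : X ⟶ Y` with a section `g` such that every component `X⁰_y` of `g y` in its fibre is
geometrically irreducible, the generic points of these components and of their base changes.
-/

set_option autoImplicit false
set_option linter.style.haveILetI false

universe u

open CategoryTheory CategoryTheory.Limits AlgebraicGeometry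

namespace Groth.Agent.GeomUnib.SectionComp

open FibreDim

variable {X Y : Scheme.{u}} (f : X ⟶ Y) (g : Y ⟶ X)

/-- The component of the section in a fibre. -/
abbrev X0 (y : Y) : Set X := connectedComponentIn (f.base ⁻¹' {y}) (g.base y)

/-- The dimension of the component of the section in a fibre. -/
noncomputable abbrev d0 (y : Y) : WithBot ℕ∞ := topologicalKrullDim ↥(X0 f g y)

/-- The component of the section over a point is geometrically irreducible. -/
def GeomIrredAt (y : Y) : Prop :=
  ∀ (K : Type u) [Field K] [Algebra (IsLocalRing.ResidueField (Y.presheaf.stalk y)) K],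
    IsIrreducible ((FBase.bcπ (f.fiberToSpecResidueField y) K ≫ f.fiberι y).base ⁻¹' X0 f g y)

/-- The components of the section are geometrically irreducible. -/
def GeomIrred : Prop :=
  ∀ y : Y, (∀ (K : Type u) [Field K] [Algebra (IsLocalRing.ResidueField (Y.presheaf.stalk y)) K],
    IsIrreducible ((FBase.bcπ (f.fiberToSpecResidueField y) K ≫ f.fiberι y).base ⁻¹' X0 f g y))

variable {f g}

lemma section_apply (hg : g ≫ f = 𝟙 Y) (y : Y) : f.base (g.base y) = y := by
  have := congr($hg y)
  simpa using this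

lemma mem_X0 (hg : g ≫ f = 𝟙 Y) (y : Y) : g.base y ∈ X0 f g y :=
  mem_connectedComponentIn (section_apply hg y)

lemma apply_of_mem_X0 {y : Y} {x : X} (hx : x ∈ X0 f g y) : f.base x = y :=
  show x ∈ f.base ⁻¹' {y} from connectedComponentIn_subset _ _ hx

/-- A specialisation in a fibre stays in the component. -/
lemma mem_X0_of_specializes {y : Y} {w x : X} (hw : f.base w = y) (hx : x ∈ X0 f g y) (h : w ⤳ x) :
    w ∈ X0 f g y := by
  have hsub : ({w, x} : Set X) ⊆ f.base ⁻¹' {y} := by
    rintro z (rfl | rfl)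
    · exact hw
    · exact apply_of_mem_X0 hx
  have hconn : _root_.IsPreconnected ({w, x} : Set X) :=
    (isPreconnected_singleton (x := w)).subset_closure (by simp) (by
      rintro z (rfl | rfl)
      · exact subset_closure rfl
      · exact h.mem_closure)
  have h1 := hconn.subset_connectedComponentIn (x := x) (by simp) hsub
  have h2 : connectedComponentIn (f.base ⁻¹' {y}) x = X0 f g y := (connectedComponentIn_eq hx).symm
  exact h2 ▸ h1 (by simp)

lemma mem_X0_of_closure {y : Y} {x : X} (hy : f.base x = y) (hx : x ∈ closure (X0 f g y)) :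
    x ∈ X0 f g y := by
  by_cases hne : g.base y ∈ f.base ⁻¹' {y}
  · have hpre : _root_.IsPreconnected (insert x (X0 f g y)) :=
      isPreconnected_connectedComponentIn.subset_closure (Set.subset_insert _ _)
        (Set.insert_subset hx subset_closure)
    exact hpre.subset_connectedComponentIn (Set.mem_insert_of_mem _ (mem_connectedComponentIn hne))
      (Set.insert_subset hy (connectedComponentIn_subset _ _)) (Set.mem_insert _ _)
  · rw [X0, connectedComponentIn_eq_empty hne, closure_empty] at hx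
    exact absurd hx (Set.notMem_empty x)

lemma isIrreducible_X0_at {y : Y} (hirr : GeomIrredAt f g y) : IsIrreducible (X0 f g y) := by
  let K := IsLocalRing.ResidueField (Y.presheaf.stalk y)
  let q := FBase.bcπ (f.fiberToSpecResidueField y) K ≫ f.fiberι y
  have hK : IsIrreducible (q.base ⁻¹' X0 f g y) := hirr K
  convert! hK.image q.base q.continuous.continuousOn
  refine (Set.image_preimage_eq_of_subset fun x hx => ?_).symm
  obtain ⟨z, rfl⟩ : x ∈ Set.range (f.fiberι y) := (f.range_fiberι y).ge (apply_of_mem_X0 hx)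
  haveI : IsIso (Spec.map (CommRingCat.ofHom
      (algebraMap (IsLocalRing.ResidueField (Y.presheaf.stalk y)) K))) := by
    rw [show CommRingCat.ofHom (algebraMap (IsLocalRing.ResidueField (Y.presheaf.stalk y)) K) = 𝟙 _ from rfl]
    infer_instance
  obtain ⟨w, rfl⟩ := (pullback.fst (f.fiberToSpecResidueField y)
    (Spec.map (CommRingCat.ofHom
      (algebraMap (IsLocalRing.ResidueField (Y.presheaf.stalk y)) K)))).surjective z
  exact ⟨w, rfl⟩

lemma isIrreducible_X0 (hirr : GeomIrred f g) (y : Y) : IsIrreducible (X0 f g y) :=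
  isIrreducible_X0_at (hirr y)

/-- The generic point of the component of the section in a fibre. -/
lemma exists_generic_at [LocallyOfFiniteType f] (hg : g ≫ f = 𝟙 Y) {y : Y} (hirr : GeomIrredAt f g y) :
    ∃ ξ : X, f.base ξ = y ∧ ξ ∈ X0 f g y ∧ (∀ x ∈ X0 f g y, ξ ⤳ x) ∧ d0 f g y = fdim f ξ ∧
      (∀ x' : X, f.base x' = y → x' ⤳ ξ → x' = ξ) := by
  obtain ⟨ξ, hξ⟩ := QuasiSober.sober (isIrreducible_X0_at hirr).closure isClosed_closure
  have hspec : ∀ x ∈ X0 f g y, ξ ⤳ x := fun x hx => hξ.specializes (subset_closure hx)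
  have hfξ : f.base ξ = y := by
    have h1 : f.base ξ ∈ closure ({y} : Set Y) := by
      refine closure_mono ?_ (image_closure_subset_closure_image f.continuous ⟨ξ, hξ.mem, rfl⟩)
      rintro _ ⟨x, hx, rfl⟩
      exact apply_of_mem_X0 hx
    have h2 : f.base ξ ⤳ y := by
      have := (hspec _ (mem_X0 hg y)).map f.continuous
      rwa [show f.base (g.base y) = y from section_apply hg y] at this
    exact (h2.antisymm (specializes_iff_mem_closure.2 h1)).eq
  have hmem : ξ ∈ X0 f g y := mem_X0_of_closure hfξ hξ.mem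
  refine ⟨ξ, hfξ, hmem, hspec, ?_, fun x' hx' h => ?_⟩
  · rw [d0, fdim, hfξ]
    have : X0 f g y = closure {ξ} ∩ f.base ⁻¹' {y} := by
      ext x
      exact ⟨fun hx => ⟨(hspec x hx).mem_closure, apply_of_mem_X0 hx⟩, fun hx =>
        mem_X0_of_closure hx.2 (hξ.def ▸ hx.1)⟩
    rw [this]
  · exact (h.antisymm (hspec x' (mem_X0_of_specializes hx' hmem h))).eq

lemma exists_generic [LocallyOfFiniteType f] (hg : g ≫ f = 𝟙 Y) (hirr : GeomIrred f g) (y : Y) :
    ∃ ξ : X, f.base ξ = y ∧ ξ ∈ X0 f g y ∧ (∀ x ∈ X0 f g y, ξ ⤳ x) ∧ d0 f g y = fdim f ξ ∧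
      (∀ x' : X, f.base x' = y → x' ⤳ ξ → x' = ξ) :=
  exists_generic_at hg (hirr y)

/-- The fibre dimension at the section is that of its component. -/
lemma fibreDimAt_section_at [LocallyOfFiniteType f] (hg : g ≫ f = 𝟙 Y) {y : Y} (hirr : GeomIrredAt f g y) :
    FlatMor.fibreDimAt f (g.base y) = d0 f g y := by
  obtain ⟨ξ, hfξ, hξ, hspec, hd, -⟩ := exists_generic_at hg hirr
  rw [hd]
  refine le_antisymm ?_ (fdim_le_fibreDimAt f (hspec _ (mem_X0 hg y)))
  obtain ⟨n, hn, ⟨w, hw, hwx, hwn⟩, -⟩ := exists_fibreDimAt_eq f (g.base y)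
  have hwy : f.base w = y := hw.trans (section_apply hg y)
  rw [hn, ← hwn]
  exact fdim_mono f (hspec w (mem_X0_of_specializes hwy (mem_X0 hg y) hwx)) (hfξ.trans hwy.symm)

lemma fibreDimAt_section [LocallyOfFiniteType f] (hg : g ≫ f = 𝟙 Y) (hirr : GeomIrred f g) (y : Y) :
    FlatMor.fibreDimAt f (g.base y) = d0 f g y :=
  fibreDimAt_section_at hg (hirr y)

/-- Upper semicontinuity of the dimension of the component of the section. -/
lemma exists_nhds_d0_le [LocallyOfFiniteType f] (hg : g ≫ f = 𝟙 Y) (hirr : GeomIrred f g) (y₀ : Y) :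
    ∃ V : Y.Opens, y₀ ∈ V ∧ ∀ z ∈ V, d0 f g z ≤ d0 f g y₀ := by
  obtain ⟨O, hO, hle⟩ := exists_nhds_fibreDimAt_le f (g.base y₀)
  refine ⟨g ⁻¹ᵁ O, hO, fun z hz => ?_⟩
  rw [← fibreDimAt_section hg hirr, ← fibreDimAt_section hg hirr y₀]
  exact hle _ hz

/-- Generic points of base changes of the components of the section. -/
lemma exists_generic_bc_at [LocallyOfFiniteType f] (hg : g ≫ f = 𝟙 Y) {Z : Scheme.{u}}
    (g₀ : Z ⟶ Y) {z : Z} (hirr : GeomIrredAt f g (g₀.base z)) :
    ∃ γ : ↥(pullback f g₀), (pullback.snd f g₀).base γ = z ∧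
      (pullback.fst f g₀).base γ ∈ X0 f g (g₀.base z) ∧
      (∀ x ∈ X0 f g (g₀.base z), (pullback.fst f g₀).base γ ⤳ x) ∧
      (∀ w : ↥(pullback f g₀), (pullback.snd f g₀).base w = z →
        (pullback.fst f g₀).base w ∈ X0 f g (g₀.base z) → γ ⤳ w) ∧
      (∀ b : ↥(pullback f g₀), (pullback.snd f g₀).base b = (pullback.snd f g₀).base γ → b ⤳ γ → b = γ) ∧
      fdim (pullback.snd f g₀) γ = d0 f g (g₀.base z) := by
  obtain ⟨ξ, hfξ, hξ, hspec, hd, -⟩ := exists_generic_at hg hirr
  letI : Algebra (IsLocalRing.ResidueField (Y.presheaf.stalk (g₀.base z))) (Z.residueField z) :=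
    (g₀.residueFieldMap z).hom.toAlgebra
  let q := FBase.bcπ (f.fiberToSpecResidueField (g₀.base z)) (Z.residueField z) ≫ f.fiberι (g₀.base z)
  let S := q.base ⁻¹' X0 f g (g₀.base z)
  have hS : IsIrreducible S := hirr _
  let e := pullbackLeftPullbackSndIso f (Y.fromSpecResidueField (g₀.base z)) (Spec.map (g₀.residueFieldMap z))
  have hsq : Spec.map (g₀.residueFieldMap z) ≫ Y.fromSpecResidueField (g₀.base z) =
      Z.fromSpecResidueField z ≫ g₀ := Scheme.Hom.SpecMap_residueFieldMap_fromSpecResidueField _ _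
  let i : pullback f (Spec.map (g₀.residueFieldMap z) ≫ Y.fromSpecResidueField (g₀.base z)) ⟶ pullback f g₀ :=
    pullback.lift (pullback.fst _ _) (pullback.snd _ _ ≫ Z.fromSpecResidueField z)
      (by rw [pullback.condition, hsq, Category.assoc])
  let j := e.hom ≫ i
  have hjf : j ≫ pullback.fst f g₀ = q := by
    simp [j, i, e, q, FBase.bcπ, Scheme.Hom.fiberι, pullback.lift_fst]
    rfl
  have hjs : ∀ w, (pullback.snd f g₀).base (j.base w) = z := fun w => by
    rw [← Scheme.Hom.comp_apply, show j ≫ pullback.snd f g₀ =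
      (e.hom ≫ pullback.snd _ _) ≫ Z.fromSpecResidueField z by
        simp only [j, i, Category.assoc]; erw [pullback.lift_snd], Scheme.Hom.comp_apply]
    exact Scheme.fromSpecResidueField_apply _ _
  have hjfst : ∀ w, (pullback.fst f g₀).base (j.base w) = q.base w := fun w => by
    rw [← Scheme.Hom.comp_apply, hjf]
    rfl
  have hlift : ∀ w : ↥(pullback f g₀), (pullback.snd f g₀).base w = z → ∃ w', j.base w' = w := by
    intro w hw
    have hp : IsPullback i (pullback.snd f (Spec.map (g₀.residueFieldMap z) ≫ Y.fromSpecResidueField (g₀.base z)))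
        (pullback.snd f g₀) (Z.fromSpecResidueField z) := by
      refine IsPullback.of_right ?_ (pullback.lift_snd _ _ _) (IsPullback.of_hasPullback f g₀)
      rw [show i ≫ pullback.fst f g₀ = pullback.fst _ _ from pullback.lift_fst _ _ _]
      rw [← hsq]
      exact IsPullback.of_hasPullback _ _
    obtain ⟨a, ha, -⟩ := Scheme.exists_preimage_of_isPullback hp w (IsLocalRing.closedPoint _)
      (hw.trans (Scheme.fromSpecResidueField_apply _ _).symm)
    obtain ⟨b, rfl⟩ := e.hom.surjective a
    exact ⟨b, ha⟩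
  obtain ⟨γ', hγ'⟩ := QuasiSober.sober hS.closure isClosed_closure
  have hγS : q.base γ' ∈ X0 f g (g₀.base z) := by
    refine mem_X0_of_closure ?_ (closure_mono (Set.image_preimage_subset _ _)
      (image_closure_subset_closure_image q.continuous ⟨γ', hγ'.mem, rfl⟩))
    have : q.base γ' ∈ Set.range (f.fiberι (g₀.base z)) := ⟨_, rfl⟩
    rwa [Scheme.Hom.range_fiberι] at this
  have hgen : ∀ w : ↥(pullback f g₀), (pullback.snd f g₀).base w = z →
      (pullback.fst f g₀).base w ∈ X0 f g (g₀.base z) → j.base γ' ⤳ w := by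
    intro w hw hwX
    obtain ⟨w', rfl⟩ := hlift w hw
    rw [hjfst] at hwX
    exact (hγ'.specializes (subset_closure hwX)).map j.continuous
  have hfst : (pullback.fst f g₀).base (j.base γ') = ξ := by
    obtain ⟨w, hw1, hw2⟩ := Scheme.Pullback.exists_preimage_pullback (f := f) (g := g₀) ξ z hfξ
    have h1 := (hgen w hw2 (hw1 ▸ hξ)).map (pullback.fst f g₀).continuous
    rw [hw1] at h1
    rw [hjfst] at h1 ⊢
    exact (h1.antisymm (hspec _ hγS)).eq
  have hmax : ∀ b : ↥(pullback f g₀), (pullback.snd f g₀).base b = (pullback.snd f g₀).base (j.base γ') →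
      b ⤳ j.base γ' → b = j.base γ' := by
    intro b hb hbg
    rw [hjs] at hb
    have hfb : f.base ((pullback.fst f g₀).base b) = g₀.base z := by
      rw [← hb, ← Scheme.Hom.comp_apply, pullback.condition, Scheme.Hom.comp_apply]
    have hbX : (pullback.fst f g₀).base b ∈ X0 f g (g₀.base z) :=
      mem_X0_of_specializes hfb (hfst.symm ▸ hξ) (hbg.map (pullback.fst f g₀).continuous)
    exact (hbg.antisymm (hgen b hb hbX)).eq
  refine ⟨j.base γ', hjs _, hfst.symm ▸ hξ, hfst.symm ▸ hspec, hgen, hmax, ?_⟩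
  rw [(fdim_fst_of_maximal f g₀ (j.base γ') hmax).2, hfst, ← hd]

lemma exists_generic_bc [LocallyOfFiniteType f] (hg : g ≫ f = 𝟙 Y) (hirr : GeomIrred f g) {Z : Scheme.{u}}
    (g₀ : Z ⟶ Y) (z : Z) :
    ∃ γ : ↥(pullback f g₀), (pullback.snd f g₀).base γ = z ∧
      (pullback.fst f g₀).base γ ∈ X0 f g (g₀.base z) ∧
      (∀ x ∈ X0 f g (g₀.base z), (pullback.fst f g₀).base γ ⤳ x) ∧
      (∀ w : ↥(pullback f g₀), (pullback.snd f g₀).base w = z →
        (pullback.fst f g₀).base w ∈ X0 f g (g₀.base z) → γ ⤳ w) ∧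
      (∀ b : ↥(pullback f g₀), (pullback.snd f g₀).base b = (pullback.snd f g₀).base γ → b ⤳ γ → b = γ) ∧
      fdim (pullback.snd f g₀) γ = d0 f g (g₀.base z) :=
  exists_generic_bc_at hg g₀ (hirr _)

end Groth.Agent.GeomUnib.SectionComp
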