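import Groth.Agent.GeomUnib.SectionConnFlat

/-!
# The union of the components of a section is locally constructible
-/

set_option autoImplicit false
set_option linter.style.haveILetI false
set_option linter.unusedSectionVars false
set_option backward.isDefEq.respectTransparency false
set_option maxHeartbeats 800000

universe u

open CategoryTheory CategoryTheory.Limits AlgebraicGeometry TopologicalSpace Topology
open Groth.Agent.GeomUnib.SectionComp
open Groth.Agent.GeomComp (exists_restrict_fp)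

namespace Groth.Agent.GeomUnib.SectionConnConstr

variable {A : Type u} [CommRing A] {X : Scheme.{u}} {f : X ⟶ Spec (CommRingCat.of A)}
  {g : Spec (CommRingCat.of A) ⟶ X}

/-- Around each point of the base a constructible set over which the components of the section are cut
out by a compact open. -/
theorem exists_piece [LocallyOfFinitePresentation f] [QuasiCompact f] [QuasiSeparated f] (hg : g ≫ f = 𝟙 _)
    (y : Spec (CommRingCat.of A)) :
    ∃ (V : Set (Spec (CommRingCat.of A))) (W₀ W₁ : X.Opens), IsConstructible V ∧ y ∈ V ∧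
      IsCompact (W₀ : Set X) ∧ IsCompact (W₁ : Set X) ∧
      f.base ⁻¹' V ∩ MoreMor.sectionComponents f g = f.base ⁻¹' V ∩ (W₀ : Set X) ∧
      f.base ⁻¹' V \ MoreMor.sectionComponents f g = f.base ⁻¹' V ∩ (W₁ : Set X) := by
  classical
  haveI : CompactSpace X := QuasiCompact.compactSpace_of_compactSpace f
  haveI : QuasiSeparatedSpace X := quasiSeparatedSpace_of_quasiSeparated f
  haveI : QuasiCompact g := inferInstance
  let F : Set X := f.base ⁻¹' {y}
  have hF : IsCompact F := by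
    haveI : QuasiCompact (f.fiberToSpecResidueField y) := MorphismProperty.pullback_snd f _ ‹_›
    haveI : CompactSpace ↥(f.fiber y) := QuasiCompact.compactSpace_of_compactSpace (f.fiberToSpecResidueField y)
    show IsCompact (f.base ⁻¹' {y})
    rw [← f.range_fiberι]
    exact isCompact_range (f.fiberι y).continuous
  let C : Set X := X0 f g y
  have hgyF : g.base y ∈ F := section_apply hg y
  have hCF : C ⊆ F := connectedComponentIn_subset _ _
  -- the component is relatively closed and open in the fibre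
  have hCclosed : C = F ∩ closure C := by
    refine Set.Subset.antisymm (Set.subset_inter hCF subset_closure) ?_
    rintro x ⟨hxF, hx⟩
    exact mem_X0_of_closure hxF hx
  have hCcpt : IsCompact C := by rw [hCclosed]; exact hF.inter_right isClosed_closure
  have h0 : ∀ x ∈ C, ∃ W : X.Opens, IsCompact (W : Set X) ∧ g.base y ∈ W ∧ x ∈ W ∧
      _root_.IsPreconnected ((W : Set X) ∩ F) := fun x hx => SectionConnNhd.exists_open_pre_two f y hgyF hx
  choose T hTc hgT hxT hT using h0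
  obtain ⟨t, ht⟩ := hCcpt.elim_finite_subcover (fun x : C => (T x.1 x.2 : Set X)) (fun x => (T x.1 x.2).2)
    (fun x hx => Set.mem_iUnion.2 ⟨⟨x, hx⟩, hxT x hx⟩)
  let W₀ : X.Opens := ⟨(⋃ x ∈ t, (T x.1 x.2 : Set X)) ∪ (T (g.base y) (mem_X0 hg y) : Set X),
    (isOpen_biUnion fun x _ => (T x.1 x.2).2).union (T _ _).2⟩
  have hW₀c : IsCompact (W₀ : Set X) := (t.isCompact_biUnion fun x _ => hTc x.1 x.2).union (hTc _ _)
  have hgW₀ : g.base y ∈ W₀ := Or.inr (hgT _ _)
  have hW₀pre : _root_.IsPreconnected ((W₀ : Set X) ∩ F) := by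
    refine isPreconnected_of_forall (g.base y) fun x hx => ?_
    rcases hx with ⟨hx | hx, hxF⟩
    · obtain ⟨i, hit, hxi⟩ := Set.mem_iUnion₂.1 hx
      exact ⟨(T i.1 i.2 : Set X) ∩ F, Set.inter_subset_inter_left _ fun a ha => Or.inl (Set.mem_biUnion hit ha),
        ⟨hgT _ _, hgyF⟩, ⟨hxi, hxF⟩, hT _ _⟩
    · exact ⟨(T _ (mem_X0 hg y) : Set X) ∩ F, Set.inter_subset_inter_left _ fun a ha => Or.inr ha,
        ⟨hgT _ _, hgyF⟩, ⟨hx, hxF⟩, hT _ _⟩
  have hW₀C : (W₀ : Set X) ∩ F ⊆ C := hW₀pre.subset_connectedComponentIn ⟨hgW₀, hgyF⟩ Set.inter_subset_right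
  -- the rest of the fibre
  have h1 : ∀ x ∈ F \ C, ∃ W : X.Opens, IsCompact (W : Set X) ∧ x ∈ W ∧ (W : Set X) ∩ F ⊆ F \ C := by
    rintro x ⟨hxF, hxC⟩
    obtain ⟨W, hWc, hxW, hW⟩ := SectionConnNhd.exists_open_pre f y hxF
    refine ⟨W, hWc, hxW, fun a ha => ⟨ha.2, fun haC => hxC ?_⟩⟩
    have := hW.subset_connectedComponentIn ha Set.inter_subset_right ⟨hxW, hxF⟩
    rwa [← connectedComponentIn_eq haC] at this
  choose S hSc hxS hS using h1
  have hRcpt : IsCompact (F \ C) := by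
    have : F \ C = F \ (W₀ : Set X) := Set.ext fun x =>
      ⟨fun ⟨hxF, hxC⟩ => ⟨hxF, fun h => hxC (hW₀C ⟨h, hxF⟩)⟩, fun ⟨hxF, hx⟩ => ⟨hxF, fun hxC => hx (by
        obtain ⟨i, hit, hxi⟩ := Set.mem_iUnion₂.1 (ht hxC)
        exact Or.inl (Set.mem_biUnion hit hxi))⟩⟩
    rw [this]
    exact hF.diff W₀.2
  obtain ⟨t', ht'⟩ := hRcpt.elim_finite_subcover (fun x : ↥(F \ C) => (S x.1 x.2 : Set X)) (fun x => (S x.1 x.2).2)
    (fun x hx => Set.mem_iUnion.2 ⟨⟨x, hx⟩, hxS x hx⟩)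
  let W₁ : X.Opens := ⟨⋃ x ∈ t', (S x.1 x.2 : Set X), isOpen_biUnion fun x _ => (S x.1 x.2).2⟩
  have hW₁c : IsCompact (W₁ : Set X) := t'.isCompact_biUnion fun x _ => hSc x.1 x.2
  haveI : CompactSpace ↥(W₀ : Scheme.{u}) := isCompact_iff_compactSpace.1 hW₀c
  haveI : QuasiSeparatedSpace ↥(W₀ : Scheme.{u}) := W₀.ι.isOpenEmbedding.quasiSeparatedSpace
  haveI : QuasiSeparated (W₀.ι ≫ f) := QuasiSeparated.of_quasiSeparatedSpace _
  let V₁ : Set (Spec (CommRingCat.of A)) :=
    {y' | (MoreMor.nGeomIrredComp (W₀.ι ≫ f) y', MoreMor.nGeomConnComp (W₀.ι ≫ f) y') ∈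
      {p : ℕ∞ × ℕ∞ | p.2 = 1}}
  have hV₁ : IsConstructible V₁ :=
    (GeomComp.isLocallyConstructible_counts (W₀.ι ≫ f) _).isConstructible
  have hW₀' : IsConstructible (W₀ : Set X) := hW₀c.isConstructible W₀.2
  have hW₁' : IsConstructible (W₁ : Set X) := hW₁c.isConstructible W₁.2
  let B₁ : Set (Spec (CommRingCat.of A)) := f.base '' ((W₀ : Set X) ∩ W₁)
  let B₂ : Set (Spec (CommRingCat.of A)) := f.base '' ((W₀ : Set X) ∪ W₁)ᶜ
  let V := (V₁ ∩ g.base ⁻¹' (W₀ : Set X)) ∩ (B₁ᶜ ∩ B₂ᶜ)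
  refine ⟨V, W₀, W₁, ?_, ⟨⟨SectionConnNhd.nGeomConnComp_eq_one hg W₀ hgW₀ hW₀pre, hgW₀⟩, ?_, ?_⟩,
    hW₀c, hW₁c, ?_⟩
  · exact ((hV₁.inter ((g.isCompact_preimage hW₀c).isConstructible (W₀.2.preimage g.continuous))).inter
      ((f.isConstructible_image (hW₀'.inter hW₁')).compl.inter
        (f.isConstructible_image (hW₀'.union hW₁').compl).compl))
  · rintro ⟨x, ⟨hx0, hx1⟩, hxy⟩
    obtain ⟨i, hit, hxi⟩ := Set.mem_iUnion₂.1 hx1
    exact (hS i.1 i.2 ⟨hxi, hxy⟩).2 (hW₀C ⟨hx0, hxy⟩)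
  · rintro ⟨x, hx, hxy⟩
    by_cases hxC : x ∈ C
    · obtain ⟨i, hit, hxi⟩ := Set.mem_iUnion₂.1 (ht hxC)
      exact hx (Or.inl (Or.inl (Set.mem_biUnion hit hxi)))
    · exact hx (Or.inr (ht' ⟨hxy, hxC⟩))
  have hmem : ∀ x, f.base x ∈ V →
      (x ∈ MoreMor.sectionComponents f g ↔ x ∈ W₀) ∧ (x ∈ W₀ ↔ x ∉ W₁) := by
    intro x hxV
    obtain ⟨⟨hone, hgW⟩, hB₁, hB₂⟩ := hxV
    have hcov : ∀ a ∈ f.base ⁻¹' {f.base x}, a ∈ (W₀ : Set X) ∪ W₁ := fun a ha => by
      by_contra h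
      exact hB₂ ⟨a, h, ha⟩
    have hdis : ∀ a ∈ f.base ⁻¹' {f.base x}, a ∈ W₀ → a ∉ W₁ := fun a ha h h' => hB₁ ⟨a, ⟨h, h'⟩, ha⟩
    have hw : x ∈ W₀ ↔ x ∉ W₁ := ⟨hdis x rfl, fun h => (hcov x rfl).resolve_right h⟩
    refine ⟨⟨fun hx => ?_, fun hx => ?_⟩, hw⟩
    · by_contra h0
      obtain ⟨a, ha, ha0, ha1⟩ := isPreconnected_connectedComponentIn (F := f.base ⁻¹' {f.base x})
        (x := g.base (f.base x)) (W₀ : Set X) W₁ W₀.2 W₁.2
        ((connectedComponentIn_subset _ _).trans hcov)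
        ⟨_, mem_X0 hg _, hgW⟩ ⟨x, hx, (hcov x rfl).resolve_left h0⟩
      exact hdis a (connectedComponentIn_subset _ _ ha) ha0 ha1
    · exact (SectionConnNhd.isPreconnected_of_nGeomConnComp W₀ hone).subset_connectedComponentIn
        ⟨hgW, section_apply hg _⟩ Set.inter_subset_right ⟨hx, rfl⟩
  constructor
  · ext x
    exact ⟨fun ⟨h1, h2⟩ => ⟨h1, ((hmem x h1).1).1 h2⟩, fun ⟨h1, h2⟩ => ⟨h1, ((hmem x h1).1).2 h2⟩⟩
  · ext x
    exact ⟨fun ⟨h1, h2⟩ => ⟨h1, Classical.byContradiction fun h => h2 ((hmem x h1).1.2 ((hmem x h1).2.2 h))⟩,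
      fun ⟨h1, h2⟩ => ⟨h1, fun hE => ((hmem x h1).2.1 ((hmem x h1).1.1 hE)) h2⟩⟩

/-- The union of the components of a section is constructible over an affine base. -/
theorem isConstructible_sectionComponents [LocallyOfFinitePresentation f] [QuasiCompact f] [QuasiSeparated f]
    (hg : g ≫ f = 𝟙 _) : IsConstructible (MoreMor.sectionComponents f g) := by
  classical
  haveI : QuasiSeparatedSpace X := quasiSeparatedSpace_of_quasiSeparated f
  haveI : SpectralSpace ↥(Spec (CommRingCat.of A)) := ⟨⟩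
  choose V W₀ W₁ hV hyV hW₀ _ hE _ using exists_piece hg
  obtain ⟨t, ht⟩ := @IsCompact.elim_finite_subcover _ (constructibleTopology (Spec (CommRingCat.of A)))
    Set.univ _ (SpecSp.isCompact_cons (@isClosed_univ _ (constructibleTopology _))) V
    (fun i => (SpecSp.isClopen_cons_of_isConstructible (hV i)).2)
    (fun z _ => Set.mem_iUnion.2 ⟨z, hyV z⟩)
  have he : MoreMor.sectionComponents f g = ⋃ i ∈ (t : Set _), f.base ⁻¹' V i ∩ (W₀ i : Set X) := by
    refine Set.Subset.antisymm (fun x hx => ?_) (Set.iUnion₂_subset fun i _ => (hE i).ge.trans Set.inter_subset_right)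
    obtain ⟨i, hit, hi⟩ := Set.mem_iUnion₂.1 (ht (Set.mem_univ (f.base x)))
    exact Set.mem_biUnion hit ((hE i).le ⟨hi, hx⟩)
  rw [he]
  exact IsConstructible.biUnion t.finite_toSet fun i _ =>
    (f.isConstructible_preimage (hV i)).inter ((hW₀ i).isConstructible (W₀ i).2)

/-- Around each point of the base a chart inside the closure of the point over which the morphism is finitely
presented and quasi-separated. -/
theorem exists_fp_chart {X Y : Scheme.{u}} (f : X ⟶ Y) [LocallyOfFiniteType f] [QuasiCompact f] (y : Y) :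
    ∃ (B : Type u) (_ : CommRing B) (_ : IsDomain B) (d : Spec (CommRingCat.of B) ⟶ Y),
      IsImmersion d ∧ d.base ⟨⊥, Ideal.isPrime_bot⟩ = y ∧ Set.range d.base ⊆ closure {y} ∧
      (∀ O : Set (Spec (CommRingCat.of B)), IsOpen O →
        IsOpen (Subtype.val ⁻¹' (d.base '' O) : Set (closure ({y} : Set Y)))) ∧
      LocallyOfFinitePresentation (pullback.snd f d) ∧ QuasiSeparated (pullback.snd f d) := by
  classical
  obtain ⟨U, hU, hyU, -⟩ := exists_isAffineOpen_mem_and_subset (U := (⊤ : Y.Opens)) (x := y) trivial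
  let p := hU.primeIdealOf ⟨y, hyU⟩
  let R : Type u := Γ(Y, U)
  let A : Type u := R ⧸ p.asIdeal
  let π : R →+* A := Ideal.Quotient.mk p.asIdeal
  let cl : Spec (CommRingCat.of A) ⟶ Spec Γ(Y, U) := Spec.map (CommRingCat.ofHom π)
  let c := cl ≫ hU.fromSpec
  haveI : IsClosedImmersion cl := IsClosedImmersion.spec_of_surjective _ Ideal.Quotient.mk_surjective
  have hemb : Topology.IsEmbedding c.base := hU.fromSpec.isOpenEmbedding.isEmbedding.comp cl.isClosedEmbedding.isEmbedding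
  have hclp : Set.range cl.base = closure {p} := by
    rw [PrimeSpectrum.closure_singleton]
    exact (range_comap_of_surjective _ π Ideal.Quotient.mk_surjective).trans (by rw [Ideal.mk_ker])
  have hrange : Set.range c.base = (U : Set Y) ∩ closure {y} := by
    rw [show (c.base : _ → Y) = hU.fromSpec.base ∘ cl.base from rfl, Set.range_comp, hclp]
    ext z
    constructor
    · rintro ⟨Q, hQ, rfl⟩
      refine ⟨hU.range_fromSpec.le ⟨Q, rfl⟩, ?_⟩
      have h := (specializes_iff_mem_closure.2 hQ).map hU.fromSpec.continuous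
      rw [hU.fromSpec_primeIdealOf] at h
      exact h.mem_closure
    · rintro ⟨hz, hzy⟩
      obtain ⟨Q, rfl⟩ := hU.range_fromSpec.ge hz
      refine ⟨Q, (hU.fromSpec.isOpenEmbedding.isInducing.specializes_iff.1 ?_).mem_closure, rfl⟩
      rw [hU.fromSpec_primeIdealOf]
      exact specializes_iff_mem_closure.2 hzy
  obtain ⟨a, ha, _, _⟩ := exists_restrict_fp (pullback.snd f c)
  let Aa := Localization.Away a
  haveI : IsDomain Aa := IsLocalization.isDomain_localization (powers_le_nonZeroDivisors_of_noZeroDivisors ha)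
  let g := Spec.map (CommRingCat.ofHom (algebraMap A Aa))
  haveI : IsOpenImmersion g := IsOpenImmersion.of_isLocalization a
  have hgη : c.base (g.base (⟨⊥, Ideal.isPrime_bot⟩ : PrimeSpectrum Aa)) = y := by
    have h1 : cl.base (g.base (⟨⊥, Ideal.isPrime_bot⟩ : PrimeSpectrum Aa)) = p := PrimeSpectrum.ext (Ideal.ext fun x => by
      show algebraMap A Aa (π x) ∈ (⊥ : Ideal Aa) ↔ _
      rw [Ideal.mem_bot, map_eq_zero_iff _ (IsLocalization.injective Aa (powers_le_nonZeroDivisors_of_noZeroDivisors ha))]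
      exact Ideal.Quotient.eq_zero_iff_mem)
    show hU.fromSpec.base (cl.base (g.base (⟨⊥, Ideal.isPrime_bot⟩ : PrimeSpectrum Aa))) = y
    rw [h1, hU.fromSpec_primeIdealOf]
  have hsub : Set.range (g ≫ c).base ⊆ closure {y} := by
    rintro _ ⟨w, rfl⟩
    exact (hrange.le ⟨g.base w, rfl⟩).2
  have e : pullback.snd (pullback.snd f c) g =
      (pullbackLeftPullbackSndIso f c g).hom ≫ pullback.snd f (g ≫ c) := by
    rw [pullbackLeftPullbackSndIso_hom_snd]
  refine ⟨Aa, inferInstance, inferInstance, g ≫ c, inferInstance, hgη, hsub, fun O hO => ?_, ?_, ?_⟩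
  · obtain ⟨W, hW, hWe⟩ := hemb.isInducing.isOpen_iff.1 (g.isOpenEmbedding.isOpenMap _ hO)
    have : (Subtype.val ⁻¹' ((g ≫ c).base '' O) : Set (closure ({y} : Set Y))) =
        Subtype.val ⁻¹' (W ∩ (U : Set Y)) := by
      ext ⟨z, hz⟩
      simp only [Set.mem_preimage]
      constructor
      · rintro ⟨w, hw, rfl⟩
        exact ⟨hWe.ge ⟨w, hw, rfl⟩, (hrange.le ⟨g.base w, rfl⟩).1⟩
      · rintro ⟨hzW, hzU⟩
        obtain ⟨w, rfl⟩ := hrange.ge ⟨hzU, hz⟩
        obtain ⟨w', hw', hw''⟩ := hWe.le hzW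
        exact ⟨w', hw', congrArg c.base hw''⟩
    rw [this]
    exact (hW.inter U.2).preimage continuous_subtype_val
  · exact (MorphismProperty.cancel_left_of_respectsIso @LocallyOfFinitePresentation
      (pullbackLeftPullbackSndIso f c g).hom (pullback.snd f (g ≫ c))).1 (e ▸ ‹LocallyOfFinitePresentation (pullback.snd (pullback.snd f c) g)›)
  · exact (MorphismProperty.cancel_left_of_respectsIso @QuasiSeparated
      (pullbackLeftPullbackSndIso f c g).hom (pullback.snd f (g ≫ c))).1 (e ▸ ‹QuasiSeparated (pullback.snd (pullback.snd f c) g)›)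

/-- **Near each point, inside its closure, the components of a section form a clopen set.** -/
theorem exists_clopen_piece {X Y : Scheme.{u}} (f : X ⟶ Y) (s : Y ⟶ X) (hs : s ≫ f = 𝟙 Y)
    [LocallyOfFiniteType f] [QuasiCompact f] (y : Y) :
    ∃ V : Set Y, V ⊆ closure {y} ∧ y ∈ V ∧ IsOpen (Subtype.val ⁻¹' V : Set (closure ({y} : Set Y))) ∧
      IsClopen (Subtype.val ⁻¹' MoreMor.sectionComponents f s : Set ↑(f.base ⁻¹' V)) := by
  obtain ⟨B, _, _, d, _, hdy, hdsub, hdopen, _, _⟩ := exists_fp_chart f y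
  let P := pullback f d
  let ρ : P ⟶ X := pullback.fst f d
  let q : P ⟶ Spec (CommRingCat.of B) := pullback.snd f d
  have hpb : IsPullback ρ q f d := IsPullback.of_hasPullback f d
  haveI : QuasiCompact q := MorphismProperty.pullback_snd f d ‹_›
  haveI : IsImmersion ρ := MorphismProperty.pullback_fst f d ‹_›
  let σ : Spec (CommRingCat.of B) ⟶ P := pullback.lift (d ≫ s) (𝟙 _)
    (by rw [Category.assoc, hs, Category.comp_id, Category.id_comp])
  have hσq : σ ≫ q = 𝟙 _ := pullback.lift_snd _ _ _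
  have hσρ : σ ≫ ρ = d ≫ s := pullback.lift_fst _ _ _
  let η : Spec (CommRingCat.of B) := ⟨⊥, Ideal.isPrime_bot⟩
  obtain ⟨V, W₀, W₁, hV, hηV, -, -, hE, hEc⟩ := exists_piece (f := q) hσq η
  obtain ⟨O, hOV, hO, hηO⟩ := mem_interior.1 (SectionConnFlat.mem_interior_of_constructible V η fun z hz =>
    ⟨V, hV, by
      have : z = η := (hz.antisymm ((PrimeSpectrum.le_iff_specializes η z).1 bot_le)).eq
      rw [this]; exact hηV, subset_rfl⟩)
  refine ⟨d.base '' O, (Set.image_subset_range _ _).trans hdsub, ⟨η, hηO, hdy⟩, hdopen O hO, ?_⟩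
  have key : ∀ x, f.base x ∈ d.base '' O → ∃ p, q.base p ∈ O ∧ ρ.base p = x ∧
      (x ∈ MoreMor.sectionComponents f s ↔ p ∈ W₀) ∧ (p ∈ W₀ ↔ p ∉ W₁) := by
    rintro x ⟨b, hb, hbx⟩
    obtain ⟨p, hp1, hp2⟩ := Scheme.Pullback.exists_preimage_pullback (f := f) (g := d) x b hbx.symm
    have hpO : q.base p ∈ O := by rw [show q.base p = b from hp2]; exact hb
    have hiff : x ∈ MoreMor.sectionComponents f s ↔ p ∈ MoreMor.sectionComponents q σ := by
      have hfp : f.base x = d.base (q.base p) := by rw [show q.base p = b from hp2]; exact hbx.symm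
      show x ∈ X0 f s (f.base x) ↔ p ∈ X0 q σ (q.base p)
      rw [hfp, ← hp1]
      exact ⟨SectionBC.mem_X0_of_map hpb hσρ hσq hs rfl, SectionBC.mem_X0_map hpb hσρ hσq⟩
    have h0 : p ∈ MoreMor.sectionComponents q σ ↔ p ∈ W₀ :=
      ⟨fun h => (hE.le ⟨hOV hpO, h⟩).2, fun h => (hE.ge ⟨hOV hpO, h⟩).2⟩
    exact ⟨p, hpO, hp1, hiff.trans h0, fun h h' => (hEc.ge ⟨hOV hpO, h'⟩).2 (h0.2 h),
      fun h => Classical.byContradiction fun h' => h (hEc.le ⟨hOV hpO, fun hm => h' (h0.1 hm)⟩).2⟩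
  obtain ⟨O₀, hO₀, hO₀e⟩ := ρ.isEmbedding.isInducing.isOpen_iff.1 W₀.2
  obtain ⟨O₁, hO₁, hO₁e⟩ := ρ.isEmbedding.isInducing.isOpen_iff.1 W₁.2
  refine ⟨⟨?_⟩, ?_⟩
  · convert hO₁.preimage continuous_subtype_val using 1
    ext ⟨x, hx⟩
    obtain ⟨p, -, rfl, h1, h2⟩ := key x hx
    show ρ.base p ∉ MoreMor.sectionComponents f s ↔ ρ.base p ∈ O₁
    rw [h1, h2, not_not]
    exact (Set.ext_iff.1 hO₁e p).symm
  · convert hO₀.preimage continuous_subtype_val using 1
    ext ⟨x, hx⟩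
    obtain ⟨p, -, rfl, h1, -⟩ := key x hx
    show ρ.base p ∈ MoreMor.sectionComponents f s ↔ ρ.base p ∈ O₀
    rw [h1]
    exact (Set.ext_iff.1 hO₀e p).symm

end Groth.Agent.GeomUnib.SectionConnConstr
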