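import Groth.Agent.GeomUnib.SectionKey
import Groth.Agent.GeomUnib.SectionSemi
import Groth.Agent.GeomUnib.SectionBaseChange
import Groth.Agent.SectExt.Basic
import Groth.Agent.S2277
import Groth.Prelude.Def_MoreMor
import Groth.Agent.FlatDescent.Scheme

/-!
# The connected component of a section along a discrete valuation ring

If the morphism is universally open with geometrically reduced fibre along the component over the
closed point, the local rings there have connected punctured generic spectrum, so the generisations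
of that component lie in the component over the generic point.
-/

set_option autoImplicit false
set_option linter.style.haveILetI false
set_option linter.unusedSectionVars false
set_option backward.isDefEq.respectTransparency false
set_option maxHeartbeats 800000

universe u

open CategoryTheory CategoryTheory.Limits AlgebraicGeometry TopologicalSpace
open Groth.Agent.GeomUnib.SectionComp

namespace Groth.Agent.GeomUnib.SectionConnDvr

/-- A local ring with a regular element cutting out a reduced quotient has no idempotent but zero and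
one after inverting the element. -/
theorem idempotent_away {O : Type u} [CommRing O] [IsLocalRing O] (t : O) (ht : ∀ b, t * b = 0 → b = 0)
    (hrad : (Ideal.span {t}).IsRadical) (r : Localization.Away t) (hr : IsIdempotentElem r) : r = 0 ∨ r = 1 := by
  let L := Localization.Away t
  have hinj : Function.Injective (algebraMap O L) := by
    rw [injective_iff_map_eq_zero]
    intro b hb
    obtain ⟨⟨_, n, rfl⟩, hn⟩ := (IsLocalization.map_eq_zero_iff (Submonoid.powers t) L b).1 hb
    replace hn : t ^ n * b = 0 := hn
    revert b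
    induction n with
    | zero => intro b _ hn; simpa using hn
    | succ n ih =>
      intro b hb hn
      refine ih b hb (ht _ ?_)
      rw [← mul_assoc, ← pow_succ']
      exact hn
  have key : ∀ (n : ℕ) (a : O), r * algebraMap O L t ^ n = algebraMap O L a → r = 0 ∨ r = 1 := by
    intro n
    induction n with
    | zero =>
      intro a ha
      rw [pow_zero, mul_one] at ha
      have h2 : a * a = a := hinj (by rw [map_mul, ← ha]; exact hr)
      by_cases hu : IsUnit a
      · refine Or.inr ?_
        rw [ha, hu.mul_eq_left.1 h2, map_one]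
      · refine Or.inl ?_
        have hu' : IsUnit (1 - a) := (IsLocalRing.isUnit_or_isUnit_one_sub_self a).resolve_left hu
        have h3 : (1 - a) * a = 0 := by rw [sub_mul, one_mul, h2, sub_self]
        rw [ha, hu'.mul_right_eq_zero.1 h3, map_zero]
    | succ n ih =>
      intro a ha
      have h1 : a ^ 2 = t ^ (n + 1) * a := hinj (by
        rw [map_pow, map_mul, map_pow, ← ha]
        calc (r * algebraMap O L t ^ (n + 1)) ^ 2
            = (r * r) * (algebraMap O L t ^ (n + 1) * algebraMap O L t ^ (n + 1)) := by ring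
          _ = _ := by rw [hr]; ring)
      have h2 : a ∈ Ideal.span {t} := hrad ⟨2, Ideal.mem_span_singleton'.2 ⟨t ^ n * a, by rw [h1]; ring⟩⟩
      obtain ⟨c, rfl⟩ := Ideal.mem_span_singleton'.1 h2
      refine ih c (((IsLocalization.Away.algebraMap_isUnit t).mul_left_inj (b := r * algebraMap O L t ^ n)
        (c := algebraMap O L c)).1 ?_)
      rw [← map_mul, ← ha, pow_succ]
      ring
  obtain ⟨n, a, ha⟩ := IsLocalization.Away.surj t r
  exact key n a ha

/-- A point in the closure of an open set is a specialisation of one of its points. -/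
theorem exists_gen_of_mem_closure {X : Scheme.{u}} [IsLocallyNoetherian X] {K : Set X} (hK : IsOpen K) {z : X}
    (hz : z ∈ closure K) : ∃ k ∈ K, k ⤳ z := by
  obtain ⟨U, hU, hzU, -⟩ := exists_isAffineOpen_mem_and_subset (U := (⊤ : X.Opens)) (x := z) trivial
  haveI : IsNoetherianRing Γ(X, U) := IsLocallyNoetherian.component_noetherian (X := X) ⟨U, hU⟩
  obtain ⟨P, rfl⟩ : z ∈ Set.range hU.fromSpec := by rw [hU.range_fromSpec]; exact hzU
  let O : Set (PrimeSpectrum Γ(X, U)) := hU.fromSpec ⁻¹' K
  have hP : P ∈ closure (O ∩ Set.univ) := by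
    rw [Set.inter_univ]
    show P ∈ closure (hU.fromSpec ⁻¹' K)
    rw [← hU.fromSpec.isOpenEmbedding.isOpenMap.preimage_closure_eq_closure_preimage hU.fromSpec.continuous]
    exact hz
  obtain ⟨b, ⟨hb, -⟩, hbP⟩ := SectExt.exists_specializes_of_mem_closure
    (hK.preimage hU.fromSpec.continuous) isClosed_univ hP
  exact ⟨_, hb, hbP.map hU.fromSpec.continuous⟩

/-- A point at which a morphism is flat has generisations over all generisations of its image. -/
theorem exists_gen_of_flat {X Y : Scheme.{u}} (f : X ⟶ Y) [LocallyOfFinitePresentation f] {a : X}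
    (ha : (f.stalkMap a).hom.Flat) {η : Y} (hη : η ⤳ f.base a) : ∃ b, b ⤳ a ∧ f.base b = η := by
  let F : X.Opens := ⟨_, FlatDescent.isOpen_flatLocus_hom f⟩
  haveI : Flat (F.ι ≫ f) := by
    rw [Flat.iff_flat_stalkMap]
    intro z
    rw [Scheme.Hom.stalkMap_comp]
    exact RingHom.Flat.comp (show (f.stalkMap (F.ι.base z)).hom.Flat from z.2)
      (RingHom.Flat.of_bijective (asIso (F.ι.stalkMap z)).commRingCatIsoToRingEquiv.bijective)
  obtain ⟨b, hb, hbη⟩ := Flat.generalizingMap (F.ι ≫ f) (show η ⤳ (F.ι ≫ f).base ⟨a, ha⟩ from hη)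
  exact ⟨b.1, hb.map F.ι.continuous, hbη⟩

variable {A : Type u} [CommRing A] [IsDomain A] [IsDiscreteValuationRing A]
variable {P : Scheme.{u}} (q : P ⟶ Spec (CommRingCat.of A)) [LocallyOfFiniteType q]

/-- Flat and with reduced closed fibre at a point, the generic fibre is connected near the point. -/
theorem eq_of_open_disjoint {p : P} (hp : q.base p = IsLocalRing.closedPoint A)
    (hflat : (q.stalkMap p).hom.Flat)
    (hred : _root_.IsReduced ((q.fiber (q.base p)).presheaf.stalk (q.asFiber p)))
    {K D : Set P} (hK : IsOpen K) (hD : IsOpen D) (hdisj : Disjoint K D)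
    (hKD : K ∪ D = q.base ⁻¹' {genPt A}) (hpK : p ∈ closure K) (hpD : p ∈ closure D) : False := by
  haveI : IsLocallyNoetherian P := LocallyOfFiniteType.isLocallyNoetherian q
  obtain ⟨k, hk, hkp⟩ := exists_gen_of_mem_closure hK hpK
  obtain ⟨d, hd, hdp⟩ := exists_gen_of_mem_closure hD hpD
  let B := P.presheaf.stalk p
  let O := (Spec (CommRingCat.of A)).presheaf.stalk (q.base p)
  let φ : O →+* B := (q.stalkMap p).hom
  let I : Ideal B := FlatDescent.maxExt q p
  have hI : I = (IsLocalRing.maximalIdeal O).map φ := rfl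
  have hrad : I.IsRadical := by
    have hker := FlatDescent.ker_stalkMap_fiberι q (q.base p) (q.asFiber p)
    haveI := hred
    have h1 : (RingHom.ker ((q.fiberι (q.base p)).stalkMap (q.asFiber p)).hom).IsRadical := fun a ha => by
      obtain ⟨n, hn⟩ := ha
      rw [RingHom.mem_ker, map_pow] at hn
      exact IsReduced.eq_zero _ ⟨n, hn⟩
    rw [hker, Scheme.Hom.fiberι_asFiber] at h1
    exact h1
  obtain ⟨t, ht0, ht⟩ : ∃ t : O, (∀ b, t * b = 0 → b = 0) ∧ IsLocalRing.maximalIdeal O = Ideal.span {t} := by
    obtain ⟨π, hπ⟩ := IsDiscreteValuationRing.exists_irreducible A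
    let ι := (Spec.stalkIso (CommRingCat.of A) (q.base p)).commRingCatIsoToRingEquiv.symm
    let L := Localization.AtPrime (q.base p).asIdeal
    haveI : IsDomain L := IsLocalization.isDomain_localization (Ideal.primeCompl_le_nonZeroDivisors _)
    have hne : algebraMap A L π ≠ 0 := fun h => hπ.ne_zero
      (IsLocalization.injective L (Ideal.primeCompl_le_nonZeroDivisors (q.base p).asIdeal) (by rw [map_zero]; exact h))
    refine ⟨ι (algebraMap A L π), fun b hb => ?_, ?_⟩
    · refine ι.symm.injective ?_
      rw [map_zero]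
      have h1 : algebraMap A L π * ι.symm b = 0 := by
        have h2 := congrArg ι.symm hb
        rwa [map_mul, map_zero, RingEquiv.symm_apply_apply] at h2
      exact (mul_eq_zero.1 h1).resolve_left hne
    · have hc : (q.base p).asIdeal = Ideal.span {π} := by
        rw [hp, ← hπ.maximalIdeal_eq]
        rfl
      have h2 : IsLocalRing.maximalIdeal L = Ideal.span {algebraMap A L π} :=
        (Localization.AtPrime.map_eq_maximalIdeal).symm.trans
          ((congrArg (Ideal.map (algebraMap A L)) hc).trans (by rw [Ideal.map_span, Set.image_singleton]))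
      refine (IsLocalRing.map_ringEquiv_maximalIdeal ι).symm.trans ?_
      rw [h2, Ideal.map_span, Set.image_singleton]
  have hspan : I = Ideal.span {φ t} := by rw [hI, ht, Ideal.map_span, Set.image_singleton]
  have hreg : ∀ b, φ t * b = 0 → b = 0 := by
    letI := φ.toAlgebra
    haveI : Module.Flat O B := hflat
    intro b hb
    have h : IsSMulRegular B t := (IsSMulRegular.of_right_eq_zero_of_smul (fun r hr => by
      exact ht0 r hr) : IsSMulRegular O t).of_flat
    exact h.right_eq_zero_of_smul (by rw [Algebra.smul_def]; exact hb)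
  haveI : IsLocalRing B := inferInstance
  let j : PrimeSpectrum (Localization.Away (φ t)) → P :=
    fun Q => P.fromSpecStalk p (PrimeSpectrum.comap (algebraMap B (Localization.Away (φ t))) Q)
  have hj : Continuous j :=
    (P.fromSpecStalk p).continuous.comp (PrimeSpectrum.continuous_comap _)
  have hiff : ∀ Q : PrimeSpectrum B,
      q.base (P.fromSpecStalk p Q) = IsLocalRing.closedPoint A ↔ φ t ∈ Q.asIdeal := by
    intro Q
    have h1 : q.base (P.fromSpecStalk p Q) =
        (Spec (CommRingCat.of A)).fromSpecStalk (q.base p) (PrimeSpectrum.comap φ Q) := by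
      rw [← Scheme.Hom.comp_apply, ← Scheme.SpecMap_stalkMap_fromSpecStalk]
      rfl
    rw [h1, ← hp, ← Ideal.span_singleton_le_iff_mem, ← hspan, hI, Ideal.map_le_iff_le_comap]
    constructor
    · intro h
      have h2 : PrimeSpectrum.comap φ Q = IsLocalRing.closedPoint O :=
        ((Spec (CommRingCat.of A)).fromSpecStalk (q.base p)).isEmbedding.injective
          (h.trans Scheme.fromSpecStalk_closedPoint.symm)
      exact (congrArg PrimeSpectrum.asIdeal h2).ge
    · intro h
      rw [show PrimeSpectrum.comap φ Q = IsLocalRing.closedPoint O from PrimeSpectrum.ext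
        (le_antisymm (IsLocalRing.le_maximalIdeal (Ideal.IsPrime.ne_top inferInstance)) h)]
      exact Scheme.fromSpecStalk_closedPoint
  have hrange : ∀ z : P, z ⤳ p → z ∈ K ∪ D → z ∈ Set.range j := by
    intro z hzp hz
    rw [hKD] at hz
    obtain ⟨Q, rfl⟩ : z ∈ Set.range (P.fromSpecStalk p) := by rw [Scheme.range_fromSpecStalk]; exact hzp
    have hQ : φ t ∉ Q.asIdeal := fun h => genPt_ne_closedPoint ((show q.base _ = genPt A from hz).symm.trans ((hiff Q).2 h))
    obtain ⟨R, rfl⟩ : Q ∈ Set.range (PrimeSpectrum.comap (algebraMap B (Localization.Away (φ t)))) := by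
      rw [PrimeSpectrum.localization_away_comap_range (Localization.Away (φ t)) (φ t)]
      exact hQ
    exact ⟨R, rfl⟩
  have hjgen : ∀ R, j R ∈ K ∪ D := by
    intro R
    rw [hKD]
    refine (eq_genPt_or _).resolve_right fun h => ?_
    have h1 : φ t ∈ (PrimeSpectrum.comap (algebraMap B (Localization.Away (φ t))) R).asIdeal :=
      (hiff _).1 h
    have h2 : PrimeSpectrum.comap (algebraMap B (Localization.Away (φ t))) R ∈
        (PrimeSpectrum.basicOpen (φ t) : Set (PrimeSpectrum B)) := by
      rw [← PrimeSpectrum.localization_away_comap_range (Localization.Away (φ t)) (φ t)]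
      exact ⟨R, rfl⟩
    exact h2 h1
  have hclopen : IsClopen (j ⁻¹' K) := by
    refine ⟨?_, hK.preimage hj⟩
    have : j ⁻¹' K = (j ⁻¹' D)ᶜ := Set.ext fun R =>
      ⟨fun h h' => Set.disjoint_left.1 hdisj h h', fun h => (hjgen R).resolve_right h⟩
    rw [this]
    exact (hD.preimage hj).isClosed_compl
  obtain ⟨e, he, heq⟩ := PrimeSpectrum.isClopen_iff.1 hclopen
  obtain ⟨R₁, rfl⟩ := hrange k hkp (Or.inl hk)
  obtain ⟨R₂, rfl⟩ := hrange d hdp (Or.inr hd)
  have hR₁ : R₁ ∈ (PrimeSpectrum.basicOpen e : Set (PrimeSpectrum (Localization.Away (φ t)))) := heq ▸ hk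
  have hR₂ : R₂ ∉ (PrimeSpectrum.basicOpen e : Set (PrimeSpectrum (Localization.Away (φ t)))) := heq ▸
    fun h => Set.disjoint_left.1 hdisj h hd
  rcases idempotent_away (φ t) hreg (hspan ▸ hrad) e he with rfl | rfl
  · exact hR₁ R₁.asIdeal.zero_mem
  · exact hR₂ fun h => R₂.isPrime.ne_top ((Ideal.eq_top_iff_one _).2 h)

variable {X Y : Scheme.{u}} {f : X ⟶ Y} {g : Y ⟶ X} [LocallyOfFiniteType f]

/-- **Generisations of the component of a section stay in the components.** -/
theorem mem_sectionComponents_of_gen [IsLocallyNoetherian Y] (hg : g ≫ f = 𝟙 Y) {y : Y} {x x' : X}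
    (hx : x ∈ X0 f g y) (hyp : ∀ a ∈ X0 f g y, EGA43.IsUnivOpenAt f a ∧
      FBase.IsGeomReducedAt (f.fiberToSpecResidueField (f.base a)) (f.asFiber a))
    (hxx : x' ⤳ x) : x' ∈ MoreMor.sectionComponents f g := by
  have hfx : f.base x = y := apply_of_mem_X0 hx
  rcases eq_or_ne (f.base x') y with heq | hne
  · show x' ∈ X0 f g (f.base x')
    rw [heq]
    exact mem_X0_of_specializes heq hx hxx
  haveI : IsLocallyNoetherian X := LocallyOfFiniteType.isLocallyNoetherian f
  obtain ⟨A, _, _, _, h, hc, hgen⟩ := exists_dvr_pt hxx (fun e => hne (e ▸ hfx))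
  let k := h ≫ f
  let P := pullback f k
  let q : P ⟶ Spec (CommRingCat.of A) := pullback.snd f k
  let ρ : P ⟶ X := pullback.fst f k
  let σ : Spec (CommRingCat.of A) ⟶ P := pullback.lift (k ≫ g) (𝟙 _)
    (by rw [Category.assoc, hg, Category.comp_id, Category.id_comp])
  let s : Spec (CommRingCat.of A) ⟶ P := pullback.lift h (𝟙 _) (by rw [Category.id_comp])
  have hσq : σ ≫ q = 𝟙 _ := pullback.lift_snd _ _ _
  have hsq : s ≫ q = 𝟙 _ := pullback.lift_snd _ _ _
  have hσρ : σ ≫ ρ = k ≫ g := pullback.lift_fst _ _ _
  have hsρ : ∀ a, ρ.base (s.base a) = h.base a := fun a => by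
    rw [← Scheme.Hom.comp_apply, pullback.lift_fst]
  have hpb : IsPullback ρ q f k := IsPullback.of_hasPullback f k
  haveI : LocallyOfFiniteType q := MorphismProperty.pullback_snd f k ‹_›
  haveI : IsLocallyNoetherian P := LocallyOfFiniteType.isLocallyNoetherian q
  haveI : LocallyConnectedSpace ↥P := S2277.result _ fun a => by
    obtain ⟨U, hU, haU, -⟩ := exists_isAffineOpen_mem_and_subset (U := (⊤ : P.Opens)) (x := a) trivial
    haveI : IsNoetherianRing Γ(P, U) := IsLocallyNoetherian.component_noetherian (X := P) ⟨U, hU⟩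
    refine ⟨(U : Set P), U.2.mem_nhds haU, ?_⟩
    rw [← hU.range_fromSpec]
    exact TopologicalSpace.NoetherianSpace.range _ hU.fromSpec.continuous
  let c := IsLocalRing.closedPoint A
  let η := genPt A
  have hkc : k.base c = y := by
    show f.base (h.base c) = y
    rw [hc, hfx]
  let C := X0 q σ c
  have hCy : ∀ a ∈ C, ρ.base a ∈ X0 f g y := fun a ha => hkc ▸ SectionBC.mem_X0_map hpb hσρ hσq ha
  have hsc : s.base c ∈ C := SectionBC.mem_X0_of_map hpb hσρ hσq hg (section_apply hsq c) (by
    rw [hsρ, hkc, hc]; exact hx)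
  have hred : ∀ a ∈ C, _root_.IsReduced ((q.fiber (q.base a)).presheaf.stalk (q.asFiber a)) := fun a ha =>
    isReduced_fiber_of_geomReduced k a
      (by rw [← Scheme.Hom.comp_apply, pullback.condition, Scheme.Hom.comp_apply])
      (f.asFiber (ρ.base a)) (f.fiberι_asFiber _) (hyp _ (hCy a ha)).2
  have hflat : ∀ a ∈ C, (q.stalkMap a).hom.Flat := fun a ha => by
    refine S4948.result q a (apply_of_mem_X0 ha) (fun z hz _ => ?_) (hred a ha)
    have hza : (q.fiberι (q.base a)).base z ⤳ a := (q.fiberι_asFiber a).subst
      (motive := fun t => (q.fiberι (q.base a)).base z ⤳ t)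
      ((specializes_iff_mem_closure.2 hz).map (q.fiberι _).continuous)
    have hzC : (q.fiberι (q.base a)).base z ∈ C :=
      mem_X0_of_specializes (((q.range_fiberι (q.base a)).le ⟨z, rfl⟩ : _ = q.base a).trans (apply_of_mem_X0 ha))
        ha hza
    exact (hyp _ (hCy _ hzC)).1 _ k _ rfl
  let Pη : Set P := q.base ⁻¹' {η}
  have hη : IsOpen Pη := by
    have : ({η} : Set (Spec (CommRingCat.of A))) = {c}ᶜ := Set.ext fun a =>
      ⟨fun h => by rw [Set.mem_singleton_iff] at h; subst h; exact genPt_ne_closedPoint,
        fun h => (eq_genPt_or a).resolve_right h⟩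
    show IsOpen (q.base ⁻¹' {η})
    rw [this]
    exact ((IsLocalRing.isClosed_singleton_closedPoint A).isOpen_compl).preimage q.continuous
  let K : Set P := connectedComponentIn Pη (σ.base η)
  let D : Set P := ⋃ a ∈ Pη \ K, connectedComponentIn Pη a
  have hσK : σ.base η ∈ K := mem_connectedComponentIn (section_apply hσq η)
  have hdisj : Disjoint K D := by
    refine Set.disjoint_left.2 fun a haK haD => ?_
    obtain ⟨b, ⟨hb, hbK⟩, hab⟩ := Set.mem_iUnion₂.1 haD
    refine hbK ?_
    show b ∈ connectedComponentIn Pη (σ.base η)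
    rw [connectedComponentIn_eq haK, ← connectedComponentIn_eq hab]
    exact mem_connectedComponentIn hb
  have hKD : K ∪ D = q.base ⁻¹' {genPt A} := by
    refine Set.Subset.antisymm (Set.union_subset (connectedComponentIn_subset _ _)
      (Set.iUnion₂_subset fun a _ => connectedComponentIn_subset _ _)) fun a ha => ?_
    by_cases haK : a ∈ K
    · exact Or.inl haK
    · exact Or.inr (Set.mem_iUnion₂.2 ⟨a, ⟨ha, haK⟩, mem_connectedComponentIn ha⟩)
  have hKo : IsOpen K := hη.connectedComponentIn
  have hDo : IsOpen D := isOpen_biUnion fun a _ => hη.connectedComponentIn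
  have hcov : C ⊆ closure K ∪ closure D := by
    intro a ha
    obtain ⟨b, hb, hbη⟩ := exists_gen_of_flat q (hflat a ha) (η := η)
      (by rw [apply_of_mem_X0 ha]; exact genPt_specializes _)
    rcases hKD.ge hbη with h' | h'
    · exact Or.inl (closure_mono (Set.singleton_subset_iff.2 h') hb.mem_closure)
    · exact Or.inr (closure_mono (Set.singleton_subset_iff.2 h') hb.mem_closure)
  have hsη : s.base η ∈ K := by
    have hmem : s.base η ∈ K ∪ D := hKD.ge (section_apply hsq η)
    refine hmem.resolve_right fun hD => ?_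
    obtain ⟨a, haC, haK, haD⟩ := (isPreconnected_closed_iff.1
      (isPreconnected_connectedComponentIn (F := q.base ⁻¹' {c}) (x := σ.base c))) (closure K) (closure D)
      isClosed_closure isClosed_closure hcov
      ⟨σ.base c, mem_X0 hσq c, closure_mono (Set.singleton_subset_iff.2 hσK)
        ((genPt_specializes c).map σ.continuous).mem_closure⟩
      ⟨s.base c, hsc, closure_mono (Set.singleton_subset_iff.2 hD)
        ((genPt_specializes c).map s.continuous).mem_closure⟩
    exact eq_of_open_disjoint q (apply_of_mem_X0 haC) (hflat a haC) (hred a haC) hKo hDo hdisj hKD haK haD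
  have hfin := SectionBC.mem_X0_map hpb hσρ hσq (y := η) (hsη : s.base η ∈ X0 q σ η)
  rw [hsρ, show k.base η = f.base (h.base η) from rfl, hgen] at hfin
  exact hfin

end Groth.Agent.GeomUnib.SectionConnDvr
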