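import Groth.Agent.GeomUnib.SectionBaseChange
import Groth.Agent.GeomUnib.DominantCrit
import Groth.Agent.GeomUnib.FibreGen
import Groth.Agent.GeomUnib.HyperplaneFibre

/-!
# Universal openness along the component of a section of constant dimension
-/

set_option autoImplicit false
set_option linter.style.haveILetI false
set_option linter.unusedSectionVars false
set_option backward.isDefEq.respectTransparency false

universe u

open CategoryTheory CategoryTheory.Limits AlgebraicGeometry TopologicalSpace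

namespace Groth.Agent.GeomUnib.SectionBC

open FibreDim SectionComp

variable {X Y : Scheme.{u}} (f : X ⟶ Y)

/-- Semicontinuity along a specialisation: a point of no smaller fibre dimension between. -/
theorem exists_between_fdim [LocallyOfFiniteType f] {z s : X} (h : z ⤳ s) :
    ∃ w, z ⤳ w ∧ w ⤳ s ∧ f.base w = f.base s ∧ fdim f z ≤ fdim f w := by
  have hs : s ∈ closure ({z} : Set X) ∩ f.base ⁻¹' {f.base s} := ⟨h.mem_closure, rfl⟩
  have h1 := fdim_le_localDim f isClosed_closure (subset_closure rfl : z ∈ closure {z}) h (f.base s) hs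
  obtain ⟨n, hn, ⟨w, hw, hwy, hws, hwn⟩, -⟩ := exists_localDim_eq f isClosed_closure (f.base s) s hs
  exact ⟨w, specializes_iff_mem_closure.2 hw, hws, hwy, h1.trans (hn.trans hwn.symm).le⟩

variable {f} {g : Y ⟶ X}

/-- If the component of the section over the image of a point on it is geometrically irreducible and
its dimension does not drop on the generisations, the morphism is universally open at the point. -/
theorem isUnivOpenAt_of_fibreDimAt_le [LocallyOfFinitePresentation f] (hg : g ≫ f = 𝟙 Y) {x : X}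
    (hx : x ∈ X0 f g (f.base x)) (hirr : GeomIrredAt f g (f.base x))
    (hd : ∀ η : Y, η ⤳ f.base x → d0 f g (f.base x) ≤ FlatMor.fibreDimAt f (g.base η)) :
    EGA43.IsUnivOpenAt f x := by
  obtain ⟨U, hU, hxU, -⟩ := exists_isAffineOpen_mem_and_subset (U := (⊤ : Y.Opens)) (x := f.base x) trivial
  obtain ⟨V, hV, hxV, hVU⟩ := exists_isAffineOpen_mem_and_subset (U := f ⁻¹ᵁ U) (x := x) hxU
  refine DominantCrit.isUnivOpenAt_of_torAt_fp f hU hV hVU hxV ?_
  letI := (f.appLE U V hVU).hom.toAlgebra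
  intro C _ _ _
  refine UnivOpenAt.torAt_of_bot_mem_image fun u P hP hu => ?_
  let h : Spec (CommRingCat.of C) ⟶ Y :=
    Spec.map (CommRingCat.ofHom (algebraMap Γ(Y, U) C)) ≫ hU.fromSpec
  obtain ⟨Φ, hΦ, hfst, hsnd, hall⟩ :=
    UnivOpenAt.exists_chart f hU hV hVU h C (𝟙 _) (by rw [Category.id_comp])
  let q := pullback.snd f h
  set w := q.base (Φ.base P) with hw
  have hPx : (pullback.fst f h).base (Φ.base P) = x :=
    (hfst P).trans ((UnivOpenAt.fromSpec_eq_iff hV hxV _).2 hP)
  have hwy : h.base w = f.base x := by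
    rw [hw, ← Scheme.Hom.comp_apply, ← pullback.condition, Scheme.Hom.comp_apply, hPx]
  let gen : Spec (CommRingCat.of C) := (⟨⊥, Ideal.isPrime_bot⟩ : PrimeSpectrum C)
  have hgw : gen ⤳ w := (PrimeSpectrum.le_iff_specializes (⟨⊥, Ideal.isPrime_bot⟩ : PrimeSpectrum C) w).1 bot_le
  let σ : Spec (CommRingCat.of C) ⟶ pullback f h := pullback.lift (h ≫ g) (𝟙 _)
    (by rw [Category.assoc, hg, Category.comp_id, Category.id_comp])
  have hσq : ∀ b, q.base (σ.base b) = b := fun b => by
    rw [← Scheme.Hom.comp_apply, pullback.lift_snd]; rfl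
  have hσf : ∀ b, (pullback.fst f h).base (σ.base b) = g.base (h.base b) := fun b => by
    rw [← Scheme.Hom.comp_apply, pullback.lift_fst]; rfl
  obtain ⟨γ, hγs, hγX, -, hγ, -, hγd⟩ := exists_generic_bc_at hg h (z := w) (by rw [hwy]; exact hirr)
  obtain ⟨n, hn, ⟨z, hz, hzs, hzn⟩, -⟩ := exists_fibreDimAt_eq q (σ.base gen)
  rw [fibreDimAt_bc f h (σ.base gen), hσf] at hn
  obtain ⟨w', hzw, hws, hwy', hzw'⟩ := exists_between_fdim q (hzs.trans (hgw.map σ.continuous))
  rw [hσq] at hwy'
  have hfw : f.base ((pullback.fst f h).base w') = h.base w := by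
    rw [← hwy', ← Scheme.Hom.comp_apply, pullback.condition, Scheme.Hom.comp_apply]
  have hγw : γ ⤳ w' := hγ w' hwy' (mem_X0_of_specializes hfw (by rw [hσf]; exact mem_X0 hg _)
    (hws.map (pullback.fst f h).continuous))
  have hle : d0 f g (f.base x) ≤ fdim q w' := by
    refine le_trans ?_ hzw'
    rw [hzn, ← hn]
    exact hd _ (hwy ▸ hgw.map h.continuous)
  rw [← hwy, ← hγd] at hle
  rcases eq_or_ne w' γ with he | hne
  · have hzP : z ⤳ Φ.base P := (he ▸ hzw).trans (hγ (Φ.base P) rfl (by rw [hPx, hwy]; exact hx))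
    obtain ⟨P₁, rfl⟩ := hzP.mem_open Φ.isOpenEmbedding.isOpen_range ⟨P, rfl⟩
    have hle₁ : P₁.asIdeal ≤ P.asIdeal :=
      (PrimeSpectrum.le_iff_specializes P₁ P).2 (Φ.isOpenEmbedding.isInducing.specializes_iff.1 hzP)
    refine ⟨P₁, fun hu₁ => hu (hle₁ hu₁), ?_⟩
    have h1 : PrimeSpectrum.comap (UnivOpenAt.inl Γ(Y, U) Γ(X, V) C) P₁ = gen := by
      rw [hσq] at hz
      exact (hsnd P₁).symm.trans hz
    exact congrArg PrimeSpectrum.asIdeal h1
  · exfalso
    obtain ⟨a, ha, -⟩ := exists_fdim q w'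
    obtain ⟨b, hb, -⟩ := exists_fdim q γ
    have h1 := fdim_add_one_le q hγw (hγs.trans hwy'.symm) hne ha hb
    rw [ha, hb] at hle
    have : b ≤ a := by exact_mod_cast hle
    omega

end Groth.Agent.GeomUnib.SectionBC
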