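import Groth.Agent.GeomUnib.SectionRestrict
import Groth.Agent.GeomUnib.SectionUnivOpen
import Groth.Agent.OpenAt.Basic

/-!
# Constancy of the dimension of the component of a section over arbitrary bases
-/

set_option autoImplicit false
set_option linter.style.haveILetI false
set_option linter.unusedSectionVars false
set_option backward.isDefEq.respectTransparency false

universe u

open CategoryTheory CategoryTheory.Limits AlgebraicGeometry TopologicalSpace

namespace Groth.Agent.GeomUnib.SectionBC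

open FibreDim SectionComp

variable {X Y : Scheme.{u}} {f : X ⟶ Y} {g : Y ⟶ X}

/-- Where the dimension does not drop along generisations it is constant nearby. -/
theorem exists_nhds_d0_eq_of_forall [LocallyOfFinitePresentation f] (hg : g ≫ f = 𝟙 Y) (hirr : GeomIrred f g)
    (y₀ : Y) (h : ∀ η : Y, η ⤳ y₀ → d0 f g y₀ ≤ d0 f g η) :
    ∃ V ∈ nhds y₀, ∀ z ∈ V, d0 f g z = d0 f g y₀ := by
  obtain ⟨n, hn, -, -⟩ := exists_fibreDimAt_eq f (g.base y₀)
  rw [fibreDimAt_section hg hirr] at hn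
  obtain ⟨V₁, hy₁, hV₁⟩ := exists_nhds_d0_le hg hirr y₀
  obtain ⟨V₂, hy₂, hV₂⟩ := mem_nhds_le_fibreDimAt (f := f) hg (y₀ := y₀) n fun η hη => by
    rw [fibreDimAt_section hg hirr, ← hn]; exact h η hη
  refine ⟨(V₁ ⊓ V₂ : Y.Opens), (V₁ ⊓ V₂).2.mem_nhds ⟨hy₁, hy₂⟩, fun z hz => le_antisymm (hV₁ z hz.1) ?_⟩
  rw [hn, ← fibreDimAt_section hg hirr]
  exact hV₂ z hz.2

/-- The dimension does not drop along generisations into a Noetherian local ring. -/
theorem d0_le_of_geomReduced_stalk [LocallyOfFinitePresentation f] (hg : g ≫ f = 𝟙 Y) (hirr : GeomIrred f g)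
    {y₀ : Y} (hN : IsNoetherianRing (Y.presheaf.stalk y₀))
    (hopen : ∀ ξ ∈ X0 f g y₀, X0 f g y₀ ⊆ closure {ξ} → EGA43.IsUnivOpenAt f ξ)
    (hred : FBase.IsGeomReducedAt (f.fiberToSpecResidueField (f.base (g.base y₀))) (f.asFiber (g.base y₀)))
    {η : Y} (h : η ⤳ y₀) : d0 f g y₀ ≤ d0 f g η := by
  haveI := hN
  let u := Y.fromSpecStalk y₀
  let f' := pullback.snd f u
  let g' : Spec (Y.presheaf.stalk y₀) ⟶ pullback f u := pullback.lift (u ≫ g) (𝟙 _)
    (by rw [Category.assoc, hg, Category.comp_id, Category.id_comp])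
  have hg' : g' ≫ f' = 𝟙 _ := pullback.lift_snd _ _ _
  have hs : g' ≫ pullback.fst f u = u ≫ g := pullback.lift_fst _ _ _
  have hpb := IsPullback.of_hasPullback f u
  have hirr' : GeomIrred f' g' := fun y =>
    (gik_iff f' g' y).1 ((gik_iff_of_isPullback hpb hs hg' hg y).2 ((gik_iff f g _).2 (hirr _)))
  have hd : ∀ a, d0 f' g' a = d0 f g (u.base a) := fun a => by
    rw [← fibreDimAt_section hg' hirr', ← fibreDimAt_section hg hirr, fibreDimAt_bc, ← Scheme.Hom.comp_apply, hs,
      Scheme.Hom.comp_apply]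
  set c : Spec (Y.presheaf.stalk y₀) := IsLocalRing.closedPoint (Y.presheaf.stalk y₀)
  have hc : u.base c = y₀ := Scheme.fromSpecStalk_closedPoint
  obtain ⟨a, ha⟩ : η ∈ Set.range u.base := by
    rw [Scheme.range_fromSpecStalk]; exact h
  have hac : a ⤳ c := IsLocalRing.specializes_closedPoint a
  obtain ⟨ξ, hξy, hξ, hspec, -, -⟩ := exists_generic hg hirr y₀
  have hgc : (pullback.fst f u).base (g'.base c) = g.base y₀ := by
    rw [← Scheme.Hom.comp_apply, hs, Scheme.Hom.comp_apply, hc]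
  rw [← ha, ← hd, (congrArg (d0 f g) hc.symm), ← hd]
  refine d0_le_of_geomReduced hg' hirr' (fun ξ' hξ' hsub => ?_) ?_ hac
  · have h1 : (pullback.fst f u).base ξ' ∈ X0 f g y₀ :=
      hc.subst (motive := fun t => (pullback.fst f u).base ξ' ∈ X0 f g t) (mem_X0_map hpb hs hg' hξ')
    obtain ⟨γ, hγc, hγX, -, hγ, hγmax, -⟩ := exists_generic_bc hg hirr u c
    replace hγX : (pullback.fst f u).base γ ∈ X0 f g y₀ :=
      hc.subst (motive := fun t => (pullback.fst f u).base γ ∈ X0 f g t) hγX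
    replace hγ : ∀ w, f'.base w = c → (pullback.fst f u).base w ∈ X0 f g y₀ → γ ⤳ w := fun w hw hwX =>
      hγ w hw (hc.symm.subst (motive := fun t => (pullback.fst f u).base w ∈ X0 f g t) hwX)
    have hγ' : γ ∈ X0 f' g' c := mem_X0_of_map hpb hs hg' hg hγc
      (hc.symm.subst (motive := fun t => (pullback.fst f u).base γ ∈ X0 f g t) hγX)
    have he : ξ' = γ := ((specializes_iff_mem_closure.2 (hsub hγ')).antisymm
      (hγ ξ' (apply_of_mem_X0 hξ') h1)).eq
    have hfξ : (pullback.fst f u).base ξ' = ξ := by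
      have h2 : ξ ⤳ (pullback.fst f u).base ξ' := hspec _ h1
      obtain ⟨v, hv1, hv2⟩ := Scheme.Pullback.exists_preimage_pullback (f := f) (g := u) ξ c (hξy.trans hc.symm)
      have h3 := (hγ v hv2 (hv1 ▸ hξ)).map (pullback.fst f u).continuous
      rw [hv1, ← he] at h3
      exact (h3.antisymm h2).eq
    exact OpenAt.isUnivOpenAt_of_isPullback hpb (hopen ξ hξ fun x hx => (hspec x hx).mem_closure) ξ' hfξ
  · rw [← grk_iff, grk_iff_of_isPullback hpb, hgc, grk_iff]
    exact hred

/-- The dimension does not drop along generisations if it is the dimension of the fibre at the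
maximal points. -/
theorem d0_le_of_dim_eq_maximal [LocallyOfFiniteType f] (hg : g ≫ f = 𝟙 Y) (hirr : GeomIrred f g) {y₀ : Y}
    (hopen : ∀ ξ ∈ X0 f g y₀, X0 f g y₀ ⊆ closure {ξ} → EGA43.IsUnivOpenAt f ξ)
    (hdim : ∀ y' : Y, y₀ ∈ closure {y'} → closure {y'} ∈ irreducibleComponents (Y : Type u) →
      topologicalKrullDim ↥(f.fiber y') = d0 f g y')
    {η : Y} (h : η ⤳ y₀) : d0 f g y₀ ≤ d0 f g η := by
  obtain ⟨y', hy'⟩ := QuasiSober.sober (isIrreducible_irreducibleComponent (x := η)) isClosed_irreducibleComponent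
  have hy'η : y' ⤳ η := hy'.specializes mem_irreducibleComponent
  have hc : closure {y'} ∈ irreducibleComponents (Y : Type u) := by
    rw [hy'.def]; exact irreducibleComponent_mem_irreducibleComponents η
  obtain ⟨V, hηV, hV⟩ := exists_nhds_d0_le hg hirr η
  exact (d0_le_of_dim_eq hg hirr hopen (hy'η.trans h) (hdim y' (hy'η.trans h).mem_closure hc)).trans
    (hV y' (hy'η.mem_open V.2 hηV))

end Groth.Agent.GeomUnib.SectionBC
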