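import Groth.Agent.GeomUnib.SectionComp
import Groth.Agent.GeomUnib.HyperplaneFibre
import Groth.Agent.GeomUnib.FibreGen

/-!
# Dimensions of components of a section along generisations
-/

set_option autoImplicit false
set_option linter.style.haveILetI false
set_option backward.isDefEq.respectTransparency false

universe u

open CategoryTheory AlgebraicGeometry

namespace Groth.Agent.GeomUnib.SectionDimSemi

open FibreDim SectionComp

variable {X Y : Scheme.{u}} (f : X ⟶ Y) {g : Y ⟶ X}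

/-- The closure of a point in its fibre is irreducible. -/
theorem isIrreducible_closure_inter (w : X) :
    IsIrreducible (closure ({w} : Set X) ∩ f.base ⁻¹' {f.base w}) := by
  refine ⟨⟨w, subset_closure rfl, rfl⟩, fun O₁ O₂ hO₁ hO₂ h₁ h₂ => ⟨w, ⟨subset_closure rfl, rfl⟩, ?_, ?_⟩⟩
  · obtain ⟨v, hv, hv'⟩ := h₁
    exact (specializes_iff_mem_closure.2 hv.1).mem_open hO₁ hv'
  · obtain ⟨v, hv, hv'⟩ := h₂
    exact (specializes_iff_mem_closure.2 hv.1).mem_open hO₂ hv'

/-- Fibre dimensions of generisations of the section are bounded by its component. -/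
theorem fdim_le_d0 (hg : g ≫ f = 𝟙 Y) {y : Y} {w : X} (hw : f.base w = y) (hwg : w ⤳ g.base y) :
    fdim f w ≤ d0 f g y := by
  subst hw
  refine dim_mono ?_
  exact (isIrreducible_closure_inter f w).isConnected.isPreconnected.subset_connectedComponentIn
    ⟨hwg.mem_closure, section_apply hg _⟩ Set.inter_subset_right

/-- A generisation in another fibre of the section has fibre dimension at most that of a generisation in
the fibre. -/
theorem exists_fdim_le [LocallyOfFiniteType f] (hg : g ≫ f = 𝟙 Y) {y : Y} {ξ : X}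
    (hξ : ξ ⤳ g.base y) :
    ∃ w, f.base w = y ∧ ξ ⤳ w ∧ w ⤳ g.base y ∧ fdim f ξ ≤ fdim f w := by
  have hx : g.base y ∈ closure ({ξ} : Set X) ∩ f.base ⁻¹' {y} := ⟨hξ.mem_closure, section_apply hg y⟩
  obtain ⟨n, hn, ⟨w, hwZ, hwy, hwg, hwn⟩, -⟩ := exists_localDim_eq f isClosed_closure y (g.base y) hx
  exact ⟨w, hwy, specializes_iff_mem_closure.2 hwZ, hwg, hwn.symm ▸ hn ▸
    fdim_le_localDim f (Z := closure ({ξ} : Set X)) isClosed_closure (subset_closure rfl) hξ y hx⟩

/-- The generic point of a component of a fibre. -/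
theorem exists_generic_point {y : Y} {Z : Set X} (hZ : IsIrreducible Z) (hZy : Z ⊆ f.base ⁻¹' {y})
    (hmax : ∀ Z' : Set X, IsIrreducible Z' → Z' ⊆ f.base ⁻¹' {y} → Z ⊆ Z' → Z' = Z) :
    ∃ ξ : X, f.base ξ = y ∧ Z = closure {ξ} ∩ f.base ⁻¹' {y} := by
  obtain ⟨ξ, hξ⟩ := QuasiSober.sober hZ.closure isClosed_closure
  obtain ⟨z, hz⟩ := hZ.1
  have hξy : f.base ξ = y := by
    have h1 : f.base ξ ∈ closure ({y} : Set Y) := by
      refine closure_mono ?_ (image_closure_subset_closure_image f.continuous ⟨ξ, hξ.mem, rfl⟩)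
      rintro _ ⟨x, hx, rfl⟩
      exact hZy hx
    have h2 : f.base ξ ⤳ y := by
      have := (hξ.specializes (subset_closure hz)).map f.continuous
      rwa [show f.base z = y from hZy hz] at this
    exact (h2.antisymm (specializes_iff_mem_closure.2 h1)).eq
  refine ⟨ξ, hξy, (hmax _ (hξy ▸ isIrreducible_closure_inter f ξ) Set.inter_subset_right
    fun x hx => ⟨(hξ.specializes (subset_closure hx)).mem_closure, hZy hx⟩).symm⟩

/-- **Dimensions along generisations.** -/
theorem d0_le_and_subset [LocallyOfFiniteType f] (hg : g ≫ f = 𝟙 Y) {y y' : Y} (hy : y' ⤳ y)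
    (hZ : ∃ Z : Set X, Z ⊆ f.base ⁻¹' {y'} ∧ IsIrreducible Z ∧
      (∀ Z' : Set X, IsIrreducible Z' → Z' ⊆ f.base ⁻¹' {y'} → Z ⊆ Z' → Z' = Z) ∧ g.base y' ∈ Z ∧
      topologicalKrullDim ↥Z = d0 f g y') :
    d0 f g y' ≤ d0 f g y ∧
      (IsIrreducible (X0 f g y) → d0 f g y = d0 f g y' → X0 f g y ⊆ closure (X0 f g y')) := by
  obtain ⟨Z, hZy, hZirr, hZmax, hgZ, hdim⟩ := hZ
  obtain ⟨ξ, hξy, hZeq⟩ := exists_generic_point f hZirr hZy hZmax
  have hd : fdim f ξ = d0 f g y' := by rw [← hdim, hZeq, fdim, hξy]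
  have hξg : ξ ⤳ g.base y' := specializes_iff_mem_closure.2 (hZeq.le hgZ).1
  obtain ⟨w, hwy, hξw, hwg, hle⟩ := exists_fdim_le f hg (hξg.trans (hy.map g.continuous))
  refine ⟨hd ▸ hle.trans (fdim_le_d0 f hg hwy hwg), fun hirr hdeq => ?_⟩
  have hmax' : ∀ Z' : Set X, IsIrreducible Z' → Z' ⊆ f.base ⁻¹' {y} → X0 f g y ⊆ Z' → Z' = X0 f g y :=
    fun Z' h1 h2 h3 => (h1.isConnected.isPreconnected.subset_connectedComponentIn
      (h3 (mem_X0 hg y)) h2).antisymm h3
  obtain ⟨m, hmy, hmeq⟩ := exists_generic_point f hirr (connectedComponentIn_subset _ _) hmax'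
  have hmw : m ⤳ w := by
    refine specializes_iff_mem_closure.2 (hmeq.le ?_).1
    exact mem_X0_of_specializes hwy (mem_X0 hg y) hwg
  have hwm : w = m := by
    by_contra hne
    obtain ⟨a, ha, -⟩ := exists_fdim f w
    obtain ⟨b, hb, -⟩ := exists_fdim f m
    have h1 := fdim_add_one_le f hmw (hmy.trans hwy.symm) hne ha hb
    have h2 : fdim f m ≤ fdim f w := by
      calc fdim f m = d0 f g y := by rw [fdim, hmy, d0, hmeq]
        _ = fdim f ξ := hdeq.trans hd.symm
        _ ≤ fdim f w := hle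
    rw [ha, hb] at h2
    have h3 : b ≤ a := by exact_mod_cast h2
    omega
  intro x hx
  have hξmem : ξ ∈ X0 f g y' := mem_X0_of_specializes hξy (mem_X0 hg y') hξg
  exact closure_mono (Set.singleton_subset_iff.2 hξmem)
    (hξw.trans (hwm ▸ specializes_iff_mem_closure.2 (hmeq.le hx).1)).mem_closure

end Groth.Agent.GeomUnib.SectionDimSemi
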