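import Groth.Agent.NoethApprox.Basic
import Groth.Agent.FlatDescent.Dom.Regular

/-!
# Noetherian models flat away from an element
-/

set_option autoImplicit false
set_option linter.style.haveILetI false
set_option maxHeartbeats 1000000
set_option synthInstance.maxHeartbeats 400000

universe u

open TensorProduct

namespace Groth.Agent.GeomUnib.SectionBC

/-- Localisation away from an element commutes with base change. -/
theorem exists_away_equiv {R S B B' : Type u} [CommRing R] [CommRing S] [CommRing B] [CommRing B']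
    [Algebra R S] [Algebra R B] [Algebra S B'] [Algebra B B'] [Algebra R B'] [IsScalarTower R S B']
    [IsScalarTower R B B'] [Algebra.IsPushout R S B B'] (b : B) (b' : B') (hb : algebraMap B B' b = b') :
    Nonempty (S ⊗[R] Localization.Away b ≃ₐ[S] Localization.Away b') := by
  subst hb
  let L := Localization.Away b
  let L' := Localization.Away (algebraMap B B' b)
  letI : Algebra L L' := (IsLocalization.Away.lift (S := L) b (g := algebraMap B L') (by
    rw [IsScalarTower.algebraMap_apply B B' L']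
    exact IsLocalization.Away.algebraMap_isUnit (S := L') (algebraMap B B' b))).toAlgebra
  haveI : IsScalarTower B L L' := .of_algebraMap_eq fun x => by
    exact (IsLocalization.Away.lift_eq _ _ _).symm
  haveI : IsScalarTower R L L' := .of_algebraMap_eq fun x => by
    rw [IsScalarTower.algebraMap_apply R B L, ← IsScalarTower.algebraMap_apply B L L',
      IsScalarTower.algebraMap_apply R B' L', IsScalarTower.algebraMap_apply R B B',
      ← IsScalarTower.algebraMap_apply B B' L']
  haveI : IsLocalization (Algebra.algebraMapSubmonoid B' (Submonoid.powers b)) L' := by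
    show IsLocalization ((Submonoid.powers b).map (algebraMap B B')) L'
    rw [Submonoid.map_powers]
    infer_instance
  haveI h1 : Algebra.IsPushout B B' L L' := Algebra.isPushout_of_isLocalization (R := B) (A := L) (Submonoid.powers b) B' L'
  haveI : Algebra.IsPushout R B S B' := Algebra.IsPushout.symm inferInstance
  haveI : Algebra.IsPushout R L S L' :=
    (Algebra.IsPushout.comp_iff R B S B').2 (Algebra.IsPushout.symm h1)
  haveI : Algebra.IsPushout R S L L' := Algebra.IsPushout.symm inferInstance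
  exact ⟨Algebra.IsPushout.equiv R S L L'⟩

/-- A subalgebra gives an intermediate base change. -/
theorem exists_stage {R A B₁ B : Type u} [CommRing R] [CommRing A] [CommRing B₁] [CommRing B] [Algebra R A]
    [Algebra R B₁] [Algebra A B] [Algebra B₁ B] [Algebra R B] [IsScalarTower R A B] [IsScalarTower R B₁ B]
    [Algebra.IsPushout R A B₁ B] (T : Subalgebra R A) :
    ∃ (_ : Algebra (T ⊗[R] B₁) B) (_ : IsScalarTower T (T ⊗[R] B₁) B),
      Algebra.IsPushout T A (T ⊗[R] B₁) B ∧
      (∀ v : T ⊗[R] B₁, algebraMap (T ⊗[R] B₁) B v = Algebra.IsPushout.equiv R A B₁ B (T.val.toLinearMap.rTensor B₁ v)) ∧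
      ∀ b : B₁, algebraMap (T ⊗[R] B₁) B ((1 : T) ⊗ₜ b) = algebraMap B₁ B b := by
  let ψ : T ⊗[R] B₁ →ₐ[T] B := Algebra.TensorProduct.lift (Algebra.ofId T B)
    (IsScalarTower.toAlgHom R B₁ B) fun _ _ => Commute.all _ _
  letI : Algebra (T ⊗[R] B₁) B := ψ.toRingHom.toAlgebra
  haveI : IsScalarTower T (T ⊗[R] B₁) B := .of_algebraMap_eq fun r => (ψ.commutes r).symm
  letI : Algebra B₁ (T ⊗[R] B₁) :=
    (Algebra.TensorProduct.includeRight (R := R) (A := T) (B := B₁)).toRingHom.toAlgebra
  haveI : IsScalarTower R B₁ (T ⊗[R] B₁) := .of_algebraMap_eq fun r =>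
    ((Algebra.TensorProduct.includeRight (R := R) (A := T) (B := B₁)).commutes r).symm
  have h1 : ∀ b : B₁, algebraMap (T ⊗[R] B₁) B ((1 : T) ⊗ₜ b) = algebraMap B₁ B b := fun b => by
    show ψ ((1 : T) ⊗ₜ b) = _
    simp [ψ]
  haveI : IsScalarTower B₁ (T ⊗[R] B₁) B := .of_algebraMap_eq fun b => (h1 b).symm
  haveI : IsScalarTower R (T ⊗[R] B₁) B := .of_algebraMap_eq fun r => by
    show _ = ψ (algebraMap R (T ⊗[R] B₁) r)
    exact ((ψ.restrictScalars R).commutes r).symm
  haveI : Algebra.IsPushout R T B₁ (T ⊗[R] B₁) := inferInstance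
  refine ⟨inferInstance, inferInstance, (Algebra.IsPushout.comp_iff R T B₁ (T ⊗[R] B₁)).1 inferInstance,
    fun v => ?_, h1⟩
  show ψ v = _
  induction v using TensorProduct.induction_on with
  | zero => simp
  | tmul a b =>
    simp [ψ, Algebra.IsPushout.equiv_tmul]
    rfl
  | add x y hx hy => simp only [map_add, hx, hy]

/-- Flatness of a base change is attained at a finitely generated stage. -/
theorem exists_flat_subalgebra {R A : Type u} [CommRing R] [CommRing A] [Algebra R A] (L : Type u) [CommRing L]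
    [Algebra R L] [Algebra.FinitePresentation R L] (h : Module.Flat A (A ⊗[R] L)) :
    ∃ S : Subalgebra R A, S.FG ∧ Module.Flat S (S ⊗[R] L) := by
  obtain ⟨S, hS⟩ := (Groth.FlatDescent.flat_iff_exists_stage (A₀ := R) (A := A)
    (G := fun S : {S : Subalgebra R A // S.FG} => ↥S.1) (fun (i j : {S : Subalgebra R A // S.FG}) (h : i ≤ j) =>
    Subalgebra.inclusion h) (Groth.FlatDescent.Trunc.isDirectedColimit_fgSubalgebra R A) (B₀ := L) L).mp h
  exact ⟨S.1, S.2, hS⟩

/-- Enlarging a model to one flat away from an element. -/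
theorem exists_flat_stage_away {R A B₂ B : Type u} [CommRing R] [IsNoetherianRing R] [CommRing A] [CommRing B₂]
    [CommRing B] [Algebra R A] [Algebra R B₂] [Algebra.FiniteType R B₂] [Algebra A B] [Algebra B₂ B] [Algebra R B]
    [IsScalarTower R A B] [IsScalarTower R B₂ B] [Algebra.IsPushout R A B₂ B] (u : B₂) (c : B)
    (hc : algebraMap B₂ B u = c) [Module.Flat A (Localization.Away c)] :
    ∃ (A₁ : Type u) (_ : CommRing A₁) (_ : IsNoetherianRing A₁) (_ : Algebra A₁ A) (B₁ : Type u)
      (_ : CommRing B₁) (_ : Algebra A₁ B₁) (_ : Algebra B₁ B) (_ : Algebra A₁ B) (_ : IsScalarTower A₁ A B)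
      (_ : IsScalarTower A₁ B₁ B) (c₁ : B₁),
      Function.Injective (algebraMap A₁ A) ∧ Algebra.FiniteType A₁ B₁ ∧ Algebra.IsPushout A₁ A B₁ B ∧
        algebraMap B₁ B c₁ = c ∧ Module.Flat A₁ (Localization.Away c₁) := by
  obtain ⟨eA⟩ := exists_away_equiv (R := R) (S := A) (B := B₂) (B' := B) u c hc
  haveI : Algebra.FinitePresentation R B₂ := Algebra.FinitePresentation.of_finiteType.1 inferInstance
  haveI : Algebra.FinitePresentation R (Localization.Away u) := by
    haveI := IsLocalization.Away.finitePresentation u (S := Localization.Away u)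
    exact Algebra.FinitePresentation.trans R B₂ _
  obtain ⟨S, hSfg, hS⟩ := exists_flat_subalgebra (R := R) (A := A) (Localization.Away u)
    (Module.Flat.of_linearEquiv eA.toLinearEquiv)
  haveI : Algebra.FiniteType R S := ⟨S.fg_top.mpr hSfg⟩
  haveI : IsNoetherianRing S := Algebra.FiniteType.isNoetherianRing R S
  obtain ⟨_, _, hpS, -, h1⟩ := exists_stage (R := R) (B₁ := B₂) (B := B) S
  letI : Algebra B₂ (S ⊗[R] B₂) :=
    (Algebra.TensorProduct.includeRight (R := R) (A := S) (B := B₂)).toRingHom.toAlgebra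
  haveI : IsScalarTower R B₂ (S ⊗[R] B₂) := .of_algebraMap_eq fun r =>
    ((Algebra.TensorProduct.includeRight (R := R) (A := S) (B := B₂)).commutes r).symm
  haveI : Algebra.IsPushout R S B₂ (S ⊗[R] B₂) := inferInstance
  obtain ⟨eS⟩ := exists_away_equiv (R := R) (S := S) (B := B₂) (B' := S ⊗[R] B₂) u ((1 : S) ⊗ₜ u) rfl
  exact ⟨S, inferInstance, inferInstance, inferInstance, S ⊗[R] B₂, inferInstance, inferInstance,
    inferInstance, inferInstance, inferInstance, inferInstance, (1 : S) ⊗ₜ u, Subtype.val_injective, inferInstance,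
    hpS, (h1 u).trans hc, Module.Flat.of_linearEquiv eS.symm.toLinearEquiv⟩

/-- A finitely presented algebra flat away from an element has a Noetherian model with the same
property. -/
theorem exists_model_flat_away (A B : Type u) [CommRing A] [CommRing B] [Algebra A B]
    [Algebra.FinitePresentation A B] (c : B) [Module.Flat A (Localization.Away c)] :
    ∃ (A₁ : Type u) (_ : CommRing A₁) (_ : IsNoetherianRing A₁) (_ : Algebra A₁ A) (B₁ : Type u)
      (_ : CommRing B₁) (_ : Algebra A₁ B₁) (_ : Algebra B₁ B) (_ : Algebra A₁ B) (_ : IsScalarTower A₁ A B)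
      (_ : IsScalarTower A₁ B₁ B) (c₁ : B₁),
      Function.Injective (algebraMap A₁ A) ∧ Algebra.FiniteType A₁ B₁ ∧ Algebra.IsPushout A₁ A B₁ B ∧
        algebraMap B₁ B c₁ = c ∧ Module.Flat A₁ (Localization.Away c₁) := by
  classical
  obtain ⟨A₁, hA₁, B₁, _, _, _, _, hft, hpo, -⟩ := NoethApprox.exists_model A B
  haveI := hpo
  haveI : Algebra.FiniteType ℤ A₁ := ⟨A₁.fg_top.mpr hA₁⟩
  haveI : IsNoetherianRing A₁ := Algebra.FiniteType.isNoetherianRing ℤ A₁
  haveI := hft
  obtain ⟨T, hT, u, hu⟩ := TensorProduct.Algebra.exists_of_fg (R := A₁) (S := A) (N := B₁)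
    ((Algebra.IsPushout.equiv A₁ A B₁ B).symm c)
  haveI : Algebra.FiniteType A₁ T := ⟨T.fg_top.mpr hT⟩
  haveI : IsNoetherianRing T := Algebra.FiniteType.isNoetherianRing A₁ T
  obtain ⟨_, _, hpT, hkey, -⟩ := exists_stage (B₁ := B₁) (B := B) T
  haveI := hpT
  have hψc : algebraMap (T ⊗[A₁] B₁) B u = c := by
    rw [hkey, hu, AlgEquiv.apply_symm_apply]
  obtain ⟨eA⟩ := exists_away_equiv (R := T) (S := A) (B := T ⊗[A₁] B₁) (B' := B) u c hψc
  exact exists_flat_stage_away (R := T) (B₂ := T ⊗[A₁] B₁) u c hψc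

end Groth.Agent.GeomUnib.SectionBC
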