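import Groth.Agent.GeomUnib.SectionKeyModel
import Groth.Agent.GeomUnib.SectionFlatModel
import Groth.Agent.GeomUnib.GeomRedFlatFP
import Groth.Agent.GeomUnib.Main
import Groth.Agent.GeomUnib.GeomRedEquidim

/-!
# Flatness at the points of a component from flatness at its generic point
-/

set_option autoImplicit false
set_option linter.style.haveILetI false
set_option linter.unusedSectionVars false
set_option backward.isDefEq.respectTransparency false
set_option maxHeartbeats 1000000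

universe u

open CategoryTheory CategoryTheory.Limits AlgebraicGeometry TopologicalSpace

namespace Groth.Agent.GeomUnib.SectionBC

open FibreDim

/-- A morphism to the spectrum of a field is flat. -/
theorem flat_to_field_any {X : Scheme.{u}} {K : Type u} [Field K] (q : X ⟶ Spec (CommRingCat.of K)) : Flat q :=
  IsZariskiLocalAtSource.of_openCover (P := @Flat) X.affineCover fun _ => flat_to_field _

/-- Geometric reducedness passes to generisations in the fibre. -/
theorem grk_of_gen_in_fibre {X Y : Scheme.{u}} (f : X ⟶ Y) [LocallyOfFinitePresentation f] {x w : X}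
    (hw : f.base w = f.base x) (hwx : w ⤳ x) (h : GRK f x) : GRK f w := by
  let k : Spec (CommRingCat.of (IsLocalRing.ResidueField (Y.presheaf.stalk (f.base x)))) ⟶ Y :=
    Y.fromSpecResidueField (f.base x)
  let q := pullback.snd f k
  have hpb := IsPullback.of_hasPullback f k
  haveI : LocallyOfFinitePresentation q := MorphismProperty.pullback_snd f k ‹_›
  haveI : Flat q := flat_to_field_any q
  haveI : UniversallyOpen q := inferInstance
  obtain ⟨x', hx', -⟩ := Scheme.Pullback.exists_preimage_pullback (f := f) (g := k) x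
    (IsLocalRing.closedPoint _) (Scheme.fromSpecResidueField_apply _ _).symm
  obtain ⟨w', hwx', -, hw'⟩ := exists_gen_bc f k x' (m := w)
    (hw.trans ((congrArg f.base hx').symm.trans congr($(pullback.condition (f := f) (g := k)) x')))
    (hx'.symm.subst (motive := fun t => w ⤳ t) hwx)
  rw [← hw', ← grk_iff_of_isPullback hpb]
  replace h : GRK q x' := (grk_iff_of_isPullback hpb x').2 (hx'.symm.subst (motive := GRK f) h)
  exact (grk_iff _ _).2 (isGeomReducedAt_of_specializes q hwx'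
    (fun z _ _ _ => GeomUnib.isUnivOpenAt_of_universallyOpen q z) ((grk_iff _ _).1 h))

/-- Flatness at the image gives flatness at a point of a base change. -/
theorem flat_stalk_of_isPullback {X Y X₁ Y₁ : Scheme.{u}} {f : X ⟶ Y} {f₁ : X₁ ⟶ Y₁} {ρ : X ⟶ X₁} {π : Y ⟶ Y₁}
    [LocallyOfFinitePresentation f₁] (hpb : IsPullback ρ f f₁ π) (x : X) (hflat : (f₁.stalkMap (ρ.base x)).hom.Flat) :
    (f.stalkMap x).hom.Flat := by
  let F : X₁.Opens := ⟨_, Groth.FlatDescent.isOpen_flatLocus_hom f₁⟩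
  haveI : Flat (F.ι ≫ f₁) := by
    rw [Flat.iff_flat_stalkMap]
    intro a
    rw [Scheme.Hom.stalkMap_comp]
    exact RingHom.Flat.comp (show (f₁.stalkMap (F.ι.base a)).hom.Flat from a.2)
      (RingHom.Flat.of_bijective (asIso (F.ι.stalkMap a)).commRingCatIsoToRingEquiv.bijective)
  haveI : Flat ((ρ ⁻¹ᵁ F).ι ≫ f) := MorphismProperty.of_isPullback
    ((isPullback_morphismRestrict ρ F).paste_vert hpb) ‹Flat (F.ι ≫ f₁)›
  have h1 := Flat.stalkMap ((ρ ⁻¹ᵁ F).ι ≫ f) ⟨x, hflat⟩
  rw [Scheme.Hom.stalkMap_comp] at h1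
  let e := asIso ((ρ ⁻¹ᵁ F).ι.stalkMap ⟨x, hflat⟩)
  have h2 := RingHom.Flat.comp h1 (RingHom.Flat.of_bijective e.commRingCatIsoToRingEquiv.symm.bijective)
  have h3 : (f.stalkMap x).hom = RingHom.comp e.commRingCatIsoToRingEquiv.symm.toRingHom
      (f.stalkMap ((ρ ⁻¹ᵁ F).ι.base ⟨x, hflat⟩) ≫ (ρ ⁻¹ᵁ F).ι.stalkMap ⟨x, hflat⟩).hom :=
    RingHom.ext fun r => (e.commRingCatIsoToRingEquiv.symm_apply_apply _).symm
  exact h3 ▸ h2

/-- Flatness at a point is local on source and target. -/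
theorem flat_stalk_restrict_iff {X Y X' Y' : Scheme.{u}} {f : X ⟶ Y} {f' : X' ⟶ Y'} {j : X' ⟶ X} {i : Y' ⟶ Y}
    [IsOpenImmersion j] [IsOpenImmersion i] (w : f' ≫ i = j ≫ f) (a : X') :
    (f'.stalkMap a).hom.Flat ↔ (f.stalkMap (j.base a)).hom.Flat := by
  let ej := asIso (j.stalkMap a)
  let ei := asIso (i.stalkMap (f'.base a))
  have h := Scheme.Hom.stalkMap_congr_hom (f' ≫ i) (j ≫ f) w a
  rw [Scheme.Hom.stalkMap_comp, Scheme.Hom.stalkMap_comp] at h
  have hp : f.base (j.base a) = i.base (f'.base a) := congr($w.symm a)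
  let el : Y.presheaf.stalk (f.base (j.base a)) ≅ Y'.presheaf.stalk (f'.base a) :=
    Y.presheaf.stalkCongr (.of_eq hp) ≪≫ ei
  refine (RingHom.Flat.respectsIso.arrow_mk_iso_iff (Arrow.isoMk el ej ?_)).symm
  show (Y.presheaf.stalkCongr (.of_eq hp)).hom ≫ i.stalkMap (f'.base a) ≫ f'.stalkMap a =
    f.stalkMap (j.base a) ≫ j.stalkMap a
  rw [h, ← Category.assoc]
  simp

/-- Over a reduced base, flatness at the generic point of the only component of a fibre through a
point at which the fibre is geometrically reduced gives flatness at the point; affine case. -/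
theorem flat_of_flat_generic {X Y : Scheme.{u}} [IsAffine X] [IsAffine Y] [IsReduced Y] (f : X ⟶ Y)
    [LocallyOfFinitePresentation f] {x ξ : X} (hξ : f.base ξ = f.base x) (hξx : ξ ⤳ x)
    (hgen : ∀ w : X, f.base w = f.base x → w ⤳ x → ξ ⤳ w)
    (hflat : (f.stalkMap ξ).hom.Flat) (hred : GRK f x) :
    (f.stalkMap x).hom.Flat ∧ ∃ O : X.Opens, x ∈ O ∧ ∀ m ∈ O,
      (∀ m' : X, f.base m' = f.base m → m' ⤳ m → m' = m) → fdim f m = fdim f ξ := by
  classical
  have hU := isAffineOpen_top Y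
  have hV := isAffineOpen_top X
  let F : X.Opens := ⟨_, Groth.FlatDescent.isOpen_flatLocus_hom f⟩
  obtain ⟨c, hcF, hξc⟩ := hV.exists_basicOpen_le (V := F) ⟨ξ, hflat⟩ trivial
  have hfp : f.appTop.hom.FinitePresentation :=
    (HasRingHomProperty.iff_of_isAffine (P := @LocallyOfFinitePresentation) (f := f)).mp ‹_›
  algebraize [f.appTop.hom]
  haveI : Module.Flat Γ(Y, ⊤) (Localization.Away c) := by
    refine (Groth.FlatDescent.flatOn_iff_flat (A := Γ(Y, ⊤)) (Submonoid.powers c)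
      (Algebra.linearMap Γ(X, ⊤) (Localization.Away c))).1 fun I z hz => ?_
    by_contra hne
    push Not at hne
    let J : Ideal Γ(X, ⊤) := LinearMap.ker (LinearMap.toSpanSingleton Γ(X, ⊤) _ z)
    have hdisj : Disjoint (J : Set Γ(X, ⊤)) (Submonoid.powers c : Set Γ(X, ⊤)) :=
      Set.disjoint_left.2 fun s hs hsc => hne s hsc (by simpa [J] using hs)
    obtain ⟨q, hq, hJq, hqd⟩ := Ideal.exists_le_prime_disjoint J (Submonoid.powers c) hdisj
    let q' : PrimeSpectrum Γ(X, ⊤) := ⟨q, hq⟩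
    have hqc : hV.fromSpec q' ∈ X.basicOpen c := by
      rw [← SetLike.mem_coe, ← hV.fromSpec_image_basicOpen c]
      exact ⟨q', fun h => Set.disjoint_left.1 hqd h ⟨1, pow_one c⟩, rfl⟩
    have h1 := (Groth.FlatDescent.flat_stalkMap_iff f hU hV le_top (x := hV.fromSpec q') trivial).1 (hcF hqc)
    rw [show hV.primeIdealOf ⟨hV.fromSpec q', trivial⟩ = q' from
      hV.fromSpec.isOpenEmbedding.injective (hV.fromSpec_primeIdealOf _)] at h1
    have h2 : FlatCA.FlatAt Γ(Y, ⊤) q Γ(X, ⊤) := by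
      convert! h1 using 2 <;> first | rfl | (simp [Scheme.Hom.appLE]; done) | (simp [Scheme.Hom.appLE]; rfl)
    obtain ⟨s, hs, hsz⟩ := (Groth.FlatDescent.flatOn_primeCompl_iff q).2 h2 I z hz
    exact hs (hJq (by simpa [J] using hsz))
  obtain ⟨A₁, _, _, _, B₁, _, _, _, _, _, _, c₁, hinj, hft, hpo, hc₁, hfl⟩ :=
    exists_model_flat_away Γ(Y, ⊤) Γ(X, ⊤) c
  haveI := hpo
  let gA : CommRingCat.of A₁ ⟶ Γ(Y, ⊤) := CommRingCat.ofHom (algebraMap A₁ Γ(Y, ⊤))
  let gB : CommRingCat.of B₁ ⟶ Γ(X, ⊤) := CommRingCat.ofHom (algebraMap B₁ Γ(X, ⊤))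
  let f₁ : Spec (CommRingCat.of B₁) ⟶ Spec (CommRingCat.of A₁) := Spec.map (CommRingCat.ofHom (algebraMap A₁ B₁))
  have hsq : IsPullback (Spec.map gB) (Spec.map f.appTop) f₁ (Spec.map gA) :=
    (isPullback_SpecMap_of_isPushout _ _ _ _
      (CommRingCat.isPushout_of_isPushout A₁ Γ(Y, ⊤) B₁ Γ(X, ⊤))).flip
  let ρ := X.isoSpec.hom ≫ Spec.map gB
  let π := Y.isoSpec.hom ≫ Spec.map gA
  have hpb : IsPullback ρ f f₁ π :=
    hsq.of_iso X.isoSpec.symm (Iso.refl _) Y.isoSpec.symm (Iso.refl _) (by simp [ρ])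
      (by simp [Scheme.isoSpec_inv_naturality]) (by simp [ρ, π]) (by simp [π])
  haveI : LocallyOfFiniteType f₁ := by
    rw [HasRingHomProperty.Spec_iff (P := @LocallyOfFiniteType)]
    exact RingHom.finiteType_algebraMap.mpr hft
  haveI : LocallyOfFinitePresentation f₁ := (LocallyOfFinitePresentation.iff_locallyOfFiniteType).2 inferInstance
  haveI : _root_.IsReduced Γ(Y, ⊤) := IsReduced.component_reduced ⊤
  haveI : _root_.IsReduced A₁ := isReduced_of_injective (algebraMap A₁ Γ(Y, ⊤)) hinj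
  haveI : IsReduced (Spec (CommRingCat.of A₁)) := (affine_isReduced_iff _).2 inferInstance
  let jc : Spec (CommRingCat.of (Localization.Away c₁)) ⟶ Spec (CommRingCat.of B₁) :=
    Spec.map (CommRingCat.ofHom (algebraMap B₁ (Localization.Away c₁)))
  haveI : IsOpenImmersion jc := IsOpenImmersion.of_isLocalization c₁
  haveI : Flat (jc ≫ f₁) := by
    rw [← Spec.map_comp, HasRingHomProperty.Spec_iff (P := @Flat), ← CommRingCat.ofHom_comp,
      ← IsScalarTower.algebraMap_eq]
    exact RingHom.flat_algebraMap_iff.2 hfl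
  haveI : LocallyOfFinitePresentation (jc ≫ f₁) := inferInstance
  obtain ⟨t, ht⟩ : ρ.base ξ ∈ Set.range jc.base := by
    show _ ∈ Set.range (PrimeSpectrum.comap (algebraMap B₁ (Localization.Away c₁)))
    rw [PrimeSpectrum.localization_away_comap_range (Localization.Away c₁) c₁]
    show c₁ ∉ _
    intro hmem
    obtain ⟨q, hqc, hq⟩ : ξ ∈ hV.fromSpec '' (PrimeSpectrum.basicOpen c : Set (PrimeSpectrum Γ(X, ⊤))) :=
      (hV.fromSpec_image_basicOpen c).ge hξc
    apply hqc
    rw [← hc₁]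
    rw [← hq] at hmem
    have e : ρ.base (hV.fromSpec q) = PrimeSpectrum.comap (algebraMap B₁ Γ(X, ⊤)) q := by
      simp [ρ, gB, IsAffineOpen.fromSpec_top]
      rfl
    rw [e] at hmem
    exact hmem
  have huo : EGA43.IsUnivOpenAt f₁ (ρ.base ξ) := by
    rw [← ht]
    exact OpenAt.isUnivOpenAt_of_comp (f := jc) (x := t)
      (GeomUnib.isUnivOpenAt_of_universallyOpen (jc ≫ f₁) t)
  let e := hpb.isoPullback
  have he1 : ∀ a, (pullback.fst f₁ π).base (e.hom.base a) = ρ.base a := fun a => by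
    rw [← Scheme.Hom.comp_apply, IsPullback.isoPullback_hom_fst]
  have he2 : ∀ a, (pullback.snd f₁ π).base (e.hom.base a) = f.base a := fun a => by
    rw [← Scheme.Hom.comp_apply, IsPullback.isoPullback_hom_snd]
  have hfρ : ∀ a, f₁.base (ρ.base a) = π.base (f.base a) := fun a => (congr($(hpb.w) a) : _)
  have hmaxb : ∀ b : X, (∀ b' : X, f.base b' = f.base b → b' ⤳ b → b' = b) →
      (∀ c, f₁.base c = f₁.base (ρ.base b) → c ⤳ ρ.base b → c = ρ.base b) ∧
        fdim f₁ (ρ.base b) = fdim f b := by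
    intro b hb
    have h1 := (fdim_fst_of_maximal f₁ π (e.hom.base b) (fun c hc hcb => by
      obtain ⟨c, rfl⟩ := e.hom.surjective c
      rw [he2, he2] at hc
      exact congrArg e.hom.base (hb c hc (e.hom.isOpenEmbedding.isInducing.specializes_iff.1 hcb)))).1
    rw [he1] at h1
    refine ⟨h1, ?_⟩
    rw [← fibreDimAt_of_maximal f b (fun c hc hcb => hb c hc (specializes_iff_mem_closure.2 hcb)),
      ← fibreDimAt_of_maximal f₁ (ρ.base b) (fun c hc hcb => h1 c hc (specializes_iff_mem_closure.2 hcb))]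
    have e2 := fibreDimAt_restrict (f := pullback.snd f₁ π) (f' := f) (j := e.hom) (i := 𝟙 _)
      (by rw [Category.comp_id, IsPullback.isoPullback_hom_snd]) b
    rw [fibreDimAt_bc, he1] at e2
    exact e2.symm
  have hξmax : ∀ w : X, f.base w = f.base ξ → w ⤳ ξ → w = ξ := fun w hw hwξ =>
    (hwξ.antisymm (hgen w (hw.trans hξ) (hwξ.trans hξx))).eq
  have hfξ : f₁.base (ρ.base ξ) = f₁.base (ρ.base x) := by rw [hfρ, hfρ, hξ]
  have key : ∀ m, f₁.base m = f₁.base (ρ.base x) → m ⤳ ρ.base x →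
      (∀ m', f₁.base m' = f₁.base (ρ.base x) → m' ⤳ m → m' = m) → m = ρ.base ξ := by
    intro m hmy hmx hmax
    obtain ⟨b, hbx, hb, hbm⟩ := exists_gen_bc f₁ π (e.hom.base x) (m := m)
      ((hmy.trans (hfρ x)).trans (congrArg π.base (he2 x).symm)) (by rw [he1]; exact hmx)
    obtain ⟨b, rfl⟩ := e.hom.surjective b
    rw [he1] at hbm
    rw [he2, he2] at hb
    have hξm : ρ.base ξ ⤳ m :=
      hbm ▸ (hgen b hb (e.hom.isOpenEmbedding.isInducing.specializes_iff.1 hbx)).map ρ.continuous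
    exact (hmax _ hfξ hξm).symm
  have hred₁ : FBase.IsGeomReducedAt (f₁.fiberToSpecResidueField (f₁.base (ρ.base x))) (f₁.asFiber (ρ.base x)) :=
    (grk_iff _ _).1 ((grk_iff_of_isPullback hpb x).1 hred)
  have hio := (f₁.fiberι (f₁.base (ρ.base x))).isEmbedding.isInducing
  refine ⟨flat_stalk_of_isPullback hpb x (S2561.result f₁ (ρ.base x) (fun z hz hmax => ?_) hred₁ inferInstance), ?_⟩
  · have hmx : (f₁.fiberι (f₁.base (ρ.base x))).base z ⤳ ρ.base x := by
      have h := hio.specializes_iff.2 (specializes_iff_mem_closure.2 hz)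
      exact (f₁.fiberι_asFiber (ρ.base x)).subst
        (motive := fun t => (f₁.fiberι (f₁.base (ρ.base x))).base z ⤳ t) h
    refine (key _ ((f₁.range_fiberι _).le ⟨z, rfl⟩) hmx fun m' hm' hsp => ?_).symm.subst
      (motive := EGA43.IsUnivOpenAt f₁) huo
    obtain ⟨z', rfl⟩ := (f₁.range_fiberι _).ge hm'
    exact congrArg _ (hmax z' (specializes_iff_mem_closure.1 (hio.specializes_iff.1 hsp)))
  · obtain ⟨n, hn, -⟩ := exists_fdim f ξ
    have hn₁ : fdim f₁ (ρ.base ξ) = n := ((hmaxb ξ hξmax).2).trans hn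
    obtain ⟨k, U₁, hxU₁, -, hk⟩ := GeomRedEquidim.isEquidimAt_of_geomReduced f₁ (x := ρ.base x)
      (fun z hz hzx hmax => (key z hz hzx hmax).symm.subst (motive := EGA43.IsUnivOpenAt f₁) huo) hred₁
      (e := n) (fun Z hZ hxZ => by
        obtain ⟨t, ht⟩ := QuasiSober.sober hZ.1 (isClosed_of_mem_irreducibleComponents Z hZ)
        have h1 : (f₁.fiberι _).base t ⤳ ρ.base x := (f₁.fiberι_asFiber (ρ.base x)).subst
          (motive := fun a => (f₁.fiberι (f₁.base (ρ.base x))).base t ⤳ a)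
          ((ht.specializes hxZ).map (f₁.fiberι _).continuous)
        have h2 := key _ ((f₁.range_fiberι _).le ⟨t, rfl⟩) h1 fun m' hm' hsp => by
          obtain ⟨t', rfl⟩ := (f₁.range_fiberι _).ge hm'
          have hsp' : t' ⤳ t := hio.specializes_iff.1 hsp
          refine congrArg _ (hsp'.antisymm (ht.specializes (hZ.2 isIrreducible_singleton.closure ?_
            (subset_closure rfl)))).eq
          rw [← ht.def]
          exact closure_minimal (Set.singleton_subset_iff.2 hsp'.mem_closure) isClosed_closure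
        rw [← ht.def, dim_closure_fibre]
        exact (congrArg (fdim f₁) h2).trans hn₁)
    have hU : ∀ m ∈ U₁, (∀ m', f₁.base m' = f₁.base m → m' ⤳ m → m' = m) → fdim f₁ m = (k : WithBot ℕ∞) := by
      intro m hm hmax
      obtain ⟨Z, hZ, -, hd⟩ := GeomRedEquidim.exists_component_of_maximal (U₁.ι ≫ f₁) (x := ⟨m, hm⟩) (m := ⟨m, hm⟩)
        rfl (specializes_refl _) (fun a ha hsp => Subtype.ext (hmax a.1 ha (hsp.map U₁.ι.continuous)))
      rw [hk _ Z hZ, fdim_opens] at hd
      exact hd.symm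
    have hξU : ρ.base ξ ∈ U₁ := (hξx.map ρ.continuous).mem_open U₁.2 hxU₁
    have hnk : (n : WithBot ℕ∞) = k := hn₁.symm.trans (hU _ hξU (hmaxb ξ hξmax).1)
    refine ⟨ρ ⁻¹ᵁ U₁, hxU₁, fun m hm hmax => ?_⟩
    rw [hn, hnk, ← (hmaxb m hmax).2]
    exact hU _ hm (hmaxb m hmax).1

end Groth.Agent.GeomUnib.SectionBC
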