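import Groth.Agent.GeomUnib.SectionApprox
import Groth.Agent.GeomUnib.SectionDimConst
import Groth.Agent.GeomUnib.SectionOpen
import Groth.Agent.GeomUnib.GeomRedOpen
import Groth.Agent.GeomUnib.GeomRedFlatFP
import Groth.Agent.ProConsLib.Noeth
import Groth.Agent.S2561

/-!
# The component of a section near its generic point, over arbitrary affine bases
-/

set_option autoImplicit false
set_option linter.style.haveILetI false
set_option linter.unusedSectionVars false
set_option backward.isDefEq.respectTransparency false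
set_option maxHeartbeats 1000000

universe u

open CategoryTheory CategoryTheory.Limits AlgebraicGeometry TopologicalSpace

namespace Groth.Agent.GeomUnib.SectionBC

open FibreDim SectionComp

variable {X Y : Scheme.{u}} {f : X ⟶ Y} {g : Y ⟶ X}

/-- With constant dimension the union of the components is a neighbourhood of each of its
geometrically reduced points which it contains, and the morphism is flat at them over a reduced
base; affine case. -/
theorem nhds_and_flat_affine [IsAffine X] [IsAffine Y] [LocallyOfFinitePresentation f] (hg : g ≫ f = 𝟙 Y)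
    (hirr : GeomIrred f g) (hd : ∀ y z : Y, d0 f g y = d0 f g z) {x : X} (hx : x ∈ X0 f g (f.base x))
    (hred : GRK f x) :
    (∃ O : X.Opens, x ∈ O ∧ ∀ z ∈ O, z ∈ X0 f g (f.base z)) ∧ (IsReduced Y → (f.stalkMap x).hom.Flat) := by
  classical
  obtain ⟨X₁, Y₁, f₁, g₁, π, ρ, hpb, hs, hg₁, _, hft, hdense, hredY⟩ := exists_approx_section f g hg
  haveI := hft
  haveI : IsLocallyNoetherian X₁ := LocallyOfFiniteType.isLocallyNoetherian f₁
  haveI : LocallyOfFinitePresentation f₁ := (LocallyOfFinitePresentation.iff_locallyOfFiniteType).2 inferInstance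
  have hfρ : ∀ z : X, f₁.base (ρ.base z) = π.base (f.base z) := fun z => by
    rw [← Scheme.Hom.comp_apply, hpb.w, Scheme.Hom.comp_apply]
  have hirr₁ : ∀ b : Y, GeomIrredAt f₁ g₁ (π.base b) := fun b =>
    (gik_iff f₁ g₁ _).1 ((gik_iff_of_isPullback hpb hs hg hg₁ b).1 ((gik_iff f g b).2 (hirr b)))
  have hd₁ : ∀ b : Y, FlatMor.fibreDimAt f₁ (g₁.base (π.base b)) = d0 f g b := by
    intro b
    have e2 := fibreDimAt_restrict (f := pullback.snd f₁ π) (f' := f) (j := hpb.isoPullback.hom) (i := 𝟙 _)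
      (by rw [Category.comp_id, IsPullback.isoPullback_hom_snd]) (g.base b)
    rw [fibreDimAt_bc, ← Scheme.Hom.comp_apply, IsPullback.isoPullback_hom_fst, fibreDimAt_section hg hirr,
      ← Scheme.Hom.comp_apply, hs, Scheme.Hom.comp_apply] at e2
    exact e2.symm
  have hd0 : ∀ b : Y, d0 f₁ g₁ (π.base b) = d0 f g b := fun b => by
    rw [← fibreDimAt_section_at hg₁ (hirr₁ b), hd₁]
  obtain ⟨n, hn, -, -⟩ := exists_fibreDimAt_eq f (g.base (f.base x))
  rw [fibreDimAt_section hg hirr] at hn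
  have hge : ∀ η : Y₁, (n : WithBot ℕ∞) ≤ FlatMor.fibreDimAt f₁ (g₁.base η) := by
    have hcl : IsClosed (g₁.base ⁻¹' {p | (n : WithBot ℕ∞) ≤ FlatMor.fibreDimAt f₁ p}) :=
      (FibreDimNhds.isClosed_le_fibreDimAt f₁ n).preimage g₁.continuous
    intro η
    refine (closure_minimal ?_ hcl : closure (Set.range π.base) ⊆ _) (hdense η)
    rintro _ ⟨b, rfl⟩
    show (n : WithBot ℕ∞) ≤ _
    rw [hd₁, hd b (f.base x), hn]
  have huo : ∀ (b : Y) (a : X₁), a ∈ X0 f₁ g₁ (π.base b) → EGA43.IsUnivOpenAt f₁ a := by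
    intro b a ha
    have hab : f₁.base a = π.base b := apply_of_mem_X0 ha
    refine isUnivOpenAt_of_fibreDimAt_le hg₁ (hab ▸ ha) (hab ▸ hirr₁ b) fun η _ => ?_
    rw [hab, hd0, hd b (f.base x), hn]
    exact hge η
  have hρx : ρ.base x ∈ X0 f₁ g₁ (π.base (f.base x)) := mem_X0_map hpb hs hg hx
  have hred₁ : FBase.IsGeomReducedAt (f₁.fiberToSpecResidueField (f₁.base (ρ.base x))) (f₁.asFiber (ρ.base x)) :=
    (grk_iff _ _).1 ((grk_iff_of_isPullback hpb x).1 hred)
  have hgens : ∀ z : X₁, f₁.base z = f₁.base (ρ.base x) → z ⤳ ρ.base x → EGA43.IsUnivOpenAt f₁ z :=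
    fun z hz hzx => huo (f.base x) z (mem_X0_of_specializes (hz.trans (hfρ x)) hρx hzx)
  refine ⟨?_, fun hY => ?_⟩
  · let P : X₁ → Prop := fun a => GeomIrredAt f₁ g₁ (f₁.base a) ∧ a ∈ X0 f₁ g₁ (f₁.base a) ∧
      FBase.IsGeomReducedAt (f₁.fiberToSpecResidueField (f₁.base a)) (f₁.asFiber a)
    choose O hO hOX using fun a : {a // P a} => exists_nhds_closure_subset_at hg₁ a.2.1 a.2.2.1 a.2.2.2
    let E₁ : Set X₁ := {z | ∃ a : {a // P a}, (a : X₁) ⤳ z ∧ z ∈ O a}
    have hE₁ : ProCons.IsIndConstructible E₁ := by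
      refine ProConsLib.isInd_iff_nhd_closure.2 fun z ⟨a, haz, hz⟩ => ?_
      refine mem_nhds_iff.2 ⟨Subtype.val ⁻¹' (O a : Set X₁), fun w hw => ⟨a, ?_, hw⟩,
        (O a).isOpen.preimage continuous_subtype_val, hz⟩
      exact haz.trans (specializes_iff_mem_closure.2 w.2)
    have hint : x ∈ interior (ρ.base ⁻¹' E₁) := by
      rw [ProConsLib.mem_interior_iff_generizations (ProConsLib.isInd_preimage ρ hE₁)]
      intro z hz
      have hzx : ρ.base z ⤳ ρ.base x := hz.map ρ.continuous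
      have hmem : ρ.base z ∈ X0 f₁ g₁ (f₁.base (ρ.base z)) := by
        refine mem_X0_of_gen_at hg₁ ((hfρ x).symm ▸ hirr₁ _) ((hfρ z).symm ▸ hirr₁ _) hzx
          ((hfρ x).symm ▸ hρx) ?_ hred₁
        rw [hfρ, hfρ, hd0, hd0]
        exact hd _ _
      exact ⟨⟨ρ.base z, (hfρ z).symm ▸ hirr₁ _, hmem,
        isGeomReducedAt_of_specializes f₁ hzx (fun w hw hwx _ => hgens w hw hwx) hred₁⟩,
        specializes_refl _, hO _⟩
    refine ⟨⟨interior (ρ.base ⁻¹' E₁), isOpen_interior⟩, hint, fun z hz => ?_⟩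
    obtain ⟨a, haz, hzO⟩ := interior_subset (s := ρ.base ⁻¹' E₁) hz
    exact mem_X0_of_map hpb hs hg hg₁ rfl (hfρ z ▸ hOX a _ hzO haz)
  · haveI : IsReduced Y₁ := hredY hY
    have hflat : (f₁.stalkMap (ρ.base x)).hom.Flat := by
      refine S2561.result f₁ (ρ.base x) (fun z hz hmax => ?_) hred₁ inferInstance
      have hio := (f₁.fiberι (f₁.base (ρ.base x))).isEmbedding.isInducing
      refine hgens _ ((f₁.range_fiberι _).le ⟨z, rfl⟩) ?_
      have h := hio.specializes_iff.2 (specializes_iff_mem_closure.2 hz)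
      exact (f₁.fiberι_asFiber (ρ.base x)).subst
        (motive := fun t => (f₁.fiberι (f₁.base (ρ.base x))).base z ⤳ t) h
    let F : X₁.Opens := ⟨_, Groth.FlatDescent.isOpen_flatLocus_hom f₁⟩
    haveI : Flat (F.ι ≫ f₁) := by
      rw [Flat.iff_flat_stalkMap]
      intro a
      rw [Scheme.Hom.stalkMap_comp]
      exact RingHom.Flat.comp (show (f₁.stalkMap (F.ι.base a)).hom.Flat from a.2)
        (RingHom.Flat.of_bijective (asIso (F.ι.stalkMap a)).commRingCatIsoToRingEquiv.bijective)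
    haveI : Flat ((ρ ⁻¹ᵁ F).ι ≫ f) := MorphismProperty.of_isPullback
      ((isPullback_morphismRestrict ρ F).paste_vert hpb) ‹Flat (F.ι ≫ f₁)›
    have h1 := Flat.stalkMap ((ρ ⁻¹ᵁ F).ι ≫ f) ⟨x, hflat⟩
    rw [Scheme.Hom.stalkMap_comp] at h1
    let e := asIso ((ρ ⁻¹ᵁ F).ι.stalkMap ⟨x, hflat⟩)
    have h2 := RingHom.Flat.comp h1 (RingHom.Flat.of_bijective e.commRingCatIsoToRingEquiv.symm.bijective)
    have h3 : (f.stalkMap x).hom = RingHom.comp e.commRingCatIsoToRingEquiv.symm.toRingHom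
        (f.stalkMap ((ρ ⁻¹ᵁ F).ι.base ⟨x, hflat⟩) ≫ (ρ ⁻¹ᵁ F).ι.stalkMap ⟨x, hflat⟩).hom :=
      RingHom.ext fun r => (e.commRingCatIsoToRingEquiv.symm_apply_apply _).symm
    exact h3 ▸ h2

end Groth.Agent.GeomUnib.SectionBC
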