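import Groth.Agent.GeomUnib.SectionBaseChange

/-!
# Components of fibres lift along base change

A connected component of a fibre is the image of each connected component, meeting it, of the fibre of a
base change.
-/

set_option autoImplicit false
set_option linter.style.haveILetI false
set_option backward.isDefEq.respectTransparency false

universe u

open CategoryTheory CategoryTheory.Limits AlgebraicGeometry

namespace Groth.Agent.GeomUnib.SectionLift

/-- The component of a point of the fibre of a base change maps onto the component of its image. -/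
theorem exists_mem_component {X Y X₁ Y₁ : Scheme.{u}} {ρ : X ⟶ X₁} {f : X ⟶ Y} {f₁ : X₁ ⟶ Y₁} {π : Y ⟶ Y₁}
    (h : IsPullback ρ f f₁ π) {y : Y} {x : X} (hx : f.base x = y) {x₁ p : X₁} (hx₁ : ρ.base x = x₁)
    (hp : p ∈ connectedComponentIn (f₁.base ⁻¹' {π.base y}) x₁) :
    ∃ a, a ∈ connectedComponentIn (f.base ⁻¹' {y}) x ∧ ρ.base a = p := by
  let k := IsLocalRing.ResidueField (Y₁.presheaf.stalk (π.base y))
  let K := IsLocalRing.ResidueField (Y.presheaf.stalk y)
  letI : Algebra k K := (π.residueFieldMap y).hom.toAlgebra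
  have hsq : Spec.map (π.residueFieldMap y) ≫ Y₁.fromSpecResidueField (π.base y) =
      Y.fromSpecResidueField y ≫ π := Scheme.Hom.SpecMap_residueFieldMap_fromSpecResidueField _ _
  let Ψ := pullbackLeftPullbackSndIso f₁ (Y₁.fromSpecResidueField (π.base y)) (Spec.map (π.residueFieldMap y)) ≪≫
    pullback.congrHom rfl hsq ≪≫
    ((IsPullback.of_hasPullback f (Y.fromSpecResidueField y)).paste_horiz h).isoPullback.symm
  let P := pullback (f₁.fiberToSpecResidueField (π.base y)) (FieldExtConn.ext k K)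
  let fst : P ⟶ f₁.fiber (π.base y) := pullback.fst (f₁.fiberToSpecResidueField (π.base y)) (FieldExtConn.ext k K)
  let q : P ⟶ X := Ψ.hom ≫ f.fiberι y
  have hq : q ≫ ρ = fst ≫ f₁.fiberι (π.base y) := by
    simp [q, fst, Ψ, Scheme.Hom.fiberι]
    rfl
  obtain ⟨c, hc⟩ : x ∈ Set.range (f.fiberι y) := (f.range_fiberι y).ge hx
  obtain ⟨b₀, hb₀⟩ := Ψ.hom.surjective c
  have hqb₀ : q.base b₀ = x := (congrArg (f.fiberι y).base hb₀).trans hc
  have hc₁ : (f₁.fiberι (π.base y)).base (fst.base b₀) = x₁ := by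
    rw [← hx₁, ← hqb₀, ← Scheme.Hom.comp_apply q ρ, hq]
    rfl
  rw [← hc₁, ← f₁.range_fiberι (π.base y),
    SectionBC.connectedComponentIn_range (f₁.fiberι (π.base y)).isEmbedding] at hp
  obtain ⟨c₁, hc₁m, rfl⟩ := hp
  rw [← FieldExtConn.image_component (f₁.fiberToSpecResidueField (π.base y)) K b₀] at hc₁m
  obtain ⟨b, hb, rfl⟩ := hc₁m
  refine ⟨q.base b, ?_, ?_⟩
  · refine (isPreconnected_connectedComponent.image q.base q.continuous.continuousOn).subset_connectedComponentIn
      ⟨b₀, mem_connectedComponent, hqb₀⟩ ?_ ⟨b, hb, rfl⟩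
    rintro _ ⟨b', -, rfl⟩
    exact (f.range_fiberι y).le ⟨Ψ.hom.base b', rfl⟩
  · rw [← Scheme.Hom.comp_apply q ρ, hq]
    rfl

end Groth.Agent.GeomUnib.SectionLift
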