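import Groth.Agent.GeomUnib.SectionFlatAt

/-!
# The union of the components of a section over arbitrary bases
-/

set_option autoImplicit false
set_option linter.style.haveILetI false
set_option linter.unusedSectionVars false
set_option backward.isDefEq.respectTransparency false
set_option maxHeartbeats 1000000

universe u

open CategoryTheory CategoryTheory.Limits AlgebraicGeometry TopologicalSpace

namespace Groth.Agent.GeomUnib.SectionBC

open FibreDim SectionComp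

variable {X Y : Scheme.{u}} {f : X ⟶ Y} {g : Y ⟶ X}

/-- Near a point with constant dimension, at the generic point of the component. -/
theorem generic_nhds_and_flat [LocallyOfFinitePresentation f] (hg : g ≫ f = 𝟙 Y) (hirr : GeomIrred f g)
    {W : Y.Opens} (hconst : ∀ a ∈ W, ∀ b ∈ W, d0 f g a = d0 f g b) {ξ : X} (hξW : f.base ξ ∈ W)
    (hξ : ξ ∈ X0 f g (f.base ξ)) (hgen : ∀ w ∈ X0 f g (f.base ξ), ξ ⤳ w) (hred : GRK f ξ) :
    (∃ O : X.Opens, ξ ∈ O ∧ ∀ z ∈ O, z ∈ X0 f g (f.base z)) ∧ (IsReduced Y → (f.stalkMap ξ).hom.Flat) := by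
  set y₀ := f.base ξ
  obtain ⟨U₀, hU₀, hyU₀, hU₀W⟩ := exists_isAffineOpen_mem_and_subset (U := W) (x := y₀) hξW
  obtain ⟨V₀, hV₀, hgV₀, hV₀U₀⟩ := exists_isAffineOpen_mem_and_subset (U := f ⁻¹ᵁ U₀) (x := g.base y₀)
    (by show f.base (g.base y₀) ∈ U₀; rw [section_apply hg]; exact hyU₀)
  obtain ⟨a, haV, hya⟩ := hU₀.exists_basicOpen_le (V := g ⁻¹ᵁ V₀) ⟨y₀, hgV₀⟩ hyU₀
  let U : Y.Opens := Y.basicOpen a
  let V : X.Opens := X.basicOpen (f.appLE U₀ V₀ hV₀U₀ a)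
  have hVeq : V = V₀ ⊓ f ⁻¹ᵁ U := Scheme.basicOpen_appLE f V₀ U₀ hV₀U₀ a
  have hVU : V ≤ f ⁻¹ᵁ U := hVeq.trans_le inf_le_right
  haveI : IsAffine U.toScheme := hU₀.basicOpen a
  haveI : IsAffine V.toScheme := hV₀.basicOpen _
  let f' := f.resLE U V hVU
  have w : f' ≫ U.ι = V.ι ≫ f := Scheme.Hom.resLE_comp_ι f hVU
  let g' : U.toScheme ⟶ V.toScheme := IsOpenImmersion.lift V.ι (U.ι ≫ g) (by
    rintro _ ⟨b, rfl⟩
    rw [Scheme.Opens.range_ι, hVeq]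
    refine ⟨haV b.2, ?_⟩
    show f.base (g.base b.1) ∈ U
    rw [section_apply hg]
    exact b.2)
  have hs : g' ≫ V.ι = U.ι ≫ g := IsOpenImmersion.lift_fac _ _ _
  have hg' : g' ≫ f' = 𝟙 _ := by
    rw [← cancel_mono U.ι, Category.assoc, w, reassoc_of% hs, hg, Category.comp_id, Category.id_comp]
  have hirr' : GeomIrred f' g' := fun b => gik_restrict w hs hg hg' (hirr _)
  have hd : ∀ b c, d0 f' g' b = d0 f' g' c := by
    have h1 : ∀ b, d0 f' g' b = d0 f g (U.ι.base b) := fun b => by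
      rw [← fibreDimAt_section hg' hirr', ← fibreDimAt_section hg hirr, fibreDimAt_restrict (f := f) w,
        ← Scheme.Hom.comp_apply, hs, Scheme.Hom.comp_apply]
    intro b c
    rw [h1, h1]
    exact hconst _ (hU₀W ((Y.basicOpen_le a) b.2)) _ (hU₀W ((Y.basicOpen_le a) c.2))
  have hξV : ξ ∈ V := by
    rw [hVeq]
    exact ⟨(hgen _ (mem_X0 hg y₀)).mem_open V₀.2 hgV₀, hya⟩
  let ξ' : V.toScheme := ⟨ξ, hξV⟩
  have hfξ : U.ι.base (f'.base ξ') = y₀ := congr($w ξ')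
  obtain ⟨⟨O, hξO, hO⟩, hflat⟩ := nhds_and_flat_affine hg' hirr' hd (x := ξ')
    ((mem_X0_restrict_iff w hs hg hg' (hirr _)).2 ⟨rfl, hfξ.symm ▸ hξ⟩) (grk_restrict w hred)
  refine ⟨⟨V.ι ''ᵁ O, ⟨ξ', hξO, rfl⟩, ?_⟩, fun hY => (flat_stalk_restrict_iff w ξ').1 (hflat inferInstance)⟩
  rintro _ ⟨z, hz, rfl⟩
  have h1 := ((mem_X0_restrict_iff w hs hg hg' (hirr _)).1 (hO z hz)).2
  rwa [show U.ι.base (f'.base z) = f.base (V.ι.base z) from congr($w z)] at h1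

/-- Near a point with constant dimension over a reduced base: flatness and openness. -/
theorem flat_and_nhds_of_const [IsReduced Y] [LocallyOfFinitePresentation f] (hg : g ≫ f = 𝟙 Y)
    (hirr : GeomIrred f g) {W : Y.Opens} (hconst : ∀ a ∈ W, ∀ b ∈ W, d0 f g a = d0 f g b) {x : X}
    (hxW : f.base x ∈ W) (hx : x ∈ X0 f g (f.base x)) (hred : GRK f x) :
    (f.stalkMap x).hom.Flat ∧ ∃ O : X.Opens, x ∈ O ∧ ∀ z ∈ O, z ∈ X0 f g (f.base z) := by
  obtain ⟨ξ, hξy, hξ, hspec, -, hmax⟩ := exists_generic hg hirr (f.base x)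
  have hξx : ξ ⤳ x := hspec x hx
  obtain ⟨⟨Oξ, hξO, hOξ⟩, hflatξ⟩ := generic_nhds_and_flat hg hirr hconst (ξ := ξ) (hξy.symm ▸ hxW)
    (hξy.symm ▸ hξ) (hξy.symm ▸ hspec) (grk_of_gen_in_fibre f hξy hξx hred)
  obtain ⟨U, hU, hxU, -⟩ := exists_isAffineOpen_mem_and_subset (U := (⊤ : Y.Opens)) (x := f.base x) trivial
  obtain ⟨V, hV, hxV, hVU⟩ := exists_isAffineOpen_mem_and_subset (U := f ⁻¹ᵁ U) (x := x) hxU
  haveI : IsAffine U.toScheme := hU
  haveI : IsAffine V.toScheme := hV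
  let f' := f.resLE U V hVU
  have w : f' ≫ U.ι = V.ι ≫ f := Scheme.Hom.resLE_comp_ι f hVU
  let x' : V.toScheme := ⟨x, hxV⟩
  let ξ' : V.toScheme := ⟨ξ, hξx.mem_open V.2 hxV⟩
  have hfib : ∀ a b : V.toScheme, f'.base a = f'.base b → f.base a.1 = f.base b.1 := fun a b h =>
    (congr($w a) : _).symm.trans ((congrArg U.ι.base h).trans congr($w b))
  have hgenV : ∀ w' : V.toScheme, f'.base w' = f'.base x' → w' ⤳ x' → ξ' ⤳ w' := fun w' hw' hsp =>
    V.ι.isOpenEmbedding.isInducing.specializes_iff.1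
      (hspec _ (mem_X0_of_specializes (hfib _ _ hw') hx (hsp.map V.ι.continuous)))
  have hfξ : f'.base ξ' = f'.base x' :=
    U.ι.isOpenEmbedding.injective (((congr($w ξ') : _).trans hξy).trans (congr($w x') : _).symm)
  obtain ⟨hflat, O₁, hxO₁, hO₁⟩ := flat_of_flat_generic f' (x := x') (ξ := ξ') hfξ
    (V.ι.isOpenEmbedding.isInducing.specializes_iff.1 hξx) hgenV
    ((flat_stalk_restrict_iff w ξ').2 (hflatξ ‹_›)) (grk_restrict w hred)
  refine ⟨(flat_stalk_restrict_iff w x').1 hflat, ?_⟩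
  let Z : Closeds V.toScheme := ⟨((V.ι ⁻¹ᵁ Oξ : V.toScheme.Opens) : Set V.toScheme)ᶜ,
    (V.ι ⁻¹ᵁ Oξ).2.isClosed_compl⟩
  let I := Scheme.IdealSheafData.vanishingIdeal Z
  have hr : Set.range I.subschemeι.base = (Z : Set V.toScheme) := by
    rw [I.range_subschemeι]; rfl
  have hq : ∀ a, fdim (I.subschemeι ≫ f') a = fdim f' (I.subschemeι.base a) := fdim_comp_closedImmersion f' _
  -- a neighbourhood in which the closed part has small fibres
  obtain ⟨N, hxN, hN⟩ : ∃ N : V.toScheme.Opens, x' ∈ N ∧ ∀ m ∈ (Z : Set V.toScheme), m ∈ N →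
      (∀ m', f'.base m' = f'.base m → m' ⤳ m → m' = m) → fdim f' m ≠ fdim f' ξ' := by
    by_cases hxZ : x' ∈ (Z : Set V.toScheme)
    · obtain ⟨z₀, hz₀⟩ := hr.ge hxZ
      obtain ⟨O₂, hzO₂, hO₂⟩ := exists_nhds_fibreDimAt_le (I.subschemeι ≫ f') z₀
      obtain ⟨n, hn, ⟨v, hv, hvz, hvn⟩, -⟩ := exists_fibreDimAt_eq (I.subschemeι ≫ f') z₀
      obtain ⟨N, hN, hNO⟩ := I.subschemeι.isClosedEmbedding.isInducing.isOpen_iff.1 O₂.2
      refine ⟨⟨N, hN⟩, hz₀ ▸ (hNO.ge hzO₂ :), fun m hmZ hmN hmax he => ?_⟩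
      obtain ⟨m₀, rfl⟩ := hr.ge hmZ
      have h1 : fdim f' (I.subschemeι.base m₀) ≤ (n : WithBot ℕ∞) := by
        rw [← hq, ← hn]
        exact (fdim_le_fibreDimAt _ (specializes_refl m₀)).trans (hO₂ m₀ (hNO.le hmN))
      have hvx : f'.base (I.subschemeι.base v) = f'.base x' := by
        rw [← hz₀, ← Scheme.Hom.comp_apply, ← Scheme.Hom.comp_apply]; exact hv
      have hξv : ξ' ⤳ I.subschemeι.base v := hgenV _ hvx (hz₀ ▸ hvz.map I.subschemeι.continuous)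
      have hne : I.subschemeι.base v ≠ ξ' := fun h =>
        (hr.le ⟨v, rfl⟩ : I.subschemeι.base v ∈ (Z : Set V.toScheme)) (h.symm ▸ hξO)
      obtain ⟨k, hk, -⟩ := exists_fdim f' ξ'
      have h2 := fdim_add_one_le f' hξv (hfξ.trans hvx.symm) hne ((hq v).symm.trans hvn) hk
      rw [he, hk] at h1
      have : k ≤ n := by exact_mod_cast h1
      omega
    · exact ⟨⟨(Z : Set V.toScheme)ᶜ, Z.isClosed.isOpen_compl⟩, hxZ, fun m hmZ hmN => absurd hmZ hmN⟩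
  refine ⟨V.ι ''ᵁ (O₁ ⊓ N), ⟨x', ⟨hxO₁, hxN⟩, rfl⟩, ?_⟩
  rintro _ ⟨z, ⟨hz₁, hzN⟩, rfl⟩
  obtain ⟨m, hmz, hsp, hmmax⟩ := FibreDimNhds.exists_maximal f' z
  have hmmax' : ∀ m', f'.base m' = f'.base m → m' ⤳ m → m' = m := fun m' h1 h2 => hmmax m' h1 h2.mem_closure
  have hm : m ∉ (Z : Set V.toScheme) := fun hmZ =>
    hN m hmZ (hsp.mem_open N.2 hzN) hmmax' (hO₁ m (hsp.mem_open O₁.2 hz₁) hmmax')
  have hmO : V.ι.base m ∈ Oξ := not_not.1 hm
  have hmX : V.ι.base m ∈ X0 f g (f.base (V.ι.base z)) :=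
    (hfib m z hmz).subst (motive := fun t => V.ι.base m ∈ X0 f g t) (hOξ _ hmO)
  exact mem_X0_of_closure rfl (closure_mono (Set.singleton_subset_iff.2 hmX)
    (hsp.map V.ι.continuous).mem_closure)

end Groth.Agent.GeomUnib.SectionBC
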