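import Groth.Agent.GeomUnib.SmoothFibre
import Groth.Agent.GeomUnib.GeomRedEquidim
import Groth.Agent.GeomUnib.EquidimOpen

/-!
# Smooth morphisms are equidimensional
-/

set_option autoImplicit false
set_option linter.style.haveILetI false
set_option linter.unusedSectionVars false
set_option backward.isDefEq.respectTransparency false

universe u

open CategoryTheory CategoryTheory.Limits AlgebraicGeometry TopologicalSpace

namespace Groth.Agent.GeomUnib.SmoothEquidim

open FibreDim GeomRedEquidim

/-- A point whose local ring is a domain lies on one irreducible component. -/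
theorem component_eq_of_isDomain_stalk {Z : Scheme.{u}} (a : Z) [IsDomain (Z.presheaf.stalk a)] {C : Set Z}
    (hC : C ∈ irreducibleComponents (Z : Type u)) (ha : a ∈ C) :
    C = closure {(Z.fromSpecStalk a).base (⊥ : PrimeSpectrum (Z.presheaf.stalk a))} := by
  obtain ⟨g, hg⟩ := QuasiSober.sober hC.1 (isClosed_of_mem_irreducibleComponents _ hC)
  obtain ⟨P, hP, rfl⟩ := exists_minimalPrime_of_maximal a (hg.specializes ha)
    (fun z hz => maximal_of_component g C hC hg z hz)
  rw [← hg.def]
  congr
  rw [IsDomain.minimalPrimes_eq_singleton_bot, Set.mem_singleton_iff] at hP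
  exact PrimeSpectrum.ext hP

variable {X Y : Scheme.{u}} (f : X ⟶ Y) [LocallyOfFinitePresentation f]

/-- A morphism is universally open at its smooth points. -/
theorem isUnivOpenAt_of_mem_smoothLocus {x : X} (hx : x ∈ f.smoothLocus) : EGA43.IsUnivOpenAt f x := by
  have hs : Smooth (f.smoothLocus.ι ≫ f) := by
    rw [← Scheme.Hom.smoothLocus_eq_top_iff, ← Scheme.Hom.preimage_smoothLocus_eq, Scheme.Opens.ι_preimage_self]
  exact OpenAt.isUnivOpenAt_of_comp (f := f.smoothLocus.ι) (x := (⟨x, hx⟩ : f.smoothLocus.toScheme))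
    (isUnivOpenAt_of_universallyOpen _ _)

/-- Over a locally Noetherian base a morphism is equidimensional at its smooth points. -/
theorem isEquidimAt_of_mem_smoothLocus [IsLocallyNoetherian Y] {x : X} (hx : x ∈ f.smoothLocus) :
    EGA43.IsEquidimAt f x := by
  haveI : LocallyOfFinitePresentation (f.fiberToSpecResidueField (f.base x)) :=
    MorphismProperty.of_isPullback (P := @LocallyOfFinitePresentation)
      (IsPullback.of_hasPullback f (Y.fromSpecResidueField (f.base x))) inferInstance
  have hfib := ((FibrewiseCrit.mem_smoothLocus_iff_flat_and_fibre f x).1 hx).2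
  haveI : IsRegularLocalRing ((f.fiber (f.base x)).presheaf.stalk (f.asFiber x)) :=
    SmoothDense.isRegular_of_mem_smoothLocus (k := Y.residueField (f.base x)) _ hfib
  haveI := DepthLib.isDomain_of_isRegularLocalRing ((f.fiber (f.base x)).presheaf.stalk (f.asFiber x))
  obtain ⟨n, hn, ⟨w, hw, hwx, hwn⟩, hall⟩ := exists_fibreDimAt_eq f x
  obtain ⟨m, hm, hmw, hmax⟩ := FibreDimNhds.exists_maximal f w
  obtain ⟨Z, hZ, hxZ, hd⟩ := exists_component_of_maximal f (hm.trans hw) (hmw.trans hwx)
    fun m' hm' h => hmax m' (hm'.trans (hm.trans hw).symm) h.mem_closure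
  refine isEquidimAt_of_geomReduced f
    (fun z _ hzx _ => isUnivOpenAt_of_mem_smoothLocus f (hzx.mem_open f.smoothLocus.2 hx))
    (SmoothFibre.isGeomReducedAt_of_mem_smoothLocus (k := Y.residueField (f.base x)) _ hfib)
    (e := n) fun C hC hxC => ?_
  rw [component_eq_of_isDomain_stalk _ hC hxC, ← component_eq_of_isDomain_stalk _ hZ hxZ, hd]
  exact le_antisymm (hall m (hm.trans hw) (hmw.trans hwx)) (hwn ▸ fdim_mono f hmw hm)

end Groth.Agent.GeomUnib.SmoothEquidim
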