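import Groth.Agent.SmoothDense.Apps
import Groth.Agent.FibrewiseCrit.Pointwise
import Groth.Agent.GRingLib.Transport
import Groth.Prelude.Def_FDesc

/-!
# Smoothness at a point by geometric regularity of the local ring of the fibre
-/

set_option autoImplicit false
set_option linter.style.haveILetI false
set_option backward.isDefEq.respectTransparency false

universe u

open CategoryTheory CategoryTheory.Limits AlgebraicGeometry

namespace Groth.Agent.GeomUnib.SmoothFibre

variable {k : Type u} [Field k] {Z : Scheme.{u}} (g : Z ⟶ Spec (CommRingCat.of k))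

/-- Over a field smoothness at a point is geometric regularity of the local ring. -/
theorem mem_smoothLocus_iff_geomRegular [LocallyOfFinitePresentation g] (z : Z)
    [Algebra k (Z.presheaf.stalk z)]
    (halg : Z.fromSpecStalk z ≫ g = Spec.map (CommRingCat.ofHom (algebraMap k (Z.presheaf.stalk z)))) :
    z ∈ g.smoothLocus ↔ CAlg.IsGeometricallyRegular k (Z.presheaf.stalk z) := by
  haveI := SmoothDense.essFiniteType_stalk halg
  haveI : IsNoetherianRing (Z.presheaf.stalk z) := Algebra.EssFiniteType.isNoetherianRing k _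
  refine ⟨fun hz K _ _ hfin => ?_, fun h => ?_⟩
  · haveI := hfin
    refine SmoothDense.isRegularRing_tensor_of_stalks halg K fun z' hz' => ?_
    refine SmoothDense.isRegular_of_mem_smoothLocus (pullback.snd g (Spec.map (CommRingCat.ofHom (algebraMap k K)))) ?_
    haveI : Flat (Spec.map (CommRingCat.ofHom (algebraMap k K))) :=
      Flat.SpecMap_iff.mpr (RingHom.flat_algebraMap_iff.mpr inferInstance)
    rw [Groth.FibrewiseCrit.mem_smoothLocus_of_isPullback (IsPullback.of_hasPullback g _) z', hz']
    exact hz
  · refine SmoothDense.mem_smoothLocus_of_regular_baseChanges halg fun K _ _ hfin z' hz' => ?_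
    haveI := hfin
    exact SmoothDense.isRegular_of_isGeometricallyRegular halg h K z' hz'

/-- Smooth points are geometrically reduced points. -/
theorem isGeomReducedAt_of_mem_smoothLocus [LocallyOfFinitePresentation g] {z : Z} (hz : z ∈ g.smoothLocus) :
    FBase.IsGeomReducedAt g z := by
  intro K _ _ z' hz'
  haveI : Flat (Spec.map (CommRingCat.ofHom (algebraMap k K))) :=
    Flat.SpecMap_iff.mpr (RingHom.flat_algebraMap_iff.mpr inferInstance)
  have h1 : IsRegularLocalRing ((FBase.bc g K).presheaf.stalk z') := by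
    refine SmoothDense.isRegular_of_mem_smoothLocus (pullback.snd g (Spec.map (CommRingCat.ofHom (algebraMap k K)))) ?_
    rw [Groth.FibrewiseCrit.mem_smoothLocus_of_isPullback (IsPullback.of_hasPullback g _) z']
    exact (congrArg (· ∈ g.smoothLocus) hz').mpr hz
  haveI := DepthLib.isDomain_of_isRegularLocalRing ((FBase.bc g K).presheaf.stalk z')
  infer_instance

variable {X Y : Scheme.{u}} (f : X ⟶ Y)

/-- Geometric regularity of the quotient of the local ring is that of the local ring of the fibre. -/
theorem geomRegular_quotient_iff_aux (y : Y) (z : f.fiber y) (x : X) (hx : f.fiberι y z = x)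
    [Algebra (Y.residueField y) ((f.fiber y).presheaf.stalk z)]
    (halg : (f.fiber y).fromSpecStalk z ≫ f.fiberToSpecResidueField y =
      Spec.map (CommRingCat.ofHom (algebraMap (Y.residueField y) ((f.fiber y).presheaf.stalk z)))) :
    (letI φ := (f.stalkMap x).hom
    letI 𝔪 := IsLocalRing.maximalIdeal ↑(Y.presheaf.stalk (f.base x))
    letI : Algebra (IsLocalRing.ResidueField ↑(Y.presheaf.stalk (f.base x))) (↑(X.presheaf.stalk x) ⧸ 𝔪.map φ) :=
      (Ideal.quotientMap (𝔪.map φ) φ Ideal.le_comap_map).toAlgebra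
    CAlg.IsGeometricallyRegular (IsLocalRing.ResidueField ↑(Y.presheaf.stalk (f.base x)))
      (↑(X.presheaf.stalk x) ⧸ 𝔪.map φ)) ↔
    CAlg.IsGeometricallyRegular (Y.residueField y) ((f.fiber y).presheaf.stalk z) := by
  subst hx
  have hxy : f (f.fiberι y z) = y := (f.range_fiberι y).le ⟨z, rfl⟩
  let e := Y.residueFieldCongr hxy
  let ψ : Y.residueField y ⟶ (f.fiber y).presheaf.stalk z :=
    CommRingCat.ofHom (algebraMap (Y.residueField y) ((f.fiber y).presheaf.stalk z))
  have hcomp : f.stalkMap (f.fiberι y z) ≫ (f.fiberι y).stalkMap z =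
      Y.residue (f (f.fiberι y z)) ≫ e.hom ≫ ψ := Spec.map_injective (by
    rw [← cancel_mono (Y.fromSpecStalk (f (f.fiberι y z))), Spec.map_comp, Spec.map_comp, Spec.map_comp,
      Category.assoc, Scheme.SpecMap_stalkMap_fromSpecStalk, ← Category.assoc, Scheme.SpecMap_stalkMap_fromSpecStalk,
      Category.assoc, Category.assoc, Category.assoc,
      show Spec.map (Y.residue (f (f.fiberι y z))) ≫ Y.fromSpecStalk (f (f.fiberι y z)) =
        Y.fromSpecResidueField (f (f.fiberι y z)) from rfl,
      Scheme.residueFieldCongr_fromSpecResidueField, show Spec.map ψ = _ from halg.symm, Category.assoc]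
    congr 1
    exact pullback.condition)
  let q : (↑(X.presheaf.stalk (f.fiberι y z)) ⧸
      (IsLocalRing.maximalIdeal ↑(Y.presheaf.stalk (f (f.fiberι y z)))).map (f.stalkMap (f.fiberι y z)).hom) ≃+*
      (f.fiber y).presheaf.stalk z :=
    (Ideal.quotEquivOfEq (Groth.FlatDescent.ker_stalkMap_fiberι f y z).symm).trans
      (RingHom.quotientKerEquivOfSurjective ((f.fiberι y).stalkMap_surjective z))
  letI : Algebra (IsLocalRing.ResidueField ↑(Y.presheaf.stalk (f (f.fiberι y z))))
      (↑(X.presheaf.stalk (f.fiberι y z)) ⧸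
        (IsLocalRing.maximalIdeal ↑(Y.presheaf.stalk (f (f.fiberι y z)))).map (f.stalkMap (f.fiberι y z)).hom) :=
    (Ideal.quotientMap _ (f.stalkMap (f.fiberι y z)).hom Ideal.le_comap_map).toAlgebra
  let eR : IsLocalRing.ResidueField ↑(Y.presheaf.stalk (f (f.fiberι y z))) ≃+* Y.residueField y :=
    e.commRingCatIsoToRingEquiv
  have hq : ∀ a, q (algebraMap _ _ a) = algebraMap (Y.residueField y) ((f.fiber y).presheaf.stalk z) (eR a) := fun a => by
    obtain ⟨a, rfl⟩ := Ideal.Quotient.mk_surjective a
    exact congr($(hcomp).hom a)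
  refine ⟨GRingLib.isGeometricallyRegular_of_equiv eR q hq, GRingLib.isGeometricallyRegular_of_equiv eR.symm q.symm
    fun a => q.injective ?_⟩
  rw [q.apply_symm_apply, hq, eR.apply_symm_apply]

/-- Smoothness at a point is flatness and geometric regularity of the fibre's local ring. -/
theorem mem_smoothLocus_iff_flat_and_geomRegular [LocallyOfFinitePresentation f] (x : X) :
    x ∈ f.smoothLocus ↔ (f.stalkMap x).hom.Flat ∧
      (letI φ := (f.stalkMap x).hom
      letI 𝔪 := IsLocalRing.maximalIdeal ↑(Y.presheaf.stalk (f.base x))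
      letI : Algebra (IsLocalRing.ResidueField ↑(Y.presheaf.stalk (f.base x))) (↑(X.presheaf.stalk x) ⧸ 𝔪.map φ) :=
        (Ideal.quotientMap (𝔪.map φ) φ Ideal.le_comap_map).toAlgebra
      CAlg.IsGeometricallyRegular (IsLocalRing.ResidueField ↑(Y.presheaf.stalk (f.base x)))
        (↑(X.presheaf.stalk x) ⧸ 𝔪.map φ)) := by
  haveI : LocallyOfFinitePresentation (f.fiberToSpecResidueField (f.base x)) :=
    MorphismProperty.of_isPullback (P := @LocallyOfFinitePresentation)
      (IsPullback.of_hasPullback f (Y.fromSpecResidueField (f.base x))) inferInstance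
  letI : Algebra (Y.residueField (f.base x)) ((f.fiber (f.base x)).presheaf.stalk (f.asFiber x)) :=
    GeomRedAt.stalkAlg (f.fiberToSpecResidueField (f.base x)) (f.asFiber x)
  rw [Groth.FibrewiseCrit.mem_smoothLocus_iff_flat_and_fibre f x,
    mem_smoothLocus_iff_geomRegular (k := Y.residueField (f.base x)) _ _ (GeomRedAt.stalkAlg_spec _ _),
    ← geomRegular_quotient_iff_aux f (f.base x) (f.asFiber x) x (f.fiberι_asFiber x) (GeomRedAt.stalkAlg_spec _ _)]

/-- Geometrically regular fibre local rings are geometrically reduced. -/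
theorem isGeomReducedAt_of_geomRegular [LocallyOfFinitePresentation f] (x : X)
    (h : letI φ := (f.stalkMap x).hom
      letI 𝔪 := IsLocalRing.maximalIdeal ↑(Y.presheaf.stalk (f.base x))
      letI : Algebra (IsLocalRing.ResidueField ↑(Y.presheaf.stalk (f.base x))) (↑(X.presheaf.stalk x) ⧸ 𝔪.map φ) :=
        (Ideal.quotientMap (𝔪.map φ) φ Ideal.le_comap_map).toAlgebra
      CAlg.IsGeometricallyRegular (IsLocalRing.ResidueField ↑(Y.presheaf.stalk (f.base x)))
        (↑(X.presheaf.stalk x) ⧸ 𝔪.map φ)) :
    FBase.IsGeomReducedAt (f.fiberToSpecResidueField (f.base x)) (f.asFiber x) := by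
  haveI : LocallyOfFinitePresentation (f.fiberToSpecResidueField (f.base x)) :=
    MorphismProperty.of_isPullback (P := @LocallyOfFinitePresentation)
      (IsPullback.of_hasPullback f (Y.fromSpecResidueField (f.base x))) inferInstance
  letI : Algebra (Y.residueField (f.base x)) ((f.fiber (f.base x)).presheaf.stalk (f.asFiber x)) :=
    GeomRedAt.stalkAlg (f.fiberToSpecResidueField (f.base x)) (f.asFiber x)
  exact isGeomReducedAt_of_mem_smoothLocus (k := Y.residueField (f.base x)) _
    ((mem_smoothLocus_iff_geomRegular (k := Y.residueField (f.base x)) _ _ (GeomRedAt.stalkAlg_spec _ _)).2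
    ((geomRegular_quotient_iff_aux f (f.base x) (f.asFiber x) x (f.fiberι_asFiber x) (GeomRedAt.stalkAlg_spec _ _)).1 h))

end Groth.Agent.GeomUnib.SmoothFibre
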