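import Groth.Agent.GeomUnib.SmoothFibre
import Groth.Agent.FlatSerre.Basic
import Groth.Agent.J2Lib.Descent

/-!
# Local rings along smooth morphisms
-/

set_option autoImplicit false
set_option linter.style.haveILetI false
set_option backward.isDefEq.respectTransparency false

universe u

open CategoryTheory CategoryTheory.Limits AlgebraicGeometry

namespace Groth.Agent.GeomUnib.SmoothLocal

variable {X Y : Scheme.{u}} (f : X ⟶ Y)

/-- A morphism smooth near a point is smooth at the point. -/
theorem mem_smoothLocus_of_exists [LocallyOfFinitePresentation f] {x : X}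
    (hx : ∃ U : X.Opens, x ∈ U ∧ Smooth (U.ι ≫ f)) : x ∈ f.smoothLocus := by
  obtain ⟨U, hxU, hU⟩ := hx
  have h : (⟨x, hxU⟩ : U.toScheme) ∈ U.ι ⁻¹ᵁ f.smoothLocus := by
    rw [Scheme.Hom.preimage_smoothLocus_eq, Scheme.Hom.smoothLocus_eq_top_iff.2 hU]
    trivial
  exact h

/-- At smooth points the quotient of the local ring by the maximal ideal of the base is regular. -/
theorem isRegularLocalRing_quotient [LocallyOfFinitePresentation f] {x : X} (hx : x ∈ f.smoothLocus) :
    IsRegularLocalRing (↑(X.presheaf.stalk x) ⧸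
      (IsLocalRing.maximalIdeal ↑(Y.presheaf.stalk (f.base x))).map (f.stalkMap x).hom) := by
  haveI : LocallyOfFinitePresentation (f.fiberToSpecResidueField (f.base x)) :=
    MorphismProperty.of_isPullback (P := @LocallyOfFinitePresentation)
      (IsPullback.of_hasPullback f (Y.fromSpecResidueField (f.base x))) inferInstance
  have hfib := ((FibrewiseCrit.mem_smoothLocus_iff_flat_and_fibre f x).1 hx).2
  haveI : IsRegularLocalRing ((f.fiber (f.base x)).presheaf.stalk (f.asFiber x)) :=
    SmoothDense.isRegular_of_mem_smoothLocus (k := Y.residueField (f.base x)) _ hfib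
  have key : ∀ (y : Y) (z : f.fiber y) (w : X), f.fiberι y z = w →
      IsRegularLocalRing ((f.fiber y).presheaf.stalk z) →
      IsRegularLocalRing (↑(X.presheaf.stalk w) ⧸
        (IsLocalRing.maximalIdeal ↑(Y.presheaf.stalk (f.base w))).map (f.stalkMap w).hom) := by
    rintro y z w rfl h
    haveI := h
    exact IsRegularLocalRing.of_ringEquiv
      ((Ideal.quotEquivOfEq (Groth.FlatDescent.ker_stalkMap_fiberι f y z).symm).trans
        (RingHom.quotientKerEquivOfSurjective ((f.fiberι y).stalkMap_surjective z))).symm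
  exact key _ _ x (f.fiberι_asFiber x) inferInstance

/-- Dimension, depth and regularity along a smooth morphism at a point. -/
theorem invariants [LocallyOfFinitePresentation f] [IsLocallyNoetherian Y] {x : X} (hx : x ∈ f.smoothLocus) :
    ringKrullDim ↑(X.presheaf.stalk x) = ringKrullDim ↑(Y.presheaf.stalk (f.base x)) +
        ringKrullDim (↑(X.presheaf.stalk x) ⧸
          (IsLocalRing.maximalIdeal ↑(Y.presheaf.stalk (f.base x))).map (f.stalkMap x).hom) ∧
      (∃ d : ℕ, ringKrullDim (↑(X.presheaf.stalk x) ⧸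
          (IsLocalRing.maximalIdeal ↑(Y.presheaf.stalk (f.base x))).map (f.stalkMap x).hom) = (d : WithBot ℕ∞) ∧
        LocCoh.depth ↑(X.presheaf.stalk x) ↑(X.presheaf.stalk x) =
          LocCoh.depth ↑(Y.presheaf.stalk (f.base x)) ↑(Y.presheaf.stalk (f.base x)) + (d : ℕ∞)) ∧
      (IsRegularLocalRing ↑(X.presheaf.stalk x) ↔ IsRegularLocalRing ↑(Y.presheaf.stalk (f.base x))) := by
  haveI := LocallyOfFiniteType.isLocallyNoetherian f
  have hflat := ((FibrewiseCrit.mem_smoothLocus_iff_flat_and_fibre f x).1 hx).1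
  letI := (f.stalkMap x).hom.toAlgebra
  haveI : Module.Flat (Y.presheaf.stalk (f.base x)) (X.presheaf.stalk x) := hflat
  haveI : IsLocalHom (algebraMap (Y.presheaf.stalk (f.base x)) (X.presheaf.stalk x)) :=
    inferInstanceAs (IsLocalHom (f.stalkMap x).hom)
  have hreg : IsRegularLocalRing (FlatAscent.Fib (Y.presheaf.stalk (f.base x)) (X.presheaf.stalk x)) :=
    isRegularLocalRing_quotient f hx
  haveI := hreg
  refine ⟨FlatAscent.ringKrullDim_eq_add _ _,
    ⟨(IsLocalRing.maximalIdeal (FlatAscent.Fib (Y.presheaf.stalk (f.base x)) (X.presheaf.stalk x))).spanFinrank,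
      IsRegularLocalRing.spanFinrank_maximalIdeal.symm, ?_⟩,
    fun h => J2Lib.isRegularLocalRing_of_flat _ (X.presheaf.stalk x),
    fun h => FlatAscent.isRegularLocalRing_of_flat_fibre _ _ hreg⟩
  rw [FlatSerre.depth_self_eq_add (Y.presheaf.stalk (f.base x)) (X.presheaf.stalk x)]
  congr 1
  have h := DepthLib.isCohenMacaulayLocalRing_of_isRegularLocalRing
    (FlatAscent.Fib (Y.presheaf.stalk (f.base x)) (X.presheaf.stalk x))
  have h2 := h.supportDim_eq_depth
  rw [Module.supportDim_self_eq_ringKrullDim, ← IsRegularLocalRing.spanFinrank_maximalIdeal] at h2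
  exact_mod_cast h2.symm

end Groth.Agent.GeomUnib.SmoothLocal
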