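import Groth.Agent.UnivOpenAt.Core

/-!
# Lifting transcendence along valuations
-/

set_option autoImplicit false

universe u

open TensorProduct

namespace Groth.Agent.GeomUnib

open UnivOpenAt

variable {A B : Type u} [CommRing A] [CommRing B] [Algebra A B]

/-- Over a generisation of the base, a generisation where residual algebraic independence persists. -/
theorem exists_gen_algebraicIndependent (q : Ideal B) [q.IsPrime] (p' : Ideal A) [p'.IsPrime]
    (hp' : p' ≤ q.under A)
    (htor : ∀ (C : Type u) [CommRing C] [IsDomain C] [Algebra A C], TorAt (A := A) q C)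
    {ι : Type u} (x : ι → B)
    (hx : IsTranscendenceBasis (A ⧸ q.under A) fun i => Ideal.Quotient.mk q (x i)) :
    ∃ Q : Ideal B, Q.IsPrime ∧ Q ≤ q ∧ Q.under A = p' ∧
      ∀ G : MvPolynomial ι A, MvPolynomial.aeval x G ∈ Q → ∀ k, MvPolynomial.coeff k G ∈ p' := by
  classical
  let p := q.under A
  let A' := A ⧸ p
  let B' := B ⧸ q
  let K := FractionRing (A ⧸ p')
  let Ap := Localization.AtPrime p
  have hu : ∀ s : p.primeCompl, IsUnit ((algebraMap (A ⧸ p') K).comp (Ideal.Quotient.mk p') s) := fun s => by
    refine isUnit_iff_ne_zero.2 fun h => s.2 (hp' ?_)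
    rw [RingHom.comp_apply, map_eq_zero_iff _ (IsFractionRing.injective (A ⧸ p') K)] at h
    exact Ideal.Quotient.eq_zero_iff_mem.1 h
  let fp : Ap →+* K := IsLocalization.lift hu
  obtain ⟨V, hV, hloc⟩ := IsLocalRing.exists_factor_valuationRing fp
  let gp : Ap →+* V := fp.codRestrict V.toSubring hV
  letI : Algebra A V := (gp.comp (algebraMap A Ap)).toAlgebra
  have hAV : ∀ a : A, ((algebraMap A V a : V) : K) = algebraMap (A ⧸ p') K (Ideal.Quotient.mk p' a) := fun a =>
    IsLocalization.lift_eq hu a
  let kV := IsLocalRing.ResidueField V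
  have hkerk : RingHom.ker ((IsLocalRing.residue V).comp (algebraMap A V)) = p := by
    ext a
    rw [RingHom.mem_ker, RingHom.comp_apply, IsLocalRing.residue_eq_zero_iff]
    change gp (algebraMap A Ap a) ∈ IsLocalRing.maximalIdeal V ↔ _
    rw [IsLocalRing.mem_maximalIdeal, mem_nonunits_iff]
    constructor
    · intro h
      by_contra ha
      exact h ((IsLocalization.map_units Ap (⟨a, ha⟩ : p.primeCompl)).map gp)
    · intro ha h
      have h1 := hloc.map_nonunit _ h
      exact (IsLocalization.AtPrime.isUnit_to_map_iff Ap p a).1 h1 ha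
  let L := AlgebraicClosure (FractionRing (MvPolynomial ι kV))
  let θ : MvPolynomial ι kV →+* L :=
    (algebraMap (FractionRing (MvPolynomial ι kV)) L).comp (algebraMap _ (FractionRing (MvPolynomial ι kV)))
  have hθ : Function.Injective θ :=
    (algebraMap (FractionRing (MvPolynomial ι kV)) L).injective.comp (IsFractionRing.injective _ _)
  let ρ : A' →+* kV := Ideal.Quotient.lift p ((IsLocalRing.residue V).comp (algebraMap A V)) fun a ha =>
    RingHom.mem_ker.1 (hkerk.ge ha)
  have hρ : Function.Injective ρ := RingHom.lift_injective_of_ker_le_ideal _ _ hkerk.le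
  -- the embedding of the residue domain
  let R := Algebra.adjoin A' (Set.range fun i => Ideal.Quotient.mk q (x i))
  let e := hx.1.aevalEquiv
  let σ : R →+* L := (θ.comp (MvPolynomial.map ρ)).comp e.symm.toRingEquiv.toRingHom
  have hσ : Function.Injective σ := (hθ.comp (MvPolynomial.map_injective _ hρ)).comp e.symm.injective
  letI : Algebra R L := σ.toAlgebra
  haveI : FaithfulSMul R L := (faithfulSMul_iff_algebraMap_injective R L).2 hσ
  haveI : Algebra.IsAlgebraic R B' := hx.isAlgebraic
  let τ : B' →ₐ[R] L := IsAlgClosed.lift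
  have hτ : Function.Injective τ := by
    refine (injective_iff_map_eq_zero τ).2 fun b hb => by_contra fun hne => ?_
    haveI : (RingHom.ker τ.toRingHom).IsPrime := RingHom.ker_isPrime _
    refine Ideal.comap_ne_bot_of_algebraic_mem (R := R) hne (RingHom.mem_ker.2 hb)
      (Algebra.IsAlgebraic.isAlgebraic b) ?_
    refine eq_bot_iff.2 fun r hr => Ideal.mem_bot.2 (hσ ?_)
    rw [map_zero]
    exact (τ.commutes r).symm.trans hr
  -- the point of `V ⊗ B`
  let χB : B →+* L := τ.toRingHom.comp (Ideal.Quotient.mk q)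
  have hχA : ∀ a : A, χB (algebraMap A B a) = θ (MvPolynomial.C (IsLocalRing.residue V (algebraMap A V a))) := by
    intro a
    change τ (algebraMap R B' (algebraMap A' R (Ideal.Quotient.mk p a))) = _
    rw [τ.commutes]
    change θ (MvPolynomial.map ρ (e.symm (algebraMap A' R (Ideal.Quotient.mk p a)))) = _
    rw [e.symm.commutes, MvPolynomial.algebraMap_eq, MvPolynomial.map_C]
    rfl
  have hχX : ∀ i, χB (x i) = θ (MvPolynomial.X i) := fun i => by
    have hmem : Ideal.Quotient.mk q (x i) ∈ R := Algebra.subset_adjoin ⟨i, rfl⟩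
    change τ (algebraMap R B' ⟨_, hmem⟩) = _
    rw [τ.commutes]
    change θ (MvPolynomial.map ρ (e.symm ⟨_, hmem⟩)) = _
    have he : e (MvPolynomial.X i) = ⟨_, hmem⟩ := Subtype.ext (by
      rw [AlgebraicIndependent.aevalEquiv_apply_coe, MvPolynomial.aeval_X])
    rw [← he, AlgEquiv.symm_apply_apply, MvPolynomial.map_X]
  letI : Algebra A L := (χB.comp (algebraMap A B)).toAlgebra
  let χV : V →+* L := (θ.comp MvPolynomial.C).comp (IsLocalRing.residue V)
  let χ : V ⊗[A] B →ₐ[A] L := Algebra.TensorProduct.lift ⟨χV, fun a => (hχA a).symm⟩ ⟨χB, fun _ => rfl⟩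
    fun _ _ => Commute.all _ _
  have hinr : χ.toRingHom.comp (inr A B V) = χB := RingHom.ext fun b => by simp [χ]
  have hinl : χ.toRingHom.comp (inl A B V) = χV := RingHom.ext fun b => by simp [χ]
  haveI : (RingHom.ker χ.toRingHom).IsPrime := RingHom.ker_isPrime _
  have hP : (RingHom.ker χ.toRingHom).comap (inr A B V) = q := by
    rw [RingHom.comap_ker, hinr, RingHom.ker_comp_of_injective _ hτ, Ideal.mk_ker]
  obtain ⟨P', hP', hle, hc⟩ := exists_le_comap_eq (A := A) (C := V) (p := q) (Q := ⊥) (htor _)
    (RingHom.ker χ.toRingHom) hP bot_le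
  haveI := hP'
  refine ⟨P'.comap (inr A B V), Ideal.IsPrime.comap _, (Ideal.comap_mono hle).trans hP.le, ?_, fun G hG => ?_⟩
  · rw [Ideal.under_def, Ideal.comap_comap,
      show (inr A B V).comp (algebraMap A B) = (inl A B V).comp (algebraMap A V) from
        RingHom.ext fun a => by simp [inl, Algebra.TensorProduct.tmul_one_eq_one_tmul],
      ← Ideal.comap_comap, hc, ← RingHom.ker_eq_comap_bot]
    ext a
    rw [RingHom.mem_ker, ← Ideal.Quotient.eq_zero_iff_mem,
      ← map_eq_zero_iff _ (IsFractionRing.injective (A ⧸ p') K), ← hAV]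
    exact ⟨fun h => by rw [h]; rfl, fun h => Subtype.ext h⟩
  · by_contra hcon
    push Not at hcon
    obtain ⟨k, hk⟩ := hcon
    obtain ⟨k₀, hk₀, hmax⟩ := G.support.exists_max_image
      (fun j => V.valuation (algebraMap A V (MvPolynomial.coeff j G) : K))
      ⟨k, MvPolynomial.mem_support_iff.2 fun h => hk (h ▸ zero_mem _)⟩
    set c : V := algebraMap A V (MvPolynomial.coeff k₀ G) with hcdef
    have hc0 : (c : K) ≠ 0 := by
      intro h
      have h1 := hmax k (MvPolynomial.mem_support_iff.2 fun h' => hk (h' ▸ zero_mem _))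
      rw [h, map_zero, le_zero_iff, Valuation.zero_iff, hAV,
        map_eq_zero_iff _ (IsFractionRing.injective (A ⧸ p') K), Ideal.Quotient.eq_zero_iff_mem] at h1
      exact hk h1
    have hdiv : ∀ j, ∃ v : V, algebraMap A V (MvPolynomial.coeff j G) = c * v := by
      intro j
      by_cases hj : j ∈ G.support
      · refine ⟨⟨(algebraMap A V (MvPolynomial.coeff j G) : K) / c, (V.valuation_le_one_iff _).1 ?_⟩, Subtype.ext ?_⟩
        · rw [map_div₀]
          exact div_le_one_of_le₀ (hmax j hj) zero_le'
        · change _ = (c : K) * _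
          rw [mul_div_cancel₀ _ hc0]
      · exact ⟨0, by rw [MvPolynomial.notMem_support_iff.1 hj, map_zero, mul_zero]⟩
    choose v hv using hdiv
    let G₁ : MvPolynomial ι V := ∑ j ∈ G.support, MvPolynomial.monomial j (v j)
    have hG₁ : MvPolynomial.map (algebraMap A V) G = MvPolynomial.C c * G₁ := by
      conv_lhs => rw [MvPolynomial.as_sum G]
      simp only [map_sum, MvPolynomial.map_monomial, G₁, Finset.mul_sum, MvPolynomial.C_mul_monomial, hv]
    let ev : MvPolynomial ι V →+* V ⊗[A] B := MvPolynomial.eval₂Hom (inl A B V) fun i => inr A B V (x i)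
    have hev : ev (MvPolynomial.map (algebraMap A V) G) = inr A B V (MvPolynomial.aeval x G) := by
      refine RingHom.congr_fun (f := ev.comp (MvPolynomial.map (algebraMap A V)))
        (g := (inr A B V).comp (MvPolynomial.aeval x).toRingHom) ?_ G
      refine MvPolynomial.ringHom_ext (fun a => ?_) (fun i => ?_)
      · simp [ev, inl, Algebra.TensorProduct.tmul_one_eq_one_tmul]
      · simp [ev]
    have h1 : ev G₁ ∈ P' := by
      have h2 : inr A B V (MvPolynomial.aeval x G) ∈ P' := hG
      rw [← hev, hG₁, map_mul] at h2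
      refine (hP'.mem_or_mem h2).resolve_left fun h3 => hc0 ?_
      have h4 : c ∈ P'.comap (inl A B V) := by
        rw [Ideal.mem_comap]; simpa [ev] using h3
      rw [hc, Ideal.mem_bot] at h4
      rw [h4]; rfl
    have h5 : θ (MvPolynomial.map (IsLocalRing.residue V) G₁) = 0 := by
      rw [← RingHom.mem_ker.1 (hle h1)]
      refine RingHom.congr_fun (f := θ.comp (MvPolynomial.map (IsLocalRing.residue V)))
        (g := χ.toRingHom.comp ev) ?_ G₁
      refine MvPolynomial.ringHom_ext (fun a => ?_) (fun i => ?_)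
      · change θ (MvPolynomial.map _ (MvPolynomial.C a)) = χ.toRingHom (ev (MvPolynomial.C a))
        rw [MvPolynomial.map_C, show ev (MvPolynomial.C a) = inl A B V a by simp [ev]]
        exact (RingHom.congr_fun hinl a).symm
      · change θ (MvPolynomial.map _ (MvPolynomial.X i)) = χ.toRingHom (ev (MvPolynomial.X i))
        rw [MvPolynomial.map_X, show ev (MvPolynomial.X i) = inr A B V (x i) by simp [ev]]
        exact ((RingHom.congr_fun hinr (x i)).trans (hχX i)).symm
    have h6 := congrArg (MvPolynomial.coeff k₀) ((map_eq_zero_iff θ hθ).1 h5)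
    rw [MvPolynomial.coeff_map, MvPolynomial.coeff_zero] at h6
    have h7 : MvPolynomial.coeff k₀ G₁ = 1 := by
      simp only [G₁, MvPolynomial.coeff_sum, MvPolynomial.coeff_monomial, Finset.sum_ite_eq', hk₀, if_true]
      have := congrArg Subtype.val (hv k₀)
      refine Subtype.ext ?_
      change (v k₀ : K) = 1
      exact (mul_eq_left₀ hc0).1 this.symm
    rw [h7, map_one] at h6
    exact one_ne_zero h6

end Groth.Agent.GeomUnib
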